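import Mathlib

set_option autoImplicit false

namespace Cfsg.Agent.Lib.H5

open Subgroup

variable {G : Type*} [Group G]

/-- `P` is a Sylow `p`-subgroup of the subgroup `H` of `G` (everything phrased with subgroups of `G`). -/
def IsSylowIn (p : ℕ) (P H : Subgroup G) : Prop :=
  P ≤ H ∧ IsPGroup p P ∧ ∀ Q : Subgroup G, IsPGroup p Q → P ≤ Q → Q ≤ H → Q = P

theorem isSylowIn_of_sylow {p : ℕ} {H : Subgroup G} (S : Sylow p H) :
    IsSylowIn p ((S : Subgroup H).map H.subtype) H := by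
  refine ⟨?_, ?_, ?_⟩
  · rintro _ ⟨x, _, rfl⟩; exact x.2
  · exact S.2.map _
  · intro Q hQ hSQ hQH
    have h1 : IsPGroup p (Q.subgroupOf H) := hQ.comap_subtype
    have h2 : (S : Subgroup H) ≤ Q.subgroupOf H := by
      intro x hx
      rw [mem_subgroupOf]
      exact hSQ ⟨x, hx, rfl⟩
    have h3 := S.is_maximal' h1 h2
    rw [← h3, map_subgroupOf_eq_of_le hQH]

theorem IsSylowIn.exists_sylow {p : ℕ} {P H : Subgroup G} (h : IsSylowIn p P H) :
    ∃ S : Sylow p H, (S : Subgroup H).map H.subtype = P := by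
  obtain ⟨hPH, hP, hmax⟩ := h
  refine ⟨⟨P.subgroupOf H, hP.comap_subtype, ?_⟩, map_subgroupOf_eq_of_le hPH⟩
  intro Q hQ hPQ
  have h1 : IsPGroup p (Q.map H.subtype) := hQ.map _
  have h2 : P ≤ Q.map H.subtype := by
    intro x hx
    exact ⟨⟨x, hPH hx⟩, hPQ (by rw [mem_subgroupOf]; exact hx), rfl⟩
  have h3 : Q.map H.subtype ≤ H := by
    rintro _ ⟨x, _, rfl⟩; exact x.2
  have h4 := hmax _ h1 h2 h3
  rw [← h4]
  ext x
  rw [mem_subgroupOf]
  constructor
  · intro hx; exact ⟨x, hx, rfl⟩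
  · rintro ⟨y, hy, hyx⟩
    have : y = x := Subtype.ext hyx
    rw [← this]; exact hy

theorem isSylowIn_iff {p : ℕ} {P H : Subgroup G} :
    IsSylowIn p P H ↔ ∃ S : Sylow p H, (S : Subgroup H).map H.subtype = P :=
  ⟨fun h => h.exists_sylow, fun ⟨S, hS⟩ => hS ▸ isSylowIn_of_sylow S⟩

theorem isSylowIn_top_of_sylow {p : ℕ} (P : Sylow p G) : IsSylowIn p (P : Subgroup G) ⊤ :=
  ⟨le_top, P.2, fun _ hQ hPQ _ => P.is_maximal' hQ hPQ⟩

theorem IsSylowIn.card_eq [Finite G] {p : ℕ} [Fact p.Prime] {P H : Subgroup G}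
    (h : IsSylowIn p P H) : Nat.card P = p ^ (Nat.card H).factorization p := by
  obtain ⟨S, rfl⟩ := h.exists_sylow
  rw [← Sylow.card_eq_multiplicity S]
  exact (Nat.card_congr ((S : Subgroup H).equivMapOfInjective H.subtype
    (Subgroup.subtype_injective _)).toEquiv).symm

theorem isSylowIn_of_card [Finite G] {p : ℕ} [Fact p.Prime] {P H : Subgroup G} (hPH : P ≤ H)
    (hc : Nat.card P = p ^ (Nat.card H).factorization p) : IsSylowIn p P H := by
  have hc' : Nat.card (P.subgroupOf H) = p ^ (Nat.card H).factorization p := by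
    rw [← hc]
    exact Nat.card_congr (Subgroup.subgroupOfEquivOfLe hPH).toEquiv
  have := isSylowIn_of_sylow (Sylow.ofCard (P.subgroupOf H) hc')
  rwa [Sylow.coe_ofCard, map_subgroupOf_eq_of_le hPH] at this

/-- Any two Sylow `p`-subgroups of `H` are conjugate by an element of `H`. -/
theorem IsSylowIn.exists_conj [Finite G] {p : ℕ} [Fact p.Prime] {P Q H : Subgroup G}
    (hP : IsSylowIn p P H) (hQ : IsSylowIn p Q H) :
    ∃ z ∈ H, Q = P.map (MulAut.conj z).toMonoidHom := by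
  obtain ⟨S, rfl⟩ := hP.exists_sylow
  obtain ⟨T, rfl⟩ := hQ.exists_sylow
  obtain ⟨z, hz⟩ := MulAction.exists_smul_eq H S T
  refine ⟨z, z.2, ?_⟩
  rw [← hz]
  ext x
  constructor
  · rintro ⟨y, hy, rfl⟩
    have hy' : y ∈ ((z • S : Sylow p H) : Subgroup H) := hy
    rw [Sylow.coe_subgroup_smul, mem_pointwise_smul_iff_inv_smul_mem] at hy'
    refine ⟨z⁻¹ * y * z, ⟨⟨(z : G)⁻¹ * y * z, H.mul_mem (H.mul_mem (H.inv_mem z.2) y.2) z.2⟩, ?_, rfl⟩, ?_⟩
    · have : (MulAut.conj z)⁻¹ • y = ⟨(z : G)⁻¹ * y * z, H.mul_mem (H.mul_mem (H.inv_mem z.2) y.2) z.2⟩ := by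
        apply Subtype.ext
        simp [MulAut.smul_def]
      rw [← this]; exact hy'
    · simp [mul_assoc]
  · rintro ⟨_, ⟨y, hy, rfl⟩, rfl⟩
    refine ⟨z * y * z⁻¹, ?_, ?_⟩
    · show z * y * z⁻¹ ∈ ((z • S : Sylow p H) : Subgroup H)
      rw [Sylow.coe_subgroup_smul, mem_pointwise_smul_iff_inv_smul_mem]
      have : (MulAut.conj z)⁻¹ • (z * y * z⁻¹) = y := by
        simp [MulAut.smul_def, mul_assoc]
      rw [this]; exact hy
    · simp

theorem IsSylowIn.mono {p : ℕ} {P H K : Subgroup G} (h : IsSylowIn p P H) (hPK : P ≤ K) (hKH : K ≤ H) :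
    IsSylowIn p P K :=
  ⟨hPK, h.2.1, fun Q hQ hPQ hQK => h.2.2 Q hQ hPQ (hQK.trans hKH)⟩

theorem IsSylowIn.conj {p : ℕ} {P H : Subgroup G} (h : IsSylowIn p P H) (a : G) :
    IsSylowIn p (P.map (MulAut.conj a).toMonoidHom) (H.map (MulAut.conj a).toMonoidHom) := by
  refine ⟨Subgroup.map_mono h.1, h.2.1.map _, ?_⟩
  intro Q hQ hPQ hQH
  have h1 : IsPGroup p (Q.map (MulAut.conj a⁻¹).toMonoidHom) := hQ.map _
  have hinv : ∀ K : Subgroup G, (K.map (MulAut.conj a).toMonoidHom).map (MulAut.conj a⁻¹).toMonoidHom = K := by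
    intro K
    rw [Subgroup.map_map]
    convert Subgroup.map_id K
    ext x
    simp only [MonoidHom.coe_comp, MulEquiv.coe_toMonoidHom, Function.comp_apply, MulAut.conj_apply, MonoidHom.id_apply, inv_inv]
    group
  have hinv' : ∀ K : Subgroup G, (K.map (MulAut.conj a⁻¹).toMonoidHom).map (MulAut.conj a).toMonoidHom = K := by
    intro K
    rw [Subgroup.map_map]
    convert Subgroup.map_id K
    ext x
    simp only [MonoidHom.coe_comp, MulEquiv.coe_toMonoidHom, Function.comp_apply, MulAut.conj_apply, MonoidHom.id_apply, inv_inv]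
    group
  have h2 : P ≤ Q.map (MulAut.conj a⁻¹).toMonoidHom := by
    have := Subgroup.map_mono (f := (MulAut.conj a⁻¹).toMonoidHom) hPQ
    rwa [hinv] at this
  have h3 : Q.map (MulAut.conj a⁻¹).toMonoidHom ≤ H := by
    have := Subgroup.map_mono (f := (MulAut.conj a⁻¹).toMonoidHom) hQH
    rwa [hinv] at this
  have h4 := h.2.2 _ h1 h2 h3
  rw [← h4, hinv']

/-- Every `p`-subgroup of `H` lies in a Sylow `p`-subgroup of `H`. -/
theorem exists_isSylowIn_ge [Finite G] {p : ℕ} [Fact p.Prime] {Q H : Subgroup G}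
    (hQ : IsPGroup p Q) (hQH : Q ≤ H) : ∃ S, IsSylowIn p S H ∧ Q ≤ S := by
  have h1 : IsPGroup p (Q.subgroupOf H) := hQ.comap_subtype
  obtain ⟨S, hS⟩ := h1.exists_le_sylow
  refine ⟨_, isSylowIn_of_sylow S, ?_⟩
  intro x hx
  exact ⟨⟨x, hQH hx⟩, hS (by rw [mem_subgroupOf]; exact hx), rfl⟩

theorem sylow_mem_smul_iff {p : ℕ} (g : G) (R : Sylow p G) (y : G) :
    y ∈ (g • R : Sylow p G) ↔ g⁻¹ * y * g ∈ R := by
  show y ∈ ((g • R : Sylow p G) : Subgroup G) ↔ _
  rw [Sylow.coe_subgroup_smul, mem_pointwise_smul_iff_inv_smul_mem]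
  simp only [MulAut.smul_def, ← map_inv, MulAut.conj_apply, inv_inv]
  rfl

theorem mem_map_conj_iff (a : G) (K : Subgroup G) (y : G) :
    y ∈ K.map (MulAut.conj a).toMonoidHom ↔ a⁻¹ * y * a ∈ K := by
  constructor
  · rintro ⟨u, hu, rfl⟩
    simp only [MulEquiv.coe_toMonoidHom, MulAut.conj_apply]
    have : a⁻¹ * (a * u * a⁻¹) * a = u := by group
    rw [this]; exact hu
  · intro h
    exact ⟨_, h, by simp only [MulEquiv.coe_toMonoidHom, MulAut.conj_apply]; group⟩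

end Cfsg.Agent.Lib.H5
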