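import Mathlib
import Cfsg.Agent.Lib.H20.BHM2
import Cfsg.Agent.Lib.H20.PowDecomp
import Cfsg.Agent.Lib.H20.ConjCover
import Cfsg.Agent.Lib.H20.BGC1
import Cfsg.Agent.Lib.L0.NPCStruct

set_option autoImplicit false

/-!
# Four class sizes `1, n, m, nm` with `gcd(n,m)=1` (S4146): basics

`PE p g` : `g` is a `p`-element.  `Hyp G n m` : the class-size hypothesis of S4146.
-/

namespace Cfsg.Agent.Lib.H5.CS4

open Cfsg.Agent.Lib.H20.BHM (cs)
open Subgroup

variable {G : Type*} [Group G]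

/-- `g` is a `p`-element. -/
def PE (p : ℕ) (g : G) : Prop := ∃ k : ℕ, g ^ p ^ k = 1

theorem PE.one (p : ℕ) : PE p (1 : G) := ⟨0, by simp⟩

theorem PE.pow {p : ℕ} {g : G} (h : PE p g) (j : ℕ) : PE p (g ^ j) := by
  obtain ⟨k, hk⟩ := h
  exact ⟨k, by rw [← pow_mul, mul_comm, pow_mul, hk, one_pow]⟩

theorem PE.inv {p : ℕ} {g : G} (h : PE p g) : PE p g⁻¹ := by
  obtain ⟨k, hk⟩ := h
  exact ⟨k, by rw [inv_pow, hk, inv_one]⟩

theorem PE.zpow {p : ℕ} {g : G} (h : PE p g) (j : ℤ) : PE p (g ^ j) := by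
  obtain ⟨k, hk⟩ := h
  exact ⟨k, by rw [← zpow_natCast, ← zpow_mul, mul_comm, zpow_mul, zpow_natCast, hk, one_zpow]⟩

theorem PE.conj {p : ℕ} {g : G} (h : PE p g) (a : G) : PE p (a * g * a⁻¹) := by
  obtain ⟨k, hk⟩ := h
  exact ⟨k, by rw [conj_pow, hk, mul_one, mul_inv_cancel]⟩

theorem PE.mul {p : ℕ} {g h : G} (hg : PE p g) (hh : PE p h) (hc : Commute g h) : PE p (g * h) := by
  obtain ⟨k, hk⟩ := hg
  obtain ⟨l, hl⟩ := hh
  refine ⟨k + l, ?_⟩
  rw [hc.mul_pow, pow_add, pow_mul, hk, one_pow, one_mul, mul_comm (p ^ k), pow_mul, hl, one_pow]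

theorem PE.of_mem_zpowers {p : ℕ} {g y : G} (h : PE p g) (hy : y ∈ zpowers g) : PE p y := by
  obtain ⟨j, rfl⟩ := mem_zpowers_iff.1 hy
  exact h.zpow j

theorem PE.orderOf_eq {p : ℕ} {g : G} (h : PE p g) (hp : p.Prime) : ∃ k, orderOf g = p ^ k := by
  obtain ⟨k, hk⟩ := h
  obtain ⟨j, -, hj⟩ := (Nat.dvd_prime_pow hp).1 (orderOf_dvd_of_pow_eq_one hk)
  exact ⟨j, hj⟩

theorem pe_of_orderOf {p : ℕ} {g : G} {k : ℕ} (h : orderOf g = p ^ k) : PE p g :=
  ⟨k, by rw [← h, pow_orderOf_eq_one]⟩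

theorem PE.isOfFinOrder {p : ℕ} {g : G} (h : PE p g) (hp : p.Prime) : IsOfFinOrder g := by
  obtain ⟨k, hk⟩ := h
  exact isOfFinOrder_iff_pow_eq_one.2 ⟨p ^ k, pow_pos hp.pos k, hk⟩

/-- A `p`-element and an element of order prime to `p` have coprime orders. -/
theorem PE.coprime {p : ℕ} {g v : G} (h : PE p g) (hp : p.Prime) (hv : ¬ p ∣ orderOf v) :
    (Nat.Coprime (orderOf g) (orderOf v)) := by
  obtain ⟨k, hk⟩ := h.orderOf_eq hp
  rw [hk]
  exact Nat.Coprime.pow_left k ((Nat.Prime.coprime_iff_not_dvd hp).2 hv)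

theorem PE.not_dvd_orderOf {p q : ℕ} {g : G} (h : PE p g) (hp : p.Prime) (hq : q.Prime)
    (hpq : p ≠ q) : ¬ q ∣ orderOf g := by
  obtain ⟨k, hk⟩ := h.orderOf_eq hp
  rw [hk]
  intro hd
  exact hpq ((Nat.prime_dvd_prime_iff_eq hq hp).1 (hq.dvd_of_dvd_pow hd)).symm

theorem PE.coprime_of_ne {p q : ℕ} {g v : G} (hg : PE p g) (hv : PE q v) (hp : p.Prime)
    (hq : q.Prime) (hpq : p ≠ q) : (Nat.Coprime (orderOf g) (orderOf v)) :=
  hg.coprime hp (hv.not_dvd_orderOf hq hp hpq.symm)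

theorem PE.eq_one_of_ne {p q : ℕ} {g : G} (hg : PE p g) (hg' : PE q g) (hp : p.Prime)
    (hq : q.Prime) (hpq : p ≠ q) : g = 1 := by
  have h := hg.coprime_of_ne hg' hp hq hpq
  rw [Nat.coprime_self] at h
  exact orderOf_eq_one_iff.1 h

/-- An element of a `p`-subgroup is a `p`-element. -/
theorem pe_of_mem {p : ℕ} {P : Subgroup G} (hP : IsPGroup p P) {g : G} (hg : g ∈ P) : PE p g := by
  obtain ⟨k, hk⟩ := hP ⟨g, hg⟩
  exact ⟨k, by simpa using congrArg Subtype.val hk⟩

/-- A `p`-element lies in some Sylow `p`-subgroup. -/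
theorem PE.exists_sylow [Finite G] {p : ℕ} [Fact p.Prime] {g : G} (h : PE p g) :
    ∃ P : Sylow p G, g ∈ P := by
  have hz : IsPGroup p (zpowers g) := by
    rw [IsPGroup.iff_orderOf]
    intro x
    obtain ⟨k, hk⟩ := (h.of_mem_zpowers x.2).orderOf_eq (Fact.out)
    exact ⟨k, by rw [← hk, Subgroup.orderOf_coe]⟩
  obtain ⟨P, hP⟩ := hz.exists_le_sylow
  exact ⟨P, hP (mem_zpowers g)⟩


/-! ### generic class-size facts -/

theorem cs_dvd_of_mem_zpowers {x y : G} (hy : y ∈ zpowers x) : cs y ∣ cs x := by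
  apply Subgroup.index_dvd_of_le
  intro g hg
  rw [mem_centralizer_singleton_iff] at hg ⊢
  obtain ⟨j, rfl⟩ := mem_zpowers_iff.1 hy
  exact ((show Commute g x from hg).zpow_right j).eq

theorem cs_conj' (a x : G) : cs (a⁻¹ * x * a) = cs x := by
  have := Cfsg.Agent.Lib.H20.BHM.cs_conj a⁻¹ x
  rwa [inv_inv] at this

theorem mem_centralizer_singleton_comm {g x : G} :
    g ∈ centralizer ({x} : Set G) ↔ Commute g x := by
  rw [mem_centralizer_singleton_iff]; rfl

theorem cs_mul_central {g z : G} (hz : z ∈ center G) : cs (g * z) = cs g := by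
  have : centralizer ({g * z} : Set G) = centralizer ({g} : Set G) := by
    ext a
    rw [mem_centralizer_singleton_iff, mem_centralizer_singleton_iff]
    have hza : z * a = a * z := (mem_center_iff.1 hz a).symm
    constructor
    · intro h
      have : a * g * z = g * a * z := by
        calc a * g * z = a * (g * z) := by group
          _ = g * z * a := h
          _ = g * (z * a) := by group
          _ = g * (a * z) := by rw [hza]
          _ = g * a * z := by group
      exact mul_right_cancel this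
    · intro h
      calc a * (g * z) = a * g * z := by group
        _ = g * a * z := by rw [h]
        _ = g * (a * z) := by group
        _ = g * (z * a) := by rw [hza]
        _ = g * z * a := by group
  unfold cs; rw [this]

/-- A `p`-element commutes with `x` as soon as the class sizes are coprime and `p ∤ cs x`. -/
theorem commute_of_pe [Finite G] {p : ℕ} [Fact p.Prime] {h x : G} (hp : PE p h)
    (hcop : (cs h).Coprime (cs x)) (hpx : ¬ p ∣ cs x) : Commute h x := by
  obtain ⟨j, hj⟩ := hp.orderOf_eq Fact.out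
  obtain ⟨t, ht⟩ := Cfsg.Agent.Lib.H20.BGC.exists_conj_mem_of_not_dvd_index
    (centralizer ({x} : Set G)) hpx hj
  rw [mem_centralizer_singleton_iff] at ht
  -- `t h t⁻¹` commutes with `x`
  have hc' : (cs x).Coprime (cs (t * h * t⁻¹)) := by
    rw [Cfsg.Agent.Lib.H20.BHM.cs_conj]; exact hcop.symm
  have h1 := Cfsg.Agent.Lib.H20.BHM.commute_conj_of_coprime hc' ht.symm t⁻¹
  have h2 : t⁻¹ * (t * h * t⁻¹) * t⁻¹⁻¹ = h := by group
  rw [h2] at h1
  exact h1.symm

/-- An element outside a subgroup has a prime-power part outside it. -/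
theorem exists_pe_part [Finite G] (S : Subgroup G) :
    ∀ (N : ℕ) (x : G), orderOf x = N → x ∉ S →
      ∃ t : ℕ, t.Prime ∧ ∃ y ∈ zpowers x, PE t y ∧ y ∉ S := by
  intro N
  induction N using Nat.strong_induction_on with
  | _ N ih =>
    intro x hN hx
    have hN1 : N ≠ 1 := by
      rintro rfl
      rw [orderOf_eq_one_iff] at hN
      exact hx (hN ▸ S.one_mem)
    obtain ⟨p, hp, hpN⟩ := Nat.exists_prime_and_dvd hN1
    obtain ⟨k, l, hkl, ⟨e, he⟩, hcop⟩ :=
      Cfsg.Agent.Lib.H20.exists_pPart_pPrimePart x (isOfFinOrder_of_finite x) p hp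
    by_cases h1 : x ^ k ∈ S
    · have h2 : x ^ l ∉ S := by
        intro h2
        apply hx
        rw [← hkl]
        exact S.mul_mem h1 h2
      have hlt : orderOf (x ^ l) < N := by
        have hd : orderOf (x ^ l) ∣ N := hN ▸ orderOf_pow_dvd l
        have hne : orderOf (x ^ l) ≠ N := by
          intro he'
          rw [he'] at hcop
          have h3 : p ∣ Nat.gcd N p := Nat.dvd_gcd hpN dvd_rfl
          rw [Nat.Coprime] at hcop
          rw [hcop] at h3
          exact hp.one_lt.ne' (Nat.dvd_one.1 h3)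
        exact lt_of_le_of_ne (Nat.le_of_dvd (hN ▸ orderOf_pos x) hd) hne
      obtain ⟨t, ht, y, hy, hyt, hyS⟩ := ih _ hlt (x ^ l) rfl h2
      refine ⟨t, ht, y, ?_, hyt, hyS⟩
      exact (zpowers_le.2 (Subgroup.pow_mem _ (mem_zpowers x) l)) hy
    · exact ⟨p, hp, x ^ k, Subgroup.pow_mem _ (mem_zpowers x) k, pe_of_orderOf he, h1⟩


/-! ### the hypothesis -/

/-- The class-size hypothesis of S4146: the class sizes are exactly `1, n, m, nm`. -/
structure Hyp (G : Type*) [Group G] (n m : ℕ) : Prop where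
  hn : 1 < n
  hm : 1 < m
  cop : n.Coprime m
  mem : ∀ g : G, cs g = 1 ∨ cs g = n ∨ cs g = m ∨ cs g = n * m
  ex_n : ∃ g : G, cs g = n
  ex_m : ∃ g : G, cs g = m
  ex_nm : ∃ g : G, cs g = n * m

theorem hyp_of_range {n m : ℕ} (hn : 1 < n) (hm : 1 < m) (hcop : n.Coprime m)
    (h : Set.range (fun x : G => (Subgroup.centralizer ({x} : Set G)).index) = {1, n, m, n * m}) :
    Hyp G n m := by
  refine ⟨hn, hm, hcop, ?_, ?_, ?_, ?_⟩
  · intro g
    have : cs g ∈ ({1, n, m, n * m} : Set ℕ) := h ▸ Set.mem_range_self g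
    simpa using this
  · have : n ∈ Set.range (fun x : G => (Subgroup.centralizer ({x} : Set G)).index) := by
      rw [h]; simp
    exact this
  · have : m ∈ Set.range (fun x : G => (Subgroup.centralizer ({x} : Set G)).index) := by
      rw [h]; simp
    exact this
  · have : n * m ∈ Set.range (fun x : G => (Subgroup.centralizer ({x} : Set G)).index) := by
      rw [h]; simp
    exact this

variable {n m : ℕ}

theorem Hyp.symm (H : Hyp G n m) : Hyp G m n := by
  refine ⟨H.hm, H.hn, H.cop.symm, ?_, H.ex_m, H.ex_n, ?_⟩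
  · intro g
    rcases H.mem g with h | h | h | h
    · exact Or.inl h
    · exact Or.inr (Or.inr (Or.inl h))
    · exact Or.inr (Or.inl h)
    · exact Or.inr (Or.inr (Or.inr (by rw [h, mul_comm])))
  · obtain ⟨g, hg⟩ := H.ex_nm
    exact ⟨g, by rw [hg, mul_comm]⟩

theorem Hyp.not_m_dvd_n (H : Hyp G n m) : ¬ m ∣ n := fun h =>
  H.hm.ne' (Nat.eq_one_of_dvd_one ((Nat.dvd_gcd h dvd_rfl).trans (by rw [H.cop])))

theorem Hyp.not_n_dvd_m (H : Hyp G n m) : ¬ n ∣ m := H.symm.not_m_dvd_n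

theorem Hyp.dvd_nm (H : Hyp G n m) (g : G) : cs g ∣ n * m := by
  rcases H.mem g with h | h | h | h <;> rw [h]
  · exact one_dvd _
  · exact dvd_mul_right _ _
  · exact dvd_mul_left _ _

theorem Hyp.le_nm (H : Hyp G n m) (g : G) : cs g ≤ n * m :=
  Nat.le_of_dvd (Nat.mul_pos (by have := H.hn; omega) (by have := H.hm; omega)) (H.dvd_nm g)

theorem Hyp.of_dvd_n (H : Hyp G n m) {g : G} (hd : cs g ∣ n) : cs g = 1 ∨ cs g = n := by
  rcases H.mem g with h | h | h | h
  · exact Or.inl h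
  · exact Or.inr h
  · exact absurd (h ▸ hd) H.not_m_dvd_n
  · exact absurd ((dvd_mul_left m n).trans (h ▸ hd)) H.not_m_dvd_n

theorem Hyp.of_dvd_m (H : Hyp G n m) {g : G} (hd : cs g ∣ m) : cs g = 1 ∨ cs g = m :=
  H.symm.of_dvd_n hd

theorem Hyp.of_n_dvd (H : Hyp G n m) {g : G} (hd : n ∣ cs g) : cs g = n ∨ cs g = n * m := by
  rcases H.mem g with h | h | h | h
  · exact absurd (Nat.eq_one_of_dvd_one (h ▸ hd)) H.hn.ne'
  · exact Or.inl h
  · exact absurd (h ▸ hd) H.not_n_dvd_m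
  · exact Or.inr h

theorem Hyp.of_m_dvd (H : Hyp G n m) {g : G} (hd : m ∣ cs g) : cs g = m ∨ cs g = n * m := by
  rcases H.symm.of_n_dvd hd with h | h
  · exact Or.inl h
  · exact Or.inr (by rw [h, mul_comm])

theorem Hyp.n_ne_m (H : Hyp G n m) : n ≠ m := by
  rintro rfl
  have := H.cop
  rw [Nat.coprime_self] at this
  exact H.hn.ne' this

theorem Hyp.n_ne_nm (H : Hyp G n m) : n ≠ n * m := by
  intro h
  have h1 : n * 1 = n * m := by rw [mul_one]; exact h
  have := Nat.eq_of_mul_eq_mul_left (by have := H.hn; omega) h1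
  exact H.hm.ne this

theorem Hyp.m_ne_nm (H : Hyp G n m) : m ≠ n * m := by
  have := H.symm.n_ne_nm
  rwa [mul_comm] at this

/-- Elements of a class of size `n` or `m` are not central. -/
theorem Hyp.not_central_n (H : Hyp G n m) {g : G} (hg : cs g = n) : g ∉ center G := fun h =>
  H.hn.ne' (hg ▸ (Cfsg.Agent.Lib.H20.BHM.cs_eq_one_iff g).2 h)

theorem Hyp.not_central_m (H : Hyp G n m) {g : G} (hg : cs g = m) : g ∉ center G :=
  H.symm.not_central_n hg

/-- A noncentral power of an element of `S_n` is in `S_n`. -/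
theorem Hyp.cs_of_mem_zpowers_n (H : Hyp G n m) {x y : G} (hx : cs x = n) (hy : y ∈ zpowers x)
    (hyZ : y ∉ center G) : cs y = n := by
  rcases H.of_dvd_n (hx ▸ cs_dvd_of_mem_zpowers hy) with h | h
  · exact absurd ((Cfsg.Agent.Lib.H20.BHM.cs_eq_one_iff y).1 h) hyZ
  · exact h

theorem Hyp.cs_of_mem_zpowers_m (H : Hyp G n m) {x y : G} (hx : cs x = m) (hy : y ∈ zpowers x)
    (hyZ : y ∉ center G) : cs y = m := H.symm.cs_of_mem_zpowers_n hx hy hyZ

section fin
variable [Finite G]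

omit [Finite G] in
/-- Commuting elements of coprime orders: the class sizes divide that of the product. -/
theorem cs_dvd_cs_mul_left {a b : G} (hc : Commute a b) (hcop : (orderOf a).Coprime (orderOf b)) :
    cs a ∣ cs (a * b) := by
  unfold cs
  rw [Cfsg.Agent.Lib.H20.centralizer_mul_of_coprime hc hcop]
  exact Subgroup.index_dvd_of_le inf_le_left

omit [Finite G] in
theorem cs_dvd_cs_mul_right {a b : G} (hc : Commute a b) (hcop : (orderOf a).Coprime (orderOf b)) :
    cs b ∣ cs (a * b) := by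
  unfold cs
  rw [Cfsg.Agent.Lib.H20.centralizer_mul_of_coprime hc hcop]
  exact Subgroup.index_dvd_of_le inf_le_right

/-- Maximal class size: if `cs w = nm` and `u` commutes with `w`, of coprime order, then
`C(w) ≤ C(u)`. -/
theorem Hyp.centralizer_le_of_nm (H : Hyp G n m) {w u : G} (hw : cs w = n * m) (hc : Commute w u)
    (hcop : (orderOf w).Coprime (orderOf u)) :
    centralizer ({w} : Set G) ≤ centralizer ({u} : Set G) := by
  have h1 := Cfsg.Agent.Lib.H20.centralizer_mul_of_coprime hc hcop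
  have h2 : cs (w * u) = n * m := by
    apply le_antisymm (H.le_nm _)
    rw [← hw]
    exact Nat.le_of_dvd (Nat.pos_of_ne_zero (Cfsg.Agent.Lib.H20.BHM.cs_ne_zero _))
      (cs_dvd_cs_mul_left hc hcop)
  have h3 : centralizer ({w} : Set G) ⊓ centralizer ({u} : Set G) = centralizer ({w} : Set G) := by
    apply Cfsg.Agent.Lib.H20.eq_of_le_of_index_eq inf_le_left
    rw [← h1]
    exact h2.trans hw.symm
  exact inf_eq_left.1 h3

/-- A1: a `p`-element of `S_m` with `p ∤ n` commutes with all of `S_n`. -/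
theorem Hyp.commute_of_pe (H : Hyp G n m) {p : ℕ} [Fact p.Prime] {h x : G} (hh : cs h = m)
    (hp : PE p h) (hpn : ¬ p ∣ n) (hx : cs x = n) : Commute h x :=
  CS4.commute_of_pe hp (by rw [hh, hx]; exact H.cop.symm) (by rw [hx]; exact hpn)

/-- Sylow subgroups for primes not dividing `nm` are central. -/
theorem Hyp.central_of_pe (H : Hyp G n m) {t : ℕ} [Fact t.Prime] (ht : ¬ t ∣ n * m) {u : G}
    (hu : PE t u) : u ∈ center G := by
  by_contra huZ
  have hne : centralizer ({u} : Set G) ≠ ⊤ := by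
    intro h
    apply huZ
    rw [mem_center_iff]
    intro g
    have : g ∈ centralizer ({u} : Set G) := h ▸ mem_top g
    exact (mem_centralizer_singleton_iff.1 this)
  obtain ⟨g, hg⟩ := Cfsg.Agent.Lib.H20.exists_not_mem_conj _ hne
  obtain ⟨j, hj⟩ := hu.orderOf_eq Fact.out
  have hndvd : ¬ t ∣ (centralizer ({g} : Set G)).index := fun hd => ht (hd.trans (H.dvd_nm g))
  obtain ⟨a, ha⟩ := Cfsg.Agent.Lib.H20.BGC.exists_conj_mem_of_not_dvd_index
    (centralizer ({g} : Set G)) hndvd hj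
  apply hg a
  rw [Subgroup.mem_pointwise_smul_iff_inv_smul_mem]
  rw [mem_centralizer_singleton_iff] at ha ⊢
  simp only [MulAut.smul_def, MulAut.conj_inv_apply]
  calc a⁻¹ * g * a * u = a⁻¹ * (g * (a * u * a⁻¹)) * a := by group
    _ = a⁻¹ * ((a * u * a⁻¹) * g) * a := by rw [ha]
    _ = u * (a⁻¹ * g * a) := by group


omit [Finite G] in
theorem cs_inv (g : G) : cs g⁻¹ = cs g :=
  Nat.dvd_antisymm (cs_dvd_of_mem_zpowers (Subgroup.inv_mem _ (mem_zpowers g)))
    (cs_dvd_of_mem_zpowers (by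
      have := Subgroup.inv_mem _ (mem_zpowers g⁻¹)
      rwa [inv_inv] at this))

omit [Finite G] in
theorem centralizer_inf_le_mul (x y : G) :
    centralizer ({x} : Set G) ⊓ centralizer ({y} : Set G) ≤ centralizer ({x * y} : Set G) := by
  intro g hg
  rw [mem_inf, mem_centralizer_singleton_comm, mem_centralizer_singleton_comm] at hg
  rw [mem_centralizer_singleton_comm]
  exact hg.1.mul_right hg.2

/-- B1: for `m < n`, products of elements of class size `1` or `m` have class size `1` or `m`. -/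
theorem Hyp.cs_mul_of_small (H : Hyp G n m) (hnm : m < n) {x y : G}
    (hx : cs x = 1 ∨ cs x = m) (hy : cs y = 1 ∨ cs y = m) :
    cs (x * y) = 1 ∨ cs (x * y) = m := by
  have hmpos : 0 < m := by have := H.hm; omega
  have hd : cs (x * y) ∣ (centralizer ({x} : Set G) ⊓ centralizer ({y} : Set G)).index :=
    Subgroup.index_dvd_of_le (centralizer_inf_le_mul x y)
  have hr : (centralizer ({x} : Set G) ⊓ centralizer ({y} : Set G)).relIndex
      (centralizer ({x} : Set G)) * cs x =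
      (centralizer ({x} : Set G) ⊓ centralizer ({y} : Set G)).index :=
    Subgroup.relIndex_mul_index inf_le_left
  rw [Subgroup.inf_relIndex_left] at hr
  have hr0 : (centralizer ({y} : Set G)).relIndex (centralizer ({x} : Set G)) ≠ 0 := by
    intro h0
    rw [h0, zero_mul] at hr
    exact Subgroup.index_ne_zero_of_finite hr.symm
  have hr3 : (centralizer ({y} : Set G)).relIndex (centralizer ({x} : Set G)) ≤ cs y := by
    have := Subgroup.relIndex_le_of_le_right (H := centralizer ({y} : Set G))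
      (le_top : centralizer ({x} : Set G) ≤ ⊤)
      (by rw [Subgroup.relIndex_top_right]; exact Subgroup.index_ne_zero_of_finite)
    rwa [Subgroup.relIndex_top_right] at this
  have hxm : cs x ≤ m := by rcases hx with e | e <;> rw [e]; omega
  have hym : cs y ≤ m := by rcases hy with e | e <;> rw [e]; omega
  rcases H.mem (x * y) with h | h | h | h
  · exact Or.inl h
  · exfalso
    have h1 : n ∣ (centralizer ({y} : Set G)).relIndex (centralizer ({x} : Set G)) * cs x := by
      rw [hr, ← h]; exact hd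
    have hc : n.Coprime (cs x) := by
      rcases hx with e | e <;> rw [e]
      · exact Nat.coprime_one_right n
      · exact H.cop
    have h2 := hc.dvd_of_dvd_mul_right h1
    have := Nat.le_of_dvd (Nat.pos_of_ne_zero hr0) h2
    omega
  · exact Or.inr h
  · exfalso
    have h1 : n * m ≤ (centralizer ({x} : Set G) ⊓ centralizer ({y} : Set G)).index :=
      h ▸ Nat.le_of_dvd (Nat.pos_of_ne_zero Subgroup.index_ne_zero_of_finite) hd
    have h2 : (centralizer ({x} : Set G) ⊓ centralizer ({y} : Set G)).index ≤ cs x * cs y :=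
      Subgroup.index_inf_le
    have h3 : cs x * cs y ≤ m * m := Nat.mul_le_mul hxm hym
    have h4 : m * m < n * m := Nat.mul_lt_mul_of_pos_right hnm hmpos
    omega

/-- B1: for `m < n`, `M = S_m ∪ Z(G)` is a subgroup. -/
def Hyp.M (H : Hyp G n m) (hnm : m < n) : Subgroup G where
  carrier := {g | cs g = 1 ∨ cs g = m}
  one_mem' := Or.inl ((Cfsg.Agent.Lib.H20.BHM.cs_eq_one_iff 1).2 (one_mem _))
  inv_mem' := by
    intro g hg
    simp only [Set.mem_setOf_eq] at hg ⊢
    rwa [cs_inv]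
  mul_mem' := fun hx hy => H.cs_mul_of_small hnm hx hy

theorem Hyp.mem_M (H : Hyp G n m) (hnm : m < n) {g : G} :
    g ∈ H.M hnm ↔ cs g = 1 ∨ cs g = m := Iff.rfl

theorem Hyp.center_le_M (H : Hyp G n m) (hnm : m < n) : center G ≤ H.M hnm := fun g hg =>
  Or.inl ((Cfsg.Agent.Lib.H20.BHM.cs_eq_one_iff g).2 hg)

instance Hyp.M_normal (H : Hyp G n m) (hnm : m < n) : (H.M hnm).Normal := by
  constructor
  intro g hg a
  rw [Hyp.mem_M] at hg ⊢
  rwa [Cfsg.Agent.Lib.H20.BHM.cs_conj]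

theorem Hyp.cs_eq_m_of_mem_M (H : Hyp G n m) (hnm : m < n) {g : G} (hg : g ∈ H.M hnm)
    (hgZ : g ∉ center G) : cs g = m := by
  rcases hg with h | h
  · exact absurd ((Cfsg.Agent.Lib.H20.BHM.cs_eq_one_iff g).1 h) hgZ
  · exact h

end fin


/-! ### the two situations -/

/-- No "good" elements: no `p`-element with `p ∣ m` in `S_m`, no `q`-element with `q ∣ n` in
`S_n`. -/
def NoGood (G : Type*) [Group G] (n m : ℕ) : Prop :=
  (∀ p : ℕ, p.Prime → p ∣ m → ∀ h : G, cs h = m → ¬ PE p h) ∧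
  (∀ q : ℕ, q.Prime → q ∣ n → ∀ x : G, cs x = n → ¬ PE q x)

theorem NoGood.symm (h : NoGood G n m) : NoGood G m n := ⟨h.2, h.1⟩

/-- Situation G1: `n = q^a`, `m = p^b`, together with the structure of the centralizers of the
prime-power elements of `S_m` and `S_n`. -/
structure G1 (G : Type*) [Group G] (n m p q : ℕ) : Prop where
  hyp : Hyp G n m
  hp : p.Prime
  hq : q.Prime
  hpq : p ≠ q
  n_eq : ∃ a : ℕ, n = q ^ a
  m_eq : ∃ b : ℕ, m = p ^ b
  pe_n : ∀ x : G, cs x = n → ∀ t : ℕ, t.Prime → PE t x → t = q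
  pe_m : ∀ h : G, cs h = m → ∀ t : ℕ, t.Prime → PE t h → t = p
  comm_m : ∀ h : G, cs h = m → PE p h → ∀ u ∈ centralizer ({h} : Set G),
    ∀ v ∈ centralizer ({h} : Set G), PE p u → ¬ p ∣ orderOf v → Commute u v
  comm_n : ∀ x : G, cs x = n → PE q x → ∀ u ∈ centralizer ({x} : Set G),
    ∀ v ∈ centralizer ({x} : Set G), PE q u → ¬ q ∣ orderOf v → Commute u v
  syl_m : ∀ h : G, cs h = m → PE p h → ∃ Q : Subgroup G, Q ≤ centralizer ({h} : Set G) ∧
    IsPGroup q Q ∧ ¬ q ∣ Q.index ∧ ∀ u ∈ centralizer ({h} : Set G), PE q u → u ∈ Q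
  syl_n : ∀ x : G, cs x = n → PE q x → ∃ P : Subgroup G, P ≤ centralizer ({x} : Set G) ∧
    IsPGroup p P ∧ ¬ p ∣ P.index ∧ ∀ u ∈ centralizer ({x} : Set G), PE p u → u ∈ P

theorem G1.symm {p q : ℕ} (h : G1 G n m p q) : G1 G m n q p :=
  ⟨h.hyp.symm, h.hq, h.hp, h.hpq.symm, h.m_eq, h.n_eq, h.pe_m, h.pe_n, h.comm_n, h.comm_m,
    h.syl_n, h.syl_m⟩

end Cfsg.Agent.Lib.H5.CS4
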