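import Mathlib
import Cfsg.Agent.Lib.H5.CS4a
import Cfsg.Agent.Lib.H21.Ito3

set_option autoImplicit false

/-!
# S4146, task T2: Itô's theorem on two class sizes, relative form
-/

namespace Cfsg.Agent.Lib.H5.CS4

open Cfsg.Agent.Lib.H20.BHM (cs)
open Subgroup

variable {G : Type*} [Group G] [Finite G]

/-- T2 (Itô's theorem, relative form, from `Cfsg.Agent.Lib.H21.Ito.Two.exists_prime`). -/
theorem ito_rel (H : Subgroup G) (n : ℕ) (hn : 1 < n)
    (h : ∀ u ∈ H, (centralizer ({u} : Set G)).relIndex H = 1 ∨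
      (centralizer ({u} : Set G)).relIndex H = n) :
    ∃ r : ℕ, r.Prime ∧ (∀ g ∈ H, ∃ k : ℕ, ∀ u ∈ H, Commute (g ^ r ^ k) u) ∧
      ((∃ u ∈ H, (centralizer ({u} : Set G)).relIndex H = n) → ∃ a : ℕ, n = r ^ a) := by
  have hC : ∀ y : H, Cfsg.Agent.Lib.H21.Ito.Cx y = (centralizer ({(y : G)} : Set G)).subgroupOf H := by
    intro y
    ext g
    rw [Cfsg.Agent.Lib.H21.Ito.mem_Cx, Subgroup.mem_subgroupOf, mem_centralizer_singleton_iff,
      Subtype.ext_iff]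
    rfl
  have hidx : ∀ y : H, (Cfsg.Agent.Lib.H21.Ito.Cx y).index =
      (centralizer ({(y : G)} : Set G)).relIndex H := by
    intro y
    rw [hC y]; rfl
  have hTwo : Cfsg.Agent.Lib.H21.Ito.Two H n := ⟨fun y => by rw [hidx y]; exact h y y.2, hn⟩
  obtain ⟨r, hr, hpow⟩ := hTwo.exists_prime
  refine ⟨r, hr, ?_, ?_⟩
  · intro g hg
    obtain ⟨k, hk⟩ := hpow ⟨g, hg⟩
    refine ⟨k, fun u hu => ?_⟩
    have := Subgroup.mem_center_iff.1 hk ⟨u, hu⟩
    have h2 := congrArg Subtype.val this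
    simp only [Subgroup.coe_mul, Subgroup.coe_pow] at h2
    exact h2.symm
  · rintro ⟨u, hu, hun⟩
    haveI : Fact r.Prime := ⟨hr⟩
    have hQ : IsPGroup r (H ⧸ center H) := by
      intro g
      obtain ⟨g, rfl⟩ := QuotientGroup.mk_surjective g
      obtain ⟨k, hk⟩ := hpow g
      exact ⟨k, by rw [← QuotientGroup.mk_pow]; exact (QuotientGroup.eq_one_iff _).2 hk⟩
    obtain ⟨j, hj⟩ := IsPGroup.iff_card.1 hQ
    have hidxZ : (center H).index = r ^ j := hj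
    have hdvd : n ∣ r ^ j := by
      rw [← hun, ← hidx ⟨u, hu⟩, ← hidxZ]
      exact Subgroup.index_dvd_of_le (Cfsg.Agent.Lib.H21.Ito.center_le_Cx _)
    obtain ⟨a, -, ha⟩ := (Nat.dvd_prime_pow hr).1 hdvd
    exact ⟨a, ha⟩

end Cfsg.Agent.Lib.H5.CS4
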