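import Cfsg.Agent.Lib.H1.FG19.Defs
import Cfsg.Prelude.Def_Transfer
import Cfsg.Prelude.Def_CaseTheorems

/-!
# S4404 piece P2 (helper5): `|Aut(C_2^d)| = |GL_d(2)|`
-/

set_option autoImplicit false

namespace Cfsg.Agent.Lib.H5.FG19

open Cfsg Cfsg.Agent.Lib.H1.FG19
open scoped IsMulCommutative

/-- additive automorphisms of a `ZMod 2`-module are the linear automorphisms -/
def addEquivLin (V : Type*) [AddCommGroup V] [Module (ZMod 2) V] :
    (V ≃ₗ[ZMod 2] V) ≃ (V ≃+ V) where
  toFun e := e.toAddEquiv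
  invFun e := e.toLinearEquiv (fun c x => ZMod.map_smul e c x)
  left_inv e := by ext; rfl
  right_inv e := by ext; rfl

/-- P2 (H): `|Aut(C_2^d)| = |GL_d(2)|` (`Matrix.card_GL_field`). -/
theorem card_mulAut_eq {U : Type*} [CommGroup U] [Finite U] (h2 : ∀ u : U, u * u = 1) (d : ℕ)
    (hd : Nat.card U = 2 ^ d) : Nat.card (MulAut U) = ∏ i ∈ Finset.range d, (2 ^ d - 2 ^ i) := by
  classical
  letI : Module (ZMod 2) (Additive U) := AddCommGroup.zmodModule (n := 2) (fun x => by
    rw [two_nsmul]
    exact congrArg Additive.ofMul (h2 (Additive.toMul x)))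
  haveI : Fintype (Additive U) := Fintype.ofFinite _
  have hfin : Module.finrank (ZMod 2) (Additive U) = d := by
    have h1 := Module.card_eq_pow_finrank (K := ZMod 2) (V := Additive U)
    rw [ZMod.card, ← Nat.card_eq_fintype_card] at h1
    have h3 : Nat.card (Additive U) = Nat.card U := Nat.card_congr Additive.toMul
    rw [h3, hd] at h1
    exact (Nat.pow_right_injective (le_refl 2) h1).symm
  let b : Module.Basis (Fin d) (ZMod 2) (Additive U) := Module.finBasisOfFinrankEq _ _ hfin
  have e : GL (Fin d) (ZMod 2) ≃ MulAut U :=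
    ((Matrix.GeneralLinearGroup.toLin' b).toEquiv.trans
      (LinearMap.GeneralLinearGroup.generalLinearEquiv (ZMod 2) (Additive U)).toEquiv).trans
      ((addEquivLin (Additive U)).trans MulEquiv.toAdditive.symm)
  rw [← Nat.card_congr e, Matrix.card_GL_field, ZMod.card, Finset.prod_range]

end Cfsg.Agent.Lib.H5.FG19
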