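import Mathlib

set_option autoImplicit false

/-!
# Counting Klein four-subgroups by pairs of commuting involutions

In any finite group the number of ordered pairs of distinct commuting involutions is six times the
number of Klein four-subgroups.
-/

namespace Cfsg.Agent.Lib.H5.KleinCount

variable {H : Type*} [Group H]

/-- the subgroup `{1, u, v, uv}` generated by two commuting involutions -/
def kleinSub (u v : H) (huv : u * v = v * u) (hu : u * u = 1) (hv : v * v = 1) : Subgroup H where
  carrier := {x | ∃ i j : ℕ, x = u ^ i * v ^ j}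
  mul_mem' := by
    rintro x y ⟨i, j, rfl⟩ ⟨k, l, rfl⟩
    refine ⟨i + k, j + l, ?_⟩
    have hc : Commute u v := huv
    have h1 : v ^ j * u ^ k = u ^ k * v ^ j := (hc.pow_pow k j).eq.symm
    calc u ^ i * v ^ j * (u ^ k * v ^ l) = u ^ i * (v ^ j * u ^ k) * v ^ l := by group
      _ = u ^ i * (u ^ k * v ^ j) * v ^ l := by rw [h1]
      _ = u ^ (i + k) * v ^ (j + l) := by rw [pow_add, pow_add]; group
  one_mem' := ⟨0, 0, by simp⟩
  inv_mem' := by
    rintro x ⟨i, j, rfl⟩
    refine ⟨i, j, ?_⟩
    have hc : Commute u v := huv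
    have hui : (u ^ i)⁻¹ = u ^ i := by
      rw [inv_eq_iff_mul_eq_one, ← pow_add, ← two_mul, pow_mul, pow_two, hu, one_pow]
    have hvj : (v ^ j)⁻¹ = v ^ j := by
      rw [inv_eq_iff_mul_eq_one, ← pow_add, ← two_mul, pow_mul, pow_two, hv, one_pow]
    rw [mul_inv_rev, hui, hvj]
    exact (hc.pow_pow i j).eq.symm

theorem mem_kleinSub {u v : H} (huv : u * v = v * u) (hu : u * u = 1) (hv : v * v = 1) (x : H) :
    x ∈ kleinSub u v huv hu hv ↔ x = 1 ∨ x = u ∨ x = v ∨ x = u * v := by
  constructor
  · rintro ⟨i, j, rfl⟩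
    have hu2 : u ^ 2 = 1 := by rw [pow_two, hu]
    have hv2 : v ^ 2 = 1 := by rw [pow_two, hv]
    rw [pow_eq_pow_mod i hu2, pow_eq_pow_mod j hv2]
    rcases Nat.mod_two_eq_zero_or_one i with hi | hi <;>
      rcases Nat.mod_two_eq_zero_or_one j with hj | hj <;> rw [hi, hj] <;> simp
  · rintro (rfl | rfl | rfl | rfl)
    · exact Subgroup.one_mem _
    · exact ⟨1, 0, by simp⟩
    · exact ⟨0, 1, by simp⟩
    · exact ⟨1, 1, by simp⟩

theorem coe_kleinSub {u v : H} (huv : u * v = v * u) (hu : u * u = 1) (hv : v * v = 1) :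
    (kleinSub u v huv hu hv : Set H) = {1, u, v, u * v} := by
  ext x
  rw [SetLike.mem_coe, mem_kleinSub]
  simp only [Set.mem_insert_iff, Set.mem_singleton_iff]

theorem card_kleinSub {u v : H} (huv : u * v = v * u) (hu : u * u = 1) (hv : v * v = 1)
    (hu1 : u ≠ 1) (hv1 : v ≠ 1) (hne : v ≠ u) : Nat.card (kleinSub u v huv hu hv) = 4 := by
  have h : Nat.card (kleinSub u v huv hu hv) = (kleinSub u v huv hu hv : Set H).ncard :=
    Nat.card_coe_set_eq _
  rw [h, coe_kleinSub]
  have huv1 : u * v ≠ 1 := by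
    intro h1
    apply hne
    have : u * v = u * u := by rw [h1, hu]
    exact mul_left_cancel this
  have h3 : v ≠ u * v := by
    intro h3
    apply hu1
    have : 1 * v = u * v := by rw [one_mul]; exact h3
    exact (mul_right_cancel this).symm
  have h4 : u ≠ u * v := by
    intro h4
    apply hv1
    have : u * 1 = u * v := by rw [mul_one]; exact h4
    exact (mul_left_cancel this).symm
  rw [Set.ncard_insert_of_notMem, Set.ncard_insert_of_notMem, Set.ncard_insert_of_notMem,
    Set.ncard_singleton]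
  · simp only [Set.mem_singleton_iff]; exact h3
  · simp only [Set.mem_insert_iff, Set.mem_singleton_iff, not_or]
    exact ⟨hne.symm, h4⟩
  · simp only [Set.mem_insert_iff, Set.mem_singleton_iff, not_or]
    exact ⟨hu1.symm, hv1.symm, huv1.symm⟩

theorem isKleinFour_kleinSub {u v : H} (huv : u * v = v * u) (hu : u * u = 1) (hv : v * v = 1)
    (hu1 : u ≠ 1) (hv1 : v ≠ 1) (hne : v ≠ u) : IsKleinFour (kleinSub u v huv hu hv) := by
  refine ⟨card_kleinSub huv hu hv hu1 hv1 hne, ?_⟩
  have hdvd : Monoid.exponent (kleinSub u v huv hu hv) ∣ 2 := by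
    apply Monoid.exponent_dvd_of_forall_pow_eq_one
    rintro ⟨x, hx⟩
    apply Subtype.ext
    rw [Subgroup.coe_pow, Subgroup.coe_one, pow_two]
    rcases (mem_kleinSub huv hu hv x).mp hx with rfl | rfl | rfl | rfl
    · simp
    · exact hu
    · exact hv
    · calc u * v * (u * v) = u * (v * u) * v := by group
        _ = u * (u * v) * v := by rw [huv]
        _ = (u * u) * (v * v) := by group
        _ = 1 := by rw [hu, hv, one_mul]
  rcases (Nat.dvd_prime Nat.prime_two).mp hdvd with h | h
  · exfalso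
    rw [Monoid.exp_eq_one_iff] at h
    have h4 := card_kleinSub huv hu hv hu1 hv1 hne
    rw [Nat.card_eq_one_iff_unique.mpr ⟨h, ⟨1⟩⟩] at h4
    omega
  · exact h

/-- ordered pairs of distinct commuting involutions -/
def InvPair (H : Type*) [Group H] : Type _ :=
  {p : H × H // orderOf p.1 = 2 ∧ orderOf p.2 = 2 ∧ p.2 ≠ p.1 ∧ p.1 * p.2 = p.2 * p.1}

theorem mul_self_of_orderOf {x : H} (h : orderOf x = 2) : x * x = 1 := by
  rw [← pow_two, ← h]; exact pow_orderOf_eq_one x

theorem ne_one_of_orderOf {x : H} (h : orderOf x = 2) : x ≠ 1 := by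
  rintro rfl
  rw [orderOf_one] at h
  omega

theorem orderOf_of_mul_self {x : H} (h : x * x = 1) (h1 : x ≠ 1) : orderOf x = 2 := by
  apply orderOf_eq_prime
  · rw [pow_two, h]
  · exact h1

/-- the Klein four-subgroup generated by a pair -/
def InvPair.klein (p : InvPair H) : {V : Subgroup H // IsKleinFour V} :=
  ⟨kleinSub p.1.1 p.1.2 p.2.2.2.2 (mul_self_of_orderOf p.2.1) (mul_self_of_orderOf p.2.2.1),
    isKleinFour_kleinSub _ _ _ (ne_one_of_orderOf p.2.1) (ne_one_of_orderOf p.2.2.1) p.2.2.2.1⟩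

theorem InvPair.fst_mem (p : InvPair H) : p.1.1 ∈ p.klein.1 := by
  unfold InvPair.klein
  rw [mem_kleinSub]
  exact Or.inr (Or.inl rfl)

theorem InvPair.snd_mem (p : InvPair H) : p.1.2 ∈ p.klein.1 := by
  unfold InvPair.klein
  rw [mem_kleinSub]
  exact Or.inr (Or.inr (Or.inl rfl))

theorem card_pairs_of_card_four (V : Type*) [Group V] (hV : Nat.card V = 4) :
    Nat.card {q : V × V // q.1 ≠ 1 ∧ q.2 ≠ 1 ∧ q.2 ≠ q.1} = 6 := by
  classical
  haveI : Finite V := Nat.finite_of_card_ne_zero (by omega)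
  haveI : Fintype V := Fintype.ofFinite V
  rw [Nat.card_eq_fintype_card, Fintype.card_subtype]
  have h : (Finset.univ.filter fun q : V × V => q.1 ≠ 1 ∧ q.2 ≠ 1 ∧ q.2 ≠ q.1) =
      (Finset.univ.erase (1 : V)).offDiag := by
    ext ⟨a, b⟩
    simp only [Finset.mem_filter, Finset.mem_univ, true_and, Finset.mem_offDiag, Finset.mem_erase,
      and_true, ne_eq]
    constructor
    · rintro ⟨h1, h2, h3⟩
      exact ⟨h1, h2, fun h => h3 h.symm⟩
    · rintro ⟨h1, h2, h3⟩
      exact ⟨h1, h2, fun h => h3 h.symm⟩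
  rw [h, Finset.offDiag_card, Finset.card_erase_of_mem (Finset.mem_univ _), Finset.card_univ,
    ← Nat.card_eq_fintype_card, hV]

theorem kleinSub_eq_of_mem {V : Subgroup H} (hV : Nat.card V = 4) {u v : H}
    (huv : u * v = v * u) (hu : u * u = 1) (hv : v * v = 1)
    (hu1 : u ≠ 1) (hv1 : v ≠ 1) (hne : v ≠ u) (huV : u ∈ V) (hvV : v ∈ V) :
    kleinSub u v huv hu hv = V := by
  haveI : Finite V := Nat.finite_of_card_ne_zero (by omega)
  apply Subgroup.eq_of_le_of_card_ge
  · intro x hx
    rcases (mem_kleinSub huv hu hv x).mp hx with rfl | rfl | rfl | rfl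
    · exact Subgroup.one_mem _
    · exact huV
    · exact hvV
    · exact Subgroup.mul_mem _ huV hvV
  · rw [hV, card_kleinSub huv hu hv hu1 hv1 hne]

/-- the pairs generating a given Klein four-subgroup -/
noncomputable def fiberEquiv (V : {V : Subgroup H // IsKleinFour V}) :
    {p : InvPair H // p.klein = V} ≃ {q : V.1 × V.1 // q.1 ≠ 1 ∧ q.2 ≠ 1 ∧ q.2 ≠ q.1} where
  toFun p :=
    ⟨(⟨p.1.1.1, by
        have h := congrArg Subtype.val p.2
        rw [← h]
        exact p.1.fst_mem⟩,
      ⟨p.1.1.2, by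
        have h := congrArg Subtype.val p.2
        rw [← h]
        exact p.1.snd_mem⟩),
      by
        refine ⟨?_, ?_, ?_⟩
        · intro h
          exact ne_one_of_orderOf p.1.2.1 (congrArg Subtype.val h)
        · intro h
          exact ne_one_of_orderOf p.1.2.2.1 (congrArg Subtype.val h)
        · intro h
          exact p.1.2.2.2.1 (congrArg Subtype.val h)⟩
  invFun q :=
    have hV4 : Nat.card V.1 = 4 := V.2.card_four
    have hx : (q.1.1 : H) * q.1.1 = 1 := by
      haveI := V.2
      have := IsKleinFour.mul_self q.1.1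
      exact congrArg Subtype.val this
    have hy : (q.1.2 : H) * q.1.2 = 1 := by
      haveI := V.2
      have := IsKleinFour.mul_self q.1.2
      exact congrArg Subtype.val this
    have hx1 : (q.1.1 : H) ≠ 1 := fun h => q.2.1 (Subtype.ext h)
    have hy1 : (q.1.2 : H) ≠ 1 := fun h => q.2.2.1 (Subtype.ext h)
    have hne : (q.1.2 : H) ≠ q.1.1 := fun h => q.2.2.2 (Subtype.ext h)
    have hc : (q.1.1 : H) * q.1.2 = q.1.2 * q.1.1 := by
      haveI := V.2
      haveI : IsMulCommutative V.1 := IsKleinFour.isMulCommutative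
      have := mul_comm' q.1.1 q.1.2
      exact congrArg Subtype.val this
    ⟨⟨(q.1.1, q.1.2), orderOf_of_mul_self hx hx1, orderOf_of_mul_self hy hy1, hne, hc⟩, by
      apply Subtype.ext
      exact kleinSub_eq_of_mem hV4 hc hx hy hx1 hy1 hne q.1.1.2 q.1.2.2⟩
  left_inv p := by
    apply Subtype.ext
    apply Subtype.ext
    rfl
  right_inv q := by
    apply Subtype.ext
    rfl

theorem card_invPair [Finite H] :
    Nat.card (InvPair H) = 6 * Nat.card {V : Subgroup H // IsKleinFour V} := by
  classical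
  haveI : Finite (InvPair H) := Subtype.finite
  haveI : Finite {V : Subgroup H // IsKleinFour V} := Subtype.finite
  haveI : Fintype {V : Subgroup H // IsKleinFour V} := Fintype.ofFinite _
  rw [← Nat.card_congr (Equiv.sigmaFiberEquiv (InvPair.klein (H := H))), Nat.card_sigma]
  have h : ∀ V : {V : Subgroup H // IsKleinFour V},
      Nat.card {p : InvPair H // p.klein = V} = 6 := by
    intro V
    rw [Nat.card_congr (fiberEquiv V)]
    exact card_pairs_of_card_four V.1 V.2.card_four
  simp only [h, Finset.sum_const, Finset.card_univ, smul_eq_mul, Nat.card_eq_fintype_card]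
  ring

end Cfsg.Agent.Lib.H5.KleinCount
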