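import Mathlib
import Cfsg.Agent.S0991

set_option autoImplicit false

namespace Cfsg.Agent.Lib.H5

open Subgroup

variable {G : Type*} [Group G]

/-- If another prime divides the order, the group is not a `p`-group. -/
theorem not_isPGroup_of_prime_dvd [Finite G] {p q : ℕ} [Fact p.Prime] (hq : q.Prime) (hqp : q ≠ p)
    (hqd : q ∣ Nat.card G) : ¬ IsPGroup p G := by
  intro h
  obtain ⟨k, hk⟩ := IsPGroup.iff_card.mp h
  rw [hk] at hqd
  exact hqp ((Nat.prime_dvd_prime_iff_eq hq Fact.out).mp (hq.dvd_of_dvd_pow hqd))

/-- In a finite simple group which is not a `p`-group, a Sylow `p`-subgroup for a prime divisor `p`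
of the order is not normal. -/
theorem sylow_not_normal_of_simple [Finite G] [IsSimpleGroup G] {p : ℕ} [Fact p.Prime]
    (hp : p ∣ Nat.card G) (hnp : ¬ IsPGroup p G) (P : Sylow p G) : ¬ (P : Subgroup G).Normal := by
  intro hn
  rcases hn.eq_bot_or_eq_top with h | h
  · exact P.ne_bot_of_dvd_card hp h
  · apply hnp
    have := P.2
    rw [h] at this
    exact IsPGroup.of_equiv this Subgroup.topEquiv

theorem card_sylow_ne_one_of_simple [Finite G] [IsSimpleGroup G] {p : ℕ} [Fact p.Prime]
    (hp : p ∣ Nat.card G) (hnp : ¬ IsPGroup p G) : Nat.card (Sylow p G) ≠ 1 := by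
  intro h
  have : Subsingleton (Sylow p G) := (Nat.card_eq_one_iff_unique.mp h).1
  exact sylow_not_normal_of_simple hp hnp (default : Sylow p G) (Sylow.normal_of_subsingleton _)

/-- A finite simple group with a proper subgroup of index `n` has order dividing `n!`;
if it is non-abelian, twice its order divides `n!`. -/
theorem two_mul_card_dvd_factorial_index [Finite G] [IsSimpleGroup G] (hG : ¬ IsMulCommutative G)
    (H : Subgroup G) (hH : H ≠ ⊤) : 2 * Nat.card G ∣ (H.index).factorial := by
  obtain ⟨f, hf⟩ := Cfsg.Agent.S0991.result hG H hH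
  have h1 : Nat.card G ∣ Nat.card (alternatingGroup (Fin H.index)) := card_dvd_of_injective f hf
  have hidx : 2 ≤ H.index := by
    have h0 : H.index ≠ 0 := Subgroup.index_ne_zero_of_finite
    have h1 : H.index ≠ 1 := fun h => hH (Subgroup.index_eq_one.mp h)
    omega
  have : Nontrivial (Fin H.index) := Fin.nontrivial_iff_two_le.mpr hidx
  have h2 : 2 * Nat.card (alternatingGroup (Fin H.index)) = Nat.card (Equiv.Perm (Fin H.index)) :=
    two_mul_nat_card_alternatingGroup
  rw [Nat.card_perm, Nat.card_fin] at h2
  rw [← h2]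
  exact Nat.mul_dvd_mul_left 2 h1

theorem card_dvd_factorial_index [Finite G] [IsSimpleGroup G]
    (H : Subgroup G) (hH : H ≠ ⊤) : Nat.card G ∣ (H.index).factorial := by
  classical
  have hker : (MulAction.toPermHom G (G ⧸ H)).ker = ⊥ := by
    rcases ((MulAction.toPermHom G (G ⧸ H)).normal_ker.eq_bot_or_eq_top) with h | h
    · exact h
    · exfalso
      apply hH
      rw [← Subgroup.normalCore_eq_ker] at h
      exact top_le_iff.mp (h ▸ Subgroup.normalCore_le H)
  have hinj : Function.Injective (MulAction.toPermHom G (G ⧸ H)) :=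
    (MonoidHom.ker_eq_bot_iff _).mp hker
  have := card_dvd_of_injective _ hinj
  rwa [Nat.card_perm] at this

/-- Burnside: in a finite simple group that is not a `p`-group, with `p` dividing the order,
a Sylow `p`-subgroup is not central in its normalizer. -/
theorem not_normalizer_le_centralizer_of_simple [Finite G] [IsSimpleGroup G] {p : ℕ} [Fact p.Prime]
    (hp : p ∣ Nat.card G) (hnp : ¬ IsPGroup p G) (P : Sylow p G) :
    ¬ (normalizer (P : Set G) ≤ centralizer (P : Set G)) := by
  intro hNC
  have hcomp := MonoidHom.ker_transferSylow_isComplement' P hNC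
  rcases ((MonoidHom.transferSylow P hNC).normal_ker.eq_bot_or_eq_top) with h | h
  · -- then P = ⊤
    rw [h] at hcomp
    have : (P : Subgroup G) = ⊤ := by
      have := hcomp.card_mul_card
      rw [Subgroup.card_bot, one_mul] at this
      exact (Subgroup.card_eq_iff_eq_top _).mp this
    apply hnp
    have hP := P.2
    rw [this] at hP
    exact IsPGroup.of_equiv hP Subgroup.topEquiv
  · rw [h] at hcomp
    have : (P : Subgroup G) = ⊥ := by
      have := hcomp.card_mul_card
      rw [Subgroup.card_top] at this
      have h1 : Nat.card (P : Subgroup G) = 1 := by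
        have hpos : 0 < Nat.card G := Nat.card_pos
        exact Nat.eq_of_mul_eq_mul_left hpos (by rw [this, mul_one])
      exact Subgroup.card_eq_one.mp h1
    exact P.ne_bot_of_dvd_card hp this

/-- `N(P)/C(P)` embeds in `Aut(P)`. -/
theorem relIndex_centralizer_normalizer_dvd [Finite G] (P : Subgroup G) :
    (centralizer (P : Set G)).relIndex (normalizer (P : Set G)) ∣ Nat.card (MulAut P) := by
  have key := card_dvd_of_injective _ (QuotientGroup.kerLift_injective P.normalizerMonoidHom)
  rwa [normalizerMonoidHom_ker, ← index, ← relIndex] at key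

theorem relIndex_centralizer_normalizer_dvd_of_card_prime [Finite G] (P : Subgroup G) {p : ℕ}
    [Fact p.Prime] (hP : Nat.card P = p) :
    (centralizer (P : Set G)).relIndex (normalizer (P : Set G)) ∣ p - 1 := by
  have hcyc : IsCyclic P := isCyclic_of_prime_card hP
  have := relIndex_centralizer_normalizer_dvd P
  rwa [IsCyclic.card_mulAut, hP, Nat.totient_prime Fact.out] at this

/-- Order and index of a Sylow subgroup from a factorization of the group order. -/
theorem sylow_card_and_index [Finite G] {p : ℕ} [Fact p.Prime] (P : Sylow p G) {k m : ℕ}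
    (hG : Nat.card G = p ^ k * m) (hpm : ¬ p ∣ m) :
    Nat.card (P : Subgroup G) = p ^ k ∧ (P : Subgroup G).index = m := by
  have hp : p.Prime := Fact.out
  have hm0 : m ≠ 0 := fun h => hpm (h ▸ dvd_zero p)
  have h1 : Nat.card (P : Subgroup G) = p ^ k := by
    rw [Sylow.card_eq_multiplicity, hG, Nat.factorization_mul (pow_ne_zero _ hp.ne_zero) hm0]
    simp only [Finsupp.coe_add, Pi.add_apply]
    rw [hp.factorization_pow, Nat.factorization_eq_zero_of_not_dvd hpm]
    simp
  refine ⟨h1, ?_⟩
  have h2 := (P : Subgroup G).card_mul_index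
  rw [h1, hG] at h2
  exact Nat.eq_of_mul_eq_mul_left (pow_pos hp.pos k) h2

theorem card_sylow_mem_filter_divisors [Finite G] {p : ℕ} [Fact p.Prime] (P : Sylow p G) {m : ℕ}
    (hm : m ≠ 0) (hidx : (P : Subgroup G).index = m) :
    Nat.card (Sylow p G) ∈ (Nat.divisors m).filter (fun d => d % p = 1) := by
  have hp : p.Prime := Fact.out
  rw [Finset.mem_filter, Nat.mem_divisors]
  refine ⟨⟨hidx ▸ Sylow.card_dvd_index P, hm⟩, ?_⟩
  have := card_sylow_modEq_one p G
  rw [Nat.ModEq, Nat.mod_eq_of_lt hp.one_lt] at this
  exact this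

theorem card_normalizer_mul_card_sylow [Finite G] {p : ℕ} [Fact p.Prime] (P : Sylow p G) :
    Nat.card (normalizer ((P : Subgroup G) : Set G)) * Nat.card (Sylow p G) = Nat.card G := by
  rw [Sylow.card_eq_index_normalizer P]
  exact Subgroup.card_mul_index _

/-- A finite simple group whose order is not prime is non-abelian. -/
theorem not_isMulCommutative_of_card_not_prime [Finite G] [IsSimpleGroup G]
    (h : ¬ (Nat.card G).Prime) : ¬ IsMulCommutative G := by
  intro hc
  let _ : CommGroup G := { ‹Group G› with mul_comm := hc.is_comm.comm }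
  exact h (IsSimpleGroup.prime_card (α := G))

theorem index_normalizer_eq_card_sylow [Finite G] {p : ℕ} [Fact p.Prime] (P : Sylow p G) :
    (normalizer ((P : Subgroup G) : Set G)).index = Nat.card (Sylow p G) :=
  (Sylow.card_eq_index_normalizer P).symm

end Cfsg.Agent.Lib.H5
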