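import Mathlib
import Cfsg.Agent.Lib.H2.ActIso
import Cfsg.Agent.Lib.H5.KleinCount
import Cfsg.Agent.Lib.H5.SimpleTools

set_option autoImplicit false

/-!
# Recognising `S₄`

A group of order 24 with a normal self-centralizing Klein four-subgroup is isomorphic to `S₄`.
-/

namespace Cfsg.Agent.Lib.H5.S4Recog

open Cfsg.Agent.Lib.H5 Cfsg.Agent.Lib.H5.KleinCount

variable {G : Type*} [Group G]

theorem klein_mul_self {V : Subgroup G} (hV : IsKleinFour V) {x : G} (hx : x ∈ V) : x * x = 1 := by
  have := IsKleinFour.mul_self (⟨x, hx⟩ : V)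
  exact congrArg Subtype.val this

theorem klein_comm {V : Subgroup G} (hV : IsKleinFour V) {x y : G} (hx : x ∈ V) (hy : y ∈ V) :
    x * y = y * x := by
  haveI : IsMulCommutative V := IsKleinFour.isMulCommutative
  have := mul_comm' (⟨x, hx⟩ : V) ⟨y, hy⟩
  exact congrArg Subtype.val this

/-- an element of order dividing three normalizing a Klein four-group and fixing a nonidentity
element of it centralizes it -/
theorem centralizes_of_fix {V : Subgroup G} (hV : IsKleinFour V) {h : G}
    (hn : ∀ v ∈ V, h * v * h⁻¹ ∈ V) (h3 : h ^ 3 = 1) {z : G} (hz : z ∈ V) (hz1 : z ≠ 1)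
    (hfix : h * z * h⁻¹ = z) : ∀ v ∈ V, h * v * h⁻¹ = v := by
  intro v hv
  by_cases hv1 : v = 1
  · rw [hv1]; group
  by_cases hvz : v = z
  · rw [hvz]; exact hfix
  have hzz := klein_mul_self hV hz
  have hvv := klein_mul_self hV hv
  have hzv := klein_comm hV hz hv
  have hK := kleinSub_eq_of_mem hV.card_four hzv hzz hvv hz1 hv1 hvz hz hv
  have hw : h * v * h⁻¹ ∈ kleinSub z v hzv hzz hvv := by rw [hK]; exact hn v hv
  rcases (mem_kleinSub hzv hzz hvv _).mp hw with hw | hw | hw | hw
  · exfalso
    apply hv1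
    have : v = h⁻¹ * (h * v * h⁻¹) * h := by group
    rw [this, hw]; group
  · exfalso
    apply hvz
    have : v = h⁻¹ * (h * v * h⁻¹) * h := by group
    rw [this, hw]
    have : z = h⁻¹ * (h * z * h⁻¹) * h := by group
    nth_rewrite 2 [this]
    rw [hfix]
  · exact hw
  · exfalso
    -- h² v h⁻² = v
    have h2 : h * (h * v * h⁻¹) * h⁻¹ = v := by
      rw [hw]
      calc h * (z * v) * h⁻¹ = (h * z * h⁻¹) * (h * v * h⁻¹) := by group
        _ = z * (z * v) := by rw [hfix, hw]
        _ = (z * z) * v := by group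
        _ = v := by rw [hzz, one_mul]
    have hhh : h * h * h = 1 := by rw [← pow_three']; exact h3
    have hinv : h * h = h⁻¹ := by rw [eq_inv_iff_mul_eq_one]; exact hhh
    have h4 : h⁻¹ * v * h = v := by
      calc h⁻¹ * v * h = (h * h) * v * (h * h)⁻¹ := by rw [hinv, inv_inv]
        _ = h * (h * v * h⁻¹) * h⁻¹ := by group
        _ = v := h2
    have h5 : h * v * h⁻¹ = v := by
      calc h * v * h⁻¹ = h * (h⁻¹ * v * h) * h⁻¹ := by rw [h4]
        _ = v := by group
    rw [h5] at hw
    apply hz1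
    have : 1 * v = z * v := by rw [one_mul]; exact hw
    exact (mul_right_cancel this).symm

/-- a group of order 24 with a normal self-centralizing Klein four-subgroup is `S₄` -/
theorem nonempty_mulEquiv_perm_four [Finite G] (hG : Nat.card G = 24) (V : Subgroup G)
    [hVn : V.Normal] (hV : IsKleinFour V) (hC : Subgroup.centralizer (V : Set G) ≤ V) :
    Nonempty (G ≃* Equiv.Perm (Fin 4)) := by
  haveI : Fact (Nat.Prime 3) := ⟨Nat.prime_three⟩
  haveI : Fact (Nat.Prime 2) := ⟨Nat.prime_two⟩
  -- elements of order dividing 3 centralizing V are trivial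
  have key : ∀ h : G, h ^ 3 = 1 → (∀ v ∈ V, h * v * h⁻¹ = v) → h = 1 := by
    intro h h3 hc
    have hhV : h ∈ V := by
      apply hC
      rw [Subgroup.mem_centralizer_iff]
      intro v hv
      have := hc v hv
      calc v * h = (h * v * h⁻¹) * h := by rw [this]
        _ = h * v := by group
    have h2 : h * h = 1 := klein_mul_self hV hhV
    calc h = h ^ 3 * (h * h)⁻¹ := by group
      _ = 1 := by rw [h3, h2]; group
  have hVp : IsPGroup 2 V := IsPGroup.of_card (n := 2) (by rw [hV.card_four]; norm_num)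
  have hdisj : ∀ P : Sylow 3 G, Disjoint (P : Subgroup G) V := fun P =>
    IsPGroup.disjoint_of_ne 3 2 (by norm_num) _ _ P.isPGroup' hVp
  have hcardP : ∀ P : Sylow 3 G, Nat.card (P : Subgroup G) = 3 := by
    intro P
    have := (sylow_card_and_index P (k := 1) (m := 8) (by rw [hG]; norm_num) (by norm_num)).1
    simpa using this
  -- an element of order three in each Sylow 3-subgroup
  have hgen : ∀ P : Sylow 3 G, ∃ h : G, h ∈ (P : Subgroup G) ∧ h ^ 3 = 1 ∧ h ≠ 1 := by
    intro P
    obtain ⟨h, hh⟩ := exists_prime_orderOf_dvd_card' (G := (P : Subgroup G)) 3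
      (by rw [hcardP P])
    have hh' : orderOf (h : G) = 3 := by rw [Subgroup.orderOf_coe]; exact hh
    refine ⟨(h : G), h.2, ?_, ?_⟩
    · have := pow_orderOf_eq_one (h : G)
      rwa [hh'] at this
    · intro h1
      rw [h1, orderOf_one] at hh'
      omega
  -- no Sylow 3-subgroup is normal
  have hnn : ∀ P : Sylow 3 G, ¬ (P : Subgroup G).Normal := by
    intro P hPn
    obtain ⟨h, hhP, h3, h1⟩ := hgen P
    apply h1
    apply key h h3
    intro v hv
    have := Subgroup.commute_of_normal_of_disjoint _ _ hPn hVn (hdisj P) h v hhP hv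
    calc h * v * h⁻¹ = v * h * h⁻¹ := by rw [this.eq]
      _ = v := by group
  obtain ⟨P₀⟩ : Nonempty (Sylow 3 G) := inferInstance
  have hcard : Nat.card (Sylow 3 G) = 4 := by
    have h1 := card_sylow_modEq_one 3 G
    have h2 : Nat.card (Sylow 3 G) ∣ 8 := by
      have := Sylow.card_dvd_index P₀
      rwa [(sylow_card_and_index P₀ (k := 1) (m := 8) (by rw [hG]; norm_num) (by norm_num)).2] at this
    have h3 : Nat.card (Sylow 3 G) ≤ 8 := Nat.le_of_dvd (by norm_num) h2
    have h4 : Nat.card (Sylow 3 G) ≠ 1 := by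
      intro h1'
      apply hnn P₀
      haveI : Subsingleton (Sylow 3 G) := (Nat.card_eq_one_iff_unique.mp h1').1
      exact Sylow.normal_of_subsingleton P₀
    unfold Nat.ModEq at h1
    interval_cases hn : Nat.card (Sylow 3 G) <;> simp_all
  -- the action on Sylow 3-subgroups is faithful
  have hfaith : FaithfulSMul G (Sylow 3 G) := by
    obtain ⟨K, hK⟩ : ∃ K : Subgroup G, K = (MulAction.toPermHom G (Sylow 3 G)).ker := ⟨_, rfl⟩
    haveI hKn : K.Normal := by rw [hK]; infer_instance
    have hKmem : ∀ g : G, g ∈ K ↔ ∀ P : Sylow 3 G, g • P = P := by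
      intro g
      rw [hK, MonoidHom.mem_ker]
      constructor
      · intro hg P
        have := congrArg (fun σ : Equiv.Perm (Sylow 3 G) => σ P) hg
        simpa using this
      · intro hg
        apply Equiv.ext
        intro P
        exact hg P
    have hM : K ⊓ V = ⊥ := by
      rw [Subgroup.eq_bot_iff_forall]
      intro z hzM
      by_contra hz1
      obtain ⟨hzK, hzV⟩ := Subgroup.mem_inf.mp hzM
      obtain ⟨h, hhP, h3, h1⟩ := hgen P₀
      apply h1
      have hzN : z ∈ Subgroup.normalizer ((P₀ : Subgroup G) : Set G) := by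
        rw [P₀.coe_coe, ← Sylow.smul_eq_iff_mem_normalizer]
        exact (hKmem z).mp hzK P₀
      have hc : z * h * z⁻¹ * h⁻¹ = 1 := by
        have hcP : z * h * z⁻¹ * h⁻¹ ∈ (P₀ : Subgroup G) := by
          apply Subgroup.mul_mem _ _ (Subgroup.inv_mem _ hhP)
          exact (Subgroup.mem_normalizer_iff.mp hzN h).mp hhP
        have hcV : z * h * z⁻¹ * h⁻¹ ∈ V := by
          have : z * h * z⁻¹ * h⁻¹ = z * (h * z⁻¹ * h⁻¹) := by group
          rw [this]
          exact Subgroup.mul_mem _ hzV (hVn.conj_mem _ (Subgroup.inv_mem _ hzV) h)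
        exact Subgroup.disjoint_def.mp (hdisj P₀) hcP hcV
      have hfix : h * z * h⁻¹ = z := by
        calc h * z * h⁻¹ = (z * h * z⁻¹ * h⁻¹)⁻¹ * z := by group
          _ = z := by rw [hc]; group
      exact key h h3 (centralizes_of_fix hV (fun v hv => hVn.conj_mem v hv h) h3 hzV hz1 hfix)
    have hKbot : K = ⊥ := by
      rw [Subgroup.eq_bot_iff_forall]
      intro k hk
      have hkV : k ∈ V := by
        apply hC
        rw [Subgroup.mem_centralizer_iff]
        intro v hv
        exact ((Subgroup.commute_of_normal_of_disjoint _ _ hKn hVn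
          (disjoint_iff.mpr hM) k v hk hv).eq).symm
      have : k ∈ K ⊓ V := Subgroup.mem_inf.mpr ⟨hk, hkV⟩
      rw [hM] at this
      exact Subgroup.mem_bot.mp this
    have hinj : Function.Injective (MulAction.toPermHom G (Sylow 3 G)) := by
      rw [← MonoidHom.ker_eq_bot_iff, ← hK, hKbot]
    refine ⟨fun {a b} h => hinj ?_⟩
    apply Equiv.ext
    intro x
    exact h x
  exact Cfsg.Agent.Lib.H2.nonempty_mulEquiv_perm_of_card (X := Sylow 3 G) 4 hcard (by rw [hG]; rfl)

/-- `S₄` contains `A₄` -/
theorem exists_A4_of_S4 (e : G ≃* Equiv.Perm (Fin 4)) :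
    ∃ H : Subgroup G, Nonempty (H ≃* alternatingGroup (Fin 4)) :=
  ⟨(alternatingGroup (Fin 4)).map e.symm.toMonoidHom,
    ⟨(e.symm.subgroupMap (alternatingGroup (Fin 4))).symm⟩⟩

end Cfsg.Agent.Lib.H5.S4Recog
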