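import Cfsg.Agent.Lib.H5.Glaub.OddCore
import Cfsg.Agent.Lib.H25.G85IDX6
import Cfsg.Agent.Lib.H24.G85NC

/-!
S4385 wave 2, piece (A34): `abs_s4z2`.
`Q = ⟨u, z, v⟩` normal elementary abelian of order 8, `K = ⟨Q, a, b⟩`, `|K| = 16 * odd`.
-/
set_option autoImplicit false
open scoped Pointwise

namespace Cfsg.Agent.Lib.H5.G85

variable {K : Type*} [Group K]

theorem comm_aux {x y : K} (h : x * y = y * x) (w : K) : x * (y * w) = y * (x * w) := by
  rw [← mul_assoc, h, mul_assoc]

theorem conj_mul' (g x y : K) : g * (x * y) * g⁻¹ = (g * x * g⁻¹) * (g * y * g⁻¹) := by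
  group

theorem invol_aux {x : K} (h : x * x = 1) (w : K) : x * (x * w) = w := by
  rw [← mul_assoc, h, one_mul]

/-- the four-group `{1, x, y, x*y}` of two commuting involutions -/
def four (x y : K) (hx : x * x = 1) (hy : y * y = 1) (hxy : x * y = y * x) : Subgroup K where
  carrier := {g | g = 1 ∨ g = x ∨ g = y ∨ g = x * y}
  one_mem' := Or.inl rfl
  mul_mem' := by
    have hyx : y * x = x * y := hxy.symm
    rintro g h (rfl | rfl | rfl | rfl) (rfl | rfl | rfl | rfl) <;>
      simp [mul_assoc, hyx, comm_aux hyx, hx, invol_aux hx, hy, invol_aux hy]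
  inv_mem' := by
    have hxi : x⁻¹ = x := inv_eq_of_mul_eq_one_right hx
    have hyi : y⁻¹ = y := inv_eq_of_mul_eq_one_right hy
    rintro g (rfl | rfl | rfl | rfl) <;> simp [hxi, hyi, hxy.symm]

theorem mem_four {x y : K} (hx : x * x = 1) (hy : y * y = 1) (hxy : x * y = y * x) (g : K) :
    g ∈ four x y hx hy hxy ↔ g = 1 ∨ g = x ∨ g = y ∨ g = x * y := Iff.rfl

theorem coe_four {x y : K} (hx : x * x = 1) (hy : y * y = 1) (hxy : x * y = y * x) :
    ((four x y hx hy hxy : Subgroup K) : Set K) = {1, x, y, x * y} := by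
  ext g
  simp only [SetLike.mem_coe, mem_four, Set.mem_insert_iff, Set.mem_singleton_iff]

theorem card_four_le {x y : K} (hx : x * x = 1) (hy : y * y = 1) (hxy : x * y = y * x) :
    Nat.card (four x y hx hy hxy) ≤ 4 := by
  have h1 : Nat.card (four x y hx hy hxy) = Set.ncard ((four x y hx hy hxy : Subgroup K) : Set K) :=
    Nat.card_coe_set_eq _
  rw [h1, coe_four]
  have a1 := Set.ncard_insert_le (1 : K) {x, y, x * y}
  have a2 := Set.ncard_insert_le x {y, x * y}
  have a3 := Set.ncard_insert_le y {x * y}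
  have a4 := Set.ncard_singleton (x * y)
  omega

theorem card_four {x y : K} (hx : x * x = 1) (hy : y * y = 1) (hxy : x * y = y * x)
    (hx1 : x ≠ 1) (hy1 : y ≠ 1) (hne : x ≠ y) :
    Nat.card (four x y hx hy hxy) = 4 := by
  have h1 : Nat.card (four x y hx hy hxy) = Set.ncard ((four x y hx hy hxy : Subgroup K) : Set K) :=
    Nat.card_coe_set_eq _
  rw [h1, coe_four]
  have hxy1 : x * y ≠ 1 := by
    intro h
    apply hne
    have : x = y⁻¹ := eq_inv_of_mul_eq_one_left h
    rw [this, inv_eq_of_mul_eq_one_right hy]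
  have a3 : ({y, x * y} : Set K).ncard = 2 := by
    apply Set.ncard_pair
    intro h
    apply hx1
    have : 1 * y = x * y := by rw [one_mul]; exact h
    exact (mul_right_cancel this).symm
  have a2 : ({x, y, x * y} : Set K).ncard = 3 := by
    rw [Set.ncard_insert_of_notMem _ (Set.toFinite _), a3]
    simp only [Set.mem_insert_iff, Set.mem_singleton_iff, not_or]
    refine ⟨hne, ?_⟩
    intro h
    apply hy1
    have : x * 1 = x * y := by rw [mul_one]; exact h
    exact (mul_left_cancel this).symm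
  rw [Set.ncard_insert_of_notMem _ (Set.toFinite _), a2]
  simp only [Set.mem_insert_iff, Set.mem_singleton_iff, not_or]
  exact ⟨fun h => hx1 h.symm, fun h => hy1 h.symm, fun h => hxy1 h.symm⟩

theorem sq_of_mem_four {x y : K} (hx : x * x = 1) (hy : y * y = 1) (hxy : x * y = y * x) (g : K)
    (hg : g ∈ four x y hx hy hxy) : g ^ 2 = 1 := by
  have hyx : y * x = x * y := hxy.symm
  rw [pow_two]
  rcases hg with rfl | rfl | rfl | rfl
  · simp
  · exact hx
  · exact hy
  · simp [mul_assoc, comm_aux hyx, hx, hy]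

/-- a generator not in the four-group of the other two, if `|Q| = 8`. -/
theorem not_mem_four [Finite K] (Q : Subgroup K) {x y w : K} (hx : x * x = 1) (hy : y * y = 1)
    (hxy : x * y = y * x)
    (hQle : ∀ N : Subgroup K, x ∈ N → y ∈ N → w ∈ N → Q ≤ N) (hQcard : Nat.card Q = 8) :
    w ∉ four x y hx hy hxy := by
  intro hw
  have h1 : Q ≤ four x y hx hy hxy :=
    hQle _ (Or.inr (Or.inl rfl)) (Or.inr (Or.inr (Or.inl rfl))) hw
  have h2 := Subgroup.card_le_of_le h1
  have h3 := card_four_le hx hy hxy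
  omega

theorem abelian_of_gen (Q : Subgroup K) (u z v : K)
    (hQle : ∀ N : Subgroup K, u ∈ N → z ∈ N → v ∈ N → Q ≤ N)
    (huz : u * z = z * u) (huv : u * v = v * u) (hzv : z * v = v * z) :
    ∀ x ∈ Q, ∀ y ∈ Q, x * y = y * x := by
  have h1 : Q ≤ Subgroup.centralizer ({u, z, v} : Set K) := by
    apply hQle
    · rw [Subgroup.mem_centralizer_iff]
      rintro h (rfl | rfl | rfl)
      · rfl
      · exact huz.symm
      · exact huv.symm
    · rw [Subgroup.mem_centralizer_iff]
      rintro h (rfl | rfl | rfl)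
      · exact huz
      · rfl
      · exact hzv.symm
    · rw [Subgroup.mem_centralizer_iff]
      rintro h (rfl | rfl | rfl)
      · exact huv
      · exact hzv
      · rfl
  have h2 : Q ≤ Subgroup.centralizer (Q : Set K) := by
    apply hQle
    · rw [Subgroup.mem_centralizer_iff]
      intro h hh
      exact ((Subgroup.mem_centralizer_iff.1 (h1 hh)) u (Or.inl rfl)).symm
    · rw [Subgroup.mem_centralizer_iff]
      intro h hh
      exact ((Subgroup.mem_centralizer_iff.1 (h1 hh)) z (Or.inr (Or.inl rfl))).symm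
    · rw [Subgroup.mem_centralizer_iff]
      intro h hh
      exact ((Subgroup.mem_centralizer_iff.1 (h1 hh)) v (Or.inr (Or.inr rfl))).symm
  intro x hx y hy
  exact ((Subgroup.mem_centralizer_iff.1 (h2 hy)) x hx)


/-- cases 1 and 2 of (A34): `r = a * b` acts on `Q` with order 4 but `r ^ (2 m) ∈ Q`. -/
theorem abs_s4z2_case1 [Finite K] (Q : Subgroup K) [Q.Normal] (u z v a b : K)
    (huQ : u ∈ Q)
    (hQle : ∀ N : Subgroup K, u ∈ N → z ∈ N → v ∈ N → Q ≤ N) (hQcard : Nat.card Q = 8)
    (hQab : ∀ x ∈ Q, ∀ y ∈ Q, x * y = y * x) (hz1 : z ≠ 1)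
    (hz2 : z * z = 1) (hv2 : v * v = 1)
    (haz : a * z = z * a) (hav : a * v = v * a) (hbz : b * z = z * b) (hbu : b * u = u * b)
    (hau : a * u * a⁻¹ = u * v) (hbv : b * v * b⁻¹ = v * z)
    (hcard : ∃ m : ℕ, ¬ 2 ∣ m ∧ Nat.card K = 16 * m) : False := by
  obtain ⟨m, hm, hK⟩ := hcard
  have ca_z : a * z * a⁻¹ = z := mul_inv_eq_iff_eq_mul.2 haz
  have ca_v : a * v * a⁻¹ = v := mul_inv_eq_iff_eq_mul.2 hav
  have cb_z : b * z * b⁻¹ = z := mul_inv_eq_iff_eq_mul.2 hbz
  have cb_u : b * u * b⁻¹ = u := mul_inv_eq_iff_eq_mul.2 hbu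
  obtain ⟨r, hr⟩ : ∃ r : K, r = a * b := ⟨_, rfl⟩
  have hconj : ∀ x : K, r * x * r⁻¹ = a * (b * x * b⁻¹) * a⁻¹ := by
    intro x; rw [hr]; group
  have hr_u : r * u * r⁻¹ = u * v := by rw [hconj, cb_u, hau]
  have hr_z : r * z * r⁻¹ = z := by rw [hconj, cb_z, ca_z]
  have hr_v : r * v * r⁻¹ = v * z := by rw [hconj, hbv, conj_mul', ca_v, ca_z]
  have hconj2 : ∀ x : K, r ^ 2 * x * (r ^ 2)⁻¹ = r * (r * x * r⁻¹) * r⁻¹ := by
    intro x; rw [pow_two, mul_inv_rev]; simp only [mul_assoc]
  have hr2_u : r ^ 2 * u * (r ^ 2)⁻¹ = u * z := by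
    rw [hconj2, hr_u, conj_mul', hr_u, hr_v, mul_assoc, invol_aux hv2]
  have hr2_z : r ^ 2 * z * (r ^ 2)⁻¹ = z := by rw [hconj2, hr_z, hr_z]
  have hr2_v : r ^ 2 * v * (r ^ 2)⁻¹ = v := by
    rw [hconj2, hr_v, conj_mul', hr_v, hr_z, mul_assoc, hz2, mul_one]
  have hconj4 : ∀ x : K, r ^ 4 * x * (r ^ 4)⁻¹ = r ^ 2 * (r ^ 2 * x * (r ^ 2)⁻¹) * (r ^ 2)⁻¹ := by
    intro x
    have h22 : r ^ 4 = r ^ 2 * r ^ 2 := by rw [← pow_add]
    rw [h22, mul_inv_rev]; simp only [mul_assoc]
  have hr4_u : r ^ 4 * u * (r ^ 4)⁻¹ = u := by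
    rw [hconj4, hr2_u, conj_mul', hr2_u, hr2_z, mul_assoc, hz2, mul_one]
  have hr4_z : r ^ 4 * z * (r ^ 4)⁻¹ = z := by rw [hconj4, hr2_z, hr2_z]
  have hr4_v : r ^ 4 * v * (r ^ 4)⁻¹ = v := by rw [hconj4, hr2_v, hr2_v]
  have h4 : Q ≤ Subgroup.centralizer ({r ^ 4} : Set K) := by
    apply hQle
    · rw [Subgroup.mem_centralizer_iff]
      rintro h rfl
      exact mul_inv_eq_iff_eq_mul.1 hr4_u
    · rw [Subgroup.mem_centralizer_iff]
      rintro h rfl
      exact mul_inv_eq_iff_eq_mul.1 hr4_z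
    · rw [Subgroup.mem_centralizer_iff]
      rintro h rfl
      exact mul_inv_eq_iff_eq_mul.1 hr4_v
  have c4 : Commute (r ^ 4) u := (Subgroup.mem_centralizer_iff.1 (h4 huQ)) _ rfl
  have hidx : Q.index = 2 * m := by
    have := Subgroup.card_mul_index Q
    rw [hQcard, hK] at this
    omega
  have hmem : r ^ (2 * m) ∈ Q := by
    rw [← hidx]; exact Subgroup.pow_index_mem Q r
  obtain ⟨k, hk⟩ : ∃ k, m = 2 * k + 1 := by
    rcases Nat.even_or_odd' m with ⟨k, hk | hk⟩
    · exact absurd ⟨k, hk⟩ hm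
    · exact ⟨k, hk⟩
  have hpow : r ^ (2 * m) = (r ^ 4) ^ k * r ^ 2 := by
    rw [← pow_mul, ← pow_add]; congr 1; omega
  have c2m : Commute ((r ^ 4) ^ k * r ^ 2) u := by
    rw [← hpow]; exact hQab _ hmem _ huQ
  have c2 : Commute (r ^ 2) u := by
    have := ((c4.pow_left k).inv_left).mul_left c2m
    rwa [inv_mul_cancel_left] at this
  have : u * z = u := by
    rw [← hr2_u]; exact mul_inv_eq_iff_eq_mul.2 c2
  apply hz1
  have h' : u * z = u * 1 := by rw [mul_one]; exact this
  exact mul_left_cancel h'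


/-- (A34) `Q = ⟨u, z, v⟩` normal elementary abelian of order 8, `K = ⟨Q, a, b⟩`, `|K| = 16 * odd`. -/
theorem abs_s4z2 {K : Type*} [Group K] [Finite K] (Q : Subgroup K) [Q.Normal] (u z v a b c c' : K)
    (huQ : u ∈ Q) (hzQ : z ∈ Q) (hvQ : v ∈ Q)
    (hQle : ∀ N : Subgroup K, u ∈ N → z ∈ N → v ∈ N → Q ≤ N) (hQcard : Nat.card Q = 8)
    (hu2 : u * u = 1) (hz2 : z * z = 1) (hv2 : v * v = 1) (ha2 : a * a = 1) (hb2 : b * b = 1)
    (huz : u * z = z * u) (huv : u * v = v * u) (hzv : z * v = v * z)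
    (haz : a * z = z * a) (hav : a * v = v * a) (hbz : b * z = z * b) (hbu : b * u = u * b)
    (hau : a * u * a⁻¹ = u * c) (hbv : b * v * b⁻¹ = v * c')
    (hcc : (c = v ∧ c' = z) ∨ (c = z ∧ c' = u) ∨ (c = v * z ∧ c' = z * u))
    (hgen : ∀ N : Subgroup K, a ∈ N → b ∈ N → Q ≤ N → N = ⊤)
    (hcard : ∃ m : ℕ, ¬ 2 ∣ m ∧ Nat.card K = 16 * m) :
    Nonempty (K ⧸ Cfsg.oddCore K ≃* Equiv.Perm (Fin 4) × Multiplicative (ZMod 2)) := by
  have hQab := abelian_of_gen Q u z v hQle huz huv hzv
  have hzn : z ∉ four u v hu2 hv2 huv :=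
    not_mem_four Q hu2 hv2 huv (fun N h1 h2 h3 => hQle N h1 h3 h2) hQcard
  have hun : u ∉ four z v hz2 hv2 hzv :=
    not_mem_four Q hz2 hv2 hzv (fun N h1 h2 h3 => hQle N h3 h1 h2) hQcard
  have hvn : v ∉ four u z hu2 hz2 huz :=
    not_mem_four Q hu2 hz2 huz (fun N h1 h2 h3 => hQle N h1 h2 h3) hQcard
  simp only [mem_four, not_or] at hzn hun hvn
  obtain ⟨hz1, hzu, hzv', hzuv⟩ := hzn
  obtain ⟨hu1, -, huv', -⟩ := hun
  obtain ⟨hv1, -, -, -⟩ := hvn
  rcases hcc with ⟨hc, hc'⟩ | ⟨hc, hc'⟩ | ⟨hc, hc'⟩ <;> rw [hc] at hau <;> rw [hc'] at hbv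
  · exact (abs_s4z2_case1 Q u z v a b huQ hQle hQcard hQab hz1 hz2 hv2 haz hav hbz hbu hau hbv
      hcard).elim
  · exact (abs_s4z2_case1 Q v z u b a hvQ (fun N h1 h2 h3 => hQle N h3 h2 h1) hQcard hQab hz1 hz2
      hu2 hbz hbu haz hav hbv hau hcard).elim
  · -- case 3
    have hvz : v * z = z * v := hzv.symm
    have hvu : v * u = u * v := huv.symm
    have h1 : (z * u) * (z * u) = 1 := by
      simp only [mul_assoc, huz, comm_aux huz, hvz, comm_aux hvz, hvu, comm_aux hvu, hz2,
        invol_aux hz2, hu2, invol_aux hu2, hv2, invol_aux hv2, mul_one, one_mul]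
    have h2 : (v * z) * (v * z) = 1 := by
      simp only [mul_assoc, huz, comm_aux huz, hvz, comm_aux hvz, hvu, comm_aux hvu, hz2,
        invol_aux hz2, hu2, invol_aux hu2, hv2, invol_aux hv2, mul_one, one_mul]
    have h3 : (z * u) * (v * z) = (v * z) * (z * u) := by
      simp only [mul_assoc, huz, comm_aux huz, hvz, comm_aux hvz, hvu, comm_aux hvu, hz2,
        invol_aux hz2, hu2, invol_aux hu2, hv2, invol_aux hv2, mul_one, one_mul]
    have h4 : z * u * (v * z) = u * v := by
      simp only [mul_assoc, huz, comm_aux huz, hvz, comm_aux hvz, hvu, comm_aux hvu, hz2,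
        invol_aux hz2, hu2, invol_aux hu2, hv2, invol_aux hv2, mul_one, one_mul]
    obtain ⟨W, hWdef⟩ : ∃ W : Subgroup K, W = four (z * u) (v * z) h1 h2 h3 := ⟨_, rfl⟩
    have hWmem : ∀ g : K, g ∈ W ↔ g = 1 ∨ g = z * u ∨ g = v * z ∨ g = z * u * (v * z) := by
      intro g; rw [hWdef]; exact Iff.rfl
    have ca_z : a * z * a⁻¹ = z := mul_inv_eq_iff_eq_mul.2 haz
    have ca_v : a * v * a⁻¹ = v := mul_inv_eq_iff_eq_mul.2 hav
    have cb_z : b * z * b⁻¹ = z := mul_inv_eq_iff_eq_mul.2 hbz
    have cb_u : b * u * b⁻¹ = u := mul_inv_eq_iff_eq_mul.2 hbu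
    have hav' : a * (v * z) * a⁻¹ = v * z := by rw [conj_mul', ca_v, ca_z]
    have hau' : a * (z * u) * a⁻¹ = z * u * (v * z) := by
      rw [conj_mul', ca_z, hau]; exact (mul_assoc _ _ _).symm
    have hbu' : b * (z * u) * b⁻¹ = z * u := by rw [conj_mul', cb_z, cb_u]
    have hbv' : b * (v * z) * b⁻¹ = v * z * (z * u) := by
      rw [conj_mul', hbv, cb_z]
      simp only [mul_assoc, huz, comm_aux huz, hvz, comm_aux hvz, hvu, comm_aux hvu, hz2,
        invol_aux hz2, hu2, invol_aux hu2, hv2, invol_aux hv2, mul_one, one_mul]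
    have hWQ : W ≤ Q := by
      intro g hg
      rcases (hWmem g).1 hg with rfl | rfl | rfl | rfl
      · exact Q.one_mem
      · exact Q.mul_mem hzQ huQ
      · exact Q.mul_mem hvQ hzQ
      · exact Q.mul_mem (Q.mul_mem hzQ huQ) (Q.mul_mem hvQ hzQ)
    have hQC : Q ≤ Subgroup.centralizer (Q : Set K) := fun x hx =>
      Subgroup.mem_centralizer_iff.2 (fun y hy => hQab y hy x hx)
    have mem_norm : ∀ g : K, g * g = 1 → (∀ w ∈ W, g * w * g⁻¹ ∈ W) →
        g ∈ Subgroup.normalizer (W : Set K) := by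
      intro g hg hgW
      rw [Subgroup.mem_normalizer_iff]
      intro w
      constructor
      · exact hgW w
      · intro hw
        have h5 := hgW _ hw
        have e : g * (g * w * g⁻¹) * g⁻¹ = (g * g) * w * (g * g)⁻¹ := by group
        rw [e, hg, inv_one, one_mul, mul_one] at h5
        exact h5
    have haW : ∀ w ∈ W, a * w * a⁻¹ ∈ W := by
      intro w hw
      rcases (hWmem w).1 hw with rfl | rfl | rfl | rfl
      · rw [mul_one, mul_inv_cancel]; exact W.one_mem
      · rw [hau']; exact (hWmem _).2 (Or.inr (Or.inr (Or.inr rfl)))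
      · rw [hav']; exact (hWmem _).2 (Or.inr (Or.inr (Or.inl rfl)))
      · rw [conj_mul', hau', hav', mul_assoc, h2, mul_one]
        exact (hWmem _).2 (Or.inr (Or.inl rfl))
    have hbW : ∀ w ∈ W, b * w * b⁻¹ ∈ W := by
      intro w hw
      rcases (hWmem w).1 hw with rfl | rfl | rfl | rfl
      · rw [mul_one, mul_inv_cancel]; exact W.one_mem
      · rw [hbu']; exact (hWmem _).2 (Or.inr (Or.inl rfl))
      · rw [hbv', ← h3]; exact (hWmem _).2 (Or.inr (Or.inr (Or.inr rfl)))
      · rw [conj_mul', hbu', hbv', ← h3, invol_aux h1]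
        exact (hWmem _).2 (Or.inr (Or.inr (Or.inl rfl)))
    have hNtop : Subgroup.normalizer (W : Set K) = ⊤ :=
      hgen _ (mem_norm a ha2 haW) (mem_norm b hb2 hbW)
        (le_trans hQC (le_trans (Subgroup.centralizer_le hWQ)
          (Subgroup.centralizer_le_normalizer _)))
    have hWn : W.Normal := Subgroup.normalizer_eq_top_iff.1 hNtop
    have hu' : z * u ≠ 1 := by
      intro h
      apply hzu
      have := eq_inv_of_mul_eq_one_left h
      rw [this, inv_eq_of_mul_eq_one_right hu2]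
    have hv' : v * z ≠ 1 := by
      intro h
      apply hzv'
      have := eq_inv_of_mul_eq_one_left h
      rw [this, inv_eq_of_mul_eq_one_right hz2]
    have hu'v' : z * u ≠ v * z := by
      intro h
      exact huv' (mul_left_cancel (h.trans hvz))
    have h6 := Cfsg.Agent.Lib.H25.G85.index_centralizer_eq_six W (z * u) (v * z) a b hWmem hu' hv'
      hu'v' h1 h2 h3 hav' hau' hbu' hbv'
    -- `z` is central
    have hzc : Subgroup.centralizer ({z} : Set K) = ⊤ := by
      apply hgen
      · rw [Subgroup.mem_centralizer_iff]; rintro h rfl; exact haz.symm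
      · rw [Subgroup.mem_centralizer_iff]; rintro h rfl; exact hbz.symm
      · intro x hx
        rw [Subgroup.mem_centralizer_iff]; rintro h rfl; exact hQab _ hzQ x hx
    have hzc' : ∀ g : K, z * g = g * z := by
      intro g
      have hg : g ∈ Subgroup.centralizer ({z} : Set K) := by rw [hzc]; exact Subgroup.mem_top g
      exact (Subgroup.mem_centralizer_iff.1 hg) z rfl
    have hCW : Subgroup.centralizer (W : Set K) = Subgroup.centralizer (Q : Set K) := by
      apply le_antisymm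
      · intro g hg
        have hg' := Subgroup.mem_centralizer_iff.1 hg
        have c1 : Commute g z := (hzc' g).symm
        have c2 : Commute g (z * u) := (hg' (z * u) ((hWmem _).2 (Or.inr (Or.inl rfl)))).symm
        have c3 : Commute g (v * z) :=
          (hg' (v * z) ((hWmem _).2 (Or.inr (Or.inr (Or.inl rfl))))).symm
        have cu : Commute g u := by
          have := c1.mul_right c2
          rwa [invol_aux hz2] at this
        have cv : Commute g v := by
          have := c3.mul_right c1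
          rwa [mul_assoc, hz2, mul_one] at this
        have hQg : Q ≤ Subgroup.centralizer ({g} : Set K) := by
          apply hQle
          · rw [Subgroup.mem_centralizer_iff]; rintro h rfl; exact cu.eq
          · rw [Subgroup.mem_centralizer_iff]; rintro h rfl; exact c1.eq
          · rw [Subgroup.mem_centralizer_iff]; rintro h rfl; exact cv.eq
        rw [Subgroup.mem_centralizer_iff]
        intro x hx
        exact ((Subgroup.mem_centralizer_iff.1 (hQg hx)) g rfl).symm
      · exact Subgroup.centralizer_le hWQ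
    obtain ⟨m, hm, hK⟩ := hcard
    have hCidx : (Subgroup.centralizer (Q : Set K)).index = 6 := by rw [← hCW]; exact h6
    have hrel := Subgroup.relIndex_mul_index hQC
    have hci := Subgroup.card_mul_index Q
    have hodd : ¬ 2 ∣ Q.relIndex (Subgroup.centralizer (Q : Set K)) := by
      rintro ⟨k, hk⟩
      apply hm
      rw [hCidx, hk] at hrel
      rw [← hrel, hQcard, hK] at hci
      exact ⟨3 * k, by omega⟩
    have hQ2 : IsPGroup 2 Q := IsPGroup.of_card (n := 3) (by rw [hQcard]; norm_num)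
    obtain ⟨O, hOn, hOodd, hOle, hCle, hOidx⟩ :=
      Cfsg.Agent.Lib.H24.G85.exists_odd_complement Q hQ2 hQab hodd
    have hOn' : O.Normal := hOn
    have hidx : O.index = 48 := by rw [hOidx, hCidx, hQcard]
    have hCz2 : Nat.card (Subgroup.zpowers z) = 2 := by
      rw [Nat.card_zpowers]
      exact orderOf_eq_prime (by rw [pow_two]; exact hz2) hz1
    have hCzc : Subgroup.zpowers z ≤ Subgroup.center K := by
      rw [Subgroup.zpowers_le]
      exact Subgroup.mem_center_iff.2 (fun g => (hzc' g).symm)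
    have hzW : z ∉ W := by
      intro h
      rcases (hWmem z).1 h with h | h | h | h
      · exact hz1 h
      · apply hu1
        have : z * 1 = z * u := by rw [mul_one]; exact h
        exact (mul_left_cancel this).symm
      · apply hv1
        have : 1 * z = v * z := by rw [one_mul]; exact h
        exact (mul_right_cancel this).symm
      · rw [h4] at h; exact hzuv h
    have hCW' : Subgroup.zpowers z ⊓ W = ⊥ := by
      rw [eq_bot_iff]
      rintro g ⟨hg1, hg2⟩
      obtain ⟨k, rfl⟩ := Subgroup.mem_zpowers_iff.1 hg1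
      rcases Int.even_or_odd' k with ⟨j, rfl | rfl⟩
      · rw [Subgroup.mem_bot, zpow_mul, zpow_two, hz2, one_zpow]
      · exfalso
        apply hzW
        have : z ^ (2 * j + 1) = z := by
          rw [zpow_add_one, zpow_mul, zpow_two, hz2, one_zpow, one_mul]
        rw [this] at hg2
        exact hg2
    have hWCQ : W ⊔ Subgroup.zpowers z = Q := by
      apply le_antisymm
      · exact sup_le hWQ (Subgroup.zpowers_le.2 hzQ)
      · have hzm : z ∈ W ⊔ Subgroup.zpowers z :=
          Subgroup.mem_sup_right (Subgroup.mem_zpowers z)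
        apply hQle
        · have := Subgroup.mul_mem_sup ((hWmem (z * u)).2 (Or.inr (Or.inl rfl)))
            (Subgroup.mem_zpowers z)
          have e : z * u * z = u := by
            simp only [mul_assoc, huz, comm_aux huz, hz2, invol_aux hz2, mul_one]
          rwa [e] at this
        · exact hzm
        · have := Subgroup.mul_mem_sup ((hWmem (v * z)).2 (Or.inr (Or.inr (Or.inl rfl))))
            (Subgroup.mem_zpowers z)
          rwa [mul_assoc, hz2, mul_one] at this
    have hcent : Subgroup.centralizer ((W ⊔ Subgroup.zpowers z : Subgroup K) : Set K) ≤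
        W ⊔ Subgroup.zpowers z ⊔ O := by
      rw [hWCQ]; exact hCle
    have ha2' : a ^ 2 ∈ O := by rw [pow_two, ha2]; exact O.one_mem
    have haO : a ∉ W ⊔ Subgroup.zpowers z ⊔ O := by
      rw [hWCQ]
      intro h
      have h' : a ∈ Subgroup.centralizer (Q : Set K) := (sup_le hQC hOle) h
      have h5 := (Subgroup.mem_centralizer_iff.1 h') (z * u) (Q.mul_mem hzQ huQ)
      have h6' : a * (z * u) * a⁻¹ = z * u := mul_inv_eq_iff_eq_mul.2 h5.symm
      rw [hau'] at h6'
      apply hv'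
      have : z * u * (v * z) = z * u * 1 := by rw [mul_one]; exact h6'
      exact mul_left_cancel this
    have hW4 : Nat.card W = 4 := by
      rw [hWdef]; exact card_four h1 h2 h3 hu' hv' hu'v'
    have hWexp : ∀ x ∈ W, x ^ 2 = 1 := by
      intro x hx
      rw [hWdef] at hx
      exact sq_of_mem_four h1 h2 h3 x hx
    exact Cfsg.Agent.Lib.H5.Glaub.quot_oddCore_s4z2 O hOodd hidx W (Subgroup.zpowers z) hW4 hWexp
      hCz2 hCzc hCW' hcent a ha2' haO

end Cfsg.Agent.Lib.H5.G85
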