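import Cfsg.Agent.Lib.H1.G85.Defs

/-! # S4385, piece (SETUP) of `tools/blueprints/S4385.md` -/

set_option autoImplicit false

namespace Cfsg.Agent.Lib.H5.G85

open scoped Pointwise
open Cfsg.Agent.Lib.H5.Glaub Cfsg.Agent.Lib.H5.Glaub.Setup Cfsg.Agent.Lib.H1.G85

variable {G : Type*} [Group G]

theorem smul_eq_of_mem_normalizer {g : G} {B : Subgroup G} (h : g ∈ Subgroup.normalizer (B : Set G)) :
    MulAut.conj g • B = B := by
  ext z
  rw [mem_conj_smul]
  have h1 := (Subgroup.mem_normalizer_iff.1 h) (g⁻¹ * z * g)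
  rw [h1]
  have : g * (g⁻¹ * z * g) * g⁻¹ = z := by group
  rw [this]

theorem mem_normalizer_of_smul_eq {g : G} {B : Subgroup G} (h : MulAut.conj g • B = B) :
    g ∈ Subgroup.normalizer (B : Set G) := by
  rw [Subgroup.mem_normalizer_iff]
  intro z
  constructor
  · intro hz
    have := conj_mem_conj_smul (g := g) hz
    rwa [h] at this
  · intro hz
    rw [← h, mem_conj_smul] at hz
    have e : g⁻¹ * (g * z * g⁻¹) * g = z := by group
    rwa [e] at hz

theorem le_normalizer_iff_smul {A B : Subgroup G} :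
    A ≤ Subgroup.normalizer (B : Set G) ↔ ∀ a ∈ A, MulAut.conj a • B = B :=
  ⟨fun h _ ha => smul_eq_of_mem_normalizer (h ha), fun h _ ha => mem_normalizer_of_smul_eq (h _ ha)⟩

/-- conjugating a normalizing pair -/
theorem smul_le_normalizer_smul (g : G) {A B : Subgroup G} (h : A ≤ Subgroup.normalizer (B : Set G)) :
    MulAut.conj g • A ≤ Subgroup.normalizer ((MulAut.conj g • B : Subgroup G) : Set G) := by
  rw [le_normalizer_iff_smul]
  intro a ha
  rw [mem_conj_smul] at ha
  have h1 := smul_eq_of_mem_normalizer (h ha)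
  have h2 : MulAut.conj a = MulAut.conj g * MulAut.conj (g⁻¹ * a * g) * MulAut.conj g⁻¹ := by
    rw [← map_mul, ← map_mul]; congr 1; group
  rw [h2, mul_smul, mul_smul, smul_smul (MulAut.conj g⁻¹), ← map_mul, inv_mul_cancel, map_one, one_smul, h1]

theorem centralizer_le_normalizer_of_le {P N : Subgroup G} (hNP : N ≤ P) :
    Subgroup.centralizer (P : Set G) ≤ Subgroup.normalizer (N : Set G) := by
  intro c hc
  rw [Subgroup.mem_normalizer_iff]
  intro z
  have key : ∀ w ∈ N, c * w * c⁻¹ = w := by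
    intro w hw
    have := (Subgroup.mem_centralizer_iff.1 hc) w (hNP hw)
    calc c * w * c⁻¹ = (w * c) * c⁻¹ := by rw [this]
      _ = w := by group
  constructor
  · intro hz; rw [key z hz]; exact hz
  · intro hz
    have h1 := key _ hz
    have h4 : c * z * c⁻¹ = z := by
      calc c * z * c⁻¹ = c⁻¹ * (c * (c * z * c⁻¹) * c⁻¹) * c := by group
        _ = c⁻¹ * (c * z * c⁻¹) * c := by rw [h1]
        _ = z := by group
    rw [← h4]; exact hz

/-- (PC) pair core-freeness -/
theorem pair_core (H P : Subgroup G) (hPH : P ≤ H) (y : G)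
    (hy2 : y ^ 2 ∈ P ⊔ Subgroup.centralizer (P : Set G)) (hyN : MulAut.conj y • P = P)
    (hyQ : ∀ Q : Subgroup G, Q ≤ P → (Q.subgroupOf H).Normal → MulAut.conj y • Q = Q → Q = ⊥)
    (N : Subgroup G) (hNP : N ≤ P) (h1 : H ≤ Subgroup.normalizer (N : Set G))
    (h2 : MulAut.conj y • H ≤ Subgroup.normalizer (N : Set G)) : N = ⊥ := by
  -- `y²` normalizes `N`
  have hyy : MulAut.conj y • MulAut.conj y • N = N := by
    have hmem : y ^ 2 ∈ Subgroup.normalizer (N : Set G) := by
      have : P ⊔ Subgroup.centralizer (P : Set G) ≤ Subgroup.normalizer (N : Set G) :=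
        sup_le (hPH.trans h1) (centralizer_le_normalizer_of_le hNP)
      exact this hy2
    have := smul_eq_of_mem_normalizer hmem
    rwa [pow_two, map_mul, mul_smul] at this
  have hyinv : MulAut.conj y⁻¹ • P = P := by
    conv_lhs => rw [← hyN]
    rw [smul_smul, ← map_mul, inv_mul_cancel, map_one, one_smul]
  -- `N' = y⁻¹ N y = y N y⁻¹`
  have hN' : MulAut.conj y⁻¹ • N = MulAut.conj y • N := by
    conv_lhs => rw [← hyy]
    rw [smul_smul, ← map_mul, inv_mul_cancel, map_one, one_smul]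
  have hN'P : MulAut.conj y • N ≤ P := by
    rw [← hyN]; exact Subgroup.pointwise_smul_le_pointwise_smul_iff.2 hNP
  have hN'H : H ≤ Subgroup.normalizer ((MulAut.conj y • N : Subgroup G) : Set G) := by
    have := smul_le_normalizer_smul y⁻¹ h2
    rwa [smul_smul, ← map_mul, inv_mul_cancel, map_one, one_smul, hN'] at this
  have hM : N ⊔ MulAut.conj y • N = ⊥ := by
    apply hyQ
    · exact sup_le hNP hN'P
    · rw [Subgroup.normal_subgroupOf_iff_le_normalizer (sup_le (hNP.trans hPH) (hN'P.trans hPH))]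
      rw [le_normalizer_iff_smul]
      intro a ha
      rw [Subgroup.smul_sup, smul_eq_of_mem_normalizer (h1 ha), smul_eq_of_mem_normalizer (hN'H ha)]
    · rw [Subgroup.smul_sup, hyy, sup_comm]
  exact le_bot_iff.1 (hM ▸ le_sup_left)

theorem smul_inv_smul_self (g : G) (A : Subgroup G) : MulAut.conj g⁻¹ • MulAut.conj g • A = A := by
  rw [smul_smul, ← map_mul, inv_mul_cancel, map_one, one_smul]

theorem smul_smul_inv_self (g : G) (A : Subgroup G) : MulAut.conj g • MulAut.conj g⁻¹ • A = A := by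
  rw [smul_smul, ← map_mul, mul_inv_cancel, map_one, one_smul]

variable [Finite G]

/-- (SETUP) the chain `h = y * x`. -/
theorem setup (H P : Subgroup G) (hPH : P ≤ H) (x : G) (hx : x ∈ H)
    (hgen : P ⊔ MulAut.conj x • P = H)
    (hidx : (P ⊓ MulAut.conj x • P).relIndex (MulAut.conj x • P) = 2)
    (hnorm : H ≤ Subgroup.normalizer ((P ⊓ MulAut.conj x • P : Subgroup G) : Set G))
    (y : G) (hy2 : y ^ 2 ∈ P ⊔ Subgroup.centralizer (P : Set G)) (hyN : MulAut.conj y • P = P)
    (hyQ : ∀ Q : Subgroup G, Q ≤ P → (Q.subgroupOf H).Normal → MulAut.conj y • Q = Q → Q = ⊥) :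
    ∃ S : Setup G, S.P = P ∧ S.p = 2 ∧ H0 S = H ∧
      MulAut.conj y • (S.Pj (-1) ⊓ S.Pj 0) = S.Pj 0 ⊓ S.Pj 1 ∧
      MulAut.conj y • (S.Pj 0 ⊓ S.Pj 1) = S.Pj (-1) ⊓ S.Pj 0 ∧
      S.P ⊓ (Subgroup.center (S.K 2)).map (S.K 2).subtype = ⊥ := by
  have hxP : MulAut.conj x • P ≤ H := by rw [← hgen]; exact le_sup_right
  have hh : MulAut.conj (y * x) • P = MulAut.conj y • MulAut.conj x • P := by rw [map_mul, mul_smul]
  have hinf : P ⊓ MulAut.conj (y * x) • P = MulAut.conj y • (P ⊓ MulAut.conj x • P) := by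
    rw [hh, Subgroup.smul_inf, hyN]
  have hyinv : MulAut.conj y⁻¹ • P = P := by
    conv_lhs => rw [← hyN]
    exact smul_inv_smul_self y P
  have hhinv : MulAut.conj (y * x)⁻¹ • P = MulAut.conj x⁻¹ • P := by
    rw [mul_inv_rev, map_mul, mul_smul, hyinv]
  have hHeq : H = MulAut.conj x⁻¹ • P ⊔ P := by
    have h1 : MulAut.conj x⁻¹ • H = H := Subgroup.conj_smul_eq_self_of_mem (H.inv_mem hx)
    conv_lhs => rw [← h1, ← hgen]
    rw [Subgroup.smul_sup, smul_inv_smul_self]
  have hyH : MulAut.conj y • H = P ⊔ MulAut.conj (y * x) • P := by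
    rw [← hgen, Subgroup.smul_sup, hyN, hh]
  have hnormS : ((P ⊓ MulAut.conj (y * x) • P).subgroupOf (MulAut.conj (y * x) • P)).Normal := by
    rw [Subgroup.normal_subgroupOf_iff_le_normalizer inf_le_right, hinf, hh]
    exact smul_le_normalizer_smul y (hxP.trans hnorm)
  have hidxS : (P ⊓ MulAut.conj (y * x) • P).relIndex (MulAut.conj (y * x) • P) = 2 := by
    rw [hinf, hh, Subgroup.relIndex_pointwise_smul]; exact hidx
  have PC := pair_core H P hPH y hy2 hyN hyQ
  have hcore : ∀ N : Subgroup G, N ≤ P → (N.subgroupOf P).Normal → MulAut.conj (y * x) • N = N → N = ⊥ := by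
    intro N hNP hNn hNh
    rw [Subgroup.normal_subgroupOf_iff_le_normalizer hNP] at hNn
    have h1 : MulAut.conj (y * x) • P ≤ Subgroup.normalizer (N : Set G) := by
      have := smul_le_normalizer_smul (y * x) hNn
      rwa [hNh] at this
    have hNh' : MulAut.conj (y * x)⁻¹ • N = N := by
      conv_lhs => rw [← hNh]
      exact smul_inv_smul_self _ N
    have h2 : MulAut.conj x⁻¹ • P ≤ Subgroup.normalizer (N : Set G) := by
      have := smul_le_normalizer_smul (y * x)⁻¹ hNn
      rwa [hNh', hhinv] at this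
    apply PC N hNP
    · rw [hHeq]; exact sup_le h2 hNn
    · rw [hyH]; exact sup_le hNn h1
  refine ⟨⟨P, y * x, 2, Nat.prime_two, hnormS, hidxS, hcore⟩, rfl, rfl, ?_⟩
  set S : Setup G := ⟨P, y * x, 2, Nat.prime_two, hnormS, hidxS, hcore⟩ with hS
  have hP0 : S.Pj 0 = P := S.Pj_zero
  have hP1 : S.Pj 1 = MulAut.conj (y * x) • P := S.Pj_one
  have hPm1 : S.Pj (-1) = MulAut.conj x⁻¹ • P := by
    have : S.Pj (-1) = MulAut.conj ((y * x) ^ (-1 : ℤ)) • P := rfl
    rw [this, zpow_neg_one, hhinv]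
  have hP2 : S.Pj 2 = MulAut.conj (y * x) • MulAut.conj (y * x) • P := by
    have h := S.conj_Pj 1 1
    rw [zpow_one] at h
    have e : (1 : ℤ) + 1 = 2 := by norm_num
    rw [e] at h
    rw [← h, hP1]
  have hH0 : H0 S = H := by
    unfold H0
    rw [hPm1, hP0, ← hHeq]
  have hQm : S.Pj (-1) ⊓ S.Pj 0 = P ⊓ MulAut.conj x • P := by
    rw [hPm1, hP0]
    have h1 : MulAut.conj x⁻¹ • (P ⊓ MulAut.conj x • P) = P ⊓ MulAut.conj x • P :=
      smul_eq_of_mem_normalizer (hnorm (H.inv_mem hx))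
    conv_rhs => rw [← h1]
    rw [Subgroup.smul_inf, smul_inv_smul_self]
  have hQp : S.Pj 0 ⊓ S.Pj 1 = MulAut.conj y • (P ⊓ MulAut.conj x • P) := by
    rw [hP0, hP1, hinf]
  have hQ0P : P ⊓ MulAut.conj x • P ≤ P := inf_le_left
  have hyyQ : MulAut.conj y • MulAut.conj y • (P ⊓ MulAut.conj x • P) = P ⊓ MulAut.conj x • P := by
    have hmem : y ^ 2 ∈ Subgroup.normalizer ((P ⊓ MulAut.conj x • P : Subgroup G) : Set G) := by
      have : P ⊔ Subgroup.centralizer (P : Set G) ≤
          Subgroup.normalizer ((P ⊓ MulAut.conj x • P : Subgroup G) : Set G) :=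
        sup_le (hPH.trans hnorm) (centralizer_le_normalizer_of_le hQ0P)
      exact this hy2
    have := smul_eq_of_mem_normalizer hmem
    rwa [pow_two, map_mul, mul_smul] at this
  refine ⟨hH0, ?_, ?_, ?_⟩
  · rw [hQm, hQp]
  · rw [hQp, hQm, hyyQ]
  · -- (H2)
    set N : Subgroup G := S.P ⊓ (Subgroup.center (S.K 2)).map (S.K 2).subtype with hN
    have hNP : N ≤ P := inf_le_left
    have hKc : S.K 2 ≤ Subgroup.centralizer (N : Set G) := by
      intro w hw
      rw [Subgroup.mem_centralizer_iff]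
      rintro z ⟨-, ⟨k, hk, rfl⟩⟩
      have := (Subgroup.mem_center_iff.1 hk) ⟨w, hw⟩
      exact congrArg Subtype.val this.symm
    have hKn : S.K 2 ≤ Subgroup.normalizer (N : Set G) := hKc.trans (Subgroup.centralizer_le_normalizer _)
    have hPjK : ∀ i : ℕ, i < 3 → S.Pj (i : ℤ) ≤ S.K 2 := fun i hi =>
      le_iSup₂_of_le (f := fun i (_ : i ∈ Finset.range (2 + 1)) => S.Pj (i : ℤ)) i (Finset.mem_range.2 hi) le_rfl
    have hK0 : P ≤ S.K 2 := by have := hPjK 0 (by norm_num); rwa [Nat.cast_zero, hP0] at this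
    have hK1 : MulAut.conj (y * x) • P ≤ S.K 2 := by
      have := hPjK 1 (by norm_num); rwa [Nat.cast_one, hP1] at this
    have hK2 : MulAut.conj (y * x) • MulAut.conj (y * x) • P ≤ S.K 2 := by
      have := hPjK 2 (by norm_num); rwa [Nat.cast_ofNat, hP2] at this
    -- `N ≤ P_1`
    have hg : y * x * y⁻¹ ∈ MulAut.conj y • H := conj_mem_conj_smul hx
    have hgK : y * x * y⁻¹ ∈ S.K 2 := by
      rw [hyH] at hg
      exact (sup_le hK0 hK1) hg
    have hNP1 : N ≤ MulAut.conj (y * x) • P := by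
      have h1 : MulAut.conj (y * x * y⁻¹) • N = N := smul_eq_of_mem_normalizer (hKn hgK)
      have h2 : MulAut.conj (y * x * y⁻¹) • P = MulAut.conj (y * x) • P := by
        rw [map_mul, mul_smul, hyinv]
      rw [← h1, ← h2]
      exact Subgroup.pointwise_smul_le_pointwise_smul_iff.2 hNP
    -- `N' = h⁻¹ N h`
    have hN'P : MulAut.conj (y * x)⁻¹ • N ≤ P := by
      have := (Subgroup.pointwise_smul_le_pointwise_smul_iff (a := MulAut.conj (y * x)⁻¹)).2 hNP1
      rwa [smul_inv_smul_self] at this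
    have hN'1 : H ≤ Subgroup.normalizer ((MulAut.conj (y * x)⁻¹ • N : Subgroup G) : Set G) := by
      have h1 : P ⊔ MulAut.conj (y * x) • P ≤ Subgroup.normalizer (N : Set G) := (sup_le hK0 hK1).trans hKn
      have := smul_le_normalizer_smul (y * x)⁻¹ h1
      rwa [Subgroup.smul_sup, smul_inv_smul_self, hhinv, ← hHeq] at this
    have hN'2 : MulAut.conj y • H ≤ Subgroup.normalizer ((MulAut.conj (y * x)⁻¹ • N : Subgroup G) : Set G) := by
      have h1 : MulAut.conj (y * x) • P ⊔ MulAut.conj (y * x) • MulAut.conj (y * x) • P ≤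
          Subgroup.normalizer (N : Set G) := (sup_le hK1 hK2).trans hKn
      have := smul_le_normalizer_smul (y * x)⁻¹ h1
      rwa [Subgroup.smul_sup, smul_inv_smul_self, smul_inv_smul_self, ← hyH] at this
    have hbot := PC _ hN'P hN'1 hN'2
    have : N = MulAut.conj (y * x) • MulAut.conj (y * x)⁻¹ • N := (smul_smul_inv_self _ N).symm
    rw [this, hbot, Subgroup.smul_bot]

end Cfsg.Agent.Lib.H5.G85
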