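import Mathlib

/-!
# The Klein four subgroup generated by two commuting involutions
-/

set_option autoImplicit false

namespace Cfsg.Agent.Lib.H5.KP

open Subgroup

variable {G : Type*} [Group G]

theorem ncard_four {α : Type*} {a b c d : α} (hab : a ≠ b) (hac : a ≠ c) (had : a ≠ d)
    (hbc : b ≠ c) (hbd : b ≠ d) (hcd : c ≠ d) : ({a, b, c, d} : Set α).ncard = 4 := by
  rw [Set.ncard_insert_of_notMem, Set.ncard_insert_of_notMem, Set.ncard_pair hcd]
  · simp only [Set.mem_insert_iff, Set.mem_singleton_iff, not_or]
    exact ⟨hbc, hbd⟩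
  · simp only [Set.mem_insert_iff, Set.mem_singleton_iff, not_or]
    exact ⟨hab, hac, had⟩

theorem isKleinFour_of_card_sq {H : Type*} [Group H] (hc : Nat.card H = 4)
    (hsq : ∀ g : H, g * g = 1) : IsKleinFour H := by
  refine ⟨hc, ?_⟩
  have h1 : Monoid.exponent H ∣ 2 := by
    apply Monoid.exponent_dvd_of_forall_pow_eq_one
    intro g
    rw [pow_two]
    exact hsq g
  rcases (Nat.dvd_prime Nat.prime_two).mp h1 with h' | h'
  · exfalso
    rw [Monoid.exp_eq_one_iff] at h'
    have : Nat.card H ≤ 1 := by
      have := Nat.finite_of_card_ne_zero (α := H) (by rw [hc]; norm_num)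
      exact Finite.card_le_one_iff_subsingleton.mpr h'
    omega
  · exact h'

/-- The subgroup `{1, a, b, ab}` for commuting involutions `a`, `b`. -/
def kleinPair (a b : G) (ha : a * a = 1) (hb : b * b = 1) (hab : a * b = b * a) : Subgroup G where
  carrier := {g | g = 1 ∨ g = a ∨ g = b ∨ g = a * b}
  one_mem' := Or.inl rfl
  mul_mem' := by
    have h1 : a * (a * b) = b := by rw [← mul_assoc, ha, one_mul]
    have h2 : b * (a * b) = a := by rw [← mul_assoc, ← hab, mul_assoc, hb, mul_one]
    have h3 : a * b * a = b := by rw [hab, mul_assoc, ha, mul_one]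
    have h4 : a * b * b = a := by rw [mul_assoc, hb, mul_one]
    have h5 : a * b * (a * b) = 1 := by rw [mul_assoc, h2, ha]
    rintro _ _ (rfl | rfl | rfl | rfl) (rfl | rfl | rfl | rfl)
    · left; rw [mul_one]
    · right; left; rw [one_mul]
    · right; right; left; rw [one_mul]
    · right; right; right; rw [one_mul]
    · right; left; rw [mul_one]
    · left; exact ha
    · right; right; right; rfl
    · right; right; left; exact h1
    · right; right; left; rw [mul_one]
    · right; right; right; exact hab.symm
    · left; exact hb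
    · right; left; exact h2
    · right; right; right; rw [mul_one]
    · right; right; left; exact h3
    · right; left; exact h4
    · left; exact h5
  inv_mem' := by
    rintro _ (rfl | rfl | rfl | rfl)
    · left; exact inv_one
    · right; left; exact inv_eq_of_mul_eq_one_left ha
    · right; right; left; exact inv_eq_of_mul_eq_one_left hb
    · right; right; right
      apply inv_eq_of_mul_eq_one_left
      rw [mul_assoc, ← mul_assoc b, ← hab, mul_assoc, hb, mul_one, ha]

theorem mem_kleinPair {a b : G} (ha : a * a = 1) (hb : b * b = 1) (hab : a * b = b * a) (g : G) :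
    g ∈ kleinPair a b ha hb hab ↔ g = 1 ∨ g = a ∨ g = b ∨ g = a * b := Iff.rfl

theorem isKleinFour_kleinPair {a b : G} (ha : a * a = 1) (hb : b * b = 1) (hab : a * b = b * a)
    (ha1 : a ≠ 1) (hb1 : b ≠ 1) (hne : a ≠ b) : IsKleinFour (kleinPair a b ha hb hab) := by
  apply isKleinFour_of_card_sq
  · show Nat.card ↥({g | g = 1 ∨ g = a ∨ g = b ∨ g = a * b} : Set G) = 4
    rw [Nat.card_coe_set_eq]
    have : ({g | g = 1 ∨ g = a ∨ g = b ∨ g = a * b} : Set G) = {1, a, b, a * b} := by
      ext g; simp only [Set.mem_setOf_eq, Set.mem_insert_iff, Set.mem_singleton_iff]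
    rw [this]
    apply ncard_four (Ne.symm ha1) (Ne.symm hb1) _ hne
    · intro h
      apply hb1
      have := mul_left_cancel (a := a) (b := 1) (c := b) (by rw [mul_one]; exact h)
      exact this.symm
    · intro h
      apply ha1
      have := mul_right_cancel (a := 1) (b := b) (c := a) (by rw [one_mul]; exact h)
      exact this.symm
    · intro h
      apply hne
      have h1 : a * (a * b) = a * 1 := by rw [← h]
      rw [← mul_assoc, ha, one_mul, mul_one] at h1
      exact h1.symm
  · rintro ⟨g, hg | hg | hg | hg⟩ <;> apply Subtype.ext <;> subst hg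
    · exact mul_one 1
    · exact ha
    · exact hb
    · show a * b * (a * b) = 1
      rw [mul_assoc, ← mul_assoc b, ← hab, mul_assoc, hb, mul_one, ha]

end Cfsg.Agent.Lib.H5.KP
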