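import Mathlib

/-!
# Odd order automorphisms of 2-groups: elementary criteria for triviality
-/

set_option autoImplicit false

namespace Cfsg.Agent.Lib.H5.AutOdd

open Subgroup

/-- A finite group in which every element of odd order is trivial is a 2-group. -/
theorem isPGroup_two_of_odd_trivial {A : Type*} [Group A] [Finite A]
    (h : ∀ σ : A, Odd (orderOf σ) → σ = 1) : IsPGroup 2 A := by
  intro σ
  have hpos : orderOf σ ≠ 0 := (orderOf_pos σ).ne'
  obtain ⟨k, m, hm, hkm⟩ := Nat.exists_eq_two_pow_mul_odd hpos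
  refine ⟨k, ?_⟩
  apply h
  rw [orderOf_pow, hkm]
  have : Nat.gcd (2 ^ k * m) (2 ^ k) = 2 ^ k := Nat.gcd_eq_right (Dvd.intro _ rfl)
  rw [this, Nat.mul_div_cancel_left _ (by positivity)]
  exact hm

variable {X : Type*} [Group X]

/-- An element fixed by `α²` is fixed by `α` when `α` has odd order. -/
theorem fix_of_sq_fix [Finite X] (α : MulAut X) (hodd : Odd (orderOf α)) (g : X)
    (h : α (α g) = g) : α g = g := by
  obtain ⟨r, hr⟩ := hodd
  have h1 : ∀ j : ℕ, (α ^ (2 * j)) g = g := by
    intro j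
    induction j with
    | zero => simp
    | succ j ih =>
      have : α ^ (2 * (j + 1)) = α ^ (2 * j) * (α * α) := by
        rw [← pow_two, ← pow_add]; congr 1
      rw [this, MulAut.mul_apply, MulAut.mul_apply, h, ih]
  have h2 : α ^ (2 * r + 1) = 1 := by rw [← hr, pow_orderOf_eq_one]
  have h3 : (α ^ (2 * (r + 1))) g = α g := by
    have : α ^ (2 * (r + 1)) = α ^ (2 * r + 1) * α := by
      rw [← pow_succ]; congr 1
    rw [this, h2, one_mul]
  rw [← h3, h1]

/-- If `α` of odd order maps `s` into `{s, s'}` and `s'` into `{s, s'}`, it fixes `s`. -/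
theorem fix_of_pair [Finite X] (α : MulAut X) (hodd : Odd (orderOf α)) (s s' : X)
    (h1 : α s = s ∨ α s = s') (h2 : α s' = s ∨ α s' = s') : α s = s := by
  rcases h1 with h | h
  · exact h
  · rcases h2 with h' | h'
    · apply fix_of_sq_fix α hodd
      rw [h, h']
    · have : s = s' := α.injective (h.trans h'.symm)
      rw [h, this]

/-- Let `B` be an abelian `2`-subgroup invariant under the odd order automorphism `α`. If `α`
fixes all elements of `B` of order at most two then `α` fixes `B` elementwise. -/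
theorem fix_of_fix_involutions [Finite X] (α : MulAut X) (hodd : Odd (orderOf α))
    (B : Subgroup X) (hcomm : ∀ a ∈ B, ∀ b ∈ B, a * b = b * a)
    (hinv : ∀ g ∈ B, α g ∈ B) (h2 : ∀ g ∈ B, ∃ k : ℕ, g ^ (2 ^ k) = 1)
    (hfix : ∀ g ∈ B, g * g = 1 → α g = g) : ∀ g ∈ B, α g = g := by
  have key : ∀ k : ℕ, ∀ g ∈ B, g ^ (2 ^ k) = 1 → α g = g := by
    intro k
    induction k with
    | zero =>
      intro g _ hg
      rw [pow_zero, pow_one] at hg
      rw [hg, map_one]
    | succ k ih =>
      intro g hg hgk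
      have hsq : (g * g) ^ (2 ^ k) = 1 := by
        rw [← pow_two, ← pow_mul, ← pow_succ']; exact hgk
      have h3 := ih (g * g) (B.mul_mem hg hg) hsq
      rw [map_mul] at h3
      -- `w = α g * g⁻¹` squares to one
      have hw : α g * g⁻¹ ∈ B := B.mul_mem (hinv g hg) (B.inv_mem hg)
      have hc : α g * g⁻¹ = g⁻¹ * α g := hcomm _ (hinv g hg) _ (B.inv_mem hg)
      have hwsq : (α g * g⁻¹) * (α g * g⁻¹) = 1 := by
        calc (α g * g⁻¹) * (α g * g⁻¹) = α g * (g⁻¹ * α g) * g⁻¹ := by group
          _ = α g * (α g * g⁻¹) * g⁻¹ := by rw [hc]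
          _ = (α g * α g) * (g⁻¹ * g⁻¹) := by group
          _ = (g * g) * (g⁻¹ * g⁻¹) := by rw [h3]
          _ = 1 := by group
      have hwfix := hfix _ hw hwsq
      apply fix_of_sq_fix α hodd
      have h4 : α g = (α g * g⁻¹) * g := by group
      calc α (α g) = α ((α g * g⁻¹) * g) := by rw [← h4]
        _ = α (α g * g⁻¹) * α g := map_mul _ _ _
        _ = (α g * g⁻¹) * α g := by rw [hwfix]
        _ = (g⁻¹ * α g) * α g := by rw [hc]
        _ = g⁻¹ * (α g * α g) := by group
        _ = g⁻¹ * (g * g) := by rw [h3]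
        _ = g := by group
  intro g hg
  obtain ⟨k, hk⟩ := h2 g hg
  exact key k g hg hk

/-- An odd order automorphism of a `2`-group fixing a subgroup of index two elementwise is
trivial. -/
theorem eq_one_of_fix_index_two [Finite X] (α : MulAut X) (hodd : Odd (orderOf α))
    (B : Subgroup X) (hidx : B.index = 2) (h2 : ∀ g ∈ B, ∃ k : ℕ, g ^ (2 ^ k) = 1)
    (hfix : ∀ g ∈ B, α g = g) : α = 1 := by
  ext g
  rw [MulAut.one_apply]
  by_cases hg : g ∈ B
  · exact hfix g hg
  · have hαg : α g ∉ B := by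
      intro h
      have h1 : α (α g) = α g := hfix _ h
      exact hg ((α.injective h1) ▸ h)
    have hc : g⁻¹ * α g ∈ B :=
      (mul_mem_iff_of_index_two hidx).mpr
        ⟨fun h => absurd (inv_mem_iff.mp h) hg, fun h => absurd h hαg⟩
    set c := g⁻¹ * α g with hcdef
    have hαg' : α g = g * c := by rw [hcdef, mul_inv_cancel_left]
    have hpow : ∀ j : ℕ, (α ^ j) g = g * c ^ j := by
      intro j
      induction j with
      | zero => simp
      | succ j ih =>
        rw [pow_succ', MulAut.mul_apply, ih, map_mul, map_pow, hfix c hc, hαg', pow_succ']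
        group
    have h3 := hpow (orderOf α)
    rw [pow_orderOf_eq_one, MulAut.one_apply] at h3
    have h4 : c ^ orderOf α = 1 := by
      have := mul_left_cancel (a := g) (b := 1) (c := c ^ orderOf α) (by rw [mul_one]; exact h3)
      exact this.symm
    obtain ⟨k, hk⟩ := h2 c hc
    have h5 : orderOf c ∣ Nat.gcd (orderOf α) (2 ^ k) :=
      Nat.dvd_gcd (orderOf_dvd_of_pow_eq_one h4) (orderOf_dvd_of_pow_eq_one hk)
    have h6 : Nat.gcd (orderOf α) (2 ^ k) = 1 := by
      apply Nat.Coprime.pow_right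
      exact hodd.coprime_two_right
    rw [h6, Nat.dvd_one, orderOf_eq_one_iff] at h5
    rw [hαg', h5, mul_one]

end Cfsg.Agent.Lib.H5.AutOdd
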