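import Mathlib

/-!
# The order of `Aut(Q₈)` divides 24, the order of `Aut(V₄)` divides 6
-/

set_option autoImplicit false

namespace Cfsg.Agent.Lib.H5.AutQ8

/-- A group acting with trivial stabilizers on a finite set has order dividing the size of the
set. -/
theorem card_dvd_of_free {H X : Type*} [Group H] [MulAction H X]
    (h : ∀ b : X, MulAction.stabilizer H b = ⊥) : Nat.card H ∣ Nat.card X := by
  rw [Nat.card_congr (MulAction.selfEquivOrbitsQuotientProd h), Nat.card_prod]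
  exact Dvd.intro_left _ rfl

/-- Generating pairs of `Q₈`. -/
def GenPair (p : QuaternionGroup 2 × QuaternionGroup 2) : Prop :=
  p.1 ^ 4 = 1 ∧ p.1 ^ 2 ≠ 1 ∧ p.2 ^ 4 = 1 ∧ p.2 ^ 2 ≠ 1 ∧ p.2 ≠ p.1 ∧ p.2 ≠ p.1⁻¹

instance : DecidablePred GenPair := fun p => by unfold GenPair; infer_instance

theorem genPair_map (φ : MulAut (QuaternionGroup 2)) (p : QuaternionGroup 2 × QuaternionGroup 2)
    (hp : GenPair p) : GenPair (φ p.1, φ p.2) := by
  obtain ⟨h1, h2, h3, h4, h5, h6⟩ := hp
  refine ⟨?_, ?_, ?_, ?_, ?_, ?_⟩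
  · show (φ p.1) ^ 4 = 1
    rw [← map_pow, h1, map_one]
  · show (φ p.1) ^ 2 ≠ 1
    rw [← map_pow, Ne, φ.map_eq_one_iff]; exact h2
  · show (φ p.2) ^ 4 = 1
    rw [← map_pow, h3, map_one]
  · show (φ p.2) ^ 2 ≠ 1
    rw [← map_pow, Ne, φ.map_eq_one_iff]; exact h4
  · show φ p.2 ≠ φ p.1
    exact fun h => h5 (φ.injective h)
  · show φ p.2 ≠ (φ p.1)⁻¹
    rw [← map_inv]
    exact fun h => h6 (φ.injective h)

instance : MulAction (MulAut (QuaternionGroup 2)) {p : QuaternionGroup 2 × QuaternionGroup 2 // GenPair p} where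
  smul φ p := ⟨(φ p.1.1, φ p.1.2), genPair_map φ p.1 p.2⟩
  one_smul p := rfl
  mul_smul φ ψ p := rfl

theorem smul_def (φ : MulAut (QuaternionGroup 2))
    (p : {p : QuaternionGroup 2 × QuaternionGroup 2 // GenPair p}) :
    (φ • p).1 = (φ p.1.1, φ p.1.2) := rfl

theorem genPair_generates : ∀ a b : QuaternionGroup 2, GenPair (a, b) → ∀ g : QuaternionGroup 2,
    g = 1 ∨ g = a ∨ g = a * a ∨ g = a * a * a ∨ g = b ∨ g = a * b ∨ g = a * a * b ∨
      g = a * a * a * b := by
  decide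

theorem card_genPair :
    Fintype.card {p : QuaternionGroup 2 × QuaternionGroup 2 // GenPair p} = 24 := by
  decide

theorem card_mulAut_quaternion_dvd : Nat.card (MulAut (QuaternionGroup 2)) ∣ 24 := by
  have h1 : Nat.card {p : QuaternionGroup 2 × QuaternionGroup 2 // GenPair p} = 24 := by
    rw [Nat.card_eq_fintype_card, card_genPair]
  rw [← h1]
  apply card_dvd_of_free
  rintro ⟨⟨a, b⟩, hp⟩
  rw [eq_bot_iff]
  intro φ hφ
  rw [MulAction.mem_stabilizer_iff] at hφ
  have h2 := congrArg Subtype.val hφ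
  rw [smul_def] at h2
  have ha : φ a = a := congrArg Prod.fst h2
  have hb : φ b = b := congrArg Prod.snd h2
  rw [Subgroup.mem_bot]
  ext g
  rw [MulAut.one_apply]
  rcases genPair_generates a b hp g with rfl | rfl | rfl | rfl | rfl | rfl | rfl | rfl
  · exact map_one φ
  · exact ha
  · rw [map_mul, ha]
  · rw [map_mul, map_mul, ha]
  · exact hb
  · rw [map_mul, ha, hb]
  · rw [map_mul, map_mul, ha, hb]
  · rw [map_mul, map_mul, map_mul, ha, hb]

/-- `|Aut(Q)|` divides 24 for `Q ≅ Q₈`. -/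
theorem card_mulAut_dvd_of_equiv {Q : Type*} [Group Q] (e : Q ≃* QuaternionGroup 2) :
    Nat.card (MulAut Q) ∣ 24 := by
  rw [Nat.card_congr (MulAut.congr e).toEquiv]
  exact card_mulAut_quaternion_dvd

set_option maxRecDepth 100000 in
theorem card_mulAut_dihedral_two : Fintype.card (MulAut (DihedralGroup 2)) = 6 := by decide

/-- `|Aut(T)| = 6` for a Klein four group `T`. -/
theorem card_mulAut_kleinFour {T : Type*} [Group T] [IsKleinFour T] :
    Nat.card (MulAut T) = 6 := by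
  obtain ⟨e⟩ : Nonempty (T ≃* DihedralGroup 2) := IsKleinFour.nonempty_mulEquiv
  rw [Nat.card_congr (MulAut.congr e).toEquiv, Nat.card_eq_fintype_card, card_mulAut_dihedral_two]

end Cfsg.Agent.Lib.H5.AutQ8
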