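import Mathlib
import Cfsg.Agent.Lib.H5.SimpleTools
import Cfsg.Agent.Lib.H5.AutQ8

/-!
# Tools for `N_G(X)/C_G(X)` computations
-/

set_option autoImplicit false

namespace Cfsg.Agent.Lib.H5.NC

open Subgroup

variable {G : Type*} [Group G]

/-- If `N` normalizes `H ≤ N` and some `w ∈ N \ H` has `w² ∈ H`, then `|N : H|` is even. -/
theorem two_dvd_relIndex [Finite G] {H N : Subgroup G} (hLE : N ≤ normalizer (H : Set G))
    {w : G} (hwN : w ∈ N) (hw : w ∉ H) (hw2 : w * w ∈ H) : 2 ∣ H.relIndex N := by
  have hnorm : (H.subgroupOf N).Normal := Subgroup.normal_subgroupOf_of_le_normalizer hLE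
  have h1 : orderOf (QuotientGroup.mk (⟨w, hwN⟩ : N) : N ⧸ H.subgroupOf N) = 2 := by
    have : Fact (Nat.Prime 2) := ⟨Nat.prime_two⟩
    apply orderOf_eq_prime
    · rw [pow_two, ← QuotientGroup.mk_mul, QuotientGroup.eq_one_iff, mem_subgroupOf]
      exact hw2
    · rw [Ne, QuotientGroup.eq_one_iff, mem_subgroupOf]
      exact hw
  rw [← h1]
  exact orderOf_dvd_natCard _

theorem relIndex_sup_of_le_normalizer (H N : Subgroup G) (hLE : H ≤ normalizer (N : Set G)) :
    N.relIndex (H ⊔ N) = N.relIndex H := by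
  haveI := Subgroup.normal_subgroupOf_of_le_normalizer hLE
  haveI := Subgroup.normal_subgroupOf_sup_of_le_normalizer hLE
  exact (Nat.card_congr
    (QuotientGroup.quotientInfEquivProdNormalizerQuotient H N hLE).toEquiv).symm

/-- The normalizer of `T` normalizes the centralizer of `T`. -/
theorem normalizer_le_normalizer_centralizer (T : Subgroup G) :
    normalizer (T : Set G) ≤ normalizer ((centralizer (T : Set G) : Subgroup G) : Set G) := by
  have key : ∀ g ∈ normalizer (T : Set G), ∀ c ∈ centralizer (T : Set G),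
      g * c * g⁻¹ ∈ centralizer (T : Set G) := by
    intro g hg c hc
    rw [mem_centralizer_iff]
    intro t ht
    have h1 : g⁻¹ * t * g ∈ T := by
      have := (mem_normalizer_iff'.mp (inv_mem hg) t)
      have h2 := (mem_normalizer_iff.mp (inv_mem hg) t).mp ht
      rw [inv_inv] at h2
      exact h2
    have h2 := (mem_centralizer_iff.mp hc) _ h1
    calc t * (g * c * g⁻¹) = g * ((g⁻¹ * t * g) * c) * g⁻¹ := by group
      _ = g * (c * (g⁻¹ * t * g)) * g⁻¹ := by rw [h2]
      _ = g * c * g⁻¹ * t := by group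
  intro g hg
  rw [mem_normalizer_iff]
  intro c
  constructor
  · exact key g hg c
  · intro h
    have := key g⁻¹ (inv_mem hg) _ h
    have e : g⁻¹ * (g * c * g⁻¹) * g⁻¹⁻¹ = c := by group
    rw [e] at this
    exact this

/-- `N(A) ⊓ N(B) ≤ N(A ⊔ B)`. -/
theorem normalizer_inf_le_normalizer_sup' (A B : Subgroup G) :
    normalizer (A : Set G) ⊓ normalizer (B : Set G) ≤ normalizer ((A ⊔ B : Subgroup G) : Set G) := by
  rintro g ⟨hA, hB⟩
  replace hA : g ∈ normalizer (A : Set G) := hA
  replace hB : g ∈ normalizer (B : Set G) := hB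
  rw [mem_normalizer_iff_map_conj_eq] at hA hB ⊢
  rw [Subgroup.map_sup, hA, hB]

theorem isKleinFour_of_mulEquiv {A B : Type*} [Group A] [Group B] (e : A ≃* B) [IsKleinFour B] :
    IsKleinFour A :=
  ⟨by rw [Nat.card_congr e.toEquiv, IsKleinFour.card_four],
    by rw [Monoid.exponent_eq_of_mulEquiv e, IsKleinFour.exponent_two]⟩

theorem card_center_quaternion : Nat.card (center (QuaternionGroup 2)) = 2 := by
  rw [Nat.card_eq_fintype_card]
  decide

/-- `|C_G(Q) ∩ Q| = 2` for `Q ≅ Q₈`. -/
theorem card_centralizer_inf_quaternion (Q : Subgroup G) (eQ : Q ≃* QuaternionGroup 2) :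
    Nat.card (centralizer (Q : Set G) ⊓ Q : Subgroup G) = 2 := by
  have h1 : (centralizer (Q : Set G) ⊓ Q : Subgroup G) = (center Q).map Q.subtype := by
    ext g
    constructor
    · rintro ⟨hc, hq⟩
      refine ⟨⟨g, hq⟩, ?_, rfl⟩
      rw [SetLike.mem_coe, mem_center_iff]
      intro k
      apply Subtype.ext
      exact (mem_centralizer_iff.mp hc) k.1 k.2
    · rintro ⟨k, hk, rfl⟩
      refine ⟨?_, k.2⟩
      show Q.subtype k ∈ centralizer (Q : Set G)
      rw [mem_centralizer_iff]
      intro q hq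
      exact congrArg Subtype.val (mem_center_iff.mp hk ⟨q, hq⟩)
  rw [h1, Subgroup.card_map_of_injective Q.subtype_injective]
  have e2 : center Q ≃ center (QuaternionGroup 2) :=
    { toFun := fun r => ⟨eQ r.1, by
        rw [mem_center_iff]
        intro k
        have := mem_center_iff.mp r.2 (eQ.symm k)
        have h3 := congrArg eQ this
        rw [map_mul, map_mul, eQ.apply_symm_apply] at h3
        exact h3⟩
      invFun := fun r => ⟨eQ.symm r.1, by
        rw [mem_center_iff]
        intro k
        have := mem_center_iff.mp r.2 (eQ k)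
        have h3 := congrArg eQ.symm this
        rw [map_mul, map_mul, eQ.symm_apply_apply] at h3
        exact h3⟩
      left_inv := fun r => Subtype.ext (eQ.symm_apply_apply _)
      right_inv := fun r => Subtype.ext (eQ.apply_symm_apply _) }
  rw [Nat.card_congr e2, card_center_quaternion]

/-- `|N_G(T) : C_G(T)|` divides 6 for a Klein four subgroup. -/
theorem relIndex_klein_dvd [Finite G] (T : Subgroup G) (hT : IsKleinFour T) :
    (centralizer (T : Set G)).relIndex (normalizer (T : Set G)) ∣ 6 := by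
  have := relIndex_centralizer_normalizer_dvd T
  rwa [AutQ8.card_mulAut_kleinFour] at this

/-- `|N_G(Q) : Q C_G(Q)|` divides 6 for `Q ≅ Q₈`. -/
theorem relIndex_quaternion_dvd [Finite G] (Q : Subgroup G) (eQ : Q ≃* QuaternionGroup 2) :
    (Q ⊔ centralizer (Q : Set G)).relIndex (normalizer (Q : Set G)) ∣ 6 := by
  have h1 := (relIndex_centralizer_normalizer_dvd Q).trans (AutQ8.card_mulAut_dvd_of_equiv eQ)
  have hQN : Q ≤ normalizer (Q : Set G) := le_normalizer
  have hCN : centralizer (Q : Set G) ≤ normalizer (Q : Set G) := centralizer_le_normalizer _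
  have h2 := relIndex_mul_relIndex (centralizer (Q : Set G)) (Q ⊔ centralizer (Q : Set G))
    (normalizer (Q : Set G)) le_sup_right (sup_le hQN hCN)
  have h3 : (centralizer (Q : Set G)).relIndex (Q ⊔ centralizer (Q : Set G)) = 4 := by
    rw [relIndex_sup_of_le_normalizer Q _ (hQN.trans (normalizer_le_normalizer_centralizer Q)),
      ← inf_relIndex_right]
    have h4 := ((centralizer (Q : Set G) ⊓ Q).subgroupOf Q).card_mul_index
    rw [← Subgroup.relIndex,
      Nat.card_congr (Subgroup.subgroupOfEquivOfLe (inf_le_right)).toEquiv,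
      card_centralizer_inf_quaternion Q eQ, Nat.card_congr eQ.toEquiv,
      Nat.card_eq_fintype_card, QuaternionGroup.card] at h4
    omega
  rw [h3] at h2
  rw [← h2] at h1
  exact Nat.dvd_of_mul_dvd_mul_left (by norm_num : 0 < 4) (by simpa using h1)

theorem eq_two_or_six {m : ℕ} (h1 : m ∣ 6) (h2 : 2 ∣ m) : m = 2 ∨ m = 6 := by
  have h3 : m ≤ 6 := Nat.le_of_dvd (by norm_num) h1
  interval_cases m <;> simp_all

end Cfsg.Agent.Lib.H5.NC
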