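import Mathlib
import Cfsg.Agent.Lib.H5.NCTools
import Cfsg.Agent.Lib.H5.AutOdd
import Cfsg.Agent.Lib.H10.SylowIn
import Cfsg.Agent.Lib.H10.ConjFamily

/-!
# Tools for computing automizer indices `|N_G(T) : T C_G(T)|`
-/

set_option autoImplicit false

namespace Cfsg.Agent.Lib.H5.AZ

open Subgroup Cfsg.Agent.Lib.H5 Cfsg.Agent.Lib.H10

variable {G : Type*} [Group G]

/-- If `H ≤ L` is normalized by `L` and `K ≤ L` then `|K : K ∩ H|` divides `|L : H|`. -/
theorem relIndex_dvd_relIndex_of_normal {H K L : Subgroup G} (hHL : H ≤ L)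
    (hL : L ≤ normalizer (H : Set G)) (hKL : K ≤ L) : H.relIndex K ∣ H.relIndex L := by
  rw [← NC.relIndex_sup_of_le_normalizer K H (hKL.trans hL),
    ← relIndex_mul_relIndex H (K ⊔ H) L le_sup_right (sup_le hKL hHL)]
  exact Dvd.intro _ rfl

/-- If every element of `K` has a `p`-power power lying in the subgroup `M` normalized by `K`,
then `|K : M|` is a power of `p`. -/
theorem relIndex_eq_pow_of_forall_pow_mem [Finite G] {p : ℕ} [Fact p.Prime] {M K : Subgroup G}
    (hK : K ≤ normalizer (M : Set G)) (h : ∀ g ∈ K, ∃ k : ℕ, g ^ p ^ k ∈ M) :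
    ∃ j : ℕ, M.relIndex K = p ^ j := by
  haveI hnorm : (M.subgroupOf K).Normal := Subgroup.normal_subgroupOf_of_le_normalizer hK
  have hquot : IsPGroup p (K ⧸ M.subgroupOf K) := by
    intro y
    obtain ⟨g, rfl⟩ := QuotientGroup.mk_surjective y
    obtain ⟨k, hk⟩ := h (g : G) g.2
    refine ⟨k, ?_⟩
    rw [← QuotientGroup.mk_pow, QuotientGroup.eq_one_iff, mem_subgroupOf]
    simpa using hk
  obtain ⟨j, hj⟩ := IsPGroup.iff_card.mp hquot
  refine ⟨j, ?_⟩
  rw [← hj, relIndex, index_eq_card]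

/-- The conjugation automorphism of `P` induced by a power of `g ∈ N_G(P)`. -/
theorem normalizerMonoidHom_pow_apply (P : Subgroup G) (g : G)
    (hg : g ∈ normalizer (P : Set G)) (j : ℕ) (u : P) :
    (((P.normalizerMonoidHom ⟨g, hg⟩) ^ j) u : G) = g ^ j * u * (g ^ j)⁻¹ := by
  rw [← map_pow]
  rfl

/-- If all odd-order conjugation automorphisms of `P` induced by a subgroup `K ≤ N_G(P)` are
trivial, then every element of `K` has a `2`-power power in `C_G(P)`. -/
theorem exists_pow_mem_centralizer [Finite G] (P K : Subgroup G)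
    (hK : K ≤ normalizer (P : Set G))
    (h : ∀ g (hg : g ∈ K), Odd (orderOf (P.normalizerMonoidHom ⟨g, hK hg⟩)) →
      g ∈ centralizer (P : Set G)) :
    ∀ g ∈ K, ∃ k : ℕ, g ^ 2 ^ k ∈ centralizer (P : Set G) := by
  intro g hg
  set α := P.normalizerMonoidHom ⟨g, hK hg⟩ with hα
  obtain ⟨k, m, hm, hkm⟩ := Nat.exists_eq_two_pow_mul_odd (orderOf_pos α).ne'
  refine ⟨k, ?_⟩
  apply h _ (K.pow_mem hg _)
  have e1 : P.normalizerMonoidHom ⟨g ^ 2 ^ k, hK (K.pow_mem hg _)⟩ = α ^ 2 ^ k := by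
    rw [hα, ← map_pow]
    rfl
  rw [e1, orderOf_pow, hkm]
  have : Nat.gcd (2 ^ k * m) (2 ^ k) = 2 ^ k := Nat.gcd_eq_right (Dvd.intro _ rfl)
  rw [this, Nat.mul_div_cancel_left _ (by positivity)]
  exact hm

/-- Membership in `C_G(P)` from triviality of the induced automorphism. -/
theorem mem_centralizer_of_normalizerMonoidHom_eq_one (P : Subgroup G) (g : G)
    (hg : g ∈ normalizer (P : Set G)) (h : P.normalizerMonoidHom ⟨g, hg⟩ = 1) :
    g ∈ centralizer (P : Set G) := by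
  have h1 : (⟨g, hg⟩ : normalizer (P : Set G)) ∈ P.normalizerMonoidHom.ker := h
  rw [normalizerMonoidHom_ker, mem_subgroupOf] at h1
  exact h1

/-- If `Aut(P)` is a `2`-group then odd-order conjugation automorphisms are trivial. -/
theorem exists_pow_mem_centralizer_of_isPGroup [Finite G] (P : Subgroup G)
    (hP : IsPGroup 2 (MulAut P)) :
    ∀ g ∈ normalizer (P : Set G), ∃ k : ℕ, g ^ 2 ^ k ∈ centralizer (P : Set G) := by
  apply exists_pow_mem_centralizer P _ le_rfl
  intro g hg hodd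
  apply mem_centralizer_of_normalizerMonoidHom_eq_one P g hg
  obtain ⟨k, hk⟩ := hP (P.normalizerMonoidHom ⟨g, hg⟩)
  have h1 := orderOf_dvd_of_pow_eq_one hk
  have h2 : (orderOf (P.normalizerMonoidHom ⟨g, hg⟩)).Coprime (2 ^ k) :=
    Nat.Coprime.pow_right k (Nat.Coprime.symm (Nat.coprime_two_left.mpr hodd))
  have h3 : orderOf (P.normalizerMonoidHom ⟨g, hg⟩) = 1 := Nat.Coprime.eq_one_of_dvd h2 h1
  exact orderOf_eq_one_iff.mp h3

/-- The `2`-part of an automizer index: if `T` has odd index in `N`, `M` is normal in `N` and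
`|T : T ∩ M| = 2` then `|N : M|` is twice an odd number. -/
theorem relIndex_eq_two_mul_odd [Finite G] {M N T : Subgroup G} (hMN : M ≤ N) (hTN : T ≤ N)
    (hN : N ≤ normalizer (M : Set G)) (hT : ¬ 2 ∣ T.relIndex N) (h2 : M.relIndex T = 2) :
    ∃ m : ℕ, ¬ 2 ∣ m ∧ M.relIndex N = 2 * m := by
  refine ⟨(T ⊔ M).relIndex N, ?_, ?_⟩
  · intro hd
    exact hT (hd.trans (relIndex_dvd_of_le_left N le_sup_left))
  · rw [← relIndex_mul_relIndex M (T ⊔ M) N le_sup_right (sup_le hTN hMN),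
      NC.relIndex_sup_of_le_normalizer T M (hTN.trans hN), h2]

/-- If `|T : T ∩ M| = |N : M|` then `N = T M`. -/
theorem le_sup_of_relIndex_eq [Finite G] {M N T : Subgroup G} (hMN : M ≤ N) (hTN : T ≤ N)
    (hN : N ≤ normalizer (M : Set G)) (h : M.relIndex T = M.relIndex N) : N ≤ M ⊔ T := by
  have h1 := relIndex_mul_relIndex M (T ⊔ M) N le_sup_right (sup_le hTN hMN)
  rw [NC.relIndex_sup_of_le_normalizer T M (hTN.trans hN), h] at h1
  have h0 : M.relIndex N ≠ 0 := Subgroup.index_ne_zero_of_finite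
  have h2 : (T ⊔ M).relIndex N = 1 := by
    have : M.relIndex N * (T ⊔ M).relIndex N = M.relIndex N * 1 := by rw [h1, mul_one]
    exact Nat.eq_of_mul_eq_mul_left (Nat.pos_of_ne_zero h0) this
  rw [sup_comm]
  exact relIndex_eq_one.mp h2

/-- Final arithmetic. -/
theorem eq_two_or_six_of {r d j m : ℕ} (hd : d ∣ 6) (h1 : r = 2 ^ j * d) (hm : ¬ 2 ∣ m)
    (h2 : r = 2 * m) : r = 2 ∨ r = 6 := by
  have hd6 : d ≤ 6 := Nat.le_of_dvd (by norm_num) hd
  have hd0 : d ≠ 0 := by rintro rfl; simp at hd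
  rcases Nat.lt_or_ge j 2 with hj | hj
  · interval_cases j <;> interval_cases d <;> simp_all <;> omega
  · exfalso
    obtain ⟨i, rfl⟩ : ∃ i, j = i + 2 := ⟨j - 2, by omega⟩
    apply hm
    have : 2 * m = 2 * (2 * (2 ^ i * d)) := by rw [← h2, h1]; ring
    exact ⟨2 ^ i * d, by omega⟩

/-- A subgroup `V ≤ S` whose `S`-normalizer has maximal order among its `G`-conjugates in `S` has
`N_S(V)` Sylow in `N_G(V)`. -/
theorem not_dvd_relIndex_of_fully_normalized [Finite G] {p : ℕ} [Fact p.Prime] (S : Sylow p G)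
    (V : Subgroup G) (hVS : V ≤ (S : Subgroup G))
    (h : ∀ g : G, V.map (MulAut.conj g).toMonoidHom ≤ (S : Subgroup G) →
      Nat.card ((S : Subgroup G) ⊓
        normalizer ((V.map (MulAut.conj g).toMonoidHom : Subgroup G) : Set G) : Subgroup G) ≤
      Nat.card ((S : Subgroup G) ⊓ normalizer (V : Set G) : Subgroup G)) :
    ¬ p ∣ ((S : Subgroup G) ⊓ normalizer (V : Set G)).relIndex (normalizer (V : Set G)) := by
  set N := normalizer (V : Set G) with hN
  set T := (S : Subgroup G) ⊓ N with hT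
  have hTp : IsPGroup p T := S.2.to_le inf_le_left
  obtain ⟨R, hTR, hRN, hRp, hRi⟩ := exists_sylowIn hTp (inf_le_right : T ≤ N)
  obtain ⟨g, hg⟩ := exists_map_conj_le_sylow S hRp
  have hVR : V ≤ R := (le_inf hVS le_normalizer).trans hTR
  have hVg : V.map (MulAut.conj g).toMonoidHom ≤ (S : Subgroup G) :=
    (Subgroup.map_mono hVR).trans hg
  have hRg : R.map (MulAut.conj g).toMonoidHom ≤ (S : Subgroup G) ⊓
      normalizer ((V.map (MulAut.conj g).toMonoidHom : Subgroup G) : Set G) := by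
    apply le_inf hg
    rw [normalizer_map_conj]
    exact Subgroup.map_mono hRN
  have hc : Nat.card R ≤ Nat.card T := by
    rw [← card_map_conj g R]
    exact (Subgroup.card_le_of_le hRg).trans (h g hVg)
  have hTR' : T = R := Subgroup.eq_of_le_of_card_ge hTR hc
  rw [hTR']
  exact hRi

end Cfsg.Agent.Lib.H5.AZ
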