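import Mathlib

/-!
# Odd-order automorphisms of the quaternion group of order 8 (helper5)

An automorphism of odd order `≠ 1` of `Q₈` permutes the three cyclic subgroups of order four
transitively (`Q8A.core`).
-/

set_option autoImplicit false

namespace Cfsg.Agent.Lib.H5.Q8A

/-- generating pairs -/
def Gen (x y : QuaternionGroup 2) : Prop := x * x ≠ 1 ∧ y * y ≠ 1 ∧ y ≠ x ∧ y ≠ x⁻¹

instance (x y : QuaternionGroup 2) : Decidable (Gen x y) := by unfold Gen; infer_instance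

/-- the elements of order four in terms of a generating pair -/
def Lst (x y w : QuaternionGroup 2) : Prop :=
  w = x ∨ w = x⁻¹ ∨ w = y ∨ w = y⁻¹ ∨ w = x * y ∨ w = (x * y)⁻¹

instance (x y w : QuaternionGroup 2) : Decidable (Lst x y w) := by unfold Lst; infer_instance

/-- all elements in terms of a generating pair -/
def Lst' (x y w : QuaternionGroup 2) : Prop :=
  w = 1 ∨ w = x * x ∨ w = x ∨ w = x⁻¹ ∨ w = y ∨ w = y⁻¹ ∨ w = x * y ∨ w = (x * y)⁻¹

instance (x y w : QuaternionGroup 2) : Decidable (Lst' x y w) := by unfold Lst'; infer_instance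

theorem d_list' : ∀ x y w : QuaternionGroup 2, Gen x y → w * w ≠ 1 → Lst x y w := by decide

theorem d_all' : ∀ x y w : QuaternionGroup 2, Gen x y → Lst' x y w := by decide

theorem d_list (x y w : QuaternionGroup 2) (hx : x * x ≠ 1) (hy : y * y ≠ 1) (h1 : y ≠ x)
    (h2 : y ≠ x⁻¹) (hw : w * w ≠ 1) :
    (w = x ∨ w = x⁻¹ ∨ w = y ∨ w = y⁻¹ ∨ w = x * y ∨ w = (x * y)⁻¹) :=
  d_list' x y w ⟨hx, hy, h1, h2⟩ hw

theorem d_all (x y w : QuaternionGroup 2) (hx : x * x ≠ 1) (hy : y * y ≠ 1) (h1 : y ≠ x)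
    (h2 : y ≠ x⁻¹) :
    (w = 1 ∨ w = x * x ∨ w = x ∨ w = x⁻¹ ∨ w = y ∨ w = y⁻¹ ∨ w = x * y ∨ w = (x * y)⁻¹) :=
  d_all' x y w ⟨hx, hy, h1, h2⟩

theorem d_inv : ∀ x : QuaternionGroup 2, x * x = 1 → x = 1 ∨ x = QuaternionGroup.a 2 := by
  decide

theorem d_four : ∀ x : QuaternionGroup 2, x * x * (x * x) = 1 := by decide

theorem d_gens : (QuaternionGroup.a 1 : QuaternionGroup 2) * QuaternionGroup.a 1 ≠ 1 ∧
    (QuaternionGroup.xa 0 : QuaternionGroup 2) * QuaternionGroup.xa 0 ≠ 1 ∧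
    (QuaternionGroup.xa 0 : QuaternionGroup 2) ≠ QuaternionGroup.a 1 ∧
    (QuaternionGroup.xa 0 : QuaternionGroup 2) ≠ (QuaternionGroup.a 1)⁻¹ := by decide

variable {Q : Type*} [Group Q]

/-- `y` generates the same cyclic subgroup of order four as `x`. -/
def Sim (x y : Q) : Prop := y = x ∨ y = x⁻¹

theorem Sim.refl (x : Q) : Sim x x := Or.inl rfl

theorem Sim.symm {x y : Q} (h : Sim x y) : Sim y x := by
  rcases h with rfl | rfl
  · exact Or.inl rfl
  · exact Or.inr (inv_inv x).symm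

theorem Sim.trans {x y z : Q} (h1 : Sim x y) (h2 : Sim y z) : Sim x z := by
  rcases h1 with rfl | rfl <;> rcases h2 with rfl | rfl
  · exact Or.inl rfl
  · exact Or.inr rfl
  · exact Or.inr rfl
  · exact Or.inl (inv_inv x)

theorem Sim.map {x y : Q} (ψ : MulAut Q) (h : Sim x y) : Sim (ψ x) (ψ y) := by
  rcases h with rfl | rfl
  · exact Or.inl rfl
  · exact Or.inr (map_inv ψ x)

theorem Sim.of_map {x y : Q} (ψ : MulAut Q) (h : Sim (ψ x) (ψ y)) : Sim x y := by
  have := Sim.map ψ⁻¹ h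
  simpa using this

theorem sq_ne_one_map (ψ : MulAut Q) {x : Q} (hx : x * x ≠ 1) : ψ x * ψ x ≠ 1 := by
  intro h
  apply hx
  apply ψ.injective
  rw [map_mul, h, map_one]

/-- An automorphism of odd order cannot invert an element of order four. -/
theorem not_inv_of_odd [Finite Q] (ψ : MulAut Q) (hodd : Odd (orderOf ψ)) (x : Q)
    (hx : x * x ≠ 1) (h : ψ x = x⁻¹) : False := by
  have key : ∀ i : ℕ, (ψ ^ (2 * i + 1)) x = x⁻¹ := by
    intro i
    induction i with
    | zero => simpa using h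
    | succ i ih =>
      have e : 2 * (i + 1) + 1 = 2 + (2 * i + 1) := by ring
      rw [e, pow_add, MulAut.mul_apply, ih, pow_two, MulAut.mul_apply]
      simp only [map_inv, h, inv_inv]
  obtain ⟨j, hj⟩ := hodd
  have h1 := key j
  rw [← hj, pow_orderOf_eq_one, MulAut.one_apply] at h1
  apply hx
  calc x * x = x * x⁻¹ := by rw [← h1]
    _ = 1 := mul_inv_cancel x

theorem fix_of_sim [Finite Q] (ψ : MulAut Q) (hodd : Odd (orderOf ψ)) (x : Q)
    (hx : x * x ≠ 1) (h : Sim x (ψ x)) : ψ x = x := by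
  rcases h with h | h
  · exact h
  · exact (not_inv_of_odd ψ hodd x hx h).elim

theorem fix_of_sq_fix [Finite Q] (φ : MulAut Q) (hodd : Odd (orderOf φ)) (x : Q)
    (h : (φ ^ 2) x = x) : φ x = x := by
  obtain ⟨j, hj⟩ := hodd
  have key : ∀ i : ℕ, ((φ ^ 2) ^ i) x = x := by
    intro i
    induction i with
    | zero => simp
    | succ i ih => rw [pow_succ, MulAut.mul_apply, h, ih]
  have h1 := key (j + 1)
  rw [← pow_mul] at h1
  have e : 2 * (j + 1) = orderOf φ + 1 := by omega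
  rw [e, pow_succ, pow_orderOf_eq_one, one_mul] at h1
  exact h1

variable (e : Q ≃* QuaternionGroup 2)
include e

theorem list (x y w : Q) (hx : x * x ≠ 1) (hy : y * y ≠ 1) (h1 : y ≠ x) (h2 : y ≠ x⁻¹)
    (hw : w * w ≠ 1) : Sim x w ∨ Sim y w ∨ Sim (x * y) w := by
  have t : ∀ {u : Q}, u * u ≠ 1 → e u * e u ≠ 1 := by
    intro u hu h
    apply hu
    apply e.injective
    rw [map_mul, h, map_one]
  have := d_list (e x) (e y) (e w) (t hx) (t hy) (fun h => h1 (e.injective h))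
    (fun h => h2 (e.injective (by rw [h, map_inv]))) (t hw)
  rcases this with h | h | h | h | h | h
  · exact Or.inl (Or.inl (e.injective h))
  · exact Or.inl (Or.inr (e.injective (by rw [h, map_inv])))
  · exact Or.inr (Or.inl (Or.inl (e.injective h)))
  · exact Or.inr (Or.inl (Or.inr (e.injective (by rw [h, map_inv]))))
  · exact Or.inr (Or.inr (Or.inl (e.injective (by rw [h, map_mul]))))
  · exact Or.inr (Or.inr (Or.inr (e.injective (by rw [h, map_inv, map_mul]))))

theorem all (x y w : Q) (hx : x * x ≠ 1) (hy : y * y ≠ 1) (h1 : y ≠ x) (h2 : y ≠ x⁻¹) :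
    w = 1 ∨ w = x * x ∨ w = x ∨ w = x⁻¹ ∨ w = y ∨ w = y⁻¹ ∨ w = x * y ∨ w = (x * y)⁻¹ := by
  have t : ∀ {u : Q}, u * u ≠ 1 → e u * e u ≠ 1 := by
    intro u hu h
    apply hu
    apply e.injective
    rw [map_mul, h, map_one]
  have := d_all (e x) (e y) (e w) (t hx) (t hy) (fun h => h1 (e.injective h))
    (fun h => h2 (e.injective (by rw [h, map_inv])))
  rcases this with h | h | h | h | h | h | h | h
  · exact Or.inl (e.injective (by rw [h, map_one]))
  · exact Or.inr (Or.inl (e.injective (by rw [h, map_mul])))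
  · exact Or.inr (Or.inr (Or.inl (e.injective h)))
  · exact Or.inr (Or.inr (Or.inr (Or.inl (e.injective (by rw [h, map_inv])))))
  · exact Or.inr (Or.inr (Or.inr (Or.inr (Or.inl (e.injective h)))))
  · exact Or.inr (Or.inr (Or.inr (Or.inr (Or.inr (Or.inl (e.injective (by rw [h, map_inv])))))))
  · exact Or.inr (Or.inr (Or.inr (Or.inr (Or.inr (Or.inr (Or.inl
      (e.injective (by rw [h, map_mul]))))))))
  · exact Or.inr (Or.inr (Or.inr (Or.inr (Or.inr (Or.inr (Or.inr
      (e.injective (by rw [h, map_inv, map_mul]))))))))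

theorem finite_of_equiv : Finite Q := Finite.of_equiv _ e.symm.toEquiv

/-- A nontrivial automorphism moves some element of order four. -/
theorem exists_moved (φ : MulAut Q) (hne : φ ≠ 1) : ∃ x : Q, x * x ≠ 1 ∧ φ x ≠ x := by
  by_contra hcon
  push Not at hcon
  apply hne
  obtain ⟨g1, g2, g3, g4⟩ := d_gens
  have t : ∀ {u : QuaternionGroup 2}, u * u ≠ 1 → e.symm u * e.symm u ≠ 1 := by
    intro u hu h
    apply hu
    apply e.symm.injective
    rw [map_mul, h, map_one]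
  set x := e.symm (QuaternionGroup.a 1) with hx
  set y := e.symm (QuaternionGroup.xa 0) with hy
  have hxx : x * x ≠ 1 := t g1
  have hyy : y * y ≠ 1 := t g2
  have hyx : y ≠ x := fun h => g3 (e.symm.injective h)
  have hyx' : y ≠ x⁻¹ := fun h => g4 (e.symm.injective (by rw [map_inv]; exact h))
  have fx := hcon x hxx
  have fy := hcon y hyy
  ext w
  rw [MulAut.one_apply]
  rcases all e x y w hxx hyy hyx hyx' with h | h | h | h | h | h | h | h <;> rw [h] <;>
    simp only [map_mul, map_inv, map_one, fx, fy]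

/-- An automorphism of odd order `≠ 1` of `Q₈` is transitive on the cyclic subgroups of order
four. -/
theorem core (φ : MulAut Q) (hodd : Odd (orderOf φ)) (hne : φ ≠ 1) (a b : Q)
    (ha : a * a ≠ 1) (hb : b * b ≠ 1) : ∃ k : ℕ, (φ ^ k) a = b ∨ (φ ^ k) a = b⁻¹ := by
  have hfin := finite_of_equiv e
  obtain ⟨x, hx, hφx⟩ := exists_moved e φ hne
  have hodd2 : Odd (orderOf (φ ^ 2)) := Odd.of_dvd_nat hodd (orderOf_pow_dvd 2)
  have n01 : ¬ Sim x (φ x) := fun h => hφx (fix_of_sim φ hodd x hx h)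
  have n02 : ¬ Sim x ((φ ^ 2) x) := fun h =>
    hφx (fix_of_sq_fix φ hodd x (fix_of_sim (φ ^ 2) hodd2 x hx h))
  have n12 : ¬ Sim (φ x) ((φ ^ 2) x) := by
    intro h
    rw [pow_two, MulAut.mul_apply] at h
    exact n01 (Sim.of_map φ h)
  have hφxx : φ x * φ x ≠ 1 := sq_ne_one_map φ hx
  have hφ2xx : (φ ^ 2) x * (φ ^ 2) x ≠ 1 := sq_ne_one_map (φ ^ 2) hx
  have h1 : φ x ≠ x := hφx
  have h2 : φ x ≠ x⁻¹ := fun h => n01 (Or.inr h)
  have hprod : Sim (x * φ x) ((φ ^ 2) x) := by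
    rcases list e x (φ x) ((φ ^ 2) x) hx hφxx h1 h2 hφ2xx with h | h | h
    · exact absurd h n02
    · exact absurd h n12
    · exact h
  -- every element of order four is in the class of `x`, `φ x` or `φ² x`
  have hcls : ∀ w : Q, w * w ≠ 1 → ∃ i : ℕ, i ≤ 2 ∧ Sim ((φ ^ i) x) w := by
    intro w hw
    rcases list e x (φ x) w hx hφxx h1 h2 hw with h | h | h
    · exact ⟨0, by omega, by simpa using h⟩
    · exact ⟨1, by omega, by simpa using h⟩
    · exact ⟨2, by omega, hprod.symm.trans h⟩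
  -- `φ³ x ~ x`
  have h3 : Sim ((φ ^ 3) x) x := by
    obtain ⟨i, hi, hs⟩ := hcls ((φ ^ 3) x) (sq_ne_one_map (φ ^ 3) hx)
    interval_cases i
    · simpa using hs.symm
    · exfalso
      have e1 : (φ ^ 3) x = φ ((φ ^ 2) x) := by
        rw [← MulAut.mul_apply, ← pow_succ']
      rw [pow_one, e1] at hs
      exact n02 (Sim.of_map φ hs)
    · exfalso
      have e1 : (φ ^ 3) x = (φ ^ 2) (φ x) := by
        rw [← MulAut.mul_apply, ← pow_succ]
      rw [e1] at hs
      exact n01 (Sim.of_map (φ ^ 2) hs)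
  obtain ⟨i, hi, hsa⟩ := hcls a ha
  obtain ⟨j, hj, hsb⟩ := hcls b hb
  refine ⟨j + (3 - i), ?_⟩
  have e1 : (φ ^ (j + (3 - i))) ((φ ^ i) x) = (φ ^ j) ((φ ^ 3) x) := by
    rw [← MulAut.mul_apply, ← MulAut.mul_apply, ← pow_add, ← pow_add]
    congr 2
    omega
  have s1 : Sim ((φ ^ (j + (3 - i))) ((φ ^ i) x)) ((φ ^ (j + (3 - i))) a) := Sim.map _ hsa
  rw [e1] at s1
  have s2 : Sim ((φ ^ j) ((φ ^ 3) x)) ((φ ^ j) x) := Sim.map _ h3
  have s3 : Sim b ((φ ^ (j + (3 - i))) a) := hsb.symm.trans (s2.symm.trans s1)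
  exact s3

end Cfsg.Agent.Lib.H5.Q8A
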