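import Mathlib
import Cfsg.Agent.Lib.H5.SimpleTools

set_option autoImplicit false

/-! # The index `|N(P) : C(P)|` for an abelian Sylow subgroup -/

namespace Cfsg.Agent.Lib.H5

open Subgroup

variable {G : Type*} [Group G]

/-- For an abelian Sylow `p`-subgroup, `|N(P) : C(P)|` is prime to `p`. -/
theorem not_dvd_relIndex_centralizer_normalizer [Finite G] {p : ℕ} [Fact p.Prime] (P : Sylow p G)
    (hP : IsMulCommutative (P : Subgroup G)) :
    ¬ p ∣ (centralizer ((P : Subgroup G) : Set G)).relIndex
      (normalizer ((P : Subgroup G) : Set G)) := by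
  intro hdvd
  have hPC : (P : Subgroup G) ≤ centralizer ((P : Subgroup G) : Set G) :=
    le_centralizer_iff_isMulCommutative.mpr hP
  have hCN : centralizer ((P : Subgroup G) : Set G) ≤ normalizer ((P : Subgroup G) : Set G) :=
    centralizer_le_normalizer _
  have h1 := relIndex_mul_relIndex (P : Subgroup G) _ _ hPC hCN
  have h2 : (P : Subgroup G).relIndex (normalizer ((P : Subgroup G) : Set G)) ∣
      (P : Subgroup G).index := relIndex_dvd_index_of_le (hPC.trans hCN)
  apply P.not_dvd_index
  refine dvd_trans ?_ h2
  rw [← h1]
  exact Dvd.dvd.mul_left hdvd _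

/-- `|N(P) : C(P)|` divides `(card P)!`. -/
theorem relIndex_centralizer_normalizer_dvd_factorial [Finite G] (P : Subgroup G) :
    (centralizer (P : Set G)).relIndex (normalizer (P : Set G)) ∣ (Nat.card P).factorial := by
  refine dvd_trans (relIndex_centralizer_normalizer_dvd P) ?_
  have hinj : Function.Injective (MulAut.toPerm P) := by
    intro a b hab
    apply MulEquiv.ext
    intro x
    have := congrArg (fun σ => σ x) hab
    exact this
  have := Subgroup.card_dvd_of_injective (MulAut.toPerm P) hinj
  rwa [Nat.card_perm] at this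

end Cfsg.Agent.Lib.H5
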