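import Mathlib
import Cfsg.Agent.Lib.H5.AutIndex
import Cfsg.Agent.Lib.H5.SylowIn

set_option autoImplicit false

/-! # Groups with a Klein four Sylow 2-subgroup: classes of involutions -/

namespace Cfsg.Agent.Lib.H5.K4

open Subgroup Cfsg.Agent.Lib.H5

variable {G : Type*} [Group G]

theorem mem_comm {U : Subgroup G} (hU : IsKleinFour U) {a b : G} (ha : a ∈ U)
    (hb : b ∈ U) : a * b = b * a := by
  have := (IsKleinFour.isMulCommutative (G := U)).is_comm.comm ⟨a, ha⟩ ⟨b, hb⟩
  exact congrArg Subtype.val this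

theorem mem_sq {U : Subgroup G} (hU : IsKleinFour U) {a : G} (ha : a ∈ U) :
    a * a = 1 := by
  have := IsKleinFour.mul_self (⟨a, ha⟩ : U)
  exact congrArg Subtype.val this

theorem mem_inv {U : Subgroup G} (hU : IsKleinFour U) {a : G} (ha : a ∈ U) :
    a⁻¹ = a := inv_eq_of_mul_eq_one_left (mem_sq hU ha)

theorem orderOf_mem {U : Subgroup G} (hU : IsKleinFour U) {a : G} (ha : a ∈ U) (ha1 : a ≠ 1) :
    orderOf a = 2 := by
  have : Fact (Nat.Prime 2) := ⟨Nat.prime_two⟩
  apply orderOf_eq_prime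
  · rw [pow_two]; exact mem_sq hU ha
  · exact ha1

/-- Every element of a Klein four subgroup is `1`, `x`, `y` or `x * y` for distinct non-identity
`x`, `y`. -/
theorem mem_cases {U : Subgroup G} (hU : IsKleinFour U) {x y z : G} (hx : x ∈ U) (hy : y ∈ U)
    (hz : z ∈ U) (hx1 : x ≠ 1) (hy1 : y ≠ 1) (hxy : x ≠ y) :
    z = 1 ∨ z = x ∨ z = y ∨ z = x * y := by
  by_cases h1 : z = 1
  · exact Or.inl h1
  by_cases h2 : z = x
  · exact Or.inr (Or.inl h2)
  by_cases h3 : z = y
  · exact Or.inr (Or.inr (Or.inl h3))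
  right; right; right
  have := IsKleinFour.eq_mul_of_ne_all (G := U) (x := ⟨x, hx⟩) (y := ⟨y, hy⟩) (z := ⟨z, hz⟩)
    (fun h => hx1 (congrArg Subtype.val h)) (fun h => hy1 (congrArg Subtype.val h))
    (fun h => hxy (congrArg Subtype.val h)) (fun h => h1 (congrArg Subtype.val h))
    (fun h => h2 (congrArg Subtype.val h)) (fun h => h3 (congrArg Subtype.val h))
  exact congrArg Subtype.val this

/-- Generators of a Klein four subgroup. -/
theorem exists_gens {U : Subgroup G} (hU : IsKleinFour U) :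
    ∃ a b : G, a ∈ U ∧ b ∈ U ∧ a ≠ 1 ∧ b ≠ 1 ∧ a ≠ b := by
  have hfin : Finite U := Nat.finite_of_card_ne_zero (by rw [hU.card_four]; norm_num)
  have hnt : Nontrivial U := by
    rw [← Finite.one_lt_card_iff_nontrivial, hU.card_four]; norm_num
  obtain ⟨a, ha⟩ := exists_ne (1 : U)
  have hnc := IsKleinFour.not_isCyclic (G := U)
  have : ∃ b : U, b ∉ zpowers a := by
    by_contra hcon
    push Not at hcon
    exact hnc ⟨a, hcon⟩
  obtain ⟨b, hb⟩ := this
  refine ⟨a, b, a.2, b.2, fun h => ha (Subtype.ext h), ?_, ?_⟩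
  · intro h
    apply hb
    have : b = 1 := Subtype.ext h
    rw [this]; exact one_mem _
  · intro h
    apply hb
    have : a = b := Subtype.ext h
    rw [← this]; exact mem_zpowers a

variable [Finite G] (P : Sylow 2 G)

/-- An involution is conjugate to an element of `P`. -/
theorem exists_conj_mem (t : G) (ht : orderOf t = 2) : ∃ g : G, g⁻¹ * t * g ∈ (P : Subgroup G) := by
  have : Fact (Nat.Prime 2) := ⟨Nat.prime_two⟩
  have h1 : IsPGroup 2 (zpowers t) := by
    apply IsPGroup.of_card (n := 1)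
    rw [Nat.card_zpowers, ht, pow_one]
  obtain ⟨Q, hQ⟩ := h1.exists_le_sylow
  obtain ⟨g, hg⟩ := MulAction.exists_smul_eq G P Q
  refine ⟨g, ?_⟩
  have htQ : t ∈ Q := hQ (mem_zpowers t)
  rw [← hg] at htQ
  exact (sylow_mem_smul_iff g P t).mp htQ

variable (hP : IsKleinFour (P : Subgroup G))
include hP

/-- No element of `N(P)` swaps two distinct elements of `P`. -/
theorem no_swap {n x y : G} (hn : n ∈ normalizer ((P : Subgroup G) : Set G))
    (hx : x ∈ (P : Subgroup G)) (hy : y ∈ (P : Subgroup G))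
    (h1 : n⁻¹ * x * n = y) (h2 : n⁻¹ * y * n = x) : x = y := by
  have : Fact (Nat.Prime 2) := ⟨Nat.prime_two⟩
  by_contra hxy
  have hx1 : x ≠ 1 := by
    rintro rfl
    apply hxy
    rw [← h1]; group
  have hy1 : y ≠ 1 := by
    rintro rfl
    apply hxy
    rw [← h2]; group
  have hcomm : IsMulCommutative (P : Subgroup G) := IsKleinFour.isMulCommutative
  -- `n * n` centralizes `P`
  have hcx : x * (n * n) = (n * n) * x := by
    have e : n⁻¹ * (n⁻¹ * x * n) * n = x := by rw [h1, h2]
    calc x * (n * n) = (n * n) * (n⁻¹ * (n⁻¹ * x * n) * n) := by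
          simp only [mul_assoc, mul_inv_cancel_left]
      _ = (n * n) * x := by rw [e]
  have hcy : y * (n * n) = (n * n) * y := by
    have e : n⁻¹ * (n⁻¹ * y * n) * n = y := by rw [h2, h1]
    calc y * (n * n) = (n * n) * (n⁻¹ * (n⁻¹ * y * n) * n) := by
          simp only [mul_assoc, mul_inv_cancel_left]
      _ = (n * n) * y := by rw [e]
  have hsq : n * n ∈ centralizer ((P : Subgroup G) : Set G) := by
    rw [mem_centralizer_iff]
    intro z hz
    rcases mem_cases hP hx hy hz hx1 hy1 hxy with rfl | rfl | rfl | rfl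
    · simp
    · exact hcx
    · exact hcy
    · rw [mul_assoc, hcy, ← mul_assoc, hcx, mul_assoc]
  have hodd := not_dvd_relIndex_centralizer_normalizer P hcomm
  have hr : n ^ ((centralizer ((P : Subgroup G) : Set G)).relIndex
      (normalizer ((P : Subgroup G) : Set G))) ∈ centralizer ((P : Subgroup G) : Set G) := by
    have hnorm : ((centralizer ((P : Subgroup G) : Set G)).subgroupOf
        (normalizer ((P : Subgroup G) : Set G))).Normal := by
      rw [← normalizerMonoidHom_ker]
      infer_instance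
    have := Subgroup.pow_index_mem ((centralizer ((P : Subgroup G) : Set G)).subgroupOf
      (normalizer ((P : Subgroup G) : Set G))) ⟨n, hn⟩
    rw [mem_subgroupOf] at this
    exact this
  generalize (centralizer ((P : Subgroup G) : Set G)).relIndex
    (normalizer ((P : Subgroup G) : Set G)) = r at hodd hr
  have hr' : r % 2 = 1 := by omega
  have hnc : n ∈ centralizer ((P : Subgroup G) : Set G) := by
    have e : n = n ^ r * ((n * n) ^ (r / 2))⁻¹ := by
      rw [← pow_two, ← pow_mul, eq_mul_inv_iff_mul_eq, ← pow_succ']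
      congr 1
      omega
    rw [e]
    exact mul_mem hr (inv_mem (pow_mem hsq _))
  rw [mem_centralizer_iff] at hnc
  apply hxy
  rw [← h1, mul_assoc, hnc x hx, inv_mul_cancel_left]

/-- If two distinct involutions of `P` are conjugate, then so is the third. -/
theorem isConj_mul {x y : G} (hx : x ∈ (P : Subgroup G)) (hy : y ∈ (P : Subgroup G))
    (hx1 : x ≠ 1) (hy1 : y ≠ 1) (hxy : x ≠ y) (hc : IsConj x y) : IsConj x (x * y) := by
  have : Fact (Nat.Prime 2) := ⟨Nat.prime_two⟩
  have hcomm : IsMulCommutative (P : Subgroup G) := IsKleinFour.isMulCommutative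
  obtain ⟨c, hc⟩ := isConj_iff.mp hc
  have hy' : (c⁻¹)⁻¹ * x * c⁻¹ ∈ (P : Subgroup G) := by
    rw [inv_inv, hc]; exact hy
  obtain ⟨n, hn, hne⟩ := P.conj_eq_normalizer_conj_of_mem x c⁻¹ hx hy'
  rw [inv_inv, hc] at hne
  have hn' : n⁻¹ ∈ normalizer ((P : Subgroup G) : Set G) := inv_mem hn
  have hw : n⁻¹ * y * n ∈ (P : Subgroup G) := by
    have := (mem_normalizer_iff.mp hn' y).mp hy
    rwa [inv_inv] at this
  have hw1 : n⁻¹ * y * n ≠ 1 := by
    intro h
    apply hy1
    have : y = n * (n⁻¹ * y * n) * n⁻¹ := by group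
    rw [this, h]; group
  have hwy : n⁻¹ * y * n ≠ y := by
    intro h
    apply hxy
    have e : n⁻¹ * y * n = n⁻¹ * x * n := by rw [h, hne]
    have : y = n * (n⁻¹ * y * n) * n⁻¹ := by group
    rw [this, e]; group
  rcases mem_cases hP hx hy hw hx1 hy1 hxy with h | h | h | h
  · exact absurd h hw1
  · exact absurd (no_swap P hP hn hx hy hne.symm h) hxy
  · exact absurd h hwy
  · rw [isConj_iff]
    refine ⟨(n * n)⁻¹, ?_⟩
    rw [← h, hne]
    simp only [mul_inv_rev, inv_inv, mul_assoc]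

/-- The classes of involutions of `G` are those of the three involutions of `P`. -/
theorem classes_eq {a b : G} (ha : a ∈ (P : Subgroup G)) (hb : b ∈ (P : Subgroup G))
    (ha1 : a ≠ 1) (hb1 : b ≠ 1) (hab : a ≠ b) :
    {C : ConjClasses G | ∃ t : G, orderOf t = 2 ∧ ConjClasses.mk t = C} =
      {ConjClasses.mk a, ConjClasses.mk b, ConjClasses.mk (a * b)} := by
  ext C
  simp only [Set.mem_ofPred_eq, Set.mem_insert_iff, Set.mem_singleton_iff]
  constructor
  · rintro ⟨t, ht, rfl⟩
    obtain ⟨g, hg⟩ := exists_conj_mem P t ht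
    have hne : g⁻¹ * t * g ≠ 1 := by
      intro h
      have : t = g * (g⁻¹ * t * g) * g⁻¹ := by group
      rw [h] at this
      rw [this] at ht
      simp at ht
    have hconj : ConjClasses.mk t = ConjClasses.mk (g⁻¹ * t * g) := by
      rw [ConjClasses.mk_eq_mk_iff_isConj, isConj_iff]
      exact ⟨g⁻¹, by rw [inv_inv]⟩
    rw [hconj]
    rcases mem_cases hP ha hb hg ha1 hb1 hab with h | h | h | h
    · exact absurd h hne
    · left; rw [h]
    · right; left; rw [h]
    · right; right; rw [h]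
  · have hab1 : a * b ≠ 1 := by
      intro h
      apply hab
      rw [← mem_inv hP hb]
      exact eq_inv_of_mul_eq_one_left h
    rintro (rfl | rfl | rfl)
    · exact ⟨a, orderOf_mem hP ha ha1, rfl⟩
    · exact ⟨b, orderOf_mem hP hb hb1, rfl⟩
    · exact ⟨a * b, orderOf_mem hP (mul_mem ha hb) hab1, rfl⟩

/-- Either the three involutions of `P` are pairwise non-conjugate, or they are all conjugate. -/
theorem dichotomy {a b : G} (ha : a ∈ (P : Subgroup G)) (hb : b ∈ (P : Subgroup G))
    (ha1 : a ≠ 1) (hb1 : b ≠ 1) (hab : a ≠ b) :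
    (¬ IsConj a b ∧ ¬ IsConj a (a * b) ∧ ¬ IsConj b (a * b)) ∨
      (IsConj a b ∧ IsConj a (a * b)) := by
  have hab1 : a * b ≠ 1 := by
    intro h
    apply hab
    rw [← mem_inv hP hb]
    exact eq_inv_of_mul_eq_one_left h
  have haab : a ≠ a * b := by
    intro h
    apply hb1
    have := mul_left_cancel (a := a) (b := 1) (c := b) (by rw [mul_one]; exact h)
    exact this.symm
  have hbab : b ≠ a * b := by
    intro h
    apply ha1
    have := mul_right_cancel (a := 1) (b := b) (c := a) (by rw [one_mul]; exact h)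
    exact this.symm
  by_cases h1 : IsConj a b
  · exact Or.inr ⟨h1, isConj_mul P hP ha hb ha1 hb1 hab h1⟩
  by_cases h2 : IsConj a (a * b)
  · have := isConj_mul P hP ha (mul_mem ha hb) ha1 hab1 haab h2
    rw [← mul_assoc, mem_sq hP ha, one_mul] at this
    exact absurd this h1
  by_cases h3 : IsConj b (a * b)
  · have := isConj_mul P hP hb (mul_mem ha hb) hb1 hab1 hbab h3
    rw [mem_comm hP ha hb, ← mul_assoc, mem_sq hP hb, one_mul] at this
    exact absurd this.symm h1
  exact Or.inl ⟨h1, h2, h3⟩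

theorem card_classes_of_not_isConj {a b : G} (ha : a ∈ (P : Subgroup G))
    (hb : b ∈ (P : Subgroup G)) (ha1 : a ≠ 1) (hb1 : b ≠ 1) (hab : a ≠ b)
    (h : ¬ IsConj a b ∧ ¬ IsConj a (a * b) ∧ ¬ IsConj b (a * b)) :
    Nat.card {C : ConjClasses G // ∃ t : G, orderOf t = 2 ∧ ConjClasses.mk t = C} = 3 := by
  show Nat.card ↥{C : ConjClasses G | ∃ t : G, orderOf t = 2 ∧ ConjClasses.mk t = C} = 3
  rw [Nat.card_coe_set_eq, Set.ncard_eq_three]
  refine ⟨_, _, _, ?_, ?_, ?_, classes_eq P hP ha hb ha1 hb1 hab⟩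
  · rw [Ne, ConjClasses.mk_eq_mk_iff_isConj]; exact h.1
  · rw [Ne, ConjClasses.mk_eq_mk_iff_isConj]; exact h.2.1
  · rw [Ne, ConjClasses.mk_eq_mk_iff_isConj]; exact h.2.2

theorem card_classes_of_isConj {a b : G} (ha : a ∈ (P : Subgroup G))
    (hb : b ∈ (P : Subgroup G)) (ha1 : a ≠ 1) (hb1 : b ≠ 1) (hab : a ≠ b)
    (h : IsConj a b ∧ IsConj a (a * b)) :
    Nat.card {C : ConjClasses G // ∃ t : G, orderOf t = 2 ∧ ConjClasses.mk t = C} = 1 := by
  show Nat.card ↥{C : ConjClasses G | ∃ t : G, orderOf t = 2 ∧ ConjClasses.mk t = C} = 1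
  rw [Nat.card_coe_set_eq, classes_eq P hP ha hb ha1 hb1 hab,
    ← ConjClasses.mk_eq_mk_iff_isConj.mpr h.1, ← ConjClasses.mk_eq_mk_iff_isConj.mpr h.2]
  simp

end Cfsg.Agent.Lib.H5.K4
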