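import Mathlib
import Cfsg.Agent.Lib.H5.AutIndex

set_option autoImplicit false

/-! # Odd-order automorphisms of abelian 2-subgroups acting on the involutions -/

namespace Cfsg.Agent.Lib.H5.R2

open Subgroup

variable {G : Type*} [Group G]

/-- `Ω₁` of an abelian subgroup: its elements of order at most 2. -/
def omega (P : Subgroup G) (hP : ∀ a ∈ P, ∀ b ∈ P, a * b = b * a) : Subgroup G where
  carrier := {z | z ∈ P ∧ z * z = 1}
  one_mem' := ⟨P.one_mem, mul_one 1⟩
  mul_mem' := by
    rintro a b ⟨ha, ha2⟩ ⟨hb, hb2⟩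
    refine ⟨P.mul_mem ha hb, ?_⟩
    calc a * b * (a * b) = a * (b * a) * b := by group
      _ = a * (a * b) * b := by rw [hP b hb a ha]
      _ = (a * a) * (b * b) := by group
      _ = 1 := by rw [ha2, hb2, mul_one]
  inv_mem' := by
    rintro a ⟨ha, ha2⟩
    refine ⟨P.inv_mem ha, ?_⟩
    rw [← mul_inv_rev, ha2, inv_one]

theorem mem_omega {P : Subgroup G} {hP : ∀ a ∈ P, ∀ b ∈ P, a * b = b * a} {z : G} :
    z ∈ omega P hP ↔ z ∈ P ∧ z * z = 1 := Iff.rfl

theorem omega_le (P : Subgroup G) (hP : ∀ a ∈ P, ∀ b ∈ P, a * b = b * a) : omega P hP ≤ P :=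
  fun _ hz => hz.1

/-- The normalizer of `P` normalizes `Ω₁(P)`. -/
theorem normalizer_le_normalizer_omega (P : Subgroup G)
    (hP : ∀ a ∈ P, ∀ b ∈ P, a * b = b * a) :
    normalizer (P : Set G) ≤ normalizer ((omega P hP : Subgroup G) : Set G) := by
  intro n hn
  rw [mem_normalizer_iff]
  intro z
  constructor
  · rintro ⟨hz, hz2⟩
    refine ⟨(mem_normalizer_iff.mp hn z).mp hz, ?_⟩
    calc n * z * n⁻¹ * (n * z * n⁻¹) = n * (z * z) * n⁻¹ := by group
      _ = 1 := by rw [hz2, mul_one, mul_inv_cancel]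
  · rintro ⟨hz, hz2⟩
    refine ⟨(mem_normalizer_iff.mp hn z).mpr hz, ?_⟩
    have : n * (z * z) * n⁻¹ = 1 := by
      calc n * (z * z) * n⁻¹ = n * z * n⁻¹ * (n * z * n⁻¹) := by group
        _ = 1 := hz2
    have h2 : z * z = n⁻¹ * (n * (z * z) * n⁻¹) * n := by group
    rw [h2, this, mul_one, inv_mul_cancel]

/-- A nontrivial element of a 2-group has a power of order 2. -/
theorem exists_pow_involution {P : Subgroup G} (hP2 : IsPGroup 2 P) {c : G} (hc : c ∈ P)
    (hc1 : c ≠ 1) : ∃ j : ℕ, c ^ j ≠ 1 ∧ c ^ j * c ^ j = 1 := by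
  classical
  have hex : ∃ k, c ^ 2 ^ k = 1 := by
    obtain ⟨k, hk⟩ := hP2 ⟨c, hc⟩
    exact ⟨k, by simpa using congrArg Subtype.val hk⟩
  have hk0 : Nat.find hex ≠ 0 := by
    intro h0
    have := Nat.find_spec hex
    rw [h0, pow_zero, pow_one] at this
    exact hc1 this
  obtain ⟨k, hk⟩ := Nat.exists_eq_succ_of_ne_zero hk0
  refine ⟨2 ^ k, ?_, ?_⟩
  · intro h1
    have := Nat.find_min hex (m := k) (by omega)
    exact this h1
  · have := Nat.find_spec hex
    rw [hk, pow_succ, pow_mul, pow_two] at this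
    exact this

/-- **Coprime action on an abelian 2-group**: if `n` normalizes the abelian 2-subgroup `P`,
some odd power of `n` centralizes `P`, and `n` centralizes every element of order at most 2
of `P`, then `n` centralizes `P`. -/
theorem mem_centralizer_of_centralizes_omega {P : Subgroup G} (hP2 : IsPGroup 2 P)
    (hPc : ∀ a ∈ P, ∀ b ∈ P, a * b = b * a) {n : G} (hn : n ∈ normalizer (P : Set G))
    {r : ℕ} (hr : Odd r) (hnr : n ^ r ∈ centralizer (P : Set G))
    (hΩ : ∀ w ∈ P, w * w = 1 → n * w * n⁻¹ = w) : n ∈ centralizer (P : Set G) := by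
  rw [mem_centralizer_iff]
  intro y hy
  by_contra hne
  have hconjP : ∀ u ∈ P, n * u * n⁻¹ ∈ P := fun u hu => (mem_normalizer_iff.mp hn u).mp hu
  set c := y⁻¹ * (n * y * n⁻¹) with hcdef
  have hcP : c ∈ P := P.mul_mem (P.inv_mem hy) (hconjP y hy)
  have hc1 : c ≠ 1 := by
    intro h1
    apply hne
    have : n * y * n⁻¹ = y := by
      have := congrArg (fun t => y * t) h1
      simpa [hcdef] using this
    calc y * n = y * n := rfl
      _ = n * y * n⁻¹ * n := by rw [this]
      _ = n * y := by group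
  obtain ⟨j, hj1, hj2⟩ := exists_pow_involution hP2 hcP hc1
  set w := c ^ j with hwdef
  set y₁ := y ^ j with hy1def
  have hy1P : y₁ ∈ P := P.pow_mem hy j
  have hwP : w ∈ P := P.pow_mem hcP j
  have hw : w = y₁⁻¹ * (n * y₁ * n⁻¹) := by
    have hcomm : Commute y⁻¹ (n * y * n⁻¹) := hPc _ (P.inv_mem hy) _ (hconjP y hy)
    rw [hwdef, hcdef, hcomm.mul_pow, inv_pow, conj_pow]
  have hnw : n * w * n⁻¹ = w := hΩ w hwP hj2
  have hstep : n * y₁ * n⁻¹ = y₁ * w := by
    rw [hw]; group
  -- induction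
  have hind : ∀ i : ℕ, n ^ i * y₁ * (n ^ i)⁻¹ = y₁ * w ^ i := by
    intro i
    induction i with
    | zero => simp
    | succ i ih =>
      have hwi : n * w ^ i * n⁻¹ = w ^ i := by rw [← conj_pow, hnw]
      calc n ^ (i + 1) * y₁ * (n ^ (i + 1))⁻¹
          = n * (n ^ i * y₁ * (n ^ i)⁻¹) * n⁻¹ := by rw [pow_succ']; group
        _ = n * (y₁ * w ^ i) * n⁻¹ := by rw [ih]
        _ = (n * y₁ * n⁻¹) * (n * w ^ i * n⁻¹) := by group
        _ = y₁ * w * w ^ i := by rw [hstep, hwi]
        _ = y₁ * w ^ (i + 1) := by rw [pow_succ', mul_assoc]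
  have hr' := hind r
  have hcen : n ^ r * y₁ * (n ^ r)⁻¹ = y₁ := by
    have := (mem_centralizer_iff.mp hnr) y₁ hy1P
    rw [← this]; group
  rw [hcen] at hr'
  have hwr : w ^ r = 1 := by
    have := congrArg (fun t => y₁⁻¹ * t) hr'
    simpa using this.symm
  obtain ⟨k, hk⟩ := hr
  rw [hk, pow_succ, pow_mul, pow_two, hj2, one_pow, one_mul] at hwr
  exact hj1 hwr

/-- For `K ≤ N(H)`, `|K : C_K(H)|` divides `(card H)!`. -/
theorem relIndex_centralizer_dvd_factorial_of_le [Finite G] (H K : Subgroup G)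
    (hK : K ≤ normalizer (H : Set G)) :
    (centralizer (H : Set G)).relIndex K ∣ (Nat.card H).factorial := by
  let ψ : K →* MulAut H := H.normalizerMonoidHom.comp (inclusion hK)
  have hker : ψ.ker = (centralizer (H : Set G)).subgroupOf K := by
    ext x
    rw [MonoidHom.mem_ker, MonoidHom.comp_apply, ← MonoidHom.mem_ker, normalizerMonoidHom_ker,
      mem_subgroupOf, mem_subgroupOf]
    rfl
  have key := card_dvd_of_injective _ (QuotientGroup.kerLift_injective ψ)
  rw [hker, ← index, ← relIndex] at key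
  refine dvd_trans key ?_
  have hinj : Function.Injective (MulAut.toPerm H) := by
    intro a b hab
    apply MulEquiv.ext
    intro x
    exact congrArg (fun σ => σ x) hab
  have := Subgroup.card_dvd_of_injective (MulAut.toPerm H) hinj
  rwa [Nat.card_perm] at this

end Cfsg.Agent.Lib.H5.R2
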