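import Mathlib

set_option autoImplicit false

/-! # Cardinalities of nested subgroups, index two -/

namespace Cfsg.Agent.Lib.H5

open Subgroup

variable {G : Type*} [Group G]

theorem card_mul_relIndex_of_le {H K : Subgroup G} (h : H ≤ K) :
    Nat.card H * H.relIndex K = Nat.card K := by
  have := relIndex_mul_relIndex (H := ⊥) (K := H) (L := K) bot_le h
  rwa [relIndex_bot_left, relIndex_bot_left] at this

/-- A subgroup of index two in `K` is normalized by `K`. -/
theorem le_normalizer_of_card_eq_two_mul [Finite G] {H K : Subgroup G} (h : H ≤ K)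
    (hc : Nat.card K = 2 * Nat.card H) : K ≤ normalizer (H : Set G) := by
  have h1 := card_mul_relIndex_of_le h
  have hpos : 0 < Nat.card H := Nat.card_pos
  have h2 : H.relIndex K = 2 := by
    rw [hc] at h1
    nlinarith
  have hn : (H.subgroupOf K).Normal := normal_of_index_eq_two h2
  exact le_normalizer_of_normal_subgroupOf h

/-- `|N(P)| = |C(P)| * |N(P) : C(P)|`. -/
theorem card_centralizer_mul_relIndex_normalizer (P : Subgroup G) :
    Nat.card (centralizer (P : Set G)) * (centralizer (P : Set G)).relIndex (normalizer (P : Set G))
      = Nat.card (normalizer (P : Set G)) :=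
  card_mul_relIndex_of_le (centralizer_le_normalizer _)

end Cfsg.Agent.Lib.H5
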