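import Mathlib
import Cfsg.Agent.Lib.H5.OmegaAction
import Cfsg.Agent.Lib.H5.SubgroupCard

set_option autoImplicit false

/-! # Sylow 2-subgroups of type `Z_{2^m} × Z_{2^m}` -/

namespace Cfsg.Agent.Lib.H5.R2

open Subgroup

theorem zmod_two_torsion (m : ℕ) (hm : 1 ≤ m) (a : ZMod (2 ^ m)) (ha : a + a = 0) :
    a = 0 ∨ a = ((2 ^ (m - 1) : ℕ) : ZMod (2 ^ m)) := by
  have hne : NeZero (2 ^ m) := ⟨by positivity⟩
  have h1 : (a.val + a.val) % 2 ^ m = 0 := by
    rw [← ZMod.val_add, ha, ZMod.val_zero]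
  have h2 : 2 ^ m = 2 * 2 ^ (m - 1) := by
    rw [← pow_succ']
    congr 1
    omega
  have hlt : a.val < 2 ^ m := ZMod.val_lt a
  have hdvd : 2 ^ (m - 1) ∣ a.val := by
    have : 2 * 2 ^ (m - 1) ∣ 2 * a.val := by
      rw [← h2, two_mul]
      exact Nat.dvd_of_mod_eq_zero h1
    exact Nat.dvd_of_mul_dvd_mul_left (by norm_num) this
  obtain ⟨k, hk⟩ := hdvd
  have hpos : 0 < 2 ^ (m - 1) := by positivity
  have hk2 : k < 2 := by
    by_contra hcon
    push Not at hcon
    have : 2 * 2 ^ (m - 1) ≤ 2 ^ (m - 1) * k := by nlinarith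
    omega
  have hcast : a = ((a.val : ℕ) : ZMod (2 ^ m)) := (ZMod.natCast_zmod_val a).symm
  interval_cases k
  · left
    rw [hcast, hk]
    simp
  · right
    rw [hcast, hk, mul_one]

theorem zmod_eq_of_two_torsion (m : ℕ) (hm : 1 ≤ m) (a b : ZMod (2 ^ m)) (ha : a + a = 0)
    (hb : b + b = 0) (hiff : a = 0 ↔ b = 0) : a = b := by
  rcases zmod_two_torsion m hm a ha with h | h <;> rcases zmod_two_torsion m hm b hb with h' | h'
  · rw [h, h']
  · rw [h, hiff.mp h]
  · rw [h', hiff.mpr h']
  · rw [h, h']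

variable {G : Type*} [Group G]

section

variable (P : Subgroup G) (m : ℕ)
  (e : P ≃* Multiplicative (ZMod (2 ^ m) × ZMod (2 ^ m)))

include e in
theorem comm_of_equiv : ∀ a ∈ P, ∀ b ∈ P, a * b = b * a := by
  intro a ha b hb
  have : (⟨a, ha⟩ : P) * ⟨b, hb⟩ = ⟨b, hb⟩ * ⟨a, ha⟩ := by
    apply e.injective
    rw [map_mul, map_mul, mul_comm]
  exact congrArg Subtype.val this

include e in
theorem isMulCommutative_of_equiv : IsMulCommutative P :=
  ⟨⟨fun a b => Subtype.ext (comm_of_equiv P m e a.1 a.2 b.1 b.2)⟩⟩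

theorem card_omega_le (hm : 1 ≤ m) :
    Nat.card (omega P (comm_of_equiv P m e)) ≤ 4 := by
  classical
  let f : omega P (comm_of_equiv P m e) → Bool × Bool := fun z =>
    (decide ((Multiplicative.toAdd (e ⟨z.1, z.2.1⟩)).1 = 0),
      decide ((Multiplicative.toAdd (e ⟨z.1, z.2.1⟩)).2 = 0))
  have htors : ∀ z : omega P (comm_of_equiv P m e),
      (Multiplicative.toAdd (e ⟨z.1, z.2.1⟩)) + (Multiplicative.toAdd (e ⟨z.1, z.2.1⟩)) = 0 := by
    intro z
    have h1 : (⟨z.1, z.2.1⟩ : P) * ⟨z.1, z.2.1⟩ = 1 := Subtype.ext z.2.2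
    have h2 := congrArg e h1
    rw [map_mul, map_one] at h2
    have h3 := congrArg Multiplicative.toAdd h2
    simpa using h3
  have hinj : Function.Injective f := by
    intro z z' hzz'
    have hz := htors z
    have hz' := htors z'
    simp only [f, Prod.mk.injEq, decide_eq_decide] at hzz'
    have hfst : (Multiplicative.toAdd (e ⟨z.1, z.2.1⟩)).1 =
        (Multiplicative.toAdd (e ⟨z'.1, z'.2.1⟩)).1 :=
      zmod_eq_of_two_torsion m hm _ _ (congrArg Prod.fst hz) (congrArg Prod.fst hz') hzz'.1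
    have hsnd : (Multiplicative.toAdd (e ⟨z.1, z.2.1⟩)).2 =
        (Multiplicative.toAdd (e ⟨z'.1, z'.2.1⟩)).2 :=
      zmod_eq_of_two_torsion m hm _ _ (congrArg Prod.snd hz) (congrArg Prod.snd hz') hzz'.2
    have heq : e ⟨z.1, z.2.1⟩ = e ⟨z'.1, z'.2.1⟩ := by
      apply Multiplicative.toAdd.injective
      exact Prod.ext hfst hsnd
    have h3 : (⟨z.1, z.2.1⟩ : P) = ⟨z'.1, z'.2.1⟩ := e.injective heq
    exact Subtype.ext (congrArg (fun t : P => (t : G)) h3)
  have := Nat.card_le_card_of_injective f hinj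
  simpa using this

end

/-- In a subgroup with at most four elements, four distinct members exhaust it. -/
theorem mem_of_card_le_four [Finite G] {H : Subgroup G} (hc : Nat.card H ≤ 4) {a b c d u : G}
    (ha : a ∈ H) (hb : b ∈ H) (hcH : c ∈ H) (hd : d ∈ H) (hu : u ∈ H)
    (hab : a ≠ b) (hac : a ≠ c) (had : a ≠ d) (hbc : b ≠ c) (hbd : b ≠ d) (hcd : c ≠ d) :
    u = a ∨ u = b ∨ u = c ∨ u = d := by
  have hsub : ({a, b, c, d} : Set G) ⊆ (H : Set G) := by
    intro x hx
    simp only [Set.mem_insert_iff, Set.mem_singleton_iff] at hx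
    rcases hx with rfl | rfl | rfl | rfl <;> assumption
  have hcard : ({a, b, c, d} : Set G).ncard = 4 := by
    rw [Set.ncard_insert_of_notMem, Set.ncard_insert_of_notMem, Set.ncard_insert_of_notMem,
      Set.ncard_singleton]
    · simpa using hcd
    · simp only [Set.mem_insert_iff, Set.mem_singleton_iff, not_or]
      exact ⟨hbc, hbd⟩
    · simp only [Set.mem_insert_iff, Set.mem_singleton_iff, not_or]
      exact ⟨hab, hac, had⟩
  have heq := Set.eq_of_subset_of_ncard_le hsub (by
    rw [hcard, ← Nat.card_coe_set_eq]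
    exact hc) (Set.toFinite _)
  have : u ∈ ({a, b, c, d} : Set G) := by rw [heq]; exact hu
  simpa using this

section sylow

variable [Finite G] (P : Sylow 2 G) (m : ℕ)
  (e : (P : Subgroup G) ≃* Multiplicative (ZMod (2 ^ m) × ZMod (2 ^ m)))

include e in
theorem odd_relIndex : Odd ((centralizer ((P : Subgroup G) : Set G)).relIndex
    (normalizer ((P : Subgroup G) : Set G))) := by
  have : Fact (Nat.Prime 2) := ⟨Nat.prime_two⟩
  have := not_dvd_relIndex_centralizer_normalizer P (isMulCommutative_of_equiv _ m e)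
  rw [← Nat.not_even_iff_odd, even_iff_two_dvd]
  exact this

theorem pow_relIndex_mem_centralizer (Q : Subgroup G) {n : G}
    (hn : n ∈ normalizer (Q : Set G)) :
    n ^ ((centralizer (Q : Set G)).relIndex (normalizer (Q : Set G))) ∈
      centralizer (Q : Set G) := by
  have hnorm : ((centralizer (Q : Set G)).subgroupOf (normalizer (Q : Set G))).Normal := by
    rw [← normalizerMonoidHom_ker]
    infer_instance
  have := Subgroup.pow_index_mem ((centralizer (Q : Set G)).subgroupOf (normalizer (Q : Set G)))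
    ⟨n, hn⟩
  rw [mem_subgroupOf] at this
  exact this

include e in
/-- An element of `N(P)` centralizing `Ω₁(P)` centralizes `P`. -/
theorem centralizer_omega_inf_normalizer :
    centralizer ((omega (P : Subgroup G) (comm_of_equiv _ m e) : Subgroup G) : Set G) ⊓
      normalizer ((P : Subgroup G) : Set G) = centralizer ((P : Subgroup G) : Set G) := by
  apply le_antisymm
  · rintro n ⟨hnΩ, hnN⟩
    apply mem_centralizer_of_centralizes_omega P.2 (comm_of_equiv _ m e) hnN (odd_relIndex P m e)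
      (pow_relIndex_mem_centralizer _ hnN)
    intro w hwP hw2
    have := (mem_centralizer_iff.mp hnΩ) w ⟨hwP, hw2⟩
    rw [← this]; group
  · intro n hn
    refine ⟨?_, centralizer_le_normalizer _ hn⟩
    exact centralizer_le (omega_le _ _) hn

include e in
theorem relIndex_eq_one_or_three (hm : 1 ≤ m) :
    (centralizer ((P : Subgroup G) : Set G)).relIndex (normalizer ((P : Subgroup G) : Set G)) = 1 ∨
    (centralizer ((P : Subgroup G) : Set G)).relIndex (normalizer ((P : Subgroup G) : Set G)) = 3 := by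
  have hodd := odd_relIndex P m e
  have h1 := relIndex_centralizer_dvd_factorial_of_le
    (omega (P : Subgroup G) (comm_of_equiv _ m e)) (normalizer ((P : Subgroup G) : Set G))
    (normalizer_le_normalizer_omega _ _)
  rw [← inf_relIndex_right, centralizer_omega_inf_normalizer P m e] at h1
  have hle := card_omega_le (P : Subgroup G) m e hm
  have hpos : 0 < Nat.card (omega (P : Subgroup G) (comm_of_equiv _ m e)) := Nat.card_pos
  generalize (centralizer ((P : Subgroup G) : Set G)).relIndex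
    (normalizer ((P : Subgroup G) : Set G)) = r at *
  have h24 : r ∣ 24 := by
    refine dvd_trans h1 ?_
    generalize Nat.card (omega (P : Subgroup G) (comm_of_equiv _ m e)) = k at *
    interval_cases k <;> decide
  have hmem : r ∈ Nat.divisors 24 := Nat.mem_divisors.mpr ⟨h24, by norm_num⟩
  have hdiv : Nat.divisors 24 = {1, 2, 3, 4, 6, 8, 12, 24} := by decide
  rw [hdiv] at hmem
  simp only [Finset.mem_insert, Finset.mem_singleton] at hmem
  rcases hmem with h' | h' | h' | h' | h' | h' | h' | h' <;> subst h' <;>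
    first | exact Or.inl rfl | exact Or.inr rfl | (exfalso; revert hodd; decide)

include e in
/-- When `|N(P) : C(P)| = 3`, an element of `N(P) \ C(P)` fixes no involution of `P`. -/
theorem no_fixed_involution (hm : 1 ≤ m)
    (h3 : (centralizer ((P : Subgroup G) : Set G)).relIndex
      (normalizer ((P : Subgroup G) : Set G)) = 3) {n : G}
    (hn : n ∈ normalizer ((P : Subgroup G) : Set G))
    (hnC : n ∉ centralizer ((P : Subgroup G) : Set G)) {w : G} (hwP : w ∈ (P : Subgroup G))
    (hw2 : w * w = 1) (hw1 : w ≠ 1) : n * w * n⁻¹ ≠ w := by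
  intro hfix
  have hPc := comm_of_equiv (P : Subgroup G) m e
  -- n does not centralize Ω
  have hex : ∃ v ∈ (P : Subgroup G), v * v = 1 ∧ n * v * n⁻¹ ≠ v := by
    by_contra hcon
    push Not at hcon
    apply hnC
    exact mem_centralizer_of_centralizes_omega P.2 hPc hn (odd_relIndex P m e)
      (pow_relIndex_mem_centralizer _ hn) hcon
  obtain ⟨v, hvP, hv2, hvn⟩ := hex
  have hv1 : v ≠ 1 := by
    intro h1
    apply hvn
    rw [h1]; group
  have hvw : v ≠ w := fun h => hvn (h ▸ hfix)
  have hΩle := card_omega_le (P : Subgroup G) m e hm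
  have hwΩ : w ∈ omega (P : Subgroup G) hPc := ⟨hwP, hw2⟩
  have hvΩ : v ∈ omega (P : Subgroup G) hPc := ⟨hvP, hv2⟩
  have hwvΩ : w * v ∈ omega (P : Subgroup G) hPc := mul_mem hwΩ hvΩ
  have hnΩ := normalizer_le_normalizer_omega (P : Subgroup G) hPc hn
  have huΩ : n * v * n⁻¹ ∈ omega (P : Subgroup G) hPc := (mem_normalizer_iff.mp hnΩ v).mp hvΩ
  have hw_inv : w⁻¹ = w := inv_eq_of_mul_eq_one_left hw2
  have hcases := mem_of_card_le_four hΩle (one_mem _) hwΩ hvΩ hwvΩ huΩ
    (fun h => hw1 h.symm) (fun h => hv1 h.symm)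
    (fun h => hvw (by
      have : v = w⁻¹ := eq_inv_of_mul_eq_one_right h.symm
      rw [this, hw_inv]))
    (fun h => hvw h.symm)
    (fun h => hv1 (by
      have := congrArg (fun t => w⁻¹ * t) h
      simpa using this.symm))
    (fun h => hw1 (by
      have := congrArg (fun t => t * v⁻¹) h
      simpa using this.symm))
  have hu : n * v * n⁻¹ = w * v := by
    rcases hcases with h | h | h | h
    · exfalso
      apply hv1
      have : v = n⁻¹ * (n * v * n⁻¹) * n := by group
      rw [this, h]; group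
    · exfalso
      apply hvw
      have : MulAut.conj n v = MulAut.conj n w := by
        rw [MulAut.conj_apply, MulAut.conj_apply, h, hfix]
      exact (MulAut.conj n).injective this
    · exact absurd h hvn
    · exact h
  -- n^3 centralizes P
  have hn3 := pow_relIndex_mem_centralizer (P : Subgroup G) hn
  rw [h3] at hn3
  have hn3v : n ^ 3 * v * (n ^ 3)⁻¹ = v := by
    have := (mem_centralizer_iff.mp hn3) v hvP
    rw [← this]; group
  have hcalc : n ^ 3 * v * (n ^ 3)⁻¹ = w * v := by
    have e3 : n ^ 3 = n * n * n := by rw [pow_succ, pow_two]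
    have hwwv : w * (w * v) = v := by rw [← mul_assoc, hw2, one_mul]
    calc n ^ 3 * v * (n ^ 3)⁻¹ = n * (n * (n * v * n⁻¹) * n⁻¹) * n⁻¹ := by rw [e3]; group
      _ = n * (n * (w * v) * n⁻¹) * n⁻¹ := by rw [hu]
      _ = n * ((n * w * n⁻¹) * (n * v * n⁻¹)) * n⁻¹ := by group
      _ = n * (w * (w * v)) * n⁻¹ := by rw [hfix, hu]
      _ = n * v * n⁻¹ := by rw [hwwv]
      _ = w * v := hu
  rw [hn3v] at hcalc
  apply hw1
  have := congrArg (fun t => t * v⁻¹) hcalc
  simpa using this.symm

include e in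
/-- When `|N(P) : C(P)| = 3`, any two involutions of `P` are conjugate under `N(P)`. -/
theorem exists_conj_involution (hm : 1 ≤ m)
    (h3 : (centralizer ((P : Subgroup G) : Set G)).relIndex
      (normalizer ((P : Subgroup G) : Set G)) = 3) {w u : G} (hwP : w ∈ (P : Subgroup G))
    (hw2 : w * w = 1) (hw1 : w ≠ 1) (huP : u ∈ (P : Subgroup G)) (hu2 : u * u = 1)
    (hu1 : u ≠ 1) : ∃ g : G, g * w * g⁻¹ = u := by
  have hPc := comm_of_equiv (P : Subgroup G) m e
  -- an element of N \ C
  have hex : ∃ n ∈ normalizer ((P : Subgroup G) : Set G),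
      n ∉ centralizer ((P : Subgroup G) : Set G) := by
    by_contra hcon
    push Not at hcon
    have : (centralizer ((P : Subgroup G) : Set G)).relIndex
        (normalizer ((P : Subgroup G) : Set G)) = 1 := relIndex_eq_one.mpr hcon
    omega
  obtain ⟨n, hnN, hnC⟩ := hex
  have hn3 := pow_relIndex_mem_centralizer (P : Subgroup G) hnN
  rw [h3] at hn3
  have hn2N : n ^ 2 ∈ normalizer ((P : Subgroup G) : Set G) := pow_mem hnN 2
  have hn2C : n ^ 2 ∉ centralizer ((P : Subgroup G) : Set G) := by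
    intro h2
    apply hnC
    have : n = n ^ 3 * (n ^ 2)⁻¹ := by group
    rw [this]
    exact mul_mem hn3 (inv_mem h2)
  set v := n * w * n⁻¹ with hvdef
  have hvw : v ≠ w := no_fixed_involution P m e hm h3 hnN hnC hwP hw2 hw1
  have hΩle := card_omega_le (P : Subgroup G) m e hm
  have hwΩ : w ∈ omega (P : Subgroup G) hPc := ⟨hwP, hw2⟩
  have huΩ : u ∈ omega (P : Subgroup G) hPc := ⟨huP, hu2⟩
  have hnΩ := normalizer_le_normalizer_omega (P : Subgroup G) hPc hnN
  have hvΩ : v ∈ omega (P : Subgroup G) hPc := (mem_normalizer_iff.mp hnΩ w).mp hwΩ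
  have hv1 : v ≠ 1 := by
    intro h1
    apply hw1
    have : w = n⁻¹ * v * n := by rw [hvdef]; group
    rw [this, h1]; group
  have hwvΩ : w * v ∈ omega (P : Subgroup G) hPc := mul_mem hwΩ hvΩ
  have hw_inv : w⁻¹ = w := inv_eq_of_mul_eq_one_left hw2
  have hdist1 : (1 : G) ≠ w * v := fun h => hvw (by
    have : v = w⁻¹ := eq_inv_of_mul_eq_one_right h.symm
    rw [this, hw_inv])
  have hdist2 : w ≠ w * v := fun h => hv1 (by
    have := congrArg (fun t => w⁻¹ * t) h
    simpa using this.symm)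
  have hdist3 : v ≠ w * v := fun h => hw1 (by
    have := congrArg (fun t => t * v⁻¹) h
    simpa using this.symm)
  have hall : ∀ x ∈ omega (P : Subgroup G) hPc, x = 1 ∨ x = w ∨ x = v ∨ x = w * v :=
    fun x hx => mem_of_card_le_four hΩle (one_mem _) hwΩ hvΩ hwvΩ hx
      (fun h => hw1 h.symm) (fun h => hv1 h.symm) hdist1 (fun h => hvw h.symm) hdist2 hdist3
  rcases hall u huΩ with h | h | h | h
  · exact absurd h hu1
  · exact ⟨1, by rw [h]; group⟩
  · exact ⟨n, h.symm⟩
  · -- n v n⁻¹ = w v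
    refine ⟨n ^ 2, ?_⟩
    have hv' : n * v * n⁻¹ ∈ omega (P : Subgroup G) hPc := (mem_normalizer_iff.mp hnΩ v).mp hvΩ
    have hn2w : n ^ 2 * w * (n ^ 2)⁻¹ = n * v * n⁻¹ := by rw [hvdef, pow_two]; group
    rw [hn2w, h]
    rcases hall _ hv' with h' | h' | h' | h'
    · exfalso
      apply hv1
      have : v = n⁻¹ * (n * v * n⁻¹) * n := by group
      rw [this, h']; group
    · exfalso
      apply no_fixed_involution P m e hm h3 hn2N hn2C hwP hw2 hw1
      rw [hn2w, h']
    · exfalso
      exact no_fixed_involution P m e hm h3 hnN hnC hvΩ.1 hvΩ.2 hv1 h'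
    · exact h'

end sylow

end Cfsg.Agent.Lib.H5.R2
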