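import Mathlib
import Cfsg.Agent.Lib.H5.Homocyclic
import Cfsg.Prelude.Def_CaseTheorems

set_option autoImplicit false

/-! # Quasi-dihedral (semidihedral) 2-groups: normal form and arithmetic -/

namespace Cfsg.Agent.Lib.H5.SD

open Subgroup
open scoped commutatorElement

section ring

variable (n : ℕ)

/-- `2 ^ (n - 1)` in `ZMod (2 ^ n)`. -/
def hh : ZMod (2 ^ n) := ((2 ^ (n - 1) : ℕ) : ZMod (2 ^ n))

/-- `2 ^ (n - 2)` in `ZMod (2 ^ n)`. -/
def qq : ZMod (2 ^ n) := ((2 ^ (n - 2) : ℕ) : ZMod (2 ^ n))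

/-- `2 ^ (n - 1) - 1` in `ZMod (2 ^ n)`. -/
def mm : ZMod (2 ^ n) := hh n - 1

variable {n}

theorem two_hh (hn : 1 ≤ n) : 2 * hh n = 0 := by
  unfold hh
  have : (2 : ZMod (2 ^ n)) = ((2 : ℕ) : ZMod (2 ^ n)) := by norm_num
  rw [this, ← Nat.cast_mul, ← pow_succ']
  have : n - 1 + 1 = n := by omega
  rw [this]
  exact ZMod.natCast_self _

theorem hh_eq (hn : 2 ≤ n) : hh n = 2 * qq n := by
  unfold hh qq
  have : (2 : ZMod (2 ^ n)) = ((2 : ℕ) : ZMod (2 ^ n)) := by norm_num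
  rw [this, ← Nat.cast_mul, ← pow_succ']
  have : n - 2 + 1 = n - 1 := by omega
  rw [this]

theorem hh_mul_qq (hn : 3 ≤ n) : hh n * qq n = 0 := by
  unfold hh qq
  rw [← Nat.cast_mul, ← pow_add]
  have : n - 1 + (n - 2) = n + (n - 3) := by omega
  rw [this, pow_add, Nat.cast_mul, ZMod.natCast_self, zero_mul]

theorem hh_ne_zero (hn : 1 ≤ n) : hh n ≠ 0 := by
  unfold hh
  rw [Ne, ZMod.natCast_eq_zero_iff]
  intro h
  have h1 := Nat.le_of_dvd (by positivity) h
  have h2 : 2 ^ (n - 1) < 2 ^ n := Nat.pow_lt_pow_right (by norm_num) (by omega)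
  omega

theorem qq_eq (hn : 3 ≤ n) : qq n = 2 * ((2 ^ (n - 3) : ℕ) : ZMod (2 ^ n)) := by
  unfold qq
  have : (2 : ZMod (2 ^ n)) = ((2 : ℕ) : ZMod (2 ^ n)) := by norm_num
  rw [this, ← Nat.cast_mul, ← pow_succ']
  have : n - 3 + 1 = n - 2 := by omega
  rw [this]

theorem hh_mul_hh (hn : 2 ≤ n) : hh n * hh n = 0 := by
  unfold hh
  rw [← Nat.cast_mul, ← pow_add]
  have : n - 1 + (n - 1) = n + (n - 2) := by omega
  rw [this, pow_add, Nat.cast_mul, ZMod.natCast_self, zero_mul]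

theorem mm_mul_mm (hn : 2 ≤ n) : mm n * mm n = 1 := by
  unfold mm
  have h1 := hh_mul_hh hn
  have h2 := two_hh (n := n) (by omega)
  linear_combination h1 - h2

theorem mm_add_one : mm n + 1 = hh n := by
  unfold mm; ring

/-- `a + a = 0` implies `a = 0` or `a = hh`. -/
theorem two_torsion (hn : 1 ≤ n) (a : ZMod (2 ^ n)) (ha : 2 * a = 0) : a = 0 ∨ a = hh n := by
  have := R2.zmod_two_torsion n hn a (by rw [← two_mul]; exact ha)
  exact this

theorem hh_mul_cases (hn : 1 ≤ n) (a : ZMod (2 ^ n)) : hh n * a = 0 ∨ hh n * a = hh n := by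
  apply two_torsion hn
  rw [← mul_assoc, two_hh hn, zero_mul]

theorem even_or_odd (a : ZMod (2 ^ n)) : (∃ b, a = 2 * b) ∨ (∃ b, a = 2 * b + 1) := by
  have hne : NeZero (2 ^ n) := ⟨by positivity⟩
  have h1 : a = ((a.val : ℕ) : ZMod (2 ^ n)) := (ZMod.natCast_zmod_val a).symm
  have h2 : a.val = 2 * (a.val / 2) + a.val % 2 := (Nat.div_add_mod _ _).symm
  rcases Nat.mod_two_eq_zero_or_one a.val with h | h
  · left
    refine ⟨((a.val / 2 : ℕ) : ZMod (2 ^ n)), ?_⟩
    rw [h, add_zero] at h2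
    conv_lhs => rw [h1, h2]
    push_cast
    ring
  · right
    refine ⟨((a.val / 2 : ℕ) : ZMod (2 ^ n)), ?_⟩
    rw [h] at h2
    conv_lhs => rw [h1, h2]
    push_cast
    ring

theorem hh_mul_even (hn : 1 ≤ n) (b : ZMod (2 ^ n)) : hh n * (2 * b) = 0 := by
  rw [← mul_assoc, mul_comm (hh n) 2, two_hh hn, zero_mul]

theorem hh_mul_odd (hn : 1 ≤ n) (b : ZMod (2 ^ n)) : hh n * (2 * b + 1) = hh n := by
  rw [mul_add, hh_mul_even hn, zero_add, mul_one]

theorem even_ne_odd (hn : 1 ≤ n) (b c : ZMod (2 ^ n)) : 2 * b ≠ 2 * c + 1 := by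
  intro h
  have h1 := hh_mul_even hn b
  rw [h, hh_mul_odd hn] at h1
  exact hh_ne_zero hn h1

/-- `(1 - m)(1 + q) = 2`. -/
theorem one_sub_mm_mul (hn : 3 ≤ n) : (1 - mm n) * (1 + qq n) = 2 := by
  unfold mm
  have h1 := hh_eq (n := n) (by omega)
  have h2 := hh_mul_qq hn
  linear_combination (-1 : ZMod (2 ^ n)) * h2 - h1

/-- If `(1 - m) a = 0` then `2 a = 0`. -/
theorem two_mul_eq_zero_of (hn : 3 ≤ n) (a : ZMod (2 ^ n)) (h : (1 - mm n) * a = 0) :
    2 * a = 0 := by
  have h1 := one_sub_mm_mul hn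
  calc 2 * a = (1 - mm n) * (1 + qq n) * a := by rw [h1]
    _ = (1 + qq n) * ((1 - mm n) * a) := by ring
    _ = 0 := by rw [h, mul_zero]

theorem hh_ne_two (hn : 3 ≤ n) : hh n ≠ 2 := by
  intro h
  rw [hh_eq (by omega), qq_eq hn] at h
  have h1 : (2 : ZMod (2 ^ n)) * (2 * ((2 ^ (n - 3) : ℕ) : ZMod (2 ^ n))) = 2 * 0 + 2 := by
    rw [h]; ring
  have h2 : (2 : ZMod (2 ^ n)) * (2 * ((2 ^ (n - 3) : ℕ) : ZMod (2 ^ n)) - 1) = 0 := by
    linear_combination h1
  rcases two_torsion (by omega) _ h2 with h3 | h3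
  · have : (2 : ZMod (2 ^ n)) * ((2 ^ (n - 3) : ℕ) : ZMod (2 ^ n)) = 2 * 0 + 1 := by
      linear_combination h3
    exact even_ne_odd (by omega) _ _ this
  · rw [hh_eq (by omega)] at h3
    have : (2 : ZMod (2 ^ n)) * (((2 ^ (n - 3) : ℕ) : ZMod (2 ^ n)) - qq n) = 2 * 0 + 1 := by
      linear_combination h3
    exact even_ne_odd (by omega) _ _ this

end ring

section group

variable {S : Type*} [Group S]

/-- A subgroup of index two is maximal. -/
theorem isCoatom_of_index_two {H : Subgroup S} (h : H.index = 2) : IsCoatom H := by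
  refine ⟨?_, ?_⟩
  · intro htop
    rw [htop, index_top] at h
    omega
  · intro K hK
    have h1 := relIndex_mul_index hK.le
    rw [h] at h1
    have h2 : K.index ∣ 2 := Dvd.intro_left _ h1
    rcases (Nat.dvd_prime Nat.prime_two).mp h2 with h3 | h3
    · exact index_eq_one.mp h3
    · exfalso
      rw [h3] at h1
      have h4 : H.relIndex K = 1 := by omega
      exact hK.not_ge (relIndex_eq_one.mp h4)

/-- Quasi-dihedral generators. -/
structure Gens (S : Type*) [Group S] (n : ℕ) (x y : S) : Prop where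
  hn : 3 ≤ n
  hcard : Nat.card S = 2 ^ (n + 1)
  hx : orderOf x = 2 ^ n
  hy : orderOf y = 2
  hrel : y * x * y⁻¹ = x ^ (2 ^ (n - 1) - 1)

theorem exists_gens (hS : Cfsg.IsQuasiDihedral S) : ∃ (n : ℕ) (x y : S), Gens S n x y := by
  obtain ⟨n, hn, hc, x, y, hx, hy, hrel⟩ := hS
  exact ⟨n, x, y, hn, hc, hx, hy, hrel⟩

variable {n : ℕ} {x y : S}

/-- `x ^ a` for `a : ZMod (2 ^ n)`. -/
def xp (n : ℕ) (x : S) (a : ZMod (2 ^ n)) : S := x ^ a.val

namespace Gens

variable (d : Gens S n x y)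
include d

theorem finite : Finite S := Nat.finite_of_card_ne_zero (by rw [d.hcard]; positivity)

theorem pow_eq_xp (k : ℕ) : x ^ k = xp n x (k : ZMod (2 ^ n)) := by
  unfold xp
  rw [ZMod.val_natCast, ← pow_mod_orderOf x k, d.hx]

theorem xp_add (a b : ZMod (2 ^ n)) : xp n x (a + b) = xp n x a * xp n x b := by
  have hne : NeZero (2 ^ n) := ⟨by positivity⟩
  unfold xp
  rw [ZMod.val_add, ← pow_add, ← pow_mod_orderOf x (a.val + b.val), d.hx]

omit d in
theorem xp_zero : xp n x 0 = 1 := by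
  unfold xp
  rw [ZMod.val_zero, pow_zero]

theorem xp_neg (a : ZMod (2 ^ n)) : xp n x (-a) = (xp n x a)⁻¹ := by
  rw [eq_inv_iff_mul_eq_one, ← d.xp_add, neg_add_cancel, xp_zero]

theorem xp_sub (a b : ZMod (2 ^ n)) : xp n x (a - b) = xp n x a * (xp n x b)⁻¹ := by
  rw [sub_eq_add_neg, d.xp_add, d.xp_neg]

theorem xp_one : xp n x 1 = x := by
  have := d.pow_eq_xp 1
  rw [pow_one, Nat.cast_one] at this
  exact this.symm

theorem xp_injective : Function.Injective (xp n x) := by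
  have hne : NeZero (2 ^ n) := ⟨by positivity⟩
  intro a b hab
  unfold xp at hab
  have h1 : a.val < orderOf x := by rw [d.hx]; exact ZMod.val_lt a
  have h2 : b.val < orderOf x := by rw [d.hx]; exact ZMod.val_lt b
  exact ZMod.val_injective _ (pow_injOn_Iio_orderOf h1 h2 hab)

theorem xp_eq_one_iff (a : ZMod (2 ^ n)) : xp n x a = 1 ↔ a = 0 := by
  rw [← xp_zero (n := n) (x := x)]
  exact d.xp_injective.eq_iff

theorem xp_pow (a : ZMod (2 ^ n)) (k : ℕ) : (xp n x a) ^ k = xp n x (k * a) := by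
  induction k with
  | zero => rw [pow_zero, Nat.cast_zero, zero_mul, xp_zero]
  | succ k ih => rw [pow_succ, ih, ← d.xp_add]; congr 1; push_cast; ring

theorem mem_zpowers_iff (g : S) : g ∈ zpowers x ↔ ∃ a, g = xp n x a := by
  have := d.finite
  constructor
  · intro hg
    obtain ⟨k, rfl⟩ := mem_powers_iff_mem_zpowers.mpr hg
    exact ⟨_, d.pow_eq_xp k⟩
  · rintro ⟨a, rfl⟩
    exact pow_mem (mem_zpowers x) _

theorem y_mul_y : y * y = 1 := by
  rw [← pow_two, ← d.hy, pow_orderOf_eq_one]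

theorem y_inv : y⁻¹ = y := inv_eq_of_mul_eq_one_left d.y_mul_y

theorem y_ne_one : y ≠ 1 := by
  intro h
  have := d.hy
  rw [h, orderOf_one] at this
  omega

/-- `y x^a y⁻¹ = x^(m a)`. -/
theorem y_conj (a : ZMod (2 ^ n)) : y * xp n x a * y⁻¹ = xp n x (mm n * a) := by
  have hne : NeZero (2 ^ n) := ⟨by positivity⟩
  have h1 : y * xp n x a * y⁻¹ = (y * x * y⁻¹) ^ a.val := by
    unfold xp
    rw [conj_pow]
  rw [h1, d.hrel, ← pow_mul, d.pow_eq_xp]
  congr 1
  unfold mm hh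
  have hle : 1 ≤ 2 ^ (n - 1) := Nat.one_le_two_pow
  push_cast [Nat.cast_sub hle]
  rw [ZMod.natCast_zmod_val]

theorem y_mul_xp (a : ZMod (2 ^ n)) : y * xp n x a = xp n x (mm n * a) * y := by
  rw [← d.y_conj, inv_mul_cancel_right]

theorem card_zpowers : Nat.card (zpowers x) = 2 ^ n := by
  rw [Nat.card_zpowers, d.hx]

theorem index_zpowers : (zpowers x).index = 2 := by
  have := d.finite
  have h1 := (zpowers x).card_mul_index
  rw [d.card_zpowers, d.hcard, pow_succ] at h1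
  exact Nat.eq_of_mul_eq_mul_left (by positivity) h1

theorem y_notMem : y ∉ zpowers x := by
  intro hy
  obtain ⟨a, ha⟩ := (d.mem_zpowers_iff y).mp hy
  have h1 : y * xp n x 1 * y⁻¹ = xp n x 1 := by
    rw [ha, ← d.xp_add, ← d.xp_neg, ← d.xp_add]
    congr 1; ring
  rw [d.y_conj, d.xp_injective.eq_iff, mul_one] at h1
  have h2 : hh n = 2 := by
    unfold mm at h1
    linear_combination h1
  exact hh_ne_two d.hn h2

/-- Normal form. -/
theorem cases (g : S) : (∃ a, g = xp n x a) ∨ (∃ a, g = xp n x a * y) := by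
  by_cases hg : g ∈ zpowers x
  · exact Or.inl ((d.mem_zpowers_iff g).mp hg)
  · right
    have h1 := (mul_mem_iff_of_index_two d.index_zpowers (a := g) (b := y)).mpr
      ⟨fun h => absurd h hg, fun h => absurd h d.y_notMem⟩
    obtain ⟨a, ha⟩ := (d.mem_zpowers_iff _).mp h1
    refine ⟨a, ?_⟩
    rw [← ha, mul_assoc, d.y_mul_y, mul_one]

theorem xpy_ne_xp (a b : ZMod (2 ^ n)) : xp n x a * y ≠ xp n x b := by
  intro h
  apply d.y_notMem
  rw [d.mem_zpowers_iff]
  refine ⟨b - a, ?_⟩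
  rw [sub_eq_neg_add, d.xp_add, d.xp_neg, ← h, inv_mul_cancel_left]

theorem xpy_injective (a b : ZMod (2 ^ n)) (h : xp n x a * y = xp n x b * y) : a = b :=
  d.xp_injective (mul_right_cancel h)

theorem xpy_mul_xp (a b : ZMod (2 ^ n)) :
    (xp n x a * y) * xp n x b = xp n x (a + mm n * b) * y := by
  rw [mul_assoc, d.y_mul_xp, ← mul_assoc, ← d.xp_add]

theorem xpy_mul_xpy (a b : ZMod (2 ^ n)) :
    (xp n x a * y) * (xp n x b * y) = xp n x (a + mm n * b) := by
  rw [← mul_assoc, d.xpy_mul_xp, mul_assoc, d.y_mul_y, mul_one]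

theorem xp_mul_xpy (a b : ZMod (2 ^ n)) :
    xp n x a * (xp n x b * y) = xp n x (a + b) * y := by
  rw [← mul_assoc, ← d.xp_add]

theorem xpy_inv (a : ZMod (2 ^ n)) : (xp n x a * y)⁻¹ = xp n x (-(mm n * a)) * y := by
  rw [inv_eq_iff_mul_eq_one, d.xpy_mul_xpy, d.xp_eq_one_iff]
  have := mm_mul_mm (n := n) (by have := d.hn; omega)
  linear_combination (-a) * this

/-- `(x^a y)^2 = x^(h a)`. -/
theorem xpy_sq (a : ZMod (2 ^ n)) : (xp n x a * y) * (xp n x a * y) = xp n x (hh n * a) := by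
  rw [d.xpy_mul_xpy]
  congr 1
  unfold mm; ring

/-- Conjugating `x^a y` by `x^c`. -/
theorem xp_conj_xpy (a c : ZMod (2 ^ n)) :
    xp n x c * (xp n x a * y) * (xp n x c)⁻¹ = xp n x (a + (1 - mm n) * c) * y := by
  rw [← d.xp_neg, d.xp_mul_xpy, d.xpy_mul_xp]
  congr 2
  ring

/-- Conjugating `x^a y` by `y`. -/
theorem y_conj_xpy (a : ZMod (2 ^ n)) :
    y * (xp n x a * y) * y⁻¹ = xp n x (mm n * a) * y := by
  rw [mul_assoc, mul_assoc, mul_inv_cancel, mul_one, d.y_mul_xp]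

/-- All `x^a y` with `a` of a fixed parity are conjugate. -/
theorem isConj_xpy (a b : ZMod (2 ^ n)) :
    IsConj (xp n x a * y) (xp n x (a + 2 * b) * y) := by
  rw [isConj_iff]
  refine ⟨xp n x ((1 + qq n) * b), ?_⟩
  rw [d.xp_conj_xpy]
  congr 2
  have := one_sub_mm_mul d.hn
  linear_combination b * this

/-- `x^a` and `x^(m a)` are conjugate. -/
theorem isConj_xp (a : ZMod (2 ^ n)) : IsConj (xp n x a) (xp n x (mm n * a)) := by
  rw [isConj_iff]
  exact ⟨y, d.y_conj a⟩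

/-- The subgroup `⟨x⟩` is normal: conjugates of `x^a` are powers of `x`. -/
theorem conj_xp (g : S) (a : ZMod (2 ^ n)) : ∃ b, g * xp n x a * g⁻¹ = xp n x b := by
  rcases d.cases g with ⟨c, rfl⟩ | ⟨c, rfl⟩
  · refine ⟨a, ?_⟩
    rw [← d.xp_neg, ← d.xp_add, ← d.xp_add]
    congr 1; ring
  · refine ⟨mm n * a, ?_⟩
    rw [d.xpy_mul_xp, d.xpy_inv, d.xpy_mul_xpy]
    congr 1
    have := mm_mul_mm (n := n) (by have := d.hn; omega)
    linear_combination (-c) * this

theorem hn1 : 1 ≤ n := by have := d.hn; omega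
theorem hn2 : 2 ≤ n := by have := d.hn; omega

/-- The central involution. -/
theorem xp_hh_ne_one : xp n x (hh n) ≠ 1 := by
  rw [Ne, d.xp_eq_one_iff]
  exact hh_ne_zero d.hn1

theorem xp_hh_sq : xp n x (hh n) * xp n x (hh n) = 1 := by
  rw [← d.xp_add, d.xp_eq_one_iff, ← two_mul, two_hh d.hn1]

theorem orderOf_xp_hh : orderOf (xp n x (hh n)) = 2 := by
  have : Fact (Nat.Prime 2) := ⟨Nat.prime_two⟩
  apply orderOf_eq_prime
  · rw [pow_two]; exact d.xp_hh_sq
  · exact d.xp_hh_ne_one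

/-- `x^h` is central. -/
theorem xp_hh_comm (g : S) : g * xp n x (hh n) = xp n x (hh n) * g := by
  rcases d.cases g with ⟨c, rfl⟩ | ⟨c, rfl⟩
  · rw [← d.xp_add, ← d.xp_add, add_comm]
  · rw [d.xpy_mul_xp, d.xp_mul_xpy]
    congr 2
    have h1 := hh_mul_hh d.hn2
    have h2 := two_hh (n := n) d.hn1
    unfold mm
    linear_combination h1 - h2

/-- Characterization of involutions. -/
theorem orderOf_eq_two_iff (g : S) :
    orderOf g = 2 ↔ g = xp n x (hh n) ∨ ∃ b, g = xp n x (2 * b) * y := by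
  have : Fact (Nat.Prime 2) := ⟨Nat.prime_two⟩
  constructor
  · intro hg
    have hsq : g * g = 1 := by rw [← pow_two, ← hg, pow_orderOf_eq_one]
    have hne : g ≠ 1 := by
      intro h; rw [h, orderOf_one] at hg; omega
    rcases d.cases g with ⟨a, rfl⟩ | ⟨a, rfl⟩
    · left
      rw [← d.xp_add, d.xp_eq_one_iff, ← two_mul] at hsq
      rcases two_torsion d.hn1 a hsq with h | h
      · rw [h, xp_zero] at hne; exact absurd rfl hne
      · rw [h]
    · right
      rw [d.xpy_sq, d.xp_eq_one_iff] at hsq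
      rcases even_or_odd a with ⟨b, rfl⟩ | ⟨b, rfl⟩
      · exact ⟨b, rfl⟩
      · rw [hh_mul_odd d.hn1] at hsq
        exact absurd hsq (hh_ne_zero d.hn1)
  · rintro (rfl | ⟨b, rfl⟩)
    · exact d.orderOf_xp_hh
    · apply orderOf_eq_prime
      · rw [pow_two, d.xpy_sq, hh_mul_even d.hn1, xp_zero]
      · intro h
        exact d.xpy_ne_xp (2 * b) 0 (by rw [h, xp_zero])

/-- `4 a = 0` iff `a ∈ {0, h, q, -q}`. -/
theorem four_torsion (a : ZMod (2 ^ n)) (h4 : 2 * (2 * a) = 0) :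
    a = 0 ∨ a = hh n ∨ a = qq n ∨ a = -qq n := by
  rcases two_torsion d.hn1 _ h4 with h | h
  · rcases two_torsion d.hn1 _ h with h' | h'
    · exact Or.inl h'
    · exact Or.inr (Or.inl h')
  · have h' : 2 * (a - qq n) = 0 := by
      rw [hh_eq d.hn2] at h
      linear_combination h
    rcases two_torsion d.hn1 _ h' with h'' | h''
    · right; right; left
      linear_combination h''
    · right; right; right
      have h1 := hh_eq (n := n) d.hn2
      have h2 := two_hh (n := n) d.hn1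
      linear_combination h'' - h1 + h2

theorem two_qq_ne_zero : 2 * qq n ≠ 0 := by
  rw [← hh_eq d.hn2]; exact hh_ne_zero d.hn1

omit d in
theorem orderOf_eq_four_iff' (g : S) : orderOf g = 4 ↔ (g * g ≠ 1 ∧ (g * g) * (g * g) = 1) := by
  have : Fact (Nat.Prime 2) := ⟨Nat.prime_two⟩
  have e : g ^ 4 = (g * g) * (g * g) := by rw [← pow_two, ← pow_two, ← pow_mul]
  constructor
  · intro hg
    constructor
    · intro h
      have := orderOf_dvd_of_pow_eq_one (x := g) (n := 2) (by rw [pow_two]; exact h)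
      rw [hg] at this
      exact absurd this (by decide)
    · have := pow_orderOf_eq_one g
      rw [hg] at this
      rw [← e, this]
  · rintro ⟨h1, h2⟩
    have : orderOf g = 2 ^ (1 + 1) := by
      apply orderOf_eq_prime_pow
      · rw [pow_one, pow_two]; exact h1
      · rw [← h2, ← e]; norm_num
    rw [this]; norm_num

/-- Characterization of elements of order 4. -/
theorem orderOf_eq_four_iff (g : S) :
    orderOf g = 4 ↔ g = xp n x (qq n) ∨ g = xp n x (-qq n) ∨ ∃ b, g = xp n x (2 * b + 1) * y := by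
  rw [orderOf_eq_four_iff']
  constructor
  · rintro ⟨h1, h2⟩
    rcases d.cases g with ⟨a, rfl⟩ | ⟨a, rfl⟩
    · rw [← d.xp_add, ← d.xp_add, d.xp_eq_one_iff] at h2
      rw [← d.xp_add, Ne, d.xp_eq_one_iff] at h1
      have h4 : 2 * (2 * a) = 0 := by linear_combination h2
      rcases d.four_torsion a h4 with h | h | h | h
      · rw [h] at h1; exact absurd (by ring) h1
      · rw [h, ← two_mul, two_hh d.hn1] at h1; exact absurd rfl h1
      · exact Or.inl (by rw [h])
      · exact Or.inr (Or.inl (by rw [h]))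
    · right; right
      rcases even_or_odd a with ⟨b, rfl⟩ | ⟨b, rfl⟩
      · rw [d.xpy_sq, hh_mul_even d.hn1, xp_zero] at h1
        exact absurd rfl h1
      · exact ⟨b, rfl⟩
  · rintro (rfl | rfl | ⟨b, rfl⟩)
    · rw [← d.xp_add, ← d.xp_add, Ne, d.xp_eq_one_iff, d.xp_eq_one_iff]
      refine ⟨?_, ?_⟩
      · rw [← two_mul]; exact d.two_qq_ne_zero
      · have h1 := hh_eq (n := n) d.hn2
        have h2 := two_hh (n := n) d.hn1
        linear_combination h2 - 2 * h1
    · rw [← d.xp_add, ← d.xp_add, Ne, d.xp_eq_one_iff, d.xp_eq_one_iff]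
      refine ⟨?_, ?_⟩
      · intro h
        apply d.two_qq_ne_zero
        linear_combination (-1 : ZMod (2 ^ n)) * h
      · have h1 := hh_eq (n := n) d.hn2
        have h2 := two_hh (n := n) d.hn1
        linear_combination 2 * h1 - h2
    · rw [d.xpy_sq, hh_mul_odd d.hn1]
      exact ⟨d.xp_hh_ne_one, d.xp_hh_sq⟩

theorem conj_xp' (g : S) (a : ZMod (2 ^ n)) :
    g * xp n x a * g⁻¹ = xp n x a ∨ g * xp n x a * g⁻¹ = xp n x (mm n * a) := by
  rcases d.cases g with ⟨c, rfl⟩ | ⟨c, rfl⟩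
  · left
    rw [← d.xp_neg, ← d.xp_add, ← d.xp_add]
    congr 1; ring
  · right
    rw [d.xpy_mul_xp, d.xpy_inv, d.xpy_mul_xpy]
    congr 1
    have := mm_mul_mm (n := n) d.hn2
    linear_combination (-c) * this

/-- Membership in `⟨x²⟩`. -/
theorem mem_zpowers_sq_iff (g : S) : g ∈ zpowers (xp n x 2) ↔ ∃ b, g = xp n x (2 * b) := by
  have := d.finite
  constructor
  · intro hg
    obtain ⟨k, rfl⟩ := mem_powers_iff_mem_zpowers.mpr hg
    refine ⟨(k : ZMod (2 ^ n)), ?_⟩
    show (xp n x 2) ^ k = _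
    rw [d.xp_pow, mul_comm]
  · rintro ⟨b, rfl⟩
    have hne : NeZero (2 ^ n) := ⟨by positivity⟩
    have : xp n x (2 * b) = (xp n x 2) ^ b.val := by
      rw [d.xp_pow, ZMod.natCast_zmod_val, mul_comm]
    rw [this]
    exact pow_mem (mem_zpowers _) _

/-- Squares lie in `⟨x²⟩`. -/
theorem sq_mem (g : S) : g * g ∈ zpowers (xp n x 2) := by
  rw [d.mem_zpowers_sq_iff]
  rcases d.cases g with ⟨a, rfl⟩ | ⟨a, rfl⟩
  · exact ⟨a, by rw [← d.xp_add, two_mul]⟩
  · refine ⟨qq n * a, ?_⟩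
    rw [d.xpy_sq, hh_eq d.hn2, mul_assoc]

theorem normal_zpowers_sq : (zpowers (xp n x 2)).Normal := by
  constructor
  intro k hk g
  obtain ⟨b, rfl⟩ := (d.mem_zpowers_sq_iff k).mp hk
  rw [d.mem_zpowers_sq_iff]
  rcases d.conj_xp' g (2 * b) with h | h
  · exact ⟨b, h⟩
  · exact ⟨mm n * b, by rw [h]; congr 1; ring⟩

theorem commutator_eq : commutator S = zpowers (xp n x 2) := by
  have hnorm := d.normal_zpowers_sq
  apply le_antisymm
  · rw [_root_.commutator_def, Subgroup.commutator_le]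
    intro a _ b _
    have e : ⁅a, b⁆ = (a * b) * (a * b) * (b⁻¹ * (a⁻¹ * a⁻¹) * b⁻¹⁻¹) * (b⁻¹ * b⁻¹) := by
      rw [commutatorElement_def]; group
    rw [e]
    exact mul_mem (mul_mem (d.sq_mem _) (hnorm.conj_mem _ (d.sq_mem _) _)) (d.sq_mem _)
  · intro g hg
    obtain ⟨b, rfl⟩ := (d.mem_zpowers_sq_iff g).mp hg
    have e : xp n x (2 * b) = ⁅xp n x ((1 + qq n) * b), y⁆ := by
      rw [commutatorElement_def]
      have h1 := d.xp_conj_xpy 0 ((1 + qq n) * b)
      rw [xp_zero, one_mul] at h1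
      rw [h1, mul_assoc, mul_inv_cancel, mul_one]
      congr 1
      have := one_sub_mm_mul d.hn
      linear_combination (-b) * this
    rw [e, _root_.commutator_def]
    exact Subgroup.commutator_mem_commutator (mem_top _) (mem_top _)

theorem xp_two : xp n x 2 = x ^ 2 := by
  have := d.pow_eq_xp 2
  rw [this]; norm_num

theorem orderOf_xp_two : orderOf (xp n x 2) = 2 ^ (n - 1) := by
  have := d.finite
  rw [d.xp_two, orderOf_pow, d.hx]
  have hg : Nat.gcd (2 ^ n) 2 = 2 := by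
    apply Nat.gcd_eq_right
    exact dvd_pow_self 2 (by have := d.hn; omega)
  rw [hg]
  have : 2 ^ n = 2 * 2 ^ (n - 1) := by
    rw [← pow_succ']; congr 1; have := d.hn; omega
  rw [this, Nat.mul_div_cancel_left _ (by norm_num)]

theorem mem_center_iff' (g : S) : g ∈ center S ↔ g = 1 ∨ g = xp n x (hh n) := by
  rw [Subgroup.mem_center_iff]
  constructor
  · intro hg
    rcases d.cases g with ⟨a, rfl⟩ | ⟨a, rfl⟩
    · have h1 := hg y
      rw [d.y_mul_xp] at h1
      have h2 := d.xpy_injective _ _ h1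
      have h3 : (1 - mm n) * a = 0 := by linear_combination (-1 : ZMod (2 ^ n)) * h2
      rcases two_torsion d.hn1 a (two_mul_eq_zero_of d.hn a h3) with h | h
      · left; rw [h, xp_zero]
      · right; rw [h]
    · exfalso
      have h1 := hg (xp n x 1)
      rw [d.xp_mul_xpy, d.xpy_mul_xp] at h1
      have h2 := d.xpy_injective _ _ h1
      have h3 : hh n = 2 := by
        unfold mm at h2
        linear_combination (-1 : ZMod (2 ^ n)) * h2
      exact hh_ne_two d.hn h3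
  · rintro (rfl | rfl)
    · intro c; rw [one_mul, mul_one]
    · intro c; exact d.xp_hh_comm c

theorem card_zpowers_sq : Nat.card (zpowers (xp n x 2)) = 2 ^ (n - 1) := by
  rw [Nat.card_zpowers, d.orderOf_xp_two]

/-- `x^a` with `a` odd generates `⟨x⟩`. -/
theorem zpowers_xp_odd (b : ZMod (2 ^ n)) : zpowers (xp n x (2 * b + 1)) = zpowers x := by
  have := d.finite
  have : Fact (Nat.Prime 2) := ⟨Nat.prime_two⟩
  apply Subgroup.eq_of_le_of_card_ge
  · rw [zpowers_le]
    exact (d.mem_zpowers_iff _).mpr ⟨_, rfl⟩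
  · rw [d.card_zpowers, Nat.card_zpowers]
    have hnn : n = (n - 1) + 1 := by have := d.hn; omega
    have : orderOf (xp n x (2 * b + 1)) = 2 ^ ((n - 1) + 1) := by
      apply orderOf_eq_prime_pow
      · rw [d.xp_pow, d.xp_eq_one_iff]
        have : ((2 ^ (n - 1) : ℕ) : ZMod (2 ^ n)) = hh n := rfl
        rw [this, hh_mul_odd d.hn1]
        exact hh_ne_zero d.hn1
      · rw [← hnn, d.xp_pow, d.xp_eq_one_iff, ZMod.natCast_self, zero_mul]
    rw [this, ← hnn]

/-- A subgroup of `⟨x⟩` different from `⟨x⟩` lies in `⟨x²⟩`. -/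
theorem le_zpowers_sq {N : Subgroup S} (hN : N ≤ zpowers x) (hne : N ≠ zpowers x) :
    N ≤ zpowers (xp n x 2) := by
  intro g hg
  obtain ⟨a, rfl⟩ := (d.mem_zpowers_iff g).mp (hN hg)
  rw [d.mem_zpowers_sq_iff]
  rcases even_or_odd a with ⟨b, rfl⟩ | ⟨b, rfl⟩
  · exact ⟨b, rfl⟩
  · exfalso
    apply hne
    apply le_antisymm hN
    rw [← d.zpowers_xp_odd b, zpowers_le]
    exact hg

/-- A normal subgroup not contained in `⟨x⟩` contains `⟨x²⟩`. -/
theorem zpowers_sq_le {N : Subgroup S} [hnorm : N.Normal] (hN : ¬ N ≤ zpowers x) :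
    zpowers (xp n x 2) ≤ N := by
  obtain ⟨g, hg, hgx⟩ := SetLike.not_le_iff_exists.mp hN
  rcases d.cases g with ⟨a, rfl⟩ | ⟨a, rfl⟩
  · exact absurd ((d.mem_zpowers_iff _).mpr ⟨a, rfl⟩) hgx
  · intro k hk
    obtain ⟨b, rfl⟩ := (d.mem_zpowers_sq_iff k).mp hk
    have h1 : xp n x (a + 2 * b) * y ∈ N := by
      have := hnorm.conj_mem _ hg (xp n x ((1 + qq n) * b))
      rw [d.xp_conj_xpy] at this
      have e : a + (1 - mm n) * ((1 + qq n) * b) = a + 2 * b := by
        have := one_sub_mm_mul d.hn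
        linear_combination b * this
      rwa [e] at this
    have h2 := mul_mem h1 (inv_mem hg)
    rw [d.xpy_inv, d.xpy_mul_xpy] at h2
    have e : a + 2 * b + mm n * -(mm n * a) = 2 * b := by
      have := mm_mul_mm (n := n) d.hn2
      linear_combination (-a) * this
    rwa [e] at h2

end Gens

end group

end Cfsg.Agent.Lib.H5.SD
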