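import Mathlib
import Cfsg.Agent.Lib.H5.QuasiDihedral
import Cfsg.Agent.Lib.H5.KleinSylow

/-!
# Klein four subgroups of a quasi-dihedral group
-/

set_option autoImplicit false

namespace Cfsg.Agent.Lib.H5.SD

open Subgroup

variable {S : Type*} [Group S] {n : ℕ} {x y : S}

/-- In a finite group, a conjugation mapping `K` into `L` with `|L| ≤ |K|` maps `K` onto `L`. -/
theorem map_conj_eq_of_forall_mem [Finite S] (K L : Subgroup S) (g : S)
    (h : ∀ k ∈ K, g * k * g⁻¹ ∈ L) (hcard : Nat.card L ≤ Nat.card K) :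
    K.map (MulAut.conj g).toMonoidHom = L := by
  apply Subgroup.eq_of_le_of_card_ge
  · rintro _ ⟨k, hk, rfl⟩
    exact h k hk
  · rw [Subgroup.card_map_of_injective (MulAut.conj g).injective]
    exact hcard

section ring

theorem one_sub_mm_mul_eq_zero_iff (hn : 3 ≤ n) (c : ZMod (2 ^ n)) :
    (1 - mm n) * c = 0 ↔ c = 0 ∨ c = hh n := by
  constructor
  · intro h
    exact two_torsion (by omega) c (two_mul_eq_zero_of hn c h)
  · rintro (rfl | rfl)
    · ring
    · have h1 := two_hh (n := n) (by omega)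
      have h2 := hh_mul_hh (n := n) (by omega)
      unfold mm
      linear_combination h1 - h2

theorem one_sub_mm_mul_eq_iff (hn : 3 ≤ n) (c e : ZMod (2 ^ n)) :
    (1 - mm n) * c = 2 * e ↔ c = (1 + qq n) * e ∨ c = (1 + qq n) * e + hh n := by
  have h1 := one_sub_mm_mul hn
  have h2 := one_sub_mm_mul_eq_zero_iff hn (c - (1 + qq n) * e)
  have h3 : (1 - mm n) * (c - (1 + qq n) * e) = (1 - mm n) * c - 2 * e := by
    linear_combination (-e) * h1
  rw [h3] at h2
  constructor
  · intro h
    rcases h2.mp (by rw [h]; ring) with h4 | h4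
    · left; linear_combination h4
    · right; linear_combination h4
  · rintro (h | h)
    · have := h2.mpr (Or.inl (by rw [h]; ring))
      linear_combination this
    · have := h2.mpr (Or.inr (by rw [h]; ring))
      linear_combination this

end ring

namespace Gens

variable (d : Gens S n x y)
include d

/-- Conjugating `x^a y` by an arbitrary element. -/
theorem conj_xpy (g : S) (a : ZMod (2 ^ n)) :
    ∃ c, g * (xp n x a * y) * g⁻¹ = xp n x (a + (1 - mm n) * c) * y ∧
      (g = xp n x c ∨ g = xp n x c * (xp n x a * y)) := by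
  rcases d.cases g with ⟨c, rfl⟩ | ⟨c, rfl⟩
  · exact ⟨c, d.xp_conj_xpy a c, Or.inl rfl⟩
  · refine ⟨c - a, ?_, Or.inr ?_⟩
    · rw [d.xpy_mul_xpy, d.xpy_inv, d.xp_mul_xpy]
      congr 2
      ring
    · rw [d.xp_mul_xpy]
      congr 2
      ring

/-- A Klein four subgroup contains the central involution and a non-central one. -/
theorem klein_struct (T : Subgroup S) (hT : IsKleinFour T) :
    xp n x (hh n) ∈ T ∧ ∃ b, xp n x (2 * b) * y ∈ T := by
  obtain ⟨a, b, ha, hb, ha1, hb1, hab⟩ := K4.exists_gens hT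
  have hoa := (d.orderOf_eq_two_iff a).mp (K4.orderOf_mem hT ha ha1)
  have hob := (d.orderOf_eq_two_iff b).mp (K4.orderOf_mem hT hb hb1)
  rcases hoa with rfl | ⟨a', rfl⟩
  · rcases hob with rfl | ⟨b', rfl⟩
    · exact absurd rfl hab
    · exact ⟨ha, b', hb⟩
  · refine ⟨?_, a', ha⟩
    rcases hob with rfl | ⟨b', rfl⟩
    · exact hb
    · have hmem : (xp n x (2 * a') * y) * (xp n x (2 * b') * y) ∈ T := T.mul_mem ha hb
      have hne : (xp n x (2 * a') * y) * (xp n x (2 * b') * y) ≠ 1 := by
        intro h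
        apply hab
        have h1 := eq_inv_of_mul_eq_one_left h
        rw [K4.mem_inv hT hb] at h1
        exact h1
      have ho := (d.orderOf_eq_two_iff _).mp (K4.orderOf_mem hT hmem hne)
      rw [d.xpy_mul_xpy] at ho hmem
      rcases ho with h | ⟨c, hc⟩
      · rw [h] at hmem; exact hmem
      · exact absurd hc.symm (d.xpy_ne_xp _ _)

theorem xp_hh_ne_xpy (a : ZMod (2 ^ n)) : xp n x (hh n) ≠ xp n x a * y :=
  fun h => d.xpy_ne_xp _ _ h.symm

/-- `z * (x^a y) = x^(a+h) y`. -/
theorem xp_hh_mul_xpy (a : ZMod (2 ^ n)) :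
    xp n x (hh n) * (xp n x a * y) = xp n x (a + hh n) * y := by
  rw [d.xp_mul_xpy, add_comm]

/-- Membership in a Klein four subgroup. -/
theorem mem_klein_iff (T : Subgroup S) (hT : IsKleinFour T) (b : ZMod (2 ^ n))
    (ht : xp n x (2 * b) * y ∈ T) (g : S) :
    g ∈ T ↔ g = 1 ∨ g = xp n x (hh n) ∨ g = xp n x (2 * b) * y ∨
      g = xp n x (2 * b + hh n) * y := by
  have hz := (d.klein_struct T hT).1
  constructor
  · intro hg
    have := K4.mem_cases hT hz ht hg d.xp_hh_ne_one
      (fun h => d.xpy_ne_xp (2 * b) 0 (by rw [h, xp_zero])) (d.xp_hh_ne_xpy _)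
    rw [d.xp_hh_mul_xpy] at this
    exact this
  · rintro (rfl | rfl | rfl | rfl)
    · exact T.one_mem
    · exact hz
    · exact ht
    · rw [← d.xp_hh_mul_xpy]
      exact T.mul_mem hz ht

/-- The centralizer of a non-central involution `t` is `{1, z, t, zt}`. -/
theorem commute_xpy_even (b : ZMod (2 ^ n)) (g : S)
    (hg : g * (xp n x (2 * b) * y) = (xp n x (2 * b) * y) * g) :
    g = 1 ∨ g = xp n x (hh n) ∨ g = xp n x (2 * b) * y ∨ g = xp n x (2 * b + hh n) * y := by
  obtain ⟨c, hc, hgc⟩ := d.conj_xpy g (2 * b)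
  rw [hg, mul_inv_cancel_right] at hc
  have hc' : (1 - mm n) * c = 0 := by
    have := d.xpy_injective _ _ hc
    linear_combination -this
  rcases (one_sub_mm_mul_eq_zero_iff d.hn c).mp hc' with rfl | rfl
  · rw [xp_zero, one_mul] at hgc
    rcases hgc with h | h
    · exact Or.inl h
    · exact Or.inr (Or.inr (Or.inl h))
  · rcases hgc with h | h
    · exact Or.inr (Or.inl h)
    · rw [d.xp_hh_mul_xpy] at h
      exact Or.inr (Or.inr (Or.inr h))

theorem klein_conj [Finite S] (T₁ T₂ : Subgroup S) (h₁ : IsKleinFour T₁) (h₂ : IsKleinFour T₂) :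
    ∃ s : S, T₁.map (MulAut.conj s).toMonoidHom = T₂ := by
  obtain ⟨hz₁, b₁, ht₁⟩ := d.klein_struct T₁ h₁
  obtain ⟨hz₂, b₂, ht₂⟩ := d.klein_struct T₂ h₂
  refine ⟨xp n x ((1 + qq n) * (b₂ - b₁)), ?_⟩
  apply map_conj_eq_of_forall_mem
  · intro k hk
    have hconj : ∀ a, xp n x ((1 + qq n) * (b₂ - b₁)) * (xp n x (2 * b₁ + a) * y) *
        (xp n x ((1 + qq n) * (b₂ - b₁)))⁻¹ = xp n x (2 * b₂ + a) * y := by
      intro a
      rw [d.xp_conj_xpy]
      congr 2
      have := one_sub_mm_mul d.hn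
      linear_combination (b₂ - b₁) * this
    rcases (d.mem_klein_iff T₁ h₁ b₁ ht₁ k).mp hk with rfl | rfl | rfl | rfl
    · rw [mul_one, mul_inv_cancel]; exact T₂.one_mem
    · rw [d.xp_hh_comm, mul_inv_cancel_right]; exact hz₂
    · have := hconj 0
      rw [add_zero, add_zero] at this
      rw [this]; exact ht₂
    · rw [hconj]
      exact (d.mem_klein_iff T₂ h₂ b₂ ht₂ _).mpr (Or.inr (Or.inr (Or.inr rfl)))
  · rw [h₁.card_four, h₂.card_four]

/-- Klein four subgroups are self-centralizing. -/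
theorem klein_centralizer (T : Subgroup S) (hT : IsKleinFour T) :
    centralizer (T : Set S) = T := by
  obtain ⟨hz, b, ht⟩ := d.klein_struct T hT
  apply le_antisymm
  · intro g hg
    have h1 := (mem_centralizer_iff.mp hg) _ ht
    exact (d.mem_klein_iff T hT b ht g).mpr (d.commute_xpy_even b g h1.symm)
  · intro g hg
    rw [mem_centralizer_iff]
    intro k hk
    exact K4.mem_comm hT hk hg

/-- Conjugation by `x^c` with `(1 - m) c = h` swaps `t` and `zt`. -/
theorem klein_conj_mem (T : Subgroup S) (hT : IsKleinFour T) (c : ZMod (2 ^ n))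
    (hc : (1 - mm n) * c = hh n) (k : S) (hk : k ∈ T) : xp n x c * k * (xp n x c)⁻¹ ∈ T := by
  obtain ⟨hz, b, ht⟩ := d.klein_struct T hT
  have h2 := two_hh (n := n) d.hn1
  rcases (d.mem_klein_iff T hT b ht k).mp hk with rfl | rfl | rfl | rfl
  · rw [mul_one, mul_inv_cancel]; exact T.one_mem
  · rw [d.xp_hh_comm, mul_inv_cancel_right]; exact hz
  · rw [d.xp_conj_xpy, hc]
    exact (d.mem_klein_iff T hT b ht _).mpr (Or.inr (Or.inr (Or.inr rfl)))
  · rw [d.xp_conj_xpy, hc]
    have : 2 * b + hh n + hh n = 2 * b := by linear_combination h2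
    rw [this]
    exact ht

theorem klein_relIndex [Finite S] (T : Subgroup S) (hT : IsKleinFour T) :
    T.relIndex (normalizer (T : Set S)) = 2 := by
  obtain ⟨hz, b, ht⟩ := d.klein_struct T hT
  have h1 := hh_eq (n := n) d.hn2
  have h2 := two_hh (n := n) d.hn1
  have h3 := one_sub_mm_mul d.hn
  set c : ZMod (2 ^ n) := -((1 + qq n) * qq n) with hcdef
  have hc : (1 - mm n) * c = hh n := by
    rw [hcdef]
    linear_combination (-qq n) * h3 + h1 - h2
  rw [relIndex_eq_two_iff_exists_notMem_and']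
  have hcN : xp n x c ∈ normalizer (T : Set S) := by
    rw [mem_normalizer_iff_map_conj_eq]
    apply map_conj_eq_of_forall_mem
    · exact d.klein_conj_mem T hT c hc
    · exact le_refl _
  have hcT : xp n x c ∉ T := by
    intro hmem
    have hcomm := K4.mem_comm hT hmem ht
    have := d.xp_conj_xpy (2 * b) c
    rw [hcomm, mul_inv_cancel_right, hc] at this
    have h4 := d.xpy_injective _ _ this
    apply hh_ne_zero (n := n) d.hn1
    linear_combination -h4
  refine ⟨xp n x c, hcN, hcT, ?_⟩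
  intro g hg
  -- `g` normalizes `T`, so `g t g⁻¹ ∈ {t, zt}`
  have hgt : g * (xp n x (2 * b) * y) * g⁻¹ ∈ T := by
    have := (mem_normalizer_iff.mp hg (xp n x (2 * b) * y)).mp ht
    exact this
  obtain ⟨e, he, hge⟩ := d.conj_xpy g (2 * b)
  rw [he] at hgt
  have hcases : (1 - mm n) * e = 0 ∨ (1 - mm n) * e = hh n := by
    rcases (d.mem_klein_iff T hT b ht _).mp hgt with h | h | h | h
    · exact absurd h (fun h' => d.xpy_ne_xp _ 0 (by rw [h', xp_zero]))
    · exact absurd h.symm (d.xp_hh_ne_xpy _)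
    · left
      have := d.xpy_injective _ _ h
      linear_combination this
    · right
      have := d.xpy_injective _ _ h
      linear_combination this
  have hmemT : ∀ e' : ZMod (2 ^ n), (1 - mm n) * e' = 0 →
      xp n x e' ∈ T ∧ xp n x e' * (xp n x (2 * b) * y) ∈ T := by
    intro e' he'
    rcases (one_sub_mm_mul_eq_zero_iff d.hn e').mp he' with rfl | rfl
    · rw [xp_zero, one_mul]; exact ⟨T.one_mem, ht⟩
    · exact ⟨hz, T.mul_mem hz ht⟩
  rcases hcases with h0 | h0
  · right
    rcases hge with rfl | rfl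
    · exact (hmemT e h0).1
    · exact (hmemT e h0).2
  · left
    have h0' : (1 - mm n) * (c + e) = 0 := by
      linear_combination hc + h0 + h2
    rcases hge with rfl | rfl
    · rw [← d.xp_add]
      exact (hmemT _ h0').1
    · rw [← mul_assoc, ← d.xp_add]
      exact (hmemT _ h0').2

end Gens

end Cfsg.Agent.Lib.H5.SD
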