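import Mathlib
import Cfsg.Prelude.Def_CaseTheorems
import Cfsg.Agent.Lib.H5.QuasiDihedral

/-!
# Wreathed 2-groups `Z_{2^n} ≀ Z_2`: normal form toolkit
-/

set_option autoImplicit false

namespace Cfsg.Agent.Lib.H5.Wr

open Subgroup Cfsg.Agent.Lib.H5.SD

variable {S : Type*} [Group S]

/-- Wreathed generators. -/
structure Gens (S : Type*) [Group S] (n : ℕ) (x y z : S) : Prop where
  hn : 2 ≤ n
  hcard : Nat.card S = 2 ^ (2 * n + 1)
  hx : orderOf x = 2 ^ n
  hcomm : x * y = y * x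
  hdisj : zpowers x ⊓ zpowers y = ⊥
  hz : orderOf z = 2
  hrel : z * x * z⁻¹ = y

theorem exists_gens (hS : Cfsg.IsWreathed S) : ∃ (n : ℕ) (x y z : S), Gens S n x y z := by
  obtain ⟨n, hn, hc, x, y, z, hx, hxy, hd, hz, hrel⟩ := hS
  exact ⟨n, x, y, z, hn, hc, hx, hxy, hd, hz, hrel⟩

variable {n : ℕ} {x y z : S}

/-- `x ^ a * y ^ b` for `a b : ZMod (2 ^ n)`. -/
def wp (n : ℕ) (x y : S) (a b : ZMod (2 ^ n)) : S := x ^ a.val * y ^ b.val

namespace Gens

variable (d : Gens S n x y z)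
include d

theorem finite : Finite S := Nat.finite_of_card_ne_zero (by rw [d.hcard]; positivity)

theorem z_mul_z : z * z = 1 := by
  rw [← pow_two, ← d.hz, pow_orderOf_eq_one]

theorem z_inv : z⁻¹ = z := inv_eq_of_mul_eq_one_left d.z_mul_z

theorem z_ne_one : z ≠ 1 := by
  intro h
  have := d.hz
  rw [h, orderOf_one] at this
  omega

theorem hy : orderOf y = 2 ^ n := by
  rw [← d.hrel, ← d.hx]
  have := MulEquiv.orderOf_eq (MulAut.conj z) x
  rw [MulAut.conj_apply] at this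
  exact this

theorem hrel' : z * y * z⁻¹ = x := by
  rw [← d.hrel, d.z_inv]
  simp only [mul_assoc]
  rw [d.z_mul_z, mul_one, ← mul_assoc, d.z_mul_z, one_mul]

theorem pow_x (a : ZMod (2 ^ n)) (k : ℕ) (hk : (k : ZMod (2 ^ n)) = a) : x ^ k = x ^ a.val := by
  rw [← hk, ZMod.val_natCast, ← pow_mod_orderOf x k, d.hx]

theorem pow_y (a : ZMod (2 ^ n)) (k : ℕ) (hk : (k : ZMod (2 ^ n)) = a) : y ^ k = y ^ a.val := by
  rw [← hk, ZMod.val_natCast, ← pow_mod_orderOf y k, d.hy]

theorem wp_add (a b c e : ZMod (2 ^ n)) :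
    wp n x y (a + c) (b + e) = wp n x y a b * wp n x y c e := by
  have hne : NeZero (2 ^ n) := ⟨by positivity⟩
  unfold wp
  have h1 : x ^ (a + c).val = x ^ a.val * x ^ c.val := by
    rw [← pow_add, d.pow_x (a + c) (a.val + c.val) (by push_cast; rw [ZMod.natCast_rightInverse a, ZMod.natCast_rightInverse c])]
  have h2 : y ^ (b + e).val = y ^ b.val * y ^ e.val := by
    rw [← pow_add, d.pow_y (b + e) (b.val + e.val) (by push_cast; rw [ZMod.natCast_rightInverse b, ZMod.natCast_rightInverse e])]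
  rw [h1, h2]
  have hc : Commute (y ^ b.val) (x ^ c.val) :=
    (Commute.pow_pow (show Commute y x from d.hcomm.symm) _ _)
  calc x ^ a.val * x ^ c.val * (y ^ b.val * y ^ e.val)
      = x ^ a.val * (x ^ c.val * y ^ b.val) * y ^ e.val := by simp only [mul_assoc]
    _ = x ^ a.val * (y ^ b.val * x ^ c.val) * y ^ e.val := by rw [hc.eq]
    _ = x ^ a.val * y ^ b.val * (x ^ c.val * y ^ e.val) := by simp only [mul_assoc]

omit d in
theorem wp_zero : wp n x y 0 0 = 1 := by
  unfold wp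
  rw [ZMod.val_zero, pow_zero, pow_zero, one_mul]

theorem wp_neg (a b : ZMod (2 ^ n)) : wp n x y (-a) (-b) = (wp n x y a b)⁻¹ := by
  rw [eq_inv_iff_mul_eq_one, ← d.wp_add, neg_add_cancel, neg_add_cancel, wp_zero]

theorem wp_one_zero : wp n x y 1 0 = x := by
  unfold wp
  rw [ZMod.val_zero, pow_zero, mul_one]
  have := d.pow_x 1 1 (by simp)
  rw [pow_one] at this
  exact this.symm

theorem wp_zero_one : wp n x y 0 1 = y := by
  unfold wp
  rw [ZMod.val_zero, pow_zero, one_mul]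
  have := d.pow_y 1 1 (by simp)
  rw [pow_one] at this
  exact this.symm

theorem wp_injective (a b c e : ZMod (2 ^ n)) (h : wp n x y a b = wp n x y c e) :
    a = c ∧ b = e := by
  have hne : NeZero (2 ^ n) := ⟨by positivity⟩
  have h1 : wp n x y (a - c) (b - e) = 1 := by
    rw [sub_eq_add_neg, sub_eq_add_neg, d.wp_add, d.wp_neg, h, mul_inv_cancel]
  unfold wp at h1
  have h2 : x ^ (a - c).val = (y ^ (b - e).val)⁻¹ := eq_inv_of_mul_eq_one_left h1
  have h3 : x ^ (a - c).val ∈ zpowers x ⊓ zpowers y := by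
    refine ⟨pow_mem (mem_zpowers x) _, ?_⟩
    rw [h2]
    exact (zpowers y).inv_mem (pow_mem (mem_zpowers y) _)
  rw [d.hdisj, mem_bot] at h3
  have h4 : y ^ (b - e).val = 1 := by
    rw [h3] at h2
    exact inv_eq_one.mp h2.symm
  have h5 : (a - c).val = 0 := by
    have := orderOf_dvd_of_pow_eq_one h3
    rw [d.hx] at this
    exact Nat.eq_zero_of_dvd_of_lt this (ZMod.val_lt _)
  have h6 : (b - e).val = 0 := by
    have := orderOf_dvd_of_pow_eq_one h4
    rw [d.hy] at this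
    exact Nat.eq_zero_of_dvd_of_lt this (ZMod.val_lt _)
  rw [ZMod.val_eq_zero] at h5 h6
  exact ⟨sub_eq_zero.mp h5, sub_eq_zero.mp h6⟩

theorem wp_eq_one_iff (a b : ZMod (2 ^ n)) : wp n x y a b = 1 ↔ a = 0 ∧ b = 0 := by
  rw [← wp_zero (n := n) (x := x) (y := y)]
  constructor
  · exact d.wp_injective a b 0 0
  · rintro ⟨rfl, rfl⟩; rfl

theorem wp_comm (a b c e : ZMod (2 ^ n)) :
    wp n x y a b * wp n x y c e = wp n x y c e * wp n x y a b := by
  rw [← d.wp_add, ← d.wp_add, add_comm a c, add_comm b e]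

/-- `z x^a y^b z⁻¹ = x^b y^a`. -/
theorem z_conj (a b : ZMod (2 ^ n)) : z * wp n x y a b * z⁻¹ = wp n x y b a := by
  unfold wp
  have h1 : z * (x ^ a.val * y ^ b.val) * z⁻¹ = (z * x * z⁻¹) ^ a.val * (z * y * z⁻¹) ^ b.val := by
    rw [conj_pow, conj_pow]; group
  rw [h1, d.hrel, d.hrel']
  exact (Commute.pow_pow (show Commute y x from d.hcomm.symm) _ _).eq

theorem z_mul_wp (a b : ZMod (2 ^ n)) : z * wp n x y a b = wp n x y b a * z := by
  rw [← d.z_conj a b, inv_mul_cancel_right]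

/-- The abelian subgroup `⟨x⟩⟨y⟩`. -/
def base : Subgroup S where
  carrier := {g | ∃ a b, g = wp n x y a b}
  mul_mem' := by
    rintro _ _ ⟨a, b, rfl⟩ ⟨c, e, rfl⟩
    exact ⟨a + c, b + e, (d.wp_add a b c e).symm⟩
  one_mem' := ⟨0, 0, wp_zero.symm⟩
  inv_mem' := by
    rintro _ ⟨a, b, rfl⟩
    exact ⟨-a, -b, (d.wp_neg a b).symm⟩

theorem mem_base (g : S) : g ∈ d.base ↔ ∃ a b, g = wp n x y a b := Iff.rfl

theorem wp_mem_base (a b : ZMod (2 ^ n)) : wp n x y a b ∈ d.base := ⟨a, b, rfl⟩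

/-- The isomorphism `Z_{2^n} × Z_{2^n} ≃ base`. -/
noncomputable def baseEquiv : Multiplicative (ZMod (2 ^ n) × ZMod (2 ^ n)) ≃* d.base :=
  MulEquiv.ofBijective
    ({ toFun := fun p => ⟨wp n x y (Multiplicative.toAdd p).1 (Multiplicative.toAdd p).2,
        d.wp_mem_base _ _⟩
       map_one' := by
        apply Subtype.ext
        show wp n x y 0 0 = 1
        exact wp_zero
       map_mul' := by
        intro p q
        apply Subtype.ext
        exact d.wp_add _ _ _ _ } : Multiplicative (ZMod (2 ^ n) × ZMod (2 ^ n)) →* d.base)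
    (by
      constructor
      · intro p q h
        have h1 := congrArg Subtype.val h
        have h2 := d.wp_injective _ _ _ _ h1
        have : Multiplicative.toAdd p = Multiplicative.toAdd q := Prod.ext h2.1 h2.2
        exact this
      · rintro ⟨g, a, b, rfl⟩
        exact ⟨Multiplicative.ofAdd (a, b), rfl⟩)

theorem card_base : Nat.card d.base = 2 ^ (2 * n) := by
  have hne : NeZero (2 ^ n) := ⟨by positivity⟩
  rw [← Nat.card_congr d.baseEquiv.toEquiv]
  show Nat.card (ZMod (2 ^ n) × ZMod (2 ^ n)) = _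
  rw [Nat.card_prod, Nat.card_zmod, ← pow_add, two_mul]

theorem index_base : d.base.index = 2 := by
  have h1 := d.base.card_mul_index
  rw [d.card_base, d.hcard, pow_succ] at h1
  exact Nat.eq_of_mul_eq_mul_left (by positivity) h1

theorem x_ne_y : x ≠ y := by
  intro h
  have h1 : x ∈ zpowers x ⊓ zpowers y := ⟨mem_zpowers x, by rw [← h]; exact mem_zpowers x⟩
  rw [d.hdisj, mem_bot] at h1
  have := d.hx
  rw [h1, orderOf_one] at this
  have h2 : 2 ^ 0 = 2 ^ n := by rw [pow_zero]; exact this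
  have := Nat.pow_right_injective (le_refl 2) h2
  have := d.hn
  omega

theorem z_notMem : z ∉ d.base := by
  rintro ⟨a, b, hab⟩
  apply d.x_ne_y
  have h1 := d.z_conj 1 0
  rw [hab, d.wp_comm a b 1 0, mul_inv_cancel_right, d.wp_one_zero, d.wp_zero_one] at h1
  exact h1

/-- Normal form. -/
theorem cases (g : S) : (∃ a b, g = wp n x y a b) ∨ (∃ a b, g = wp n x y a b * z) := by
  by_cases hg : g ∈ d.base
  · exact Or.inl hg
  · right
    have h1 := (mul_mem_iff_of_index_two d.index_base (a := g) (b := z)).mpr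
      ⟨fun h => absurd h hg, fun h => absurd h d.z_notMem⟩
    obtain ⟨a, b, hab⟩ := h1
    refine ⟨a, b, ?_⟩
    rw [← hab, mul_assoc, d.z_mul_z, mul_one]

theorem wpz_ne_wp (a b c e : ZMod (2 ^ n)) : wp n x y a b * z ≠ wp n x y c e := by
  intro h
  apply d.z_notMem
  refine ⟨c - a, e - b, ?_⟩
  rw [sub_eq_neg_add, sub_eq_neg_add, d.wp_add, d.wp_neg, ← h, inv_mul_cancel_left]

theorem wpz_injective (a b c e : ZMod (2 ^ n)) (h : wp n x y a b * z = wp n x y c e * z) :
    a = c ∧ b = e :=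
  d.wp_injective _ _ _ _ (mul_right_cancel h)

theorem wpz_mul_wp (a b c e : ZMod (2 ^ n)) :
    (wp n x y a b * z) * wp n x y c e = wp n x y (a + e) (b + c) * z := by
  rw [mul_assoc, d.z_mul_wp, ← mul_assoc, ← d.wp_add]

theorem wpz_mul_wpz (a b c e : ZMod (2 ^ n)) :
    (wp n x y a b * z) * (wp n x y c e * z) = wp n x y (a + e) (b + c) := by
  rw [← mul_assoc, d.wpz_mul_wp, mul_assoc, d.z_mul_z, mul_one]

theorem wp_mul_wpz (a b c e : ZMod (2 ^ n)) :
    wp n x y a b * (wp n x y c e * z) = wp n x y (a + c) (b + e) * z := by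
  rw [← mul_assoc, ← d.wp_add]

theorem wpz_inv (a b : ZMod (2 ^ n)) : (wp n x y a b * z)⁻¹ = wp n x y (-b) (-a) * z := by
  rw [inv_eq_iff_mul_eq_one, d.wpz_mul_wpz, d.wp_eq_one_iff]
  constructor <;> ring

/-- `(x^a y^b z)^2 = (xy)^(a+b)`. -/
theorem wpz_sq (a b : ZMod (2 ^ n)) :
    (wp n x y a b * z) * (wp n x y a b * z) = wp n x y (a + b) (a + b) := by
  rw [d.wpz_mul_wpz, add_comm b a]

/-- Conjugating `x^a y^b z` by `x^c y^e`. -/
theorem wp_conj_wpz (a b c e : ZMod (2 ^ n)) :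
    wp n x y c e * (wp n x y a b * z) * (wp n x y c e)⁻¹
      = wp n x y (a + (c - e)) (b - (c - e)) * z := by
  rw [← d.wp_neg, d.wp_mul_wpz, d.wpz_mul_wp]
  congr 2 <;> ring

/-- Conjugating `x^a y^b z` by `z`. -/
theorem z_conj_wpz (a b : ZMod (2 ^ n)) :
    z * (wp n x y a b * z) * z⁻¹ = wp n x y b a * z := by
  rw [mul_assoc, mul_assoc, mul_inv_cancel, mul_one, d.z_mul_wp]

/-- Conjugating `x^a y^b` by an arbitrary element. -/
theorem conj_wp (g : S) (a b : ZMod (2 ^ n)) :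
    g * wp n x y a b * g⁻¹ = wp n x y a b ∨ g * wp n x y a b * g⁻¹ = wp n x y b a := by
  rcases d.cases g with ⟨c, e, rfl⟩ | ⟨c, e, rfl⟩
  · left
    rw [d.wp_comm, mul_inv_cancel_right]
  · right
    rw [d.wpz_mul_wp, d.wpz_inv, d.wpz_mul_wpz]
    congr 1 <;> ring

theorem hn1 : 1 ≤ n := by have := d.hn; omega

end Gens

end Cfsg.Agent.Lib.H5.Wr
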