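import Mathlib
import Cfsg.Agent.Lib.H5.Wreathed

/-!
# Wreathed 2-groups: involutions, centre, commutator subgroup
-/

set_option autoImplicit false

namespace Cfsg.Agent.Lib.H5.Wr

open Subgroup Cfsg.Agent.Lib.H5.SD

variable {S : Type*} [Group S] {n : ℕ} {x y z : S}

namespace Gens

variable (d : Gens S n x y z)
include d

theorem wp_sq (a b : ZMod (2 ^ n)) :
    wp n x y a b * wp n x y a b = wp n x y (2 * a) (2 * b) := by
  rw [← d.wp_add, two_mul, two_mul]

/-- Characterization of involutions. -/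
theorem orderOf_eq_two_iff (g : S) :
    orderOf g = 2 ↔ (g = wp n x y (hh n) 0 ∨ g = wp n x y 0 (hh n) ∨ g = wp n x y (hh n) (hh n)) ∨
      ∃ a, g = wp n x y a (-a) * z := by
  have : Fact (Nat.Prime 2) := ⟨Nat.prime_two⟩
  have hh0 := hh_ne_zero (n := n) d.hn1
  have h2h := two_hh (n := n) d.hn1
  constructor
  · intro hg
    have hsq : g * g = 1 := by rw [← pow_two, ← hg, pow_orderOf_eq_one]
    have hne : g ≠ 1 := by
      intro h; rw [h, orderOf_one] at hg; omega
    rcases d.cases g with ⟨a, b, rfl⟩ | ⟨a, b, rfl⟩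
    · left
      rw [d.wp_sq, d.wp_eq_one_iff] at hsq
      rcases two_torsion d.hn1 a hsq.1 with rfl | rfl
      · rcases two_torsion d.hn1 b hsq.2 with rfl | rfl
        · exact absurd wp_zero hne
        · exact Or.inr (Or.inl rfl)
      · rcases two_torsion d.hn1 b hsq.2 with rfl | rfl
        · exact Or.inl rfl
        · exact Or.inr (Or.inr rfl)
    · right
      rw [d.wpz_sq, d.wp_eq_one_iff] at hsq
      refine ⟨a, ?_⟩
      have : b = -a := by linear_combination hsq.1
      rw [this]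
  · have hb : ∀ a b : ZMod (2 ^ n), 2 * a = 0 → 2 * b = 0 → (a ≠ 0 ∨ b ≠ 0) →
        orderOf (wp n x y a b) = 2 := by
      intro a b ha hb hab
      apply orderOf_eq_prime
      · rw [pow_two, d.wp_sq, ha, hb, wp_zero]
      · rw [Ne, d.wp_eq_one_iff]
        rintro ⟨h1, h2⟩
        rcases hab with h | h
        · exact h h1
        · exact h h2
    rintro ((rfl | rfl | rfl) | ⟨a, rfl⟩)
    · exact hb _ _ h2h (by ring) (Or.inl hh0)
    · exact hb _ _ (by ring) h2h (Or.inr hh0)
    · exact hb _ _ h2h h2h (Or.inl hh0)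
    · apply orderOf_eq_prime
      · rw [pow_two, d.wpz_sq, add_neg_cancel, wp_zero]
      · intro h
        exact d.wpz_ne_wp a (-a) 0 0 (by rw [h, wp_zero])

theorem isConj_wp_swap (a b : ZMod (2 ^ n)) : IsConj (wp n x y a b) (wp n x y b a) := by
  rw [isConj_iff]
  exact ⟨z, d.z_conj a b⟩

/-- All involutions outside the base group are conjugate to `z`. -/
theorem isConj_z (a : ZMod (2 ^ n)) : IsConj z (wp n x y a (-a) * z) := by
  rw [isConj_iff]
  refine ⟨wp n x y a 0, ?_⟩
  have := d.wp_conj_wpz 0 0 a 0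
  rw [wp_zero, one_mul] at this
  rw [this]
  congr 2 <;> ring

theorem isConj_wp_iff (a b : ZMod (2 ^ n)) (g : S) :
    IsConj (wp n x y a b) g ↔ g = wp n x y a b ∨ g = wp n x y b a := by
  constructor
  · intro h
    rw [isConj_iff] at h
    obtain ⟨c, hc⟩ := h
    rcases d.conj_wp c a b with h1 | h1
    · left; rw [← hc, h1]
    · right; rw [← hc, h1]
  · rintro (rfl | rfl)
    · exact IsConj.refl _
    · exact d.isConj_wp_swap a b

/-- The classes of involutions. -/
theorem involution_classes :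
    {C : ConjClasses S | ∃ t : S, orderOf t = 2 ∧ ConjClasses.mk t = C} =
      {ConjClasses.mk (wp n x y (hh n) 0), ConjClasses.mk (wp n x y (hh n) (hh n)),
        ConjClasses.mk z} := by
  ext C
  simp only [Set.mem_setOf_eq, Set.mem_insert_iff, Set.mem_singleton_iff]
  constructor
  · rintro ⟨t, ht, rfl⟩
    rcases (d.orderOf_eq_two_iff t).mp ht with (rfl | rfl | rfl) | ⟨a, rfl⟩
    · left; rfl
    · left
      rw [ConjClasses.mk_eq_mk_iff_isConj]
      exact d.isConj_wp_swap _ _
    · right; left; rfl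
    · right; right
      rw [ConjClasses.mk_eq_mk_iff_isConj]
      exact (d.isConj_z a).symm
  · have hh0 := hh_ne_zero (n := n) d.hn1
    rintro (rfl | rfl | rfl)
    · exact ⟨_, (d.orderOf_eq_two_iff _).mpr (Or.inl (Or.inl rfl)), rfl⟩
    · exact ⟨_, (d.orderOf_eq_two_iff _).mpr (Or.inl (Or.inr (Or.inr rfl))), rfl⟩
    · exact ⟨_, d.hz, rfl⟩

theorem card_involution_classes :
    Nat.card {C : ConjClasses S // ∃ t : S, orderOf t = 2 ∧ ConjClasses.mk t = C} = 3 := by
  show Nat.card ↥{C : ConjClasses S | ∃ t : S, orderOf t = 2 ∧ ConjClasses.mk t = C} = 3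
  have hh0 := hh_ne_zero (n := n) d.hn1
  rw [Nat.card_coe_set_eq, Set.ncard_eq_three]
  refine ⟨_, _, _, ?_, ?_, ?_, d.involution_classes⟩
  · rw [Ne, ConjClasses.mk_eq_mk_iff_isConj, d.isConj_wp_iff]
    rintro (h | h)
    · exact hh0 (d.wp_injective _ _ _ _ h).2
    · exact hh0 (d.wp_injective _ _ _ _ h).1
  · rw [Ne, ConjClasses.mk_eq_mk_iff_isConj, d.isConj_wp_iff]
    have hz : z = wp n x y 0 0 * z := by rw [wp_zero, one_mul]
    rintro (h | h)
    · rw [hz] at h; exact d.wpz_ne_wp _ _ _ _ h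
    · rw [hz] at h; exact d.wpz_ne_wp _ _ _ _ h
  · rw [Ne, ConjClasses.mk_eq_mk_iff_isConj, d.isConj_wp_iff]
    have hz : z = wp n x y 0 0 * z := by rw [wp_zero, one_mul]
    rintro (h | h)
    · rw [hz] at h; exact d.wpz_ne_wp _ _ _ _ h
    · rw [hz] at h; exact d.wpz_ne_wp _ _ _ _ h

end Gens

end Cfsg.Agent.Lib.H5.Wr
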