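import Mathlib
import Cfsg.Agent.Lib.H5.WreathedInv
import Cfsg.Agent.Lib.H22.DihQuatRecog

/-!
# Wreathed 2-groups: centre, commutator subgroup, central quotient
-/

set_option autoImplicit false

namespace Cfsg.Agent.Lib.H5.Wr

open Subgroup Cfsg.Agent.Lib.H5.SD
open scoped commutatorElement

variable {S : Type*} [Group S] {n : ℕ} {x y z : S}

namespace Gens

variable (d : Gens S n x y z)
include d

theorem wp_pow (a b : ZMod (2 ^ n)) (k : ℕ) :
    (wp n x y a b) ^ k = wp n x y (k * a) (k * b) := by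
  induction k with
  | zero => rw [pow_zero, Nat.cast_zero, zero_mul, zero_mul, wp_zero]
  | succ k ih =>
    rw [pow_succ, ih, ← d.wp_add]
    congr 1 <;> (push_cast; ring)

theorem wp_eq_pow (a b : ZMod (2 ^ n)) (c : ZMod (2 ^ n)) :
    wp n x y (c * a) (c * b) = (wp n x y a b) ^ c.val := by
  have : NeZero (2 ^ n) := ⟨by positivity⟩
  rw [d.wp_pow, ZMod.natCast_val, ZMod.cast_id', id]

theorem orderOf_wp_one (b : ZMod (2 ^ n)) : orderOf (wp n x y 1 b) = 2 ^ n := by
  have : Fact (Nat.Prime 2) := ⟨Nat.prime_two⟩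
  have hn1 := d.hn1
  have e : n = (n - 1) + 1 := by omega
  have h1 : ((2 ^ (n - 1) : ℕ) : ZMod (2 ^ n)) = hh n := rfl
  have key : orderOf (wp n x y 1 b) = 2 ^ ((n - 1) + 1) := by
    apply orderOf_eq_prime_pow
    · rw [d.wp_pow, d.wp_eq_one_iff, h1, mul_one]
      rintro ⟨h, -⟩
      exact hh_ne_zero hn1 h
    · rw [← e, d.wp_pow, d.wp_eq_one_iff]
      have : ((2 ^ n : ℕ) : ZMod (2 ^ n)) = 0 := ZMod.natCast_self _
      rw [this]
      constructor <;> ring
  rw [key, ← e]

theorem mem_center_iff' (g : S) : g ∈ center S ↔ ∃ a, g = wp n x y a a := by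
  rw [Subgroup.mem_center_iff]
  constructor
  · intro hg
    rcases d.cases g with ⟨a, b, rfl⟩ | ⟨a, b, rfl⟩
    · have h1 := hg z
      rw [d.z_mul_wp] at h1
      have h2 := d.wpz_injective _ _ _ _ h1
      exact ⟨a, by rw [← h2.1]⟩
    · exfalso
      have h1 := hg (wp n x y 1 0)
      rw [d.wp_mul_wpz, d.wpz_mul_wp] at h1
      have h2 := (d.wpz_injective _ _ _ _ h1).1
      have h3 : (1 : ZMod (2 ^ n)) = 0 := by linear_combination h2
      have : Fact (1 < 2 ^ n) := ⟨Nat.one_lt_two_pow (by have := d.hn; omega)⟩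
      exact one_ne_zero h3
  · rintro ⟨a, rfl⟩ c
    rcases d.cases c with ⟨c, e, rfl⟩ | ⟨c, e, rfl⟩
    · exact d.wp_comm _ _ _ _
    · rw [d.wpz_mul_wp, d.wp_mul_wpz]
      congr 2 <;> ring

theorem center_eq : center S = zpowers (wp n x y 1 1) := by
  ext g
  rw [d.mem_center_iff']
  constructor
  · rintro ⟨a, rfl⟩
    have := d.wp_eq_pow 1 1 a
    rw [mul_one] at this
    rw [this]
    exact pow_mem (mem_zpowers _) _
  · intro hg
    have := d.finite
    obtain ⟨k, hk⟩ := mem_powers_iff_mem_zpowers.mpr hg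
    refine ⟨k, ?_⟩
    rw [← hk]
    show wp n x y 1 1 ^ k = _
    rw [d.wp_pow, mul_one]

theorem card_center : Nat.card (center S) = 2 ^ n := by
  rw [d.center_eq, Nat.card_zpowers, d.orderOf_wp_one]

/-- The subgroup `{x^a y^(-a)}`. -/
theorem mem_zpowers_anti_iff (g : S) :
    g ∈ zpowers (wp n x y 1 (-1)) ↔ ∃ a, g = wp n x y a (-a) := by
  constructor
  · intro hg
    have := d.finite
    obtain ⟨k, hk⟩ := mem_powers_iff_mem_zpowers.mpr hg
    refine ⟨k, ?_⟩
    rw [← hk]
    show wp n x y 1 (-1) ^ k = _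
    rw [d.wp_pow, mul_one, mul_neg, mul_one]
  · rintro ⟨a, rfl⟩
    have := d.wp_eq_pow 1 (-1) a
    rw [mul_one, mul_neg, mul_one] at this
    rw [this]
    exact pow_mem (mem_zpowers _) _

theorem commutator_mem (g k : S) : ⁅g, k⁆ ∈ zpowers (wp n x y 1 (-1)) := by
  have key : ∀ (a b c e : ZMod (2 ^ n)),
      ⁅wp n x y a b, wp n x y c e * z⁆ ∈ zpowers (wp n x y 1 (-1)) := by
    intro a b c e
    rw [d.mem_zpowers_anti_iff, commutatorElement_def, d.wp_conj_wpz, d.wpz_inv, d.wpz_mul_wpz]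
    exact ⟨a - b, by congr 1 <;> ring⟩
  rcases d.cases g with ⟨a, b, rfl⟩ | ⟨a, b, rfl⟩
  · rcases d.cases k with ⟨c, e, rfl⟩ | ⟨c, e, rfl⟩
    · rw [commutatorElement_def, d.wp_comm a b c e, mul_inv_cancel_right, mul_inv_cancel]
      exact one_mem _
    · exact key a b c e
  · rcases d.cases k with ⟨c, e, rfl⟩ | ⟨c, e, rfl⟩
    · rw [← commutatorElement_inv]
      exact inv_mem (key c e a b)
    · rw [d.mem_zpowers_anti_iff, commutatorElement_def, d.wpz_mul_wpz, mul_assoc, ← mul_inv_rev,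
        d.wpz_mul_wpz, ← d.wp_neg, ← d.wp_add]
      exact ⟨a + e - c - b, by congr 1 <;> ring⟩

theorem commutator_eq : commutator S = zpowers (wp n x y 1 (-1)) := by
  apply le_antisymm
  · rw [_root_.commutator_def, Subgroup.commutator_le]
    intro a _ b _
    exact d.commutator_mem a b
  · rw [zpowers_le]
    have e : wp n x y 1 (-1) = ⁅z, wp n x y 0 1⁆ := by
      rw [commutatorElement_def, d.z_conj, ← d.wp_neg, ← d.wp_add]
      congr 1 <;> ring
    rw [e, _root_.commutator_def]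
    exact Subgroup.commutator_mem_commutator (mem_top _) (mem_top _)

theorem card_commutator : Nat.card (commutator S) = 2 ^ n := by
  rw [d.commutator_eq, Nat.card_zpowers, d.orderOf_wp_one]

theorem closure_eq_top : closure ({x, z} : Set S) = ⊤ := by
  rw [eq_top_iff]
  intro g _
  have hx : x ∈ closure ({x, z} : Set S) := subset_closure (by simp)
  have hz : z ∈ closure ({x, z} : Set S) := subset_closure (by simp)
  have hy : y ∈ closure ({x, z} : Set S) := by
    rw [← d.hrel]
    exact mul_mem (mul_mem hz hx) (inv_mem hz)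
  have hw : ∀ a b, wp n x y a b ∈ closure ({x, z} : Set S) := by
    intro a b
    exact mul_mem (pow_mem hx _) (pow_mem hy _)
  rcases d.cases g with ⟨a, b, rfl⟩ | ⟨a, b, rfl⟩
  · exact hw a b
  · exact mul_mem (hw a b) hz

theorem quotient_center_equiv [Finite S] :
    Nonempty (S ⧸ center S ≃* DihedralGroup (2 ^ n)) := by
  have hne : NeZero (2 ^ n) := ⟨by positivity⟩
  apply Cfsg.Agent.Lib.H22.dihedral_equiv_of_gens (2 ^ n)
    (QuotientGroup.mk x : S ⧸ center S) (QuotientGroup.mk z)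
  · rw [← QuotientGroup.mk_pow, ← d.hx, pow_orderOf_eq_one]
    rfl
  · rw [← QuotientGroup.mk_mul, d.z_mul_z]
    rfl
  · rw [← QuotientGroup.mk_inv, ← QuotientGroup.mk_inv, ← QuotientGroup.mk_mul,
      ← QuotientGroup.mk_mul, d.hrel, QuotientGroup.eq, d.mem_center_iff']
    refine ⟨-1, ?_⟩
    have hxy : wp n x y 1 1 = x * y := by
      have := d.wp_add 1 0 0 1
      rw [add_zero, zero_add, d.wp_one_zero, d.wp_zero_one] at this
      exact this
    rw [d.wp_neg, hxy, mul_inv_rev]
  · have h1 : ({(QuotientGroup.mk x : S ⧸ center S), QuotientGroup.mk z} : Set (S ⧸ center S))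
        = (QuotientGroup.mk' (center S)) '' ({x, z} : Set S) := by
      rw [Set.image_pair]
      rfl
    rw [h1, ← MonoidHom.map_closure, d.closure_eq_top, ← MonoidHom.range_eq_map,
      MonoidHom.range_eq_top]
    exact QuotientGroup.mk'_surjective _
  · have h1 := Subgroup.card_eq_card_quotient_mul_card_subgroup (center S)
    rw [d.card_center, d.hcard] at h1
    have h2 : 2 ^ (2 * n + 1) = (2 * 2 ^ n) * 2 ^ n := by
      rw [pow_succ, two_mul, pow_add]; ring
    rw [h2] at h1
    exact (Nat.eq_of_mul_eq_mul_right (by positivity) h1).symm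

end Gens

end Cfsg.Agent.Lib.H5.Wr
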