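import Mathlib
import Cfsg.Agent.Lib.H5.WreathedCenter
import Cfsg.Agent.Lib.H5.KleinPair
import Cfsg.Agent.Lib.H5.QuasiDihedralKlein

/-!
# Wreathed 2-groups: Klein four subgroups
-/

set_option autoImplicit false

namespace Cfsg.Agent.Lib.H5.Wr

open Subgroup Cfsg.Agent.Lib.H5.SD

variable {S : Type*} [Group S] {n : ℕ} {x y z : S}

namespace Gens

variable (d : Gens S n x y z)
include d

/-- `x^a y^b z` commutes with `x^c y^e` iff `c = e`. -/
theorem commute_wpz_wp_iff (a b c e : ZMod (2 ^ n)) :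
    (wp n x y a b * z) * wp n x y c e = wp n x y c e * (wp n x y a b * z) ↔ c = e := by
  rw [d.wpz_mul_wp, d.wp_mul_wpz]
  constructor
  · intro h
    have h2 := (d.wpz_injective _ _ _ _ h).1
    linear_combination -h2
  · rintro rfl
    congr 2 <;> ring

theorem wp_hh_hh_central (g : S) :
    g * wp n x y (hh n) (hh n) = wp n x y (hh n) (hh n) * g :=
  (mem_center_iff.mp ((d.mem_center_iff' _).mpr ⟨hh n, rfl⟩) g)

theorem wp_hh_hh_sq : wp n x y (hh n) (hh n) * wp n x y (hh n) (hh n) = 1 := by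
  rw [d.wp_sq, two_hh d.hn1, wp_zero]

theorem wp_hh_hh_ne_one : wp n x y (hh n) (hh n) ≠ 1 := by
  rw [Ne, d.wp_eq_one_iff]
  rintro ⟨h, -⟩
  exact hh_ne_zero d.hn1 h

/-- `Ω₁` of the base group. -/
def omegaBase : Subgroup S where
  carrier := {g | ∃ a b, 2 * a = 0 ∧ 2 * b = 0 ∧ g = wp n x y a b}
  one_mem' := ⟨0, 0, by ring, by ring, wp_zero.symm⟩
  mul_mem' := by
    rintro _ _ ⟨a, b, ha, hb, rfl⟩ ⟨c, e, hc, he, rfl⟩
    exact ⟨a + c, b + e, by linear_combination ha + hc, by linear_combination hb + he,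
      (d.wp_add _ _ _ _).symm⟩
  inv_mem' := by
    rintro _ ⟨a, b, ha, hb, rfl⟩
    exact ⟨-a, -b, by linear_combination -ha, by linear_combination -hb, (d.wp_neg _ _).symm⟩

theorem mem_omegaBase (g : S) :
    g ∈ d.omegaBase ↔ ∃ a b, 2 * a = 0 ∧ 2 * b = 0 ∧ g = wp n x y a b := Iff.rfl

theorem normal_omegaBase : d.omegaBase.Normal := by
  constructor
  rintro _ ⟨a, b, ha, hb, rfl⟩ g
  rcases d.conj_wp g a b with h | h
  · exact ⟨a, b, ha, hb, h⟩
  · exact ⟨b, a, hb, ha, h⟩

theorem isKleinFour_omegaBase : IsKleinFour d.omegaBase := by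
  have hh0 := hh_ne_zero (n := n) d.hn1
  apply KP.isKleinFour_of_card_sq
  · show Nat.card ↥({g | ∃ a b, 2 * a = 0 ∧ 2 * b = 0 ∧ g = wp n x y a b} : Set S) = 4
    rw [Nat.card_coe_set_eq]
    have : ({g | ∃ a b, 2 * a = 0 ∧ 2 * b = 0 ∧ g = wp n x y a b} : Set S) =
        {wp n x y 0 0, wp n x y (hh n) 0, wp n x y 0 (hh n), wp n x y (hh n) (hh n)} := by
      ext g
      simp only [Set.mem_setOf_eq, Set.mem_insert_iff, Set.mem_singleton_iff]
      constructor
      · rintro ⟨a, b, ha, hb, rfl⟩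
        rcases two_torsion d.hn1 a ha with rfl | rfl <;>
          rcases two_torsion d.hn1 b hb with rfl | rfl <;> simp
      · have h2 := two_hh (n := n) d.hn1
        rintro (rfl | rfl | rfl | rfl)
        · exact ⟨0, 0, by ring, by ring, rfl⟩
        · exact ⟨hh n, 0, h2, by ring, rfl⟩
        · exact ⟨0, hh n, by ring, h2, rfl⟩
        · exact ⟨hh n, hh n, h2, h2, rfl⟩
    rw [this]
    apply KP.ncard_four
    · intro h; exact hh0 (d.wp_injective _ _ _ _ h).1.symm
    · intro h; exact hh0 (d.wp_injective _ _ _ _ h).2.symm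
    · intro h; exact hh0 (d.wp_injective _ _ _ _ h).1.symm
    · intro h; exact hh0 (d.wp_injective _ _ _ _ h).1
    · intro h; exact hh0 (d.wp_injective _ _ _ _ h).2.symm
    · intro h; exact hh0 (d.wp_injective _ _ _ _ h).1.symm
  · rintro ⟨g, a, b, ha, hb, rfl⟩
    apply Subtype.ext
    show wp n x y a b * wp n x y a b = 1
    rw [d.wp_sq, ha, hb, wp_zero]

/-- A Klein four subgroup other than `Ω₁(base)` contains the central involution and a
non-base involution. -/
theorem klein_struct (T : Subgroup S) (hT : IsKleinFour T) (hne : T ≠ d.omegaBase) :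
    wp n x y (hh n) (hh n) ∈ T ∧ ∃ a, wp n x y a (-a) * z ∈ T := by
  have h2 := two_hh (n := n) d.hn1
  -- an involution of the base group commuting with a non-base element is central
  have hcent : ∀ (g : S) (a : ZMod (2 ^ n)), g ∈ T → wp n x y a (-a) * z ∈ T → orderOf g = 2 →
      g ∈ d.base → g = wp n x y (hh n) (hh n) := by
    rintro g a hg ht ho ⟨c, e, rfl⟩
    have hc := (d.commute_wpz_wp_iff a (-a) c e).mp (K4.mem_comm hT ht hg)
    subst hc
    rcases (d.orderOf_eq_two_iff _).mp ho with (h | h | h) | ⟨a', h⟩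
    · have := d.wp_injective _ _ _ _ h
      exact absurd (this.1.symm.trans this.2) (hh_ne_zero d.hn1)
    · have := d.wp_injective _ _ _ _ h
      exact absurd (this.2.symm.trans this.1) (hh_ne_zero d.hn1)
    · exact h
    · exact absurd h.symm (d.wpz_ne_wp _ _ _ _)
  obtain ⟨a, b, ha, hb, ha1, hb1, hab⟩ := K4.exists_gens hT
  have hoa := K4.orderOf_mem hT ha ha1
  have hob := K4.orderOf_mem hT hb hb1
  rcases (d.orderOf_eq_two_iff a).mp hoa with ha' | ⟨a', rfl⟩
  · rcases (d.orderOf_eq_two_iff b).mp hob with hb' | ⟨b', rfl⟩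
    · -- both in the base group: `T = Ω₁(base)`
      exfalso
      apply hne
      have hmem : ∀ g, orderOf g = 2 → g ∈ d.base → g ∈ d.omegaBase := by
        rintro g ho ⟨c, e, rfl⟩
        have hsq : wp n x y c e * wp n x y c e = 1 := by
          rw [← pow_two, ← ho, pow_orderOf_eq_one]
        rw [d.wp_sq, d.wp_eq_one_iff] at hsq
        exact ⟨c, e, hsq.1, hsq.2, rfl⟩
      have haB : a ∈ d.base := by
        rcases ha' with rfl | rfl | rfl <;> exact d.wp_mem_base _ _
      have hbB : b ∈ d.base := by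
        rcases hb' with rfl | rfl | rfl <;> exact d.wp_mem_base _ _
      have haO := hmem a hoa haB
      have hbO := hmem b hob hbB
      have := d.finite
      apply Subgroup.eq_of_le_of_card_ge
      · intro g hg
        rcases K4.mem_cases hT ha hb hg ha1 hb1 hab with rfl | rfl | rfl | rfl
        · exact one_mem _
        · exact haO
        · exact hbO
        · exact mul_mem haO hbO
      · rw [hT.card_four, d.isKleinFour_omegaBase.card_four]
    · have haB : a ∈ d.base := by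
        rcases ha' with rfl | rfl | rfl <;> exact d.wp_mem_base _ _
      have := hcent a b' ha hb hoa haB
      rw [this] at ha
      exact ⟨ha, b', hb⟩
  · refine ⟨?_, a', ha⟩
    rcases (d.orderOf_eq_two_iff b).mp hob with hb' | ⟨b', rfl⟩
    · have hbB : b ∈ d.base := by
        rcases hb' with rfl | rfl | rfl <;> exact d.wp_mem_base _ _
      have := hcent b a' hb ha hob hbB
      rw [this] at hb
      exact hb
    · have hmem := T.mul_mem ha hb
      have hne1 : (wp n x y a' (-a') * z) * (wp n x y b' (-b') * z) ≠ 1 := by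
        intro h
        apply hab
        have h1 := eq_inv_of_mul_eq_one_left h
        rw [K4.mem_inv hT hb] at h1
        exact h1
      have ho := K4.orderOf_mem hT hmem hne1
      have hB : (wp n x y a' (-a') * z) * (wp n x y b' (-b') * z) ∈ d.base := by
        rw [d.wpz_mul_wpz]; exact d.wp_mem_base _ _
      have := hcent _ a' hmem ha ho hB
      rw [this] at hmem
      exact hmem

theorem wp_hh_hh_ne_wpz (a b : ZMod (2 ^ n)) : wp n x y (hh n) (hh n) ≠ wp n x y a b * z :=
  fun h => d.wpz_ne_wp _ _ _ _ h.symm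

/-- Membership in a Klein four subgroup other than `Ω₁(base)`. -/
theorem mem_klein_iff (T : Subgroup S) (hT : IsKleinFour T) (hne : T ≠ d.omegaBase)
    (a : ZMod (2 ^ n)) (ht : wp n x y a (-a) * z ∈ T) (g : S) :
    g ∈ T ↔ g = 1 ∨ g = wp n x y (hh n) (hh n) ∨ g = wp n x y a (-a) * z ∨
      g = wp n x y (hh n) (hh n) * (wp n x y a (-a) * z) := by
  have hz := (d.klein_struct T hT hne).1
  constructor
  · intro hg
    exact K4.mem_cases hT hz ht hg d.wp_hh_hh_ne_one
      (fun h => d.wpz_ne_wp a (-a) 0 0 (by rw [h, wp_zero])) (d.wp_hh_hh_ne_wpz _ _)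
  · rintro (rfl | rfl | rfl | rfl)
    · exact T.one_mem
    · exact hz
    · exact ht
    · exact T.mul_mem hz ht

theorem klein_conj [Finite S] (T₁ T₂ : Subgroup S) (h₁ : IsKleinFour T₁) (h₂ : IsKleinFour T₂)
    (hne₁ : T₁ ≠ d.omegaBase) (hne₂ : T₂ ≠ d.omegaBase) :
    ∃ s : S, T₁.map (MulAut.conj s).toMonoidHom = T₂ := by
  obtain ⟨hz₁, a₁, ht₁⟩ := d.klein_struct T₁ h₁ hne₁
  obtain ⟨hz₂, a₂, ht₂⟩ := d.klein_struct T₂ h₂ hne₂
  refine ⟨wp n x y (a₂ - a₁) 0, ?_⟩
  apply map_conj_eq_of_forall_mem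
  · intro k hk
    have hconj : wp n x y (a₂ - a₁) 0 * (wp n x y a₁ (-a₁) * z) * (wp n x y (a₂ - a₁) 0)⁻¹
        = wp n x y a₂ (-a₂) * z := by
      rw [d.wp_conj_wpz]
      congr 2 <;> ring
    rcases (d.mem_klein_iff T₁ h₁ hne₁ a₁ ht₁ k).mp hk with rfl | rfl | rfl | rfl
    · rw [mul_one, mul_inv_cancel]; exact T₂.one_mem
    · rw [d.wp_hh_hh_central, mul_inv_cancel_right]; exact hz₂
    · rw [hconj]; exact ht₂
    · have e : wp n x y (a₂ - a₁) 0 * (wp n x y (hh n) (hh n) * (wp n x y a₁ (-a₁) * z)) *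
          (wp n x y (a₂ - a₁) 0)⁻¹ = wp n x y (hh n) (hh n) *
            (wp n x y (a₂ - a₁) 0 * (wp n x y a₁ (-a₁) * z) * (wp n x y (a₂ - a₁) 0)⁻¹) := by
        rw [← mul_assoc (wp n x y (a₂ - a₁) 0), d.wp_hh_hh_central (wp n x y (a₂ - a₁) 0)]
        simp only [mul_assoc]
      rw [e, hconj]
      exact T₂.mul_mem hz₂ ht₂
  · rw [h₁.card_four, h₂.card_four]

/-- A Klein four subgroup containing `z`. -/
theorem exists_klein_z : ∃ T₀ : Subgroup S, IsKleinFour T₀ ∧ z ∈ T₀ := by
  refine ⟨KP.kleinPair (wp n x y (hh n) (hh n)) z d.wp_hh_hh_sq d.z_mul_z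
    (d.wp_hh_hh_central z).symm, ?_, ?_⟩
  · apply KP.isKleinFour_kleinPair _ _ _ d.wp_hh_hh_ne_one d.z_ne_one
    have hz : z = wp n x y 0 0 * z := by rw [wp_zero, one_mul]
    intro h
    rw [hz] at h
    exact d.wpz_ne_wp _ _ _ _ h.symm
  · exact Or.inr (Or.inr (Or.inl rfl))

end Gens

end Cfsg.Agent.Lib.H5.Wr
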