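import Mathlib
import Cfsg.Agent.Lib.H5.WreathedKlein

/-!
# Wreathed 2-groups: the subgroup generated by the involutions
-/

set_option autoImplicit false

namespace Cfsg.Agent.Lib.H5.Wr

open Subgroup Cfsg.Agent.Lib.H5.SD

variable {S : Type*} [Group S] {n : ℕ} {x y z : S}

/-- If `H ≤ K` has relative index two then `|K| = 2 |H|`. -/
theorem card_of_relIndex_two {G : Type*} [Group G] {H K : Subgroup G} (hHK : H ≤ K)
    (h : H.relIndex K = 2) : Nat.card K = 2 * Nat.card H := by
  have h1 := (H.subgroupOf K).card_mul_index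
  rw [← Subgroup.relIndex, h, Nat.card_congr (Subgroup.subgroupOfEquivOfLe hHK).toEquiv] at h1
  omega

namespace Gens

variable (d : Gens S n x y z)
include d

/-- The subgroup of elements `x^a y^b z^ε` with `2 (a + b) = 0`. -/
def omegaSub : Subgroup S where
  carrier := {g | ∃ a b, 2 * (a + b) = 0 ∧ (g = wp n x y a b ∨ g = wp n x y a b * z)}
  one_mem' := ⟨0, 0, by ring, Or.inl wp_zero.symm⟩
  mul_mem' := by
    rintro _ _ ⟨a, b, hab, rfl | rfl⟩ ⟨c, e, hce, rfl | rfl⟩
    · exact ⟨a + c, b + e, by linear_combination hab + hce, Or.inl (d.wp_add _ _ _ _).symm⟩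
    · exact ⟨a + c, b + e, by linear_combination hab + hce, Or.inr (d.wp_mul_wpz _ _ _ _)⟩
    · exact ⟨a + e, b + c, by linear_combination hab + hce, Or.inr (d.wpz_mul_wp _ _ _ _)⟩
    · exact ⟨a + e, b + c, by linear_combination hab + hce, Or.inl (d.wpz_mul_wpz _ _ _ _)⟩
  inv_mem' := by
    rintro _ ⟨a, b, hab, rfl | rfl⟩
    · exact ⟨-a, -b, by linear_combination -hab, Or.inl (d.wp_neg _ _).symm⟩
    · exact ⟨-b, -a, by linear_combination -hab, Or.inr (d.wpz_inv _ _)⟩

theorem wp_mem_omegaSub (a b : ZMod (2 ^ n)) :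
    wp n x y a b ∈ d.omegaSub ↔ 2 * (a + b) = 0 := by
  constructor
  · rintro ⟨c, e, hce, h | h⟩
    · obtain ⟨rfl, rfl⟩ := d.wp_injective _ _ _ _ h
      exact hce
    · exact absurd h.symm (d.wpz_ne_wp _ _ _ _)
  · intro h
    exact ⟨a, b, h, Or.inl rfl⟩

theorem z_mem_omegaSub : z ∈ d.omegaSub :=
  ⟨0, 0, by ring, Or.inr (by rw [wp_zero, one_mul])⟩

theorem wpz_mem_omegaSub (a b : ZMod (2 ^ n)) :
    wp n x y a b * z ∈ d.omegaSub ↔ 2 * (a + b) = 0 := by
  constructor
  · rintro ⟨c, e, hce, h | h⟩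
    · exact absurd h (d.wpz_ne_wp _ _ _ _)
    · obtain ⟨rfl, rfl⟩ := d.wpz_injective _ _ _ _ h
      exact hce
  · intro h
    exact ⟨a, b, h, Or.inr rfl⟩

theorem commutator_le_omegaSub : zpowers (wp n x y 1 (-1)) ≤ d.omegaSub := by
  rw [zpowers_le, d.wp_mem_omegaSub]
  ring

theorem card_omegaSub : Nat.card d.omegaSub = 2 ^ (n + 2) := by
  have h2 := two_hh (n := n) d.hn1
  have hle1 : zpowers (wp n x y 1 (-1)) ≤ d.omegaSub ⊓ d.base := by
    refine le_inf d.commutator_le_omegaSub ?_
    rw [zpowers_le]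
    exact d.wp_mem_base _ _
  have hr1 : (zpowers (wp n x y 1 (-1))).relIndex (d.omegaSub ⊓ d.base) = 2 := by
    rw [relIndex_eq_two_iff_exists_notMem_and']
    refine ⟨wp n x y 0 (hh n), ⟨(d.wp_mem_omegaSub _ _).mpr (by linear_combination h2),
      d.wp_mem_base _ _⟩, ?_, ?_⟩
    · rw [d.mem_zpowers_anti_iff]
      rintro ⟨a, ha⟩
      obtain ⟨h3, h4⟩ := d.wp_injective _ _ _ _ ha
      apply hh_ne_zero (n := n) d.hn1
      rw [h4, ← h3]; ring
    · rintro _ ⟨hg, c, e, rfl⟩
      replace hg : wp n x y c e ∈ d.omegaSub := hg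
      rw [d.wp_mem_omegaSub] at hg
      rcases two_torsion d.hn1 _ hg with h | h
      · right
        rw [d.mem_zpowers_anti_iff]
        exact ⟨c, by congr 1; linear_combination h⟩
      · left
        rw [d.mem_zpowers_anti_iff, ← d.wp_add]
        exact ⟨0 + c, by congr 1; linear_combination h + h2⟩
  have hr2 : (d.omegaSub ⊓ d.base).relIndex d.omegaSub = 2 := by
    rw [relIndex_eq_two_iff_exists_notMem_and']
    refine ⟨z, d.z_mem_omegaSub, fun h => d.z_notMem h.2, ?_⟩
    intro g hg
    rcases d.cases g with ⟨c, e, rfl⟩ | ⟨c, e, rfl⟩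
    · right
      exact ⟨hg, d.wp_mem_base _ _⟩
    · left
      rw [d.wpz_mem_omegaSub] at hg
      rw [← mul_assoc, d.z_mul_wp, mul_assoc, d.z_mul_z, mul_one]
      exact ⟨(d.wp_mem_omegaSub _ _).mpr (by linear_combination hg), d.wp_mem_base _ _⟩
  have h3 := card_of_relIndex_two hle1 hr1
  have h4 := card_of_relIndex_two inf_le_left hr2
  rw [h4, h3, ← d.commutator_eq, d.card_commutator, pow_add]
  ring

/-- The subgroup generated by the involutions. -/
theorem closure_involutions : closure {g : S | orderOf g = 2} = d.omegaSub := by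
  have h2 := two_hh (n := n) d.hn1
  apply le_antisymm
  · rw [closure_le]
    intro g hg
    rcases (d.orderOf_eq_two_iff g).mp hg with (rfl | rfl | rfl) | ⟨a, rfl⟩
    · exact (d.wp_mem_omegaSub _ _).mpr (by linear_combination h2)
    · exact (d.wp_mem_omegaSub _ _).mpr (by linear_combination h2)
    · exact (d.wp_mem_omegaSub _ _).mpr (by linear_combination 2 * h2)
    · exact (d.wpz_mem_omegaSub _ _).mpr (by ring)
  · have hz : z ∈ closure {g : S | orderOf g = 2} := subset_closure d.hz
    have hanti : ∀ a, wp n x y a (-a) ∈ closure {g : S | orderOf g = 2} := by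
      intro a
      have h1 : wp n x y a (-a) * z ∈ closure {g : S | orderOf g = 2} :=
        subset_closure ((d.orderOf_eq_two_iff _).mpr (Or.inr ⟨a, rfl⟩))
      have := mul_mem h1 hz
      rw [mul_assoc, d.z_mul_z, mul_one] at this
      exact this
    have hb : ∀ a b, 2 * (a + b) = 0 → wp n x y a b ∈ closure {g : S | orderOf g = 2} := by
      intro a b hab
      rcases two_torsion d.hn1 _ hab with h | h
      · have : b = -a := by linear_combination h
        rw [this]; exact hanti a
      · have h1 : wp n x y 0 (hh n) ∈ closure {g : S | orderOf g = 2} :=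
          subset_closure ((d.orderOf_eq_two_iff _).mpr (Or.inl (Or.inr (Or.inl rfl))))
        have := mul_mem (hanti a) h1
        rw [← d.wp_add] at this
        have e : wp n x y (a + 0) (-a + hh n) = wp n x y a b := by
          congr 1
          · ring
          · linear_combination -h
        rw [e] at this
        exact this
    rintro g ⟨a, b, hab, rfl | rfl⟩
    · exact hb a b hab
    · exact mul_mem (hb a b hab) hz

theorem omegaSub_sup_zpowers : d.omegaSub ⊔ zpowers x = ⊤ := by
  rw [eq_top_iff]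
  intro g _
  have hx : x ∈ d.omegaSub ⊔ zpowers x := (le_sup_right : zpowers x ≤ _) (mem_zpowers x)
  have hb : ∀ a b, wp n x y a b ∈ d.omegaSub ⊔ zpowers x := by
    intro a b
    have h1 : wp n x y (-b) b ∈ d.omegaSub ⊔ zpowers x :=
      (le_sup_left : d.omegaSub ≤ _) ((d.wp_mem_omegaSub _ _).mpr (by ring))
    have h2 : wp n x y (a + b) 0 ∈ d.omegaSub ⊔ zpowers x := by
      unfold wp
      rw [ZMod.val_zero, pow_zero, mul_one]
      exact pow_mem hx _
    have := mul_mem h2 h1
    rw [← d.wp_add] at this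
    have e : wp n x y (a + b + -b) (0 + b) = wp n x y a b := by congr 1 <;> ring
    rw [e] at this
    exact this
  have hz : z ∈ d.omegaSub ⊔ zpowers x := (le_sup_left : d.omegaSub ≤ _) d.z_mem_omegaSub
  rcases d.cases g with ⟨a, b, rfl⟩ | ⟨a, b, rfl⟩
  · exact hb a b
  · exact mul_mem (hb a b) hz

end Gens

end Cfsg.Agent.Lib.H5.Wr
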