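import Mathlib
import Cfsg.Agent.Lib.H5.WreathedOmega

/-!
# Wreathed 2-groups: the generalized quaternion subgroup of order `2^(n+1)`
-/

set_option autoImplicit false

namespace Cfsg.Agent.Lib.H5.Wr

open Subgroup Cfsg.Agent.Lib.H5.SD

variable {S : Type*} [Group S] {n : ℕ} {x y z : S}

/-- Standard generators of a subgroup isomorphic to a generalized quaternion group. -/
theorem quat_abstract_gens {k : ℕ} [NeZero k] (Y : Subgroup S)
    (hY : Nonempty (Y ≃* QuaternionGroup k)) :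
    ∃ R T : S, R ∈ Y ∧ T ∈ Y ∧ orderOf R = 2 * k ∧ T * R * T⁻¹ = R⁻¹ ∧ T * T = R ^ k ∧
      ∀ g ∈ Y, g ∈ closure ({R, T} : Set S) := by
  obtain ⟨φ⟩ := hY
  refine ⟨(φ.symm (QuaternionGroup.a 1)).1, (φ.symm (QuaternionGroup.xa 0)).1,
    (φ.symm _).2, (φ.symm _).2, ?_, ?_, ?_, ?_⟩
  · rw [Subgroup.orderOf_coe, MulEquiv.orderOf_eq, QuaternionGroup.orderOf_a_one]
  · have h1 : (QuaternionGroup.xa 0 : QuaternionGroup k) * QuaternionGroup.a 1 *
        (QuaternionGroup.xa 0)⁻¹ = (QuaternionGroup.a 1)⁻¹ := by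
      rw [mul_inv_eq_iff_eq_mul]
      have h2 : (QuaternionGroup.a 1 : QuaternionGroup k)⁻¹ = QuaternionGroup.a (-1) := rfl
      rw [h2, QuaternionGroup.xa_mul_a, QuaternionGroup.a_mul_xa]
      congr 1
      ring
    have h3 := congrArg φ.symm h1
    rw [map_mul, map_mul, map_inv, map_inv] at h3
    exact congrArg Subtype.val h3
  · have h1 : (QuaternionGroup.xa 0 : QuaternionGroup k) * QuaternionGroup.xa 0 =
        (QuaternionGroup.a 1) ^ k := by
      rw [QuaternionGroup.xa_mul_xa, QuaternionGroup.a_one_pow]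
      congr 1
      ring
    have h3 := congrArg φ.symm h1
    rw [map_mul, map_pow] at h3
    exact congrArg Subtype.val h3
  · intro g hg
    have hR : (φ.symm (QuaternionGroup.a 1)).1 ∈ closure
        ({(φ.symm (QuaternionGroup.a 1)).1, (φ.symm (QuaternionGroup.xa 0)).1} : Set S) :=
      subset_closure (by simp)
    have hT : (φ.symm (QuaternionGroup.xa 0)).1 ∈ closure
        ({(φ.symm (QuaternionGroup.a 1)).1, (φ.symm (QuaternionGroup.xa 0)).1} : Set S) :=
      subset_closure (by simp)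
    have ha : ∀ i : ZMod (2 * k), (φ.symm (QuaternionGroup.a i)).1 ∈ closure
        ({(φ.symm (QuaternionGroup.a 1)).1, (φ.symm (QuaternionGroup.xa 0)).1} : Set S) := by
      intro i
      have h1 : (QuaternionGroup.a i : QuaternionGroup k) = (QuaternionGroup.a 1) ^ i.val := by
        rw [QuaternionGroup.a_one_pow, ZMod.natCast_val, ZMod.cast_id', id]
      rw [h1, map_pow, Subgroup.coe_pow]
      exact pow_mem hR _
    have hg' : g = (φ.symm (φ ⟨g, hg⟩)).1 := by rw [φ.symm_apply_apply]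
    rw [hg']
    rcases φ ⟨g, hg⟩ with i | i
    · exact ha i
    · have h1 : (QuaternionGroup.xa i : QuaternionGroup k) =
          QuaternionGroup.xa 0 * QuaternionGroup.a i := by
        rw [QuaternionGroup.xa_mul_a, zero_add]
      rw [h1, map_mul, Subgroup.coe_mul]
      exact mul_mem hT (ha i)

namespace Gens

variable (d : Gens S n x y z)
include d

/-- Conjugation of a base element by a non-base element swaps the coordinates. -/
theorem wpz_conj_wp (a b c e : ZMod (2 ^ n)) :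
    (wp n x y c e * z) * wp n x y a b * (wp n x y c e * z)⁻¹ = wp n x y b a := by
  rw [d.wpz_mul_wp, d.wpz_inv, d.wpz_mul_wpz]
  congr 1 <;> ring

/-- The generalized quaternion subgroup `{x^a y^(-a)} ∪ {x^a y^(h-a) z}`. -/
def quatSub : Subgroup S where
  carrier := {g | (∃ a, g = wp n x y a (-a)) ∨ (∃ a, g = wp n x y a (hh n - a) * z)}
  one_mem' := Or.inl ⟨0, by rw [neg_zero, wp_zero]⟩
  mul_mem' := by
    have h2 := two_hh (n := n) d.hn1
    rintro _ _ (⟨a, rfl⟩ | ⟨a, rfl⟩) (⟨c, rfl⟩ | ⟨c, rfl⟩)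
    · left
      refine ⟨a + c, ?_⟩
      rw [← d.wp_add]; congr 1; ring
    · right
      refine ⟨a + c, ?_⟩
      rw [d.wp_mul_wpz]; congr 2; ring
    · right
      refine ⟨a - c, ?_⟩
      rw [d.wpz_mul_wp]; congr 2 <;> ring
    · left
      refine ⟨a + (hh n - c), ?_⟩
      rw [d.wpz_mul_wpz]; congr 1
      linear_combination h2
  inv_mem' := by
    have h2 := two_hh (n := n) d.hn1
    rintro _ (⟨a, rfl⟩ | ⟨a, rfl⟩)
    · left
      refine ⟨-a, ?_⟩
      rw [← d.wp_neg]
    · right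
      refine ⟨a - hh n, ?_⟩
      rw [d.wpz_inv]; congr 2
      · ring
      · linear_combination -h2

theorem wp_mem_quatSub (a b : ZMod (2 ^ n)) : wp n x y a b ∈ d.quatSub ↔ b = -a := by
  constructor
  · rintro (⟨c, h⟩ | ⟨c, h⟩)
    · obtain ⟨rfl, rfl⟩ := d.wp_injective _ _ _ _ h
      rfl
    · exact absurd h.symm (d.wpz_ne_wp _ _ _ _)
  · rintro rfl
    exact Or.inl ⟨a, rfl⟩

theorem wpz_mem_quatSub (a b : ZMod (2 ^ n)) : wp n x y a b * z ∈ d.quatSub ↔ a + b = hh n := by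
  constructor
  · rintro (⟨c, h⟩ | ⟨c, h⟩)
    · exact absurd h (d.wpz_ne_wp _ _ _ _)
    · obtain ⟨rfl, rfl⟩ := d.wpz_injective _ _ _ _ h
      ring
  · intro h
    refine Or.inr ⟨a, ?_⟩
    congr 2
    linear_combination h

theorem normal_quatSub : d.quatSub.Normal := by
  constructor
  intro k hk g
  rcases d.cases k with ⟨a, b, rfl⟩ | ⟨a, b, rfl⟩
  · rw [d.wp_mem_quatSub] at hk
    subst hk
    rcases d.conj_wp g a (-a) with h | h
    · rw [h, d.wp_mem_quatSub]
    · rw [h, d.wp_mem_quatSub]; ring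
  · rw [d.wpz_mem_quatSub] at hk
    rcases d.cases g with ⟨c, e, rfl⟩ | ⟨c, e, rfl⟩
    · rw [d.wp_conj_wpz, d.wpz_mem_quatSub]
      linear_combination hk
    · rw [d.wpz_mul_wpz, d.wpz_inv, d.wp_mul_wpz, d.wpz_mem_quatSub]
      linear_combination hk

theorem commutator_le_quatSub : zpowers (wp n x y 1 (-1)) ≤ d.quatSub := by
  rw [zpowers_le, d.wp_mem_quatSub]

theorem card_quatSub : Nat.card d.quatSub = 2 ^ (n + 1) := by
  have h2 := two_hh (n := n) d.hn1
  have hr : (zpowers (wp n x y 1 (-1))).relIndex d.quatSub = 2 := by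
    rw [relIndex_eq_two_iff_exists_notMem_and']
    refine ⟨wp n x y 0 (hh n) * z, (d.wpz_mem_quatSub _ _).mpr (by ring), ?_, ?_⟩
    · rw [d.mem_zpowers_anti_iff]
      rintro ⟨a, ha⟩
      exact d.wpz_ne_wp _ _ _ _ ha
    · intro g hg
      rcases d.cases g with ⟨c, e, rfl⟩ | ⟨c, e, rfl⟩
      · right
        rw [d.wp_mem_quatSub] at hg
        rw [d.mem_zpowers_anti_iff]
        exact ⟨c, by rw [hg]⟩
      · left
        rw [d.wpz_mem_quatSub] at hg
        rw [d.wpz_mul_wpz, d.mem_zpowers_anti_iff]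
        refine ⟨0 + e, ?_⟩
        congr 1
        linear_combination hg + h2
  have h3 := card_of_relIndex_two d.commutator_le_quatSub hr
  rw [h3, ← d.commutator_eq, d.card_commutator, pow_succ]
  ring

/-- Quaternion-type generators lie in `quatSub`. -/
theorem quat_gens_mem (R T : S) (hR : orderOf R = 2 ^ n) (hTR : T * R * T⁻¹ = R⁻¹)
    (hT : T * T = R ^ (2 ^ (n - 1))) : R ∈ d.quatSub ∧ T ∈ d.quatSub := by
  have h2 := two_hh (n := n) d.hn1
  have hn := d.hn
  have hn1 := d.hn1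
  have e1 : n = (n - 1) + 1 := by omega
  have hRpow : R ^ (2 ^ n) = 1 := by rw [← hR, pow_orderOf_eq_one]
  have hRhalf : R ^ (2 ^ (n - 1)) ≠ 1 := by
    intro h
    have h3 := orderOf_dvd_of_pow_eq_one h
    rw [hR] at h3
    have h4 := (Nat.pow_dvd_pow_iff_le_right (by norm_num : 1 < 2)).mp h3
    omega
  have hT4 : (T * T) * (T * T) = 1 := by
    rw [hT, ← pow_add, ← two_mul, ← pow_succ', ← e1, hRpow]
  have hR2 : R * R ≠ 1 := by
    intro h
    have h3 : orderOf R ∣ 2 := orderOf_dvd_of_pow_eq_one (by rw [pow_two]; exact h)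
    rw [hR] at h3
    have h4 : 2 ^ n ∣ 2 ^ 1 := by rw [pow_one]; exact h3
    have h5 := (Nat.pow_dvd_pow_iff_le_right (by norm_num : 1 < 2)).mp h4
    omega
  have hcast : ((2 ^ (n - 1) : ℕ) : ZMod (2 ^ n)) = hh n := rfl
  rcases d.cases R with ⟨c, e, rfl⟩ | ⟨c, e, rfl⟩
  · -- `R` in the base group
    rcases d.cases T with ⟨a, b, rfl⟩ | ⟨a, b, rfl⟩
    · exfalso
      rw [d.wp_comm, mul_inv_cancel_right, eq_inv_iff_mul_eq_one] at hTR
      exact hR2 hTR
    · rw [d.wpz_conj_wp, ← d.wp_neg] at hTR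
      obtain ⟨h3, h4⟩ := d.wp_injective _ _ _ _ hTR
      subst h3
      refine ⟨(d.wp_mem_quatSub _ _).mpr (by ring), ?_⟩
      rw [d.wpz_mem_quatSub]
      rw [d.wpz_sq] at hT hT4
      rw [← hT] at hRhalf
      rw [d.wp_sq, d.wp_eq_one_iff] at hT4
      rw [Ne, d.wp_eq_one_iff] at hRhalf
      rcases two_torsion d.hn1 _ hT4.1 with h | h
      · exact absurd ⟨h, h⟩ hRhalf
      · exact h
  · -- `R` outside the base group: then `n = 2`
    have hR4 : (wp n x y c e * z) ^ 4 = 1 := by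
      have h3 : T * (wp n x y c e * z * (wp n x y c e * z)) * T⁻¹ =
          (wp n x y c e * z * (wp n x y c e * z))⁻¹ := by
        have : T * (wp n x y c e * z * (wp n x y c e * z)) * T⁻¹ =
            (T * (wp n x y c e * z) * T⁻¹) * (T * (wp n x y c e * z) * T⁻¹) := by group
        rw [this, hTR, ← mul_inv_rev]
      have hcen : wp n x y c e * z * (wp n x y c e * z) ∈ center S := by
        rw [d.wpz_sq]; exact (d.mem_center_iff' _).mpr ⟨_, rfl⟩
      rw [mem_center_iff.mp hcen T, mul_inv_cancel_right] at h3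
      have h4 : (wp n x y c e * z * (wp n x y c e * z)) * (wp n x y c e * z * (wp n x y c e * z))
          = 1 := by
        nth_rewrite 1 [h3]
        exact inv_mul_cancel _
      rw [show (4 : ℕ) = 2 + 2 by norm_num, pow_add, pow_two]
      exact h4
    have hn2 : n = 2 := by
      have h3 := orderOf_dvd_of_pow_eq_one hR4
      rw [hR] at h3
      have h4 : 2 ^ n ∣ 2 ^ 2 := by norm_num; exact h3
      have h5 := (Nat.pow_dvd_pow_iff_le_right (by norm_num : 1 < 2)).mp h4
      omega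
    have hRsq : (wp n x y c e * z) ^ (2 ^ (n - 1)) = wp n x y (c + e) (c + e) := by
      have : 2 ^ (n - 1) = 2 := by rw [hn2]; norm_num
      rw [this, pow_two, d.wpz_sq]
    rw [hRsq] at hT hRhalf
    have hce : c + e = hh n := by
      have h3 : wp n x y (c + e) (c + e) * wp n x y (c + e) (c + e) = 1 := by
        rw [← hT]; exact hT4
      rw [d.wp_sq, d.wp_eq_one_iff] at h3
      rw [Ne, d.wp_eq_one_iff] at hRhalf
      rcases two_torsion d.hn1 _ h3.1 with h | h
      · exact absurd ⟨h, h⟩ hRhalf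
      · exact h
    refine ⟨(d.wpz_mem_quatSub _ _).mpr hce, ?_⟩
    rcases d.cases T with ⟨a, b, rfl⟩ | ⟨a, b, rfl⟩
    · rw [d.wp_mem_quatSub]
      rw [d.wp_conj_wpz, d.wpz_inv] at hTR
      obtain ⟨h3, h4⟩ := d.wpz_injective _ _ _ _ hTR
      rw [d.wp_sq] at hT
      obtain ⟨h5, h6⟩ := d.wp_injective _ _ _ _ hT
      linear_combination h3 + h6
    · rw [d.wpz_mem_quatSub]
      rw [d.wpz_sq] at hT
      obtain ⟨h5, h6⟩ := d.wp_injective _ _ _ _ hT
      rw [h5, hce]

theorem quatSub_unique [Finite S] (Y : Subgroup S) (hcard : Nat.card Y = 2 ^ (n + 1))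
    (hY : Nonempty (Y ≃* QuaternionGroup (2 ^ (n - 1)))) : Y = d.quatSub := by
  have hne : NeZero (2 ^ (n - 1)) := ⟨by positivity⟩
  obtain ⟨R, T, hRY, hTY, hR, hTR, hT, hgen⟩ := quat_abstract_gens Y hY
  have hn1 := d.hn1
  have e1 : 2 * 2 ^ (n - 1) = 2 ^ n := by
    rw [← pow_succ']; congr 1; omega
  rw [e1] at hR
  obtain ⟨h1, h2⟩ := d.quat_gens_mem R T hR hTR hT
  apply Subgroup.eq_of_le_of_card_ge
  · intro g hg
    have := hgen g hg
    have hle : closure ({R, T} : Set S) ≤ d.quatSub := by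
      rw [closure_le]
      rintro _ (rfl | rfl)
      · exact h1
      · exact h2
    exact hle this
  · rw [hcard, d.card_quatSub]

theorem quatSub_equiv [Finite S] :
    Nonempty (d.quatSub ≃* QuaternionGroup (2 ^ (n - 1))) := by
  have hne : NeZero (2 ^ (n - 1)) := ⟨by positivity⟩
  have hn1 := d.hn1
  have h2 := two_hh (n := n) d.hn1
  have e1 : 2 * 2 ^ (n - 1) = 2 ^ n := by
    rw [← pow_succ']; congr 1; omega
  have hcast : ((2 ^ (n - 1) : ℕ) : ZMod (2 ^ n)) = hh n := rfl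
  have hr : wp n x y 1 (-1) ∈ d.quatSub := (d.wp_mem_quatSub _ _).mpr rfl
  have ht : wp n x y 0 (hh n) * z ∈ d.quatSub := (d.wpz_mem_quatSub _ _).mpr (by ring)
  apply Cfsg.Agent.Lib.H22.quaternion_equiv_of_gens (2 ^ (n - 1))
    (⟨wp n x y 1 (-1), hr⟩ : d.quatSub) ⟨wp n x y 0 (hh n) * z, ht⟩
  · apply Subtype.ext
    rw [Subgroup.coe_pow, Subgroup.coe_one, e1]
    have := pow_orderOf_eq_one (wp n x y 1 (-1))
    rw [d.orderOf_wp_one] at this
    exact this
  · apply Subtype.ext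
    rw [Subgroup.coe_mul, Subgroup.coe_pow]
    show (wp n x y 0 (hh n) * z) * (wp n x y 0 (hh n) * z) = (wp n x y 1 (-1)) ^ (2 ^ (n - 1))
    rw [d.wpz_sq, d.wp_pow, hcast]
    congr 1
    · ring
    · linear_combination h2
  · apply Subtype.ext
    rw [Subgroup.coe_mul, Subgroup.coe_mul, Subgroup.coe_inv, Subgroup.coe_inv]
    show (wp n x y 0 (hh n) * z) * wp n x y 1 (-1) * (wp n x y 0 (hh n) * z)⁻¹ =
      (wp n x y 1 (-1))⁻¹
    rw [d.wpz_conj_wp, ← d.wp_neg, neg_neg]
  · rw [eq_top_iff]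
    rintro ⟨g, hg⟩ -
    have hrr : ∀ a : ZMod (2 ^ n), (⟨wp n x y a (-a), (d.wp_mem_quatSub _ _).mpr rfl⟩ : d.quatSub)
        ∈ closure ({⟨wp n x y 1 (-1), hr⟩, ⟨wp n x y 0 (hh n) * z, ht⟩} : Set d.quatSub) := by
      intro a
      have h1 : (⟨wp n x y a (-a), (d.wp_mem_quatSub _ _).mpr rfl⟩ : d.quatSub)
          = (⟨wp n x y 1 (-1), hr⟩ : d.quatSub) ^ a.val := by
        apply Subtype.ext
        rw [Subgroup.coe_pow]
        show wp n x y a (-a) = (wp n x y 1 (-1)) ^ a.val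
        rw [← d.wp_eq_pow, mul_one, mul_neg, mul_one]
      rw [h1]
      exact pow_mem (subset_closure (by simp)) _
    rcases hg with ⟨a, rfl⟩ | ⟨a, rfl⟩
    · exact hrr a
    · have h1 : (⟨wp n x y a (hh n - a) * z, Or.inr ⟨a, rfl⟩⟩ : d.quatSub)
          = ⟨wp n x y a (-a), (d.wp_mem_quatSub _ _).mpr rfl⟩
            * ⟨wp n x y 0 (hh n) * z, ht⟩ := by
        apply Subtype.ext
        show wp n x y a (hh n - a) * z = wp n x y a (-a) * (wp n x y 0 (hh n) * z)
        rw [d.wp_mul_wpz]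
        congr 2 <;> ring
      rw [h1]
      exact mul_mem (hrr a) (subset_closure (by simp))
  · rw [d.card_quatSub]
    have : n + 1 = (n - 1) + 2 := by omega
    rw [this, pow_add]; ring

end Gens

end Cfsg.Agent.Lib.H5.Wr
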