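import Mathlib

set_option autoImplicit false

namespace Cfsg.Agent.Lib.H5

open Subgroup

variable {G : Type*} [Group G]

/-- If Sylow `p`-subgroups have order `p`, an element of order `p` lies in a unique one,
namely the one equal to the cyclic group it generates. -/
theorem zpowers_eq_sylow_of_mem [Finite G] {p : ℕ} [Fact p.Prime] (Q : Sylow p G)
    (hQ : Nat.card (Q : Subgroup G) = p) (g : G) (hg : orderOf g = p) (hgQ : g ∈ Q) :
    zpowers g = (Q : Subgroup G) := by
  apply Subgroup.eq_of_le_of_card_ge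
  · rw [zpowers_le]; exact hgQ
  · rw [hQ, Nat.card_zpowers, hg]

theorem exists_sylow_mem_of_orderOf_eq [Finite G] {p : ℕ} [Fact p.Prime] (g : G)
    (hg : orderOf g = p) : ∃ Q : Sylow p G, g ∈ Q := by
  have h1 : IsPGroup p (zpowers g) := by
    apply IsPGroup.of_card (n := 1)
    rw [Nat.card_zpowers, hg, pow_one]
  obtain ⟨Q, hQ⟩ := h1.exists_le_sylow
  exact ⟨Q, hQ (mem_zpowers g)⟩

/-- Non-identity elements of a group of prime order `p` have order `p`. -/
theorem orderOf_eq_of_mem_of_card_prime [Finite G] {p : ℕ} [Fact p.Prime] (Q : Subgroup G)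
    (hQ : Nat.card Q = p) (g : G) (hgQ : g ∈ Q) (hg1 : g ≠ 1) : orderOf g = p := by
  have hp : p.Prime := Fact.out
  have h1 : orderOf (⟨g, hgQ⟩ : Q) ∣ p := hQ ▸ orderOf_dvd_natCard _
  rw [Subgroup.orderOf_mk] at h1
  rcases (Nat.dvd_prime hp).mp h1 with h | h
  · exact absurd (orderOf_eq_one_iff.mp h) hg1
  · exact h

/-- If Sylow `p`-subgroups have order `p`, the number of elements of order `p` is `n_p * (p - 1)`. -/
theorem card_orderOf_eq_prime [Finite G] {p : ℕ} [Fact p.Prime]
    (hP : ∀ Q : Sylow p G, Nat.card (Q : Subgroup G) = p) :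
    Nat.card {g : G // orderOf g = p} = Nat.card (Sylow p G) * (p - 1) := by
  classical
  have hp : p.Prime := Fact.out
  have : Fintype (Sylow p G) := Fintype.ofFinite _
  let f : {g : G // orderOf g = p} → Sylow p G :=
    fun g => Classical.choose (exists_sylow_mem_of_orderOf_eq g.1 g.2)
  have hf : ∀ g : {g : G // orderOf g = p}, g.1 ∈ f g :=
    fun g => Classical.choose_spec (exists_sylow_mem_of_orderOf_eq g.1 g.2)
  have hfu : ∀ (g : {g : G // orderOf g = p}) (Q : Sylow p G), g.1 ∈ Q → f g = Q := by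
    intro g Q hgQ
    apply Sylow.ext
    rw [← zpowers_eq_sylow_of_mem Q (hP Q) g.1 g.2 hgQ,
      ← zpowers_eq_sylow_of_mem _ (hP _) g.1 g.2 (hf g)]
  rw [Nat.card_congr (Equiv.sigmaFiberEquiv f).symm, Nat.card_sigma]
  rw [Finset.sum_const_nat (m := p - 1), Finset.card_univ, Nat.card_eq_fintype_card]
  intro Q _
  have h1 : Nat.card {g : {g : G // orderOf g = p} // f g = Q} =
      Nat.card {g : (Q : Subgroup G) // g ≠ 1} := by
    apply Nat.card_congr
    refine ⟨fun g => ⟨⟨g.1.1, by have := hf g.1; rw [g.2] at this; exact this⟩, ?_⟩, fun g => ⟨⟨g.1.1, ?_⟩, ?_⟩, ?_, ?_⟩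
    · intro h
      have h1 : g.1.1 = 1 := congrArg Subtype.val h
      have := g.1.2
      rw [h1, orderOf_one] at this
      exact hp.one_lt.ne this
    · exact orderOf_eq_of_mem_of_card_prime _ (hP Q) _ g.1.2 (fun h => g.2 (Subtype.ext h))
    · exact hfu _ Q g.1.2
    · intro g; rfl
    · intro g; rfl
  rw [h1]
  have : Fintype (Q : Subgroup G) := Fintype.ofFinite _
  rw [Nat.card_eq_fintype_card, Fintype.card_subtype_compl, Fintype.card_subtype_eq,
    ← Nat.card_eq_fintype_card, hP Q]

end Cfsg.Agent.Lib.H5
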