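import Mathlib
import Cfsg.Agent.S0989
import Cfsg.Agent.S0990
import Cfsg.Agent.S0991
import Cfsg.Agent.Lib.H5.SimpleTools

set_option autoImplicit false

namespace Cfsg.Agent.Lib.H5

open Subgroup Equiv

/-- For `n = p` or `n = p + 1`, `n! = p * m` with `p ∤ m`. -/
theorem factorial_eq_prime_mul (p n : ℕ) (hp : p.Prime) (hn : n = p ∨ n = p + 1) :
    ∃ m, n.factorial = p ^ 1 * m ∧ ¬ p ∣ m := by
  have hp2 : 2 ≤ p := hp.two_le
  have hpred : ¬ p ∣ (p - 1).factorial := by
    rw [hp.dvd_factorial]; omega
  rcases hn with h | h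
  · refine ⟨(p - 1).factorial, ?_, hpred⟩
    rw [h, pow_one]
    conv_lhs => rw [show p = (p - 1) + 1 by omega, Nat.factorial_succ]
    congr 1
    omega
  · refine ⟨(p + 1) * (p - 1).factorial, ?_, ?_⟩
    · rw [h, pow_one, Nat.factorial_succ]
      conv_lhs => rw [show p = (p - 1) + 1 by omega, Nat.factorial_succ]
      have : p - 1 + 1 = p := by omega
      rw [this]; ring
    · intro hd
      rcases (hp.dvd_mul).mp hd with h1 | h1
      · have : p ∣ 1 := (Nat.dvd_add_right (dvd_refl p)).mp h1
        have := Nat.le_of_dvd one_pos this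
        omega
      · exact hpred h1

/-- In a non-abelian finite simple group with a subgroup of index `p` or `p + 1` (`p` an odd prime)
whose Sylow `p`-subgroups have order `p`, twice the order of the normalizer of a Sylow `p`-subgroup
divides `p * (p - 1)`. -/
theorem two_mul_card_normalizer_dvd {G : Type*} [Group G] [Finite G] [IsSimpleGroup G]
    (hG : ¬ IsMulCommutative G) {p : ℕ} [Fact p.Prime] (hp2 : p ≠ 2) (H : Subgroup G)
    (hH : H.index = p ∨ H.index = p + 1) (P : Sylow p G) (hP : Nat.card (P : Subgroup G) = p) :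
    2 * Nat.card (normalizer ((P : Subgroup G) : Set G)) ∣ p * (p - 1) := by
  have hp : p.Prime := Fact.out
  have hHtop : H ≠ ⊤ := by
    intro h
    rw [h, Subgroup.index_top] at hH
    have := hp.two_le
    omega
  obtain ⟨f, hf⟩ := Cfsg.Agent.S0991.result hG H hHtop
  let ψ : G →* Perm (Fin H.index) := (alternatingGroup (Fin H.index)).subtype.comp f
  have hψ : Function.Injective ψ := (alternatingGroup (Fin H.index)).subtype_injective.comp hf
  -- the image of P is a Sylow p-subgroup of the symmetric group
  obtain ⟨m, hm, hpm⟩ := factorial_eq_prime_mul p H.index hp hH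
  have hcardS : Nat.card (Perm (Fin H.index)) = p ^ 1 * m := by
    rw [Nat.card_perm, Nat.card_fin, hm]
  have hfact : (Nat.card (Perm (Fin H.index))).factorization p = 1 := by
    have hm0 : m ≠ 0 := fun h => hpm (h ▸ dvd_zero p)
    rw [hcardS, Nat.factorization_mul (pow_ne_zero _ hp.ne_zero) hm0]
    simp only [Finsupp.coe_add, Pi.add_apply]
    rw [hp.factorization_pow, Nat.factorization_eq_zero_of_not_dvd hpm]
    simp
  have hcard1 : Nat.card ((P : Subgroup G).map ψ) = p ^ (Nat.card (Perm (Fin H.index))).factorization p := by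
    rw [card_map_of_injective hψ, hP, hfact, pow_one]
  let S : Sylow p (Perm (Fin H.index)) := Sylow.ofCard _ hcard1
  have hScoe : (S : Subgroup (Perm (Fin H.index))) = (P : Subgroup G).map ψ := Sylow.coe_ofCard _ _
  have hcardα : 2 ≤ Fintype.card (Fin H.index) := by
    rw [Fintype.card_fin]
    have := hp.two_le
    rcases hH with h | h <;> omega
  have hcardα' : Fintype.card (Fin H.index) = p ∨ Fintype.card (Fin H.index) = p + 1 := by
    rw [Fintype.card_fin]; exact hH
  obtain ⟨hSA, h2⟩ := Cfsg.Agent.S0990.result hcardα p hp2 S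
  have h3 := Cfsg.Agent.S0989.result p hcardα' S
  rw [h3] at h2
  rw [← h2]
  apply Nat.mul_dvd_mul_left
  -- N_G(P) embeds in the normalizer in (alternatingGroup (Fin H.index))
  set S' : Subgroup (alternatingGroup (Fin H.index)) := (S : Subgroup (Perm (Fin H.index))).subgroupOf (alternatingGroup (Fin H.index)) with hS'
  have hmemS' : ∀ a : (alternatingGroup (Fin H.index)), a ∈ S' ↔ ∃ u ∈ (P : Subgroup G), f u = a := by
    intro a
    rw [hS', mem_subgroupOf, hScoe]
    constructor
    · rintro ⟨u, hu, hua⟩
      exact ⟨u, hu, Subtype.ext hua⟩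
    · rintro ⟨u, hu, rfl⟩
      exact ⟨u, hu, rfl⟩
  have hnorm : ∀ x : normalizer ((P : Subgroup G) : Set G), f x ∈ normalizer (S' : Set (alternatingGroup (Fin H.index))) := by
    intro x
    rw [mem_normalizer_iff]
    intro a
    have hx := mem_normalizer_iff.mp x.2
    rw [hmemS', hmemS']
    constructor
    · rintro ⟨u, hu, rfl⟩
      exact ⟨x * u * (x : G)⁻¹, (hx u).mp hu, by simp⟩
    · rintro ⟨u, hu, hua⟩
      refine ⟨(x : G)⁻¹ * u * x, ?_, ?_⟩
      · rw [hx]
        have : (x : G) * ((x : G)⁻¹ * u * x) * (x : G)⁻¹ = u := by group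
        rw [this]; exact hu
      · rw [map_mul, map_mul, hua, map_inv]; group
  let φ : normalizer ((P : Subgroup G) : Set G) →* normalizer (S' : Set (alternatingGroup (Fin H.index))) :=
    (f.comp (normalizer ((P : Subgroup G) : Set G)).subtype).codRestrict _ hnorm
  have hφ : Function.Injective φ := by
    intro a b hab
    have := congrArg Subtype.val hab
    exact Subtype.ext (hf this)
  exact card_dvd_of_injective φ hφ

end Cfsg.Agent.Lib.H5
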