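import Mathlib

set_option autoImplicit false

/-! # Transfer of central elements into a Sylow subgroup -/

namespace Cfsg.Agent.Lib.H5

open Subgroup

/-- Bezout in a subgroup: if `g ^ a ∈ K` and `g ^ b = 1` for coprime `a`, `b`, then `g ∈ K`. -/
theorem mem_of_pow_mem_of_pow_eq_one {G : Type*} [Group G] {K : Subgroup G} {g : G} {a b : ℕ}
    (hab : Nat.Coprime a b) (ha : g ^ a ∈ K) (hb : g ^ b = 1) : g ∈ K := by
  have h1 : ((Nat.gcd a b : ℕ) : ℤ) = a * Nat.gcdA a b + b * Nat.gcdB a b := Nat.gcd_eq_gcd_ab a b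
  rw [hab.gcd_eq_one] at h1
  have h2 : g = (g ^ a) ^ (Nat.gcdA a b) * (g ^ b) ^ (Nat.gcdB a b) := by
    rw [← zpow_natCast g a, ← zpow_natCast g b, ← zpow_mul, ← zpow_mul, ← zpow_add, ← h1]
    simp
  rw [h2, hb, one_zpow, mul_one]
  exact K.zpow_mem ha _

/-- A central element of `H` lying in a Sylow `p`-subgroup `P` and in the commutator subgroup
of `H` lies in the commutator subgroup of `P` (transfer). -/
theorem mem_commutator_sylow_of_central {H : Type*} [Group H] [Finite H] {p : ℕ} [Fact p.Prime]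
    (P : Sylow p H) (z : H) (hzc : z ∈ Subgroup.center H) (hzP : z ∈ (P : Subgroup H))
    (hzH : z ∈ commutator H) :
    (⟨z, hzP⟩ : (P : Subgroup H)) ∈ commutator (P : Subgroup H) := by
  let ϕ : (P : Subgroup H) →* Abelianization (P : Subgroup H) := Abelianization.of
  have key : ∀ (k : ℕ) (g₀ : H), g₀⁻¹ * z ^ k * g₀ ∈ (P : Subgroup H) →
      g₀⁻¹ * z ^ k * g₀ = z ^ k := by
    intro k g₀ _
    have h1 : z ^ k ∈ center H := pow_mem hzc k
    rw [mem_center_iff] at h1
    rw [mul_assoc, ← h1 g₀, inv_mul_cancel_left]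
  have h1 := MonoidHom.transfer_eq_pow ϕ z key
  have h2 : MonoidHom.transfer ϕ z = 1 :=
    Abelianization.commutator_subset_ker (MonoidHom.transfer ϕ) hzH
  rw [h2] at h1
  have h3 : (⟨z, hzP⟩ : (P : Subgroup H)) ^ (P : Subgroup H).index ∈
      commutator (P : Subgroup H) := by
    rw [← Abelianization.ker_of, MonoidHom.mem_ker]
    exact h1.symm
  obtain ⟨m, hm⟩ := P.2 ⟨z, hzP⟩
  have hcop : Nat.Coprime ((P : Subgroup H).index) (p ^ m) := by
    apply Nat.Coprime.pow_right
    rw [Nat.coprime_comm, Nat.Prime.coprime_iff_not_dvd Fact.out]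
    exact P.not_dvd_index
  exact mem_of_pow_mem_of_pow_eq_one hcop h3 hm

end Cfsg.Agent.Lib.H5
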