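import Mathlib

set_option autoImplicit false

namespace Cfsg.Agent.Lib.H5

open MulAction

/-- If `d` divides the size of every orbit, then `d` divides the size of the set acted upon. -/
theorem dvd_card_of_forall_dvd_card_orbit {P X : Type*} [Group P] [MulAction P X] [Finite X]
    (d : ℕ) (h : ∀ x : X, d ∣ Nat.card (orbit P x)) : d ∣ Nat.card X := by
  classical
  have : Fintype (Quotient (orbitRel P X)) := Fintype.ofFinite _
  rw [Nat.card_congr (selfEquivSigmaOrbits P X), Nat.card_sigma]
  exact Finset.dvd_sum fun ω _ => h _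

/-- Orbit-stabilizer with `Nat.card`. -/
theorem card_orbit_mul_card_stabilizer {P X : Type*} [Group P] [MulAction P X] (x : X) :
    Nat.card (orbit P x) * Nat.card (stabilizer P x) = Nat.card P := by
  rw [Nat.card_congr (orbitEquivQuotientStabilizer P x), mul_comm]
  exact (Subgroup.card_eq_card_quotient_mul_card_subgroup (stabilizer P x)).symm ▸ (mul_comm _ _)

/-- Conjugate elements have centralizers of the same cardinality. -/
theorem card_centralizer_conj {G : Type*} [Group G] (a g : G) :
    Nat.card (Subgroup.centralizer ({a * g * a⁻¹} : Set G)) =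
      Nat.card (Subgroup.centralizer ({g} : Set G)) := by
  apply Nat.card_congr
  refine ⟨fun c => ⟨a⁻¹ * c.1 * a, ?_⟩, fun c => ⟨a * c.1 * a⁻¹, ?_⟩, ?_, ?_⟩
  · have hc := c.2
    rw [Subgroup.mem_centralizer_singleton_iff] at hc ⊢
    calc a⁻¹ * c.1 * a * g = a⁻¹ * (c.1 * (a * g * a⁻¹)) * a := by group
      _ = a⁻¹ * ((a * g * a⁻¹) * c.1) * a := by rw [hc]
      _ = g * (a⁻¹ * c.1 * a) := by group
  · have hc := c.2
    rw [Subgroup.mem_centralizer_singleton_iff] at hc ⊢
    calc a * c.1 * a⁻¹ * (a * g * a⁻¹) = a * (c.1 * g) * a⁻¹ := by group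
      _ = a * (g * c.1) * a⁻¹ := by rw [hc]
      _ = a * g * a⁻¹ * (a * c.1 * a⁻¹) := by group
  · intro c; ext; simp only; group
  · intro c; ext; simp only; group

theorem card_centralizer_of_isConj {G : Type*} [Group G] {g y : G} (h : IsConj g y) :
    Nat.card (Subgroup.centralizer ({y} : Set G)) =
      Nat.card (Subgroup.centralizer ({g} : Set G)) := by
  obtain ⟨a, rfl⟩ := isConj_iff.mp h
  exact card_centralizer_conj a g

/-- If every non-fixed orbit has size divisible by `d`, then the number of points is congruent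
to the number of fixed points modulo `d`. -/
theorem card_modEq_card_fixedPoints_of_dvd {P X : Type*} [Group P] [MulAction P X] [Finite X]
    (d : ℕ) (h : ∀ x : X, x ∉ fixedPoints P X → d ∣ Nat.card (orbit P x)) :
    Nat.card X ≡ Nat.card (fixedPoints P X) [MOD d] := by
  by_cases hd1 : d = 1
  · subst hd1; exact Nat.modEq_one
  have := Fintype.ofFinite X
  have := Fintype.ofFinite (fixedPoints P X)
  rw [Nat.card_eq_fintype_card, Nat.card_eq_fintype_card]
  classical
    calc
      Fintype.card X = Fintype.card (Σ y : Quotient (orbitRel P X), { x // Quotient.mk'' x = y }) :=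
        Fintype.card_congr (Equiv.sigmaFiberEquiv (@Quotient.mk'' _ (orbitRel P X))).symm
      _ = ∑ a : Quotient (orbitRel P X), Fintype.card { x // Quotient.mk'' x = a } := Fintype.card_sigma
      _ ≡ ∑ _a : fixedPoints P X, 1 [MOD d] := ?_
      _ = _ := by simp
    rw [← ZMod.natCast_eq_natCast_iff _ _ d, Nat.cast_sum, Nat.cast_sum]
    have key :
      ∀ x,
        Fintype.card { y // (Quotient.mk'' y : Quotient (orbitRel P X)) = Quotient.mk'' x } =
          Fintype.card (orbit P x) :=
      fun x => by simp only [Quotient.eq'']; congr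
    refine
      Eq.symm
        (Finset.sum_bij_ne_zero (fun a _ _ => Quotient.mk'' a.1) (fun _ _ _ => Finset.mem_univ _)
          (fun a₁ _ _ a₂ _ _ h =>
            Subtype.ext (mem_fixedPoints'.mp a₂.2 a₁.1 (Quotient.exact' h)))
          (fun b => Quotient.inductionOn' b fun b _ hb => ?_) fun a ha _ => by
          rw [key, mem_fixedPoints_iff_card_orbit_eq_one.mp a.2])
    have hbf : b ∈ fixedPoints P X := by
      by_contra hnf
      apply hb
      rw [key, ← Nat.card_eq_fintype_card]
      exact (ZMod.natCast_eq_zero_iff _ _).mpr (h b hnf)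
    have h1 : ((1 : ℕ) : ZMod d) ≠ 0 := by
      rw [Ne, ZMod.natCast_eq_zero_iff]
      intro h1
      exact hd1 (Nat.dvd_one.mp h1)
    exact ⟨⟨b, hbf⟩, Finset.mem_univ _, h1, rfl⟩

end Cfsg.Agent.Lib.H5
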