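import Mathlib
import Cfsg.Agent.Lib.H5.Orbits

set_option autoImplicit false

/-! # Sizes of conjugacy classes -/

namespace Cfsg.Agent.Lib.H5

open Subgroup MulAction

variable {G : Type*} [Group G]

/-- Class equation for a single element: `|x^G| * |C_G(x)| = |G|`. -/
theorem card_conj_mul_card_centralizer (x : G) :
    Nat.card {g : G // IsConj x g} * Nat.card (centralizer ({x} : Set G)) = Nat.card G := by
  rw [Subgroup.nat_card_centralizer_nat_card_stabilizer]
  have key := card_orbit_mul_card_stabilizer (P := ConjAct G) x
  have e : {g : G // IsConj x g} ≃ orbit (ConjAct G) x :=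
    Equiv.subtypeEquivRight (fun g => by rw [ConjAct.mem_orbit_conjAct, isConj_comm])
  rw [Nat.card_congr e, key]
  rfl

theorem ncard_conj_mul_card_centralizer (x : G) :
    ({g : G | IsConj x g} : Set G).ncard * Nat.card (centralizer ({x} : Set G)) = Nat.card G := by
  rw [← Nat.card_coe_set_eq]
  exact card_conj_mul_card_centralizer x

theorem orderOf_eq_of_isConj {x y : G} (hxy : IsConj x y) : orderOf x = orderOf y := by
  obtain ⟨c, hc⟩ := isConj_iff.mp hxy
  rw [← hc]
  have := (MulAut.conj c).orderOf_eq x
  simpa [MulAut.conj_apply] using this.symm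

end Cfsg.Agent.Lib.H5
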