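import Mathlib

/-!
# S0420 piece ABS, part a (helper5): counting tools for a graph given by a decidable relation
-/

set_option autoImplicit false

namespace Cfsg.Agent.Lib.H5.M11U

variable {Ω : Type*} [Fintype Ω] [DecidableEq Ω] (adj : Ω → Ω → Prop) [DecidableRel adj]

/-- number of neighbours of `v` inside `S` -/
def nb (v : Ω) (S : Finset Ω) : ℕ := (S.filter (fun y => adj v y)).card

omit [Fintype Ω] [DecidableEq Ω] in
theorem sum_nb_comm (hsymm : ∀ x y, adj x y → adj y x) (S T : Finset Ω) :
    ∑ x ∈ S, nb adj x T = ∑ w ∈ T, nb adj w S := by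
  unfold nb
  have h := Finset.sum_card_bipartiteAbove_eq_sum_card_bipartiteBelow (s := S) (t := T) adj
  simp only [Finset.bipartiteAbove, Finset.bipartiteBelow] at h
  rw [h]
  apply Finset.sum_congr rfl
  intro w _
  congr 1
  apply Finset.filter_congr
  intro x _
  exact ⟨hsymm x w, hsymm w x⟩

/-- splitting the cardinality of a filter of `univ` along `univ = {P} ⊔ D1 ⊔ D2 ⊔ rest` -/
theorem card_filter_split (P : Ω) (D1 D2 : Finset Ω) (hP1 : P ∉ D1) (hP2 : P ∉ D2)
    (hd : Disjoint D1 D2) (q : Ω → Prop) [DecidablePred q] :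
    (Finset.univ.filter q).card = (if q P then 1 else 0) + (D1.filter q).card + (D2.filter q).card +
      ((Finset.univ \ insert P (D1 ∪ D2)).filter q).card := by
  simp only [Finset.card_filter]
  have h1 := Finset.sum_sdiff (Finset.subset_univ (insert P (D1 ∪ D2)))
    (f := fun a => if q a then 1 else 0)
  have hP : P ∉ D1 ∪ D2 := by
    rw [Finset.mem_union]; tauto
  rw [← h1, Finset.sum_insert hP, Finset.sum_union hd]
  ring

end Cfsg.Agent.Lib.H5.M11U
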