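import Mathlib
import Cfsg.Agent.Lib.H5.M11ABSa

/-!
# S0420 piece ABS (helper5): the purely combinatorial core `abs_graph`

Exact signature of `tools/blueprints/S0420_sigs.lean`.
-/

set_option autoImplicit false
set_option maxHeartbeats 400000

namespace Cfsg.Agent.Lib.H5.M11U

theorem abs_graph {Ω : Type*} [Fintype Ω] [DecidableEq Ω] (adj : Ω → Ω → Prop) [DecidableRel adj]
    (hsymm : ∀ x y, adj x y → adj y x) (hirr : ∀ x, ¬ adj x x)
    (hcard : Fintype.card Ω = 55)
    (hdeg : ∀ x, (Finset.univ.filter (fun y => adj x y)).card = 18)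
    (μ : ℕ) (hμ : ∀ x y, x ≠ y → ¬ adj x y →
      (Finset.univ.filter (fun w => adj x w ∧ adj y w)).card = μ)
    (P : Ω) (D1 D2 : Finset Ω) (hD1 : D1.card = 9) (hD2 : D2.card = 9) (hdisj : Disjoint D1 D2)
    (hΔ : ∀ x, adj P x ↔ x ∈ D1 ∨ x ∈ D2)
    (m : Ω → Ω) (hm : ∀ x ∈ D1, m x ∈ D2) (hminj : ∀ x ∈ D1, ∀ y ∈ D1, m x = m y → x = y)
    (hmadj : ∀ x ∈ D1, adj x (m x))
    (ha : ∀ x ∈ D1, ∀ y ∈ D1, ∀ x' ∈ D1, ∀ y' ∈ D1, x ≠ y → x' ≠ y' → (adj x y ↔ adj x' y'))
    (ha' : ∀ x ∈ D1, ∀ y ∈ D1, ∀ x' ∈ D2, ∀ y' ∈ D2, x ≠ y → x' ≠ y' → (adj x y ↔ adj x' y'))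
    (hb : ∀ x ∈ D1, ∀ y ∈ D2, ∀ x' ∈ D1, ∀ y' ∈ D2, y ≠ m x → y' ≠ m x' → (adj x y ↔ adj x' y'))
    (hΓ : ∀ w w', w ≠ P → ¬ adj P w → w' ≠ P → ¬ adj P w' →
        ((D1.filter (fun x => adj w x)).card = (D1.filter (fun x => adj w' x)).card ∧
         (D2.filter (fun x => adj w x)).card = (D2.filter (fun x => adj w' x)).card) ∨
        ((D1.filter (fun x => adj w x)).card = (D2.filter (fun x => adj w' x)).card ∧
         (D2.filter (fun x => adj w x)).card = (D1.filter (fun x => adj w' x)).card)) :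
    (∀ x ∈ D1, ∀ y ∈ D1, x ≠ y → adj x y) ∧ (∀ x ∈ D1, ∀ y ∈ D2, y ≠ m x → ¬ adj x y) := by
  classical
  -- basic facts
  have hPD1 : P ∉ D1 := fun h => hirr P ((hΔ P).mpr (Or.inl h))
  have hPD2 : P ∉ D2 := fun h => hirr P ((hΔ P).mpr (Or.inr h))
  set Γ : Finset Ω := Finset.univ \ insert P (D1 ∪ D2) with hΓdef
  have hmemΓ : ∀ w, w ∈ Γ ↔ w ≠ P ∧ ¬ adj P w := by
    intro w
    rw [hΓdef, Finset.mem_sdiff, Finset.mem_insert, Finset.mem_union, hΔ w]
    simp only [Finset.mem_univ, true_and, not_or]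
  have hcardΓ : Γ.card = 36 := by
    have hP : P ∉ D1 ∪ D2 := by rw [Finset.mem_union]; tauto
    rw [hΓdef, Finset.card_sdiff_of_subset (Finset.subset_univ _), Finset.card_univ, hcard,
      Finset.card_insert_of_notMem hP, Finset.card_union_of_disjoint hdisj, hD1, hD2]
  have hsplit : ∀ v, 18 = (if adj v P then 1 else 0) + nb adj v D1 + nb adj v D2 + nb adj v Γ := by
    intro v
    rw [← hdeg v]
    exact card_filter_split P D1 D2 hPD1 hPD2 hdisj (fun y => adj v y)
  have hadjP : ∀ x, x ∈ D1 ∨ x ∈ D2 → adj x P := fun x hx => hsymm P x ((hΔ x).mpr hx)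
  have hμΓ : ∀ w ∈ Γ, nb adj w D1 + nb adj w D2 = μ := by
    intro w hw
    obtain ⟨hwP, hwadj⟩ := (hmemΓ w).mp hw
    rw [← hμ P w (Ne.symm hwP) hwadj]
    have h1 : Finset.univ.filter (fun v => adj P v ∧ adj w v) =
        D1.filter (fun y => adj w y) ∪ D2.filter (fun y => adj w y) := by
      ext v
      simp only [Finset.mem_filter, Finset.mem_univ, true_and, Finset.mem_union, hΔ v]
      tauto
    rw [h1, Finset.card_union_of_disjoint (Finset.disjoint_filter_filter hdisj)]
    rfl
  -- `m` is onto `D2`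
  have himg : D1.image m = D2 := by
    apply Finset.eq_of_subset_of_card_le
    · intro y hy
      obtain ⟨x, hx, rfl⟩ := Finset.mem_image.mp hy
      exact hm x hx
    · rw [Finset.card_image_of_injOn (fun x hx y hy hxy => hminj x hx y hy hxy), hD1, hD2]
  have hsurj : ∀ y ∈ D2, ∃ x ∈ D1, m x = y := by
    intro y hy
    rw [← himg] at hy
    obtain ⟨x, hx, rfl⟩ := Finset.mem_image.mp hy
    exact ⟨x, hx, rfl⟩
  -- the two bits
  obtain ⟨x0, hx0, y0, hy0, hxy0⟩ := Finset.one_lt_card.mp (by rw [hD1]; norm_num : 1 < D1.card)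
  obtain ⟨y1, hy1⟩ : ∃ y1, y1 ∈ D2.erase (m x0) := by
    apply Finset.card_pos.mp
    rw [Finset.card_erase_of_mem (hm x0 hx0), hD2]; norm_num
  have hy1D2 : y1 ∈ D2 := Finset.mem_of_mem_erase hy1
  have hy1ne : y1 ≠ m x0 := Finset.ne_of_mem_erase hy1
  have hA1 : ∀ x ∈ D1, ∀ y ∈ D1, x ≠ y → (adj x y ↔ adj x0 y0) :=
    fun x hx y hy hxy => ha x hx y hy x0 hx0 y0 hy0 hxy hxy0
  have hA2 : ∀ x ∈ D2, ∀ y ∈ D2, x ≠ y → (adj x y ↔ adj x0 y0) :=
    fun x hx y hy hxy => (ha' x0 hx0 y0 hy0 x hx y hy hxy0 hxy).symm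
  have hB : ∀ x ∈ D1, ∀ y ∈ D2, y ≠ m x → (adj x y ↔ adj x0 y1) :=
    fun x hx y hy hxy => hb x hx y hy x0 hx0 y1 hy1D2 hxy hy1ne
  -- neighbour counts inside `D1 ∪ D2`
  have hn11 : ∀ x ∈ D1, nb adj x D1 = if adj x0 y0 then 8 else 0 := by
    intro x hx
    unfold nb
    split_ifs with h
    · have : D1.filter (fun y => adj x y) = D1.erase x := by
        ext y
        rw [Finset.mem_filter, Finset.mem_erase]
        constructor
        · rintro ⟨hy, hxy⟩
          exact ⟨fun e => hirr x (e ▸ hxy), hy⟩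
        · rintro ⟨hne, hy⟩
          exact ⟨hy, (hA1 x hx y hy (Ne.symm hne)).mpr h⟩
      rw [this, Finset.card_erase_of_mem hx, hD1]
    · rw [Finset.card_eq_zero, Finset.filter_eq_empty_iff]
      intro y hy hxy
      by_cases e : x = y
      · exact hirr x (e ▸ hxy)
      · exact h ((hA1 x hx y hy e).mp hxy)
  have hn22 : ∀ x ∈ D2, nb adj x D2 = if adj x0 y0 then 8 else 0 := by
    intro x hx
    unfold nb
    split_ifs with h
    · have : D2.filter (fun y => adj x y) = D2.erase x := by
        ext y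
        rw [Finset.mem_filter, Finset.mem_erase]
        constructor
        · rintro ⟨hy, hxy⟩
          exact ⟨fun e => hirr x (e ▸ hxy), hy⟩
        · rintro ⟨hne, hy⟩
          exact ⟨hy, (hA2 x hx y hy (Ne.symm hne)).mpr h⟩
      rw [this, Finset.card_erase_of_mem hx, hD2]
    · rw [Finset.card_eq_zero, Finset.filter_eq_empty_iff]
      intro y hy hxy
      by_cases e : x = y
      · exact hirr x (e ▸ hxy)
      · exact h ((hA2 x hx y hy e).mp hxy)
  have hn12 : ∀ x ∈ D1, nb adj x D2 = if adj x0 y1 then 9 else 1 := by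
    intro x hx
    unfold nb
    split_ifs with h
    · rw [Finset.filter_true_of_mem, hD2]
      intro y hy
      by_cases e : y = m x
      · rw [e]; exact hmadj x hx
      · exact (hB x hx y hy e).mpr h
    · have : D2.filter (fun y => adj x y) = {m x} := by
        ext y
        rw [Finset.mem_filter, Finset.mem_singleton]
        constructor
        · rintro ⟨hy, hxy⟩
          by_contra e
          exact h ((hB x hx y hy e).mp hxy)
        · rintro rfl
          exact ⟨hm x hx, hmadj x hx⟩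
      rw [this, Finset.card_singleton]
  have hn21 : ∀ y ∈ D2, nb adj y D1 = if adj x0 y1 then 9 else 1 := by
    intro y hy
    obtain ⟨xy, hxy, hmxy⟩ := hsurj y hy
    unfold nb
    split_ifs with h
    · rw [Finset.filter_true_of_mem, hD1]
      intro x hx
      apply hsymm
      by_cases e : y = m x
      · rw [e]; exact hmadj x hx
      · exact (hB x hx y hy e).mpr h
    · have : D1.filter (fun x => adj y x) = {xy} := by
        ext x
        rw [Finset.mem_filter, Finset.mem_singleton]
        constructor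
        · rintro ⟨hx, hyx⟩
          by_contra e
          have hne : y ≠ m x := by
            intro e'
            apply e
            exact hminj x hx xy hxy (by rw [← e', hmxy])
          exact h ((hB x hx y hy hne).mp (hsymm y x hyx))
        · rintro rfl
          refine ⟨hxy, hsymm _ _ ?_⟩
          rw [← hmxy]; exact hmadj x hxy
      rw [this, Finset.card_singleton]
  -- neighbours in `Γ`
  have hnΓ1 : ∀ x ∈ D1, nb adj x Γ + (if adj x0 y0 then 8 else 0) + (if adj x0 y1 then 9 else 1) = 17 := by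
    intro x hx
    have h := hsplit x
    rw [if_pos (hadjP x (Or.inl hx)), hn11 x hx, hn12 x hx] at h
    omega
  have hnΓ2 : ∀ y ∈ D2, nb adj y Γ + (if adj x0 y0 then 8 else 0) + (if adj x0 y1 then 9 else 1) = 17 := by
    intro y hy
    have h := hsplit y
    rw [if_pos (hadjP y (Or.inr hy)), hn21 y hy, hn22 y hy] at h
    omega
  -- sums over `Γ`
  have hS1 : ∑ w ∈ Γ, nb adj w D1 = ∑ x ∈ D1, nb adj x Γ := (sum_nb_comm adj hsymm D1 Γ).symm
  have hS2 : ∑ w ∈ Γ, nb adj w D2 = ∑ y ∈ D2, nb adj y Γ := (sum_nb_comm adj hsymm D2 Γ).symm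
  have hSμ : 36 * μ = ∑ x ∈ D1, nb adj x Γ + ∑ y ∈ D2, nb adj y Γ := by
    rw [← hS1, ← hS2, ← Finset.sum_add_distrib, Finset.sum_congr rfl hμΓ, Finset.sum_const, hcardΓ,
      smul_eq_mul]
  have hΓpos : 0 < Γ.card := by rw [hcardΓ]; norm_num
  by_cases hA : adj x0 y0
  · by_cases hBb : adj x0 y1
    · -- case (1,1): `μ = 0`, two disjoint closed neighbourhoods inside `Γ`
      exfalso
      simp only [hA, hBb, if_true] at hnΓ1 hnΓ2
      have h1 : ∀ x ∈ D1, nb adj x Γ = 0 := fun x hx => by have := hnΓ1 x hx; omega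
      have h2 : ∀ y ∈ D2, nb adj y Γ = 0 := fun y hy => by have := hnΓ2 y hy; omega
      rw [Finset.sum_congr rfl h1, Finset.sum_congr rfl h2] at hSμ
      simp only [Finset.sum_const_zero, add_zero] at hSμ
      have hμ0 : μ = 0 := by omega
      have hN : ∀ w ∈ Γ, Finset.univ.filter (fun y => adj w y) ⊆ Γ.erase w := by
        intro w hw v hv
        rw [Finset.mem_filter] at hv
        have hwv := hv.2
        obtain ⟨hwP, hwadj⟩ := (hmemΓ w).mp hw
        have hs := hμΓ w hw
        rw [hμ0] at hs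
        have z1 : nb adj w D1 = 0 := by omega
        have z2 : nb adj w D2 = 0 := by omega
        unfold nb at z1 z2
        rw [Finset.card_eq_zero, Finset.filter_eq_empty_iff] at z1 z2
        rw [Finset.mem_erase]
        refine ⟨fun e => hirr w (e ▸ hwv), (hmemΓ v).mpr ⟨?_, ?_⟩⟩
        · rintro rfl
          exact hwadj (hsymm _ _ hwv)
        · intro hPv
          rcases (hΔ v).mp hPv with hv1 | hv2
          · exact z1 hv1 hwv
          · exact z2 hv2 hwv
      obtain ⟨w, hw⟩ := Finset.card_pos.mp hΓpos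
      have hlt : (Finset.univ.filter (fun y => adj w y)).card < (Γ.erase w).card := by
        rw [hdeg w, Finset.card_erase_of_mem hw, hcardΓ]; norm_num
      obtain ⟨w', hw', hw'N⟩ := Finset.exists_mem_notMem_of_card_lt_card hlt
      have hw'Γ : w' ∈ Γ := Finset.mem_of_mem_erase hw'
      have hne : w' ≠ w := Finset.ne_of_mem_erase hw'
      have hnadj : ¬ adj w w' := by
        intro h
        exact hw'N (Finset.mem_filter.mpr ⟨Finset.mem_univ _, h⟩)
      have hcommon := hμ w w' (Ne.symm hne) hnadj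
      rw [hμ0, Finset.card_eq_zero, Finset.filter_eq_empty_iff] at hcommon
      have hdj : Disjoint (Finset.univ.filter (fun y => adj w y)) (Finset.univ.filter (fun y => adj w' y)) := by
        rw [Finset.disjoint_left]
        intro v hv hv'
        exact hcommon (Finset.mem_univ v) ⟨(Finset.mem_filter.mp hv).2, (Finset.mem_filter.mp hv').2⟩
      have hsub : Finset.univ.filter (fun y => adj w y) ∪ Finset.univ.filter (fun y => adj w' y) ⊆ Γ.erase w := by
        apply Finset.union_subset (hN w hw)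
        intro v hv
        have hv' := hN w' hw'Γ hv
        rw [Finset.mem_erase]
        refine ⟨?_, Finset.mem_of_mem_erase hv'⟩
        rintro rfl
        exact hnadj (hsymm _ _ (Finset.mem_filter.mp hv).2)
      have hc := Finset.card_le_card hsub
      rw [Finset.card_union_of_disjoint hdj, hdeg w, hdeg w', Finset.card_erase_of_mem hw, hcardΓ] at hc
      omega
    · -- case (1,0): the conclusion
      exact ⟨fun x hx y hy hxy => (hA1 x hx y hy hxy).mpr hA,
        fun x hx y hy hxy h => hBb ((hB x hx y hy hxy).mp h)⟩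
  · by_cases hBb : adj x0 y1
    · -- case (0,1): `μ = 4` but `x0, y0` have all of `D2` as common neighbours
      exfalso
      simp only [hA, hBb, if_true, if_false] at hnΓ1 hnΓ2
      have h1 : ∀ x ∈ D1, nb adj x Γ = 8 := fun x hx => by have := hnΓ1 x hx; omega
      have h2 : ∀ y ∈ D2, nb adj y Γ = 8 := fun y hy => by have := hnΓ2 y hy; omega
      rw [Finset.sum_congr rfl h1, Finset.sum_congr rfl h2, Finset.sum_const, Finset.sum_const, hD1, hD2] at hSμ
      simp only [smul_eq_mul] at hSμ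
      have hμ4 : μ = 4 := by omega
      have hnadj : ¬ adj x0 y0 := hA
      have hcommon := hμ x0 y0 hxy0 hnadj
      have hsub : D2 ⊆ Finset.univ.filter (fun w => adj x0 w ∧ adj y0 w) := by
        intro y hy
        rw [Finset.mem_filter]
        refine ⟨Finset.mem_univ _, ?_, ?_⟩
        · by_cases e : y = m x0
          · rw [e]; exact hmadj x0 hx0
          · exact (hB x0 hx0 y hy e).mpr hBb
        · by_cases e : y = m y0
          · rw [e]; exact hmadj y0 hy0
          · exact (hB y0 hy0 y hy e).mpr hBb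
      have hc := Finset.card_le_card hsub
      rw [hcommon, hD2, hμ4] at hc
      omega
    · -- case (0,0): the variance argument
      exfalso
      simp only [hA, hBb, if_false] at hnΓ1 hnΓ2
      have h1 : ∀ x ∈ D1, nb adj x Γ = 16 := fun x hx => by have := hnΓ1 x hx; omega
      have h2 : ∀ y ∈ D2, nb adj y Γ = 16 := fun y hy => by have := hnΓ2 y hy; omega
      rw [Finset.sum_congr rfl h1, Finset.sum_congr rfl h2, Finset.sum_const, Finset.sum_const, hD1, hD2] at hSμ
      simp only [smul_eq_mul] at hSμ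
      have hμ8 : μ = 8 := by omega
      have hsumA : ∑ w ∈ Γ, nb adj w D1 = 144 := by
        rw [hS1, Finset.sum_congr rfl h1, Finset.sum_const, hD1]; rfl
      have h7 : ∀ p ∈ D1.offDiag, (Γ.filter (fun w => adj w p.1 ∧ adj w p.2)).card = 7 := by
        rintro ⟨x, y⟩ hp
        rw [Finset.mem_offDiag] at hp
        obtain ⟨hx, hy, hxy⟩ := hp
        have hnadj : ¬ adj x y := fun h => hA ((hA1 x hx y hy hxy).mp h)
        have h8 := hμ x y hxy hnadj
        rw [card_filter_split P D1 D2 hPD1 hPD2 hdisj (fun v => adj x v ∧ adj y v), hμ8] at h8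
        have e1 : D1.filter (fun v => adj x v ∧ adj y v) = ∅ := by
          rw [Finset.filter_eq_empty_iff]
          rintro v hv ⟨hxv, _⟩
          by_cases e : x = v
          · exact hirr x (e ▸ hxv)
          · exact hA ((hA1 x hx v hv e).mp hxv)
        have e2 : D2.filter (fun v => adj x v ∧ adj y v) = ∅ := by
          rw [Finset.filter_eq_empty_iff]
          rintro v hv ⟨hxv, hyv⟩
          have hv1 : v = m x := by
            by_contra e
            exact hBb ((hB x hx v hv e).mp hxv)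
          have hv2 : v = m y := by
            by_contra e
            exact hBb ((hB y hy v hv e).mp hyv)
          exact hxy (hminj x hx y hy (hv1.symm.trans hv2))
        rw [e1, e2, if_pos ⟨hadjP x (Or.inl hx), hadjP y (Or.inl hy)⟩] at h8
        simp only [Finset.card_empty, add_zero] at h8
        rw [← hΓdef] at h8
        have e3 : Γ.filter (fun w => adj w x ∧ adj w y) = Γ.filter (fun v => adj x v ∧ adj y v) := by
          apply Finset.filter_congr
          intro w _
          exact ⟨fun h => ⟨hsymm _ _ h.1, hsymm _ _ h.2⟩, fun h => ⟨hsymm _ _ h.1, hsymm _ _ h.2⟩⟩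
        show (Γ.filter (fun w => adj w x ∧ adj w y)).card = 7
        rw [e3]
        omega
      have hoff : ∑ w ∈ Γ, (nb adj w D1 * nb adj w D1 - nb adj w D1) = 504 := by
        have e : ∀ w ∈ Γ, nb adj w D1 * nb adj w D1 - nb adj w D1 =
            ((D1.offDiag).filter (fun p : Ω × Ω => adj w p.1 ∧ adj w p.2)).card := by
          intro w _
          unfold nb
          rw [← Finset.offDiag_card]
          congr 1
          ext ⟨x, y⟩
          simp only [Finset.mem_offDiag, Finset.mem_filter]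
          tauto
        rw [Finset.sum_congr rfl e]
        have hdc := Finset.sum_card_bipartiteAbove_eq_sum_card_bipartiteBelow (s := Γ)
          (t := D1.offDiag) (fun (w : Ω) (p : Ω × Ω) => adj w p.1 ∧ adj w p.2)
        simp only [Finset.bipartiteAbove, Finset.bipartiteBelow] at hdc
        rw [hdc, Finset.sum_congr rfl h7, Finset.sum_const, Finset.offDiag_card, hD1]
        rfl
      obtain ⟨w0, hw0⟩ := Finset.card_pos.mp hΓpos
      have hsq : ∀ w ∈ Γ, ((nb adj w D1 : ℤ) - 4) ^ 2 = ((nb adj w0 D1 : ℤ) - 4) ^ 2 := by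
        intro w hw
        obtain ⟨hwP, hwadj⟩ := (hmemΓ w).mp hw
        obtain ⟨hw0P, hw0adj⟩ := (hmemΓ w0).mp hw0
        have hs0 := hμΓ w0 hw0
        rcases hΓ w w0 hwP hwadj hw0P hw0adj with ⟨g1, _⟩ | ⟨g1, _⟩
        · have e1 : nb adj w D1 = nb adj w0 D1 := g1
          rw [e1]
        · have e1 : nb adj w D1 = nb adj w0 D2 := g1
          have e2 : (nb adj w D1 : ℤ) = 8 - (nb adj w0 D1 : ℤ) := by omega
          rw [e2]; ring
      have hsum : ∑ w ∈ Γ, ((nb adj w D1 : ℤ) - 4) ^ 2 = 72 := by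
        have e : ∀ w ∈ Γ, ((nb adj w D1 : ℤ) - 4) ^ 2 =
            ((nb adj w D1 * nb adj w D1 - nb adj w D1 : ℕ) : ℤ) - 7 * (nb adj w D1 : ℤ) + 16 := by
          intro w _
          rw [Nat.cast_sub (Nat.le_mul_self _)]
          push_cast; ring
        rw [Finset.sum_congr rfl e, Finset.sum_add_distrib, Finset.sum_sub_distrib, ← Finset.mul_sum,
          ← Nat.cast_sum, ← Nat.cast_sum, hoff, hsumA, Finset.sum_const, hcardΓ]
        norm_num
      rw [Finset.sum_congr rfl hsq, Finset.sum_const, hcardΓ] at hsum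
      have hk : ((nb adj w0 D1 : ℤ) - 4) ^ 2 = 2 := by
        rw [nsmul_eq_mul] at hsum
        push_cast at hsum
        linarith
      have hk1 : -2 < (nb adj w0 D1 : ℤ) - 4 := by nlinarith
      have hk2 : (nb adj w0 D1 : ℤ) - 4 < 2 := by nlinarith
      have hk3 : (nb adj w0 D1 : ℤ) - 4 = -1 ∨ (nb adj w0 D1 : ℤ) - 4 = 0 ∨ (nb adj w0 D1 : ℤ) - 4 = 1 := by omega
      rcases hk3 with e | e | e <;> rw [e] at hk <;> norm_num at hk

end Cfsg.Agent.Lib.H5.M11U
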