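import Mathlib

/-!
# S0420 piece ACT1, part a (helper5): orbit-stabilizer for a subgroup, in terms of the ambient group
-/

set_option autoImplicit false

namespace Cfsg.Agent.Lib.H5.M11U

variable {G : Type*} [Group G] {X : Type*} [MulAction G X]

theorem mem_orbit_subgroup_iff (H : Subgroup G) (x y : X) :
    y ∈ MulAction.orbit ↥H x ↔ ∃ g ∈ H, g • x = y := by
  rw [MulAction.mem_orbit_iff]
  constructor
  · rintro ⟨g, hg⟩
    exact ⟨(g : G), g.2, hg⟩
  · rintro ⟨g, hg, hgx⟩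
    exact ⟨⟨g, hg⟩, hgx⟩

/-- `|H ∩ G_x| * |x^H| = |H|` -/
theorem card_inf_stabilizer_mul_ncard_orbit (H : Subgroup G) (x : X) :
    Nat.card ↥(H ⊓ MulAction.stabilizer G x) * (MulAction.orbit ↥H x).ncard = Nat.card ↥H := by
  rw [← MulAction.index_stabilizer ↥H x, ← Subgroup.card_mul_index (MulAction.stabilizer ↥H x)]
  congr 1
  apply Nat.card_congr
  refine
    { toFun := fun g => ⟨⟨(g : G), g.2.1⟩, ?_⟩
      invFun := fun k => ⟨((k : ↥H) : G), Subgroup.mem_inf.mpr ⟨(k : ↥H).2, ?_⟩⟩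
      left_inv := fun g => rfl
      right_inv := fun k => rfl }
  · rw [MulAction.mem_stabilizer_iff]
    exact MulAction.mem_stabilizer_iff.mp g.2.2
  · rw [MulAction.mem_stabilizer_iff]
    exact MulAction.mem_stabilizer_iff.mp k.2

end Cfsg.Agent.Lib.H5.M11U
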