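import Mathlib
import Cfsg.Agent.Lib.H1.M11U.Base
import Cfsg.Agent.Lib.H5.M11ACT1a

/-!
# S0420 piece ACT1 (helper5), core: `|G_C| = 720` with `semireg` as an explicit hypothesis
-/

set_option autoImplicit false
open scoped Pointwise

universe u

namespace Cfsg.Agent.Lib.H5.M11U

open Cfsg.Agent.Lib.H1.M11U

variable {G : Type u} [Group G] [Finite G]

theorem card_stabilizer_clique_core (h : Hyp G)
    (hsemi : ∀ {P P' : Sylow 3 G}, P' ≠ P → ∀ {u : G}, u ∈ (P : Subgroup G) → u ≠ 1 → u • P' ≠ P')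
    {C : Set (Sylow 3 G)} (hC : C.ncard = 10)
    (hcl : ∀ x ∈ C, ∀ y ∈ C, x ≠ y → Adj x y)
    (hst : ∀ x ∈ C, ∀ u ∈ (x : Subgroup G), ∀ y ∈ C, u • y ∈ C) :
    Nat.card (MulAction.stabilizer G C) = 720 := by
  classical
  have hCfin : C.Finite := Set.toFinite C
  have hmemH : ∀ g : G, g ∈ MulAction.stabilizer G C ↔ ∀ c ∈ C, g • c ∈ C := by
    intro g
    rw [MulAction.mem_stabilizer_set_iff_smul_set_subset hCfin]
    constructor
    · intro hg c hc
      exact hg (Set.smul_mem_smul_set hc)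
    · rintro hg y ⟨c, hc, rfl⟩
      exact hg c hc
  have hsubH : ∀ x ∈ C, ∀ u ∈ (x : Subgroup G), u ∈ MulAction.stabilizer G C :=
    fun x hx u hu => (hmemH u).mpr (fun c hc => hst x hx u hu c hc)
  have hstab : ∀ x : Sylow 3 G, MulAction.stabilizer G x = Nrm x := by
    intro x
    ext g
    rw [MulAction.mem_stabilizer_iff]
    exact smul_eq_iff g x
  -- regularity of `z` on `C \ {z}`
  have hreg : ∀ z ∈ C, ∀ a ∈ C, a ≠ z → ∀ b ∈ C, b ≠ z → ∃ u ∈ (z : Subgroup G), u • a = b := by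
    intro z hz a ha haz b hb hbz
    have hmaps : ∀ u : ↥(z : Subgroup G), (u : G) • a ∈ C \ {z} := by
      intro u
      refine ⟨hst z hz u u.2 a ha, ?_⟩
      intro hua
      rw [Set.mem_singleton_iff] at hua
      apply haz
      have hz' : (u : G)⁻¹ • z = z :=
        (smul_eq_iff _ z).mpr (Subgroup.le_normalizer (Subgroup.inv_mem _ u.2))
      calc a = (u : G)⁻¹ • ((u : G) • a) := (inv_smul_smul _ _).symm
        _ = (u : G)⁻¹ • z := by rw [hua]
        _ = z := hz'
    let f : ↥(z : Subgroup G) → ↥(C \ {z}) := fun u => ⟨(u : G) • a, hmaps u⟩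
    have hfinj : Function.Injective f := by
      intro u v huv
      have e : (u : G) • a = (v : G) • a := congrArg Subtype.val huv
      by_contra hne
      have hne' : (v : G)⁻¹ * (u : G) ≠ 1 := by
        intro e1
        apply hne
        apply Subtype.ext
        exact (inv_mul_eq_one.mp e1).symm
      have hmem : (v : G)⁻¹ * (u : G) ∈ (z : Subgroup G) :=
        Subgroup.mul_mem _ (Subgroup.inv_mem _ v.2) u.2
      apply hsemi haz hmem hne'
      rw [mul_smul, e, inv_smul_smul]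
    have hcard : Nat.card ↥(C \ {z}) ≤ Nat.card ↥(z : Subgroup G) := by
      rw [card_sylow3_sub h z, Nat.card_coe_set_eq, Set.ncard_sdiff_singleton_of_mem hz, hC]
    have hbij := hfinj.bijective_of_nat_card_le hcard
    obtain ⟨u, hu⟩ := hbij.2 ⟨b, hb, by simpa using hbz⟩
    exact ⟨(u : G), u.2, congrArg Subtype.val hu⟩
  -- two distinct points
  obtain ⟨x0, y0, hx0, hy0, hne0⟩ := (Set.one_lt_ncard_iff hCfin).mp (by rw [hC]; norm_num)
  set H := MulAction.stabilizer G C with hH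
  have horb : MulAction.orbit ↥H x0 = C := by
    ext y
    rw [mem_orbit_subgroup_iff]
    constructor
    · rintro ⟨g, hg, rfl⟩
      exact (hmemH g).mp hg x0 hx0
    · intro hy
      by_cases e : y = x0
      · exact ⟨1, H.one_mem, by rw [one_smul, e]⟩
      · obtain ⟨z, hz, hzn⟩ : ∃ z ∈ C, z ∉ ({x0, y} : Set (Sylow 3 G)) := by
          apply Set.exists_mem_notMem_of_ncard_lt_ncard _ (Set.toFinite _)
          rw [Set.ncard_pair (Ne.symm e), hC]; norm_num
        have hzx : z ≠ x0 := fun e' => hzn (by rw [e']; exact Set.mem_insert _ _)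
        have hzy : z ≠ y := fun e' => hzn (by rw [e']; exact Set.mem_insert_of_mem _ rfl)
        obtain ⟨u, hu, hua⟩ := hreg z hz x0 hx0 (Ne.symm hzx) y hy (Ne.symm hzy)
        exact ⟨u, hsubH z hz u hu, hua⟩
  have hK : Nat.card ↥(H ⊓ MulAction.stabilizer G x0) * 10 = Nat.card ↥H := by
    have := card_inf_stabilizer_mul_ncard_orbit H x0
    rwa [horb, hC] at this
  set K := H ⊓ MulAction.stabilizer G x0 with hKdef
  have horbK : MulAction.orbit ↥K y0 = C \ {x0} := by
    ext y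
    rw [mem_orbit_subgroup_iff]
    constructor
    · rintro ⟨g, hg, rfl⟩
      obtain ⟨hgH, hgx⟩ := Subgroup.mem_inf.mp hg
      refine ⟨(hmemH g).mp hgH y0 hy0, ?_⟩
      rw [Set.mem_singleton_iff]
      intro e
      apply hne0
      have hgx' : g • x0 = x0 := MulAction.mem_stabilizer_iff.mp hgx
      have : g • y0 = g • x0 := by rw [e, hgx']
      exact (smul_left_cancel g this).symm
    · rintro ⟨hy, hyx⟩
      rw [Set.mem_singleton_iff] at hyx
      obtain ⟨u, hu, huy⟩ := hreg x0 hx0 y0 hy0 (Ne.symm hne0) y hy hyx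
      refine ⟨u, Subgroup.mem_inf.mpr ⟨hsubH x0 hx0 u hu, ?_⟩, huy⟩
      rw [hstab]
      exact Subgroup.le_normalizer hu
  have hQ : Nat.card ↥(K ⊓ MulAction.stabilizer G y0) * 9 = Nat.card ↥K := by
    have := card_inf_stabilizer_mul_ncard_orbit K y0
    rwa [horbK, Set.ncard_sdiff_singleton_of_mem hx0, hC] at this
  have hQeq : K ⊓ MulAction.stabilizer G y0 = Nrm x0 ⊓ Nrm y0 := by
    rw [hKdef, hstab, hstab]
    apply le_antisymm
    · intro g hg
      obtain ⟨hg1, hg2⟩ := Subgroup.mem_inf.mp hg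
      exact Subgroup.mem_inf.mpr ⟨(Subgroup.mem_inf.mp hg1).2, hg2⟩
    · intro q hq
      obtain ⟨hq1, hq2⟩ := Subgroup.mem_inf.mp hq
      refine Subgroup.mem_inf.mpr ⟨Subgroup.mem_inf.mpr ⟨?_, hq1⟩, hq2⟩
      rw [hH, hmemH]
      intro c hc
      by_cases e : c = x0
      · rw [e, (smul_eq_iff q x0).mpr hq1]; exact hx0
      · obtain ⟨u, hu, huc⟩ := hreg x0 hx0 y0 hy0 (Ne.symm hne0) c hc e
        rw [← huc, ← mul_smul]
        have e2 : q * u = (q * u * q⁻¹) * q := by group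
        rw [e2, mul_smul, (smul_eq_iff q y0).mpr hq2]
        apply hst x0 hx0 _ _ y0 hy0
        exact (Subgroup.mem_normalizer_iff.mp hq1 u).mp hu
  have h8 : Nat.card ↥(Nrm x0 ⊓ Nrm y0) = 8 := hcl x0 hx0 y0 hy0 hne0
  rw [hQeq, h8] at hQ
  omega

end Cfsg.Agent.Lib.H5.M11U
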