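import Mathlib
import Cfsg.Agent.Lib.H1.M11U.Base
import Cfsg.Agent.Lib.H9.M11SUB
import Cfsg.Agent.Lib.H5.M11ACT1core

/-!
# S0420 piece ACT1 (helper5): `card_stabilizer_clique`, exact signature of
`tools/blueprints/S0420_sigs.lean` (core in `M11ACT1core`, `semireg` from helper9's `H9.M11SUB`)
-/

set_option autoImplicit false
open scoped Pointwise

universe u

namespace Cfsg.Agent.Lib.H5.M11U

open Cfsg.Agent.Lib.H1.M11U

variable {G : Type u} [Group G] [Finite G]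

/-- (ACT1) `|G_C| = 10 * 72`. -/
theorem card_stabilizer_clique (h : Hyp G) {C : Set (Sylow 3 G)} (hC : C.ncard = 10)
    (hcl : ∀ x ∈ C, ∀ y ∈ C, x ≠ y → Adj x y)
    (hst : ∀ x ∈ C, ∀ u ∈ (x : Subgroup G), ∀ y ∈ C, u • y ∈ C) :
    Nat.card (MulAction.stabilizer G C) = 720 :=
  card_stabilizer_clique_core h
    (fun hne _ hu hu1 => Cfsg.Agent.Lib.H9.M11U.semireg h hne hu hu1) hC hcl hst

end Cfsg.Agent.Lib.H5.M11U
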