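import Cfsg.Agent.Lib.H5.S3571SS45
import Cfsg.Agent.Lib.H8.S3571SSDefs

/-!
# S3571, block NT: SS4 (with `0 < n`) and SS5 in the exact shapes of helper8's cut (helper5)
-/

set_option autoImplicit false

namespace Cfsg.Agent.Lib.H5.S3571SS

open Cfsg.Agent.Lib.H8.S3571SS

/-- SS5 in the exact shape of the cut. -/
theorem ss5 : SS5Stmt := by
  intro n k t h6 h2k hs ht
  rw [mul_comm]
  exact choose_le_third n k t h2k h6 hs ht

/-- SS4 in the shape of the cut, with the missing hypothesis `0 < n` (the cut's `SS4Stmt` fails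
at `n = k = 0`, `t = 1`). -/
theorem ss4' : ∀ n k t : ℕ, 0 < n → 2 * k ≤ n → Smooth n k → n < (t + 1) ^ 3 →
    n.choose k ≤ 4 ^ (k + Nat.sqrt n) * n ^ t := by
  intro n k t hn _ hs ht
  rw [mul_comm]
  exact choose_le_level n k t hn hs ht

/-- SS4 with `1 ≤ k` instead. -/
theorem ss4'' : ∀ n k t : ℕ, 1 ≤ k → 2 * k ≤ n → Smooth n k → n < (t + 1) ^ 3 →
    n.choose k ≤ 4 ^ (k + Nat.sqrt n) * n ^ t := by
  intro n k t hk h2k hs ht
  exact ss4' n k t (by omega) h2k hs ht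

end Cfsg.Agent.Lib.H5.S3571SS
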