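import Mathlib

/-!
# S3797, the MAIN LEMMA (board #9612): abstract additive cut (helper5, sub-architect)

`U = K/V` and `V` written additively (finite additive groups of exponent 2), `κ : U → V` the squaring
map (quadratic, polar form `β` = commutator, anisotropic), `W` a set of pairwise commuting `κ`-preserving
additive involutions of `U` (the group `Ω₁(Z(W))`), and `E` acting through the index type `I` by the
injective additive maps `a i : U → U`, `b i : V → V`, `κ`-equivariantly, transitively on `V ∖ 0`, and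
normalising `W`.  Conclusion `AMLStmt`: `W` has at most one non-identity element.
-/

set_option autoImplicit false

namespace Cfsg.Agent.Lib.H5.S3797ML

universe u

/-- `κ` is an anisotropic quadratic map with polar form `β` between additive groups of exponent 2 -/
structure Quad {U V : Type u} [AddCommGroup U] [AddCommGroup V] (κ : U → V) (β : U → U → V) : Prop where
  two_U : ∀ x : U, x + x = 0
  two_V : ∀ v : V, v + v = 0
  polar : ∀ x y : U, κ (x + y) = κ x + κ y + β x y
  add_left : ∀ x y z : U, β (x + y) z = β x z + β y z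
  anis : ∀ x : U, κ x = 0 → x = 0

/-- `W` is a set of pairwise commuting `κ`-preserving additive involutions of `U` -/
structure Invs {U V : Type u} [AddCommGroup U] [AddCommGroup V] (κ : U → V) (W : Set (U → U)) : Prop where
  add : ∀ g ∈ W, ∀ x y : U, g (x + y) = g x + g y
  invol : ∀ g ∈ W, ∀ x : U, g (g x) = x
  pres : ∀ g ∈ W, ∀ x : U, κ (g x) = κ x
  comm : ∀ g ∈ W, ∀ h ∈ W, ∀ x : U, g (h x) = h (g x)

/-- the action of `E` (index type `I`) on `U` and `V` -/
structure Act {U V : Type u} [AddCommGroup U] [AddCommGroup V] (κ : U → V) (W : Set (U → U))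
    {I : Type u} (a : I → U → U) (b : I → V → V) : Prop where
  a_add : ∀ i, ∀ x y : U, a i (x + y) = a i x + a i y
  a_inj : ∀ i, Function.Injective (a i)
  b_add : ∀ i, ∀ v w : V, b i (v + w) = b i v + b i w
  equiv : ∀ i, ∀ x : U, κ (a i x) = b i (κ x)
  trans : ∀ v w : V, v ≠ 0 → w ≠ 0 → ∃ i, b i v = w
  Winv : ∀ i, ∀ g ∈ W, ∃ h ∈ W, ∀ x : U, a i (g x) = h (a i x)

/-- `M = [U, W]`, the subgroup generated by all `x + g x` -/
def Mof {U : Type u} [AddCommGroup U] (W : Set (U → U)) : AddSubgroup U :=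
  AddSubgroup.closure {y : U | ∃ g ∈ W, ∃ x : U, y = x + g x}

/-- (M1) the count: equal fibres of `κ` over `V ∖ 0` force `|U| ∈ {1, |V|, |V|²}`, and in the last
case every `β a`, `a ≠ 0`, is onto `V`. -/
def M1Stmt : Prop :=
  ∀ (U V : Type u) [AddCommGroup U] [AddCommGroup V] [Finite U] [Finite V] (κ : U → V) (β : U → U → V),
    Quad κ β →
    (∀ v w : V, v ≠ 0 → w ≠ 0 → Nat.card {x : U // κ x = v} = Nat.card {x : U // κ x = w}) →
    Nat.card U = 1 ∨ Nat.card U = Nat.card V ∨
      (Nat.card U = Nat.card V ^ 2 ∧ ∀ a : U, a ≠ 0 → Function.Surjective (β a))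

/-- (M2) `W` fixes `M = [U,W]` pointwise and `M` is `β`-isotropic (no finiteness, no `E`). -/
def M2Stmt : Prop :=
  ∀ (U V : Type u) [AddCommGroup U] [AddCommGroup V] (κ : U → V) (β : U → U → V) (W : Set (U → U)),
    Quad κ β → Invs κ W →
    (∀ m ∈ Mof W, ∀ g ∈ W, g m = m) ∧ (∀ m ∈ Mof W, ∀ m' ∈ Mof W, β m m' = 0)

/-- (M3) if `W` acts non-trivially then `κ` maps `M` bijectively onto `V` (`E`-transitivity). -/
def M3Stmt : Prop :=
  ∀ (U V : Type u) [AddCommGroup U] [AddCommGroup V] [Finite U] [Finite V] (κ : U → V) (β : U → U → V)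
    (W : Set (U → U)) (I : Type u) (a : I → U → U) (b : I → V → V),
    Quad κ β → Invs κ W → Act κ W a b →
    (∀ m ∈ Mof W, ∀ m' ∈ Mof W, β m m' = 0) → (∃ g ∈ W, ∃ x : U, g x ≠ x) →
    (∀ v : V, ∃ m ∈ Mof W, κ m = v) ∧ Nat.card (Mof W) = Nat.card V

/-- (M4) the end game: `|U| = |V|²`, `|M| = |V|`, every `β a` (`a ≠ 0`) onto with
`ker β a = M` for `a ∈ M ∖ 0`  ⇒  two non-identity elements of `W` coincide. -/
def M4Stmt : Prop :=
  ∀ (U V : Type u) [AddCommGroup U] [AddCommGroup V] [Finite U] [Finite V] (κ : U → V) (β : U → U → V)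
    (W : Set (U → U)) (I : Type u) (a : I → U → U) (b : I → V → V),
    Quad κ β → Invs κ W → Act κ W a b →
    (∀ m ∈ Mof W, ∀ g ∈ W, g m = m) → (∀ m ∈ Mof W, ∀ m' ∈ Mof W, β m m' = 0) →
    Nat.card U = Nat.card V ^ 2 → Nat.card (Mof W) = Nat.card V →
    (∀ c : U, c ≠ 0 → Function.Surjective (β c)) →
    (∀ c ∈ Mof W, c ≠ 0 → ∀ x : U, β c x = 0 → x ∈ Mof W) →
    ∀ g ∈ W, ∀ h ∈ W, (∃ x : U, g x ≠ x) → (∃ x : U, h x ≠ x) → ∀ x : U, g x = h x

/-- the abstract main lemma: `W` has at most one non-identity element -/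
def AMLStmt : Prop :=
  ∀ (U V : Type u) [AddCommGroup U] [AddCommGroup V] [Finite U] [Finite V] (κ : U → V) (β : U → U → V)
    (W : Set (U → U)) (I : Type u) (a : I → U → U) (b : I → V → V),
    Quad κ β → Invs κ W → Act κ W a b →
    ∀ g ∈ W, ∀ h ∈ W, (∃ x : U, g x ≠ x) → (∃ x : U, h x ≠ x) → ∀ x : U, g x = h x

end Cfsg.Agent.Lib.H5.S3797ML
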