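import Cfsg.Agent.Lib.H5.S3797M2

/-!
# S3797 main lemma, piece (M4): the end game

`Θ_g x = x + g x` is an additive map `U → M` with kernel exactly `M` (for `g` non-trivial), hence onto `M`
by counting; every non-zero `m ∈ M` with `β m y = κ m` then equals `Θ_g y`, and the same for `h`.
-/

set_option autoImplicit false

namespace Cfsg.Agent.Lib.H5.S3797ML

universe u

/-- (M4) -/
theorem m4 : M4Stmt.{u} := by
  intro U V _ _ _ _ κ β W I a b q hW _hA hfix hiso hU hM hsurj hker g hg h hh hgx hhx x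
  -- basic facts on `Θ_f y = y + f y`
  have hΘmem : ∀ f ∈ W, ∀ y : U, y + f y ∈ Mof W :=
    fun f hf y => AddSubgroup.subset_closure ⟨f, hf, y, rfl⟩
  have hΘF : ∀ f ∈ W, ∀ y : U, β (y + f y) y = κ (y + f y) := by
    intro f hf y
    rw [q.add_left, q.beta_self, zero_add, q.beta_symm, hW.kappa_comm q hf]
  have hΘadd : ∀ f ∈ W, ∀ y z : U, (y + z) + f (y + z) = (y + f y) + (z + f z) := by
    intro f hf y z
    rw [hW.add f hf]; abel
  have hΘM : ∀ f ∈ W, ∀ m ∈ Mof W, m + f m = 0 := by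
    intro f hf m hm
    rw [hfix m hm f hf, q.two_U]
  have K5 : ∀ m ∈ Mof W, m ≠ 0 → ∀ y z : U, β m y = κ m → β m z = κ m → y + z ∈ Mof W := by
    intro m hm hm0 y z hy hz
    apply hker m hm hm0
    rw [q.add_right, hy, hz, q.two_V]
  -- a non-trivial `f` has `Θ_f y ≠ 0` off `M`
  have S1 : ∀ f ∈ W, (∃ y : U, f y ≠ y) → ∀ y : U, y ∉ Mof W → y + f y ≠ 0 := by
    intro f hf hne y hyM h0
    obtain ⟨y₁, hy₁⟩ := hne
    have h1 : y₁ + f y₁ ≠ 0 := fun e => hy₁ (q.u_eq_of_add_eq_zero e).symm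
    have h2 : (y₁ + y) + f (y₁ + y) = y₁ + f y₁ := by rw [hΘadd f hf, h0, add_zero]
    have h3 := hΘF f hf (y₁ + y)
    rw [h2] at h3
    have h4 := hΘF f hf y₁
    have h5 := K5 _ (hΘmem f hf y₁) h1 _ _ h4 h3
    rw [← add_assoc, q.two_U, zero_add] at h5
    exact hyM h5
  -- `Θ_g` as an additive map
  let T : U →+ U := AddMonoidHom.mk' (fun y => y + g y) (fun y z => hΘadd g hg y z)
  have hTker : T.ker = Mof W := by
    ext y
    rw [AddMonoidHom.mem_ker]
    constructor
    · intro hy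
      by_contra hyM
      exact S1 g hg hgx y hyM hy
    · intro hy
      exact hΘM g hg y hy
  have hTrange : T.range = Mof W := by
    have hle : T.range ≤ Mof W := by
      rintro _ ⟨y, rfl⟩
      exact hΘmem g hg y
    have hMpos : 0 < Nat.card (Mof W) := Nat.card_pos
    have hcard : Nat.card (Mof W) * Nat.card T.range = Nat.card U := by
      have h1 := AddSubgroup.card_mul_index T.ker
      rw [AddSubgroup.index_ker, hTker] at h1
      exact h1
    have hrc : Nat.card T.range = Nat.card (Mof W) := by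
      rw [hU, ← hM, pow_two] at hcard
      exact Nat.eq_of_mul_eq_mul_left hMpos hcard
    exact AddSubgroup.eq_of_le_of_card_ge hle (by rw [hrc])
  -- uniqueness: a non-zero `m ∈ M` with `β m y = κ m` is `Θ_g y`
  have huniq : ∀ m ∈ Mof W, m ≠ 0 → ∀ y : U, β m y = κ m → m = y + g y := by
    intro m hm hm0 y hy
    have hmr : m ∈ T.range := by rw [hTrange]; exact hm
    obtain ⟨x', hx'⟩ := hmr
    have hx'' : x' + g x' = m := hx'
    have h1 : β m x' = κ m := by rw [← hx'']; exact hΘF g hg x'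
    have h2 := K5 m hm hm0 x' y h1 hy
    have h3 : y = x' + (x' + y) := by rw [← add_assoc, q.two_U, zero_add]
    have h4 : y + g y = (x' + g x') + ((x' + y) + g (x' + y)) := by
      conv_lhs => rw [h3]
      exact hΘadd g hg x' (x' + y)
    rw [h4, hΘM g hg _ h2, add_zero, hx'']
  -- conclusion
  by_cases hxM : x ∈ Mof W
  · rw [hfix x hxM g hg, hfix x hxM h hh]
  · have h1 := S1 h hh hhx x hxM
    have h2 := huniq (x + h x) (hΘmem h hh x) h1 x (hΘF h hh x)
    exact (add_left_cancel h2).symm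

end Cfsg.Agent.Lib.H5.S3797ML
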