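import Cfsg.Agent.Lib.H5.S3797MLAsm
import Cfsg.Agent.Lib.H5.S3797M4
import Cfsg.Agent.Lib.H9.S3797M1W
import Cfsg.Agent.Lib.H16.S3797M3

/-!
# S3797: the abstract main lemma `aml : AMLStmt`, assembled

pieces: (M1) helper9, (M2) helper5, (M3) helper16, (M4) helper5.
-/

namespace Cfsg.Agent.Lib.H5.S3797ML

universe u

/-- the abstract main lemma -/
theorem aml : AMLStmt.{u} :=
  aml_of Cfsg.Agent.Lib.H9.S3797M1W.m1 m2 Cfsg.Agent.Lib.H16.S3797M3.m3 m4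

end Cfsg.Agent.Lib.H5.S3797ML
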