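import Mathlib
import Cfsg.Agent.Lib.H5.S3797AML
import Cfsg.Agent.Lib.H25.S3797M0A
import Cfsg.Agent.Lib.H1.S3797M0B

/-!
# S3797 — the Main Lemma `ML`, assembled (helper5, ML sub-architect)

`ml : Cfsg.Agent.Lib.H19.S3797.MLStmt` is obtained from the abstract main lemma
`aml` (helper5: `Lib/H5/S3797AML`, built from M1 helper9, M2 helper5, M3 helper16,
M4 helper5) through the two halves of the group-side bridge M0:
`m0a` (helper25, abstract to group core) and `m0b` (helper1, group core to ML).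
-/

universe u

namespace Cfsg.Agent.Lib.H5.S3797MLFinal

/-- The Main Lemma of S3797, exact shape of helper19's cut. -/
theorem ml : Cfsg.Agent.Lib.H19.S3797.MLStmt.{u} :=
  Cfsg.Agent.Lib.H1.S3797M0B.m0b.{u}
    (Cfsg.Agent.Lib.H25.S3797M0A.m0a.{u} Cfsg.Agent.Lib.H5.S3797ML.aml.{u})

end Cfsg.Agent.Lib.H5.S3797MLFinal
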