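/-
S4130-B1 (lead farm-out): covering trick.  If all class sizes of `G` are squarefree then every commutator of two
elements of a Sylow `p`-subgroup is central in `G`.
-/
import Mathlib
import Cfsg.Agent.Lib.L0.SFDefs
import Cfsg.Agent.Lib.H20.ConjCover

set_option autoImplicit false

namespace Cfsg.Agent.Lib.H5.SF

open Cfsg.Agent.Lib.L0.SF

/-- A subgroup of index dividing `p` of a finite `p`-group contains all commutators. -/
theorem comm_mem_of_index_dvd_prime {R : Type*} [Group R] [Finite R] {p : ℕ} [hp : Fact p.Prime]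
    (hR : IsPGroup p R) (K : Subgroup R) (hK : K.index ∣ p) (a b : R) : a * b * a⁻¹ * b⁻¹ ∈ K := by
  rcases (Nat.dvd_prime hp.out).mp hK with h1 | h1
  · rw [Subgroup.index_eq_one] at h1
    rw [h1]; trivial
  · -- index p: normal with cyclic quotient
    obtain ⟨k, hk⟩ := IsPGroup.iff_card.mp hR
    have hk0 : k ≠ 0 := by
      rintro rfl
      have hdvd : K.index ∣ Nat.card R := Subgroup.index_dvd_card K
      rw [h1, hk, pow_zero] at hdvd
      exact hp.out.not_dvd_one hdvd
    have hmin : (Nat.card R).minFac = p := by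
      rw [hk]; exact hp.out.pow_minFac hk0
    have : K.Normal := Subgroup.normal_of_index_eq_minFac_card (by rw [h1, hmin])
    have hcard : Nat.card (R ⧸ K) = p := by
      rw [← Subgroup.index_eq_card]; exact h1
    have : IsCyclic (R ⧸ K) := isCyclic_of_prime_card hcard
    have hcomm : ∀ x y : R ⧸ K, x * y = y * x := fun x y =>
      (IsCyclic.isMulCommutative (α := R ⧸ K)).is_comm.comm x y
    rw [← QuotientGroup.eq_one_iff]
    simp only [QuotientGroup.mk_mul, QuotientGroup.mk_inv]
    rw [hcomm (a : R ⧸ K) (b : R ⧸ K)]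
    group

/-- The basic consequence of `SFClass`: every `g` centralises a `p`-subgroup `Q` with `|G|_p ∣ p * |Q|`. -/
theorem SFClass.exists_pSubgroup_centralizer {G : Type*} [Group G] [Finite G] (h : SFClass G) (p : ℕ)
    [hp : Fact p.Prime] (g : G) :
    ∃ Q : Subgroup G, IsPGroup p Q ∧ Q ≤ Subgroup.centralizer ({g} : Set G) ∧
      p ^ (Nat.card G).factorization p ∣ p * Nat.card Q := by
  classical
  set C : Subgroup G := Subgroup.centralizer ({g} : Set G) with hC
  obtain Q0 : Sylow p C := default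
  refine ⟨(Q0 : Subgroup C).map C.subtype, Q0.isPGroup'.map _, ?_, ?_⟩
  · intro x hx
    obtain ⟨y, -, rfl⟩ := Subgroup.mem_map.mp hx
    exact y.2
  · have hcardQ : Nat.card ((Q0 : Subgroup C).map C.subtype) = Nat.card (Q0 : Subgroup C) :=
      Subgroup.card_map_of_injective C.subtype_injective
    rw [hcardQ, Q0.card_eq_multiplicity]
    have hmul : Nat.card C * C.index = Nat.card G := Subgroup.card_mul_index C
    have hsq : Squarefree C.index := h g
    have hle : (C.index).factorization p ≤ 1 := hsq.natFactorization_le_one p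
    have hCpos : Nat.card C ≠ 0 := Nat.card_pos.ne'
    have hipos : C.index ≠ 0 := hsq.ne_zero
    have hfac : (Nat.card G).factorization p = (Nat.card C).factorization p + (C.index).factorization p := by
      rw [← hmul, Nat.factorization_mul hCpos hipos]; rfl
    rw [hfac, ← pow_succ']
    exact pow_dvd_pow p (by omega)

theorem SFClass.sylow_commutator_mem_center {G : Type*} [Group G] [Finite G] (h : SFClass G) {p : ℕ}
    [Fact p.Prime] (P : Sylow p G) (a b : G) (ha : a ∈ P) (hb : b ∈ P) : a * b * a⁻¹ * b⁻¹ ∈ Subgroup.center G := by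
  classical
  -- the centraliser of all commutators of P
  set T : Set G := {y | ∃ a ∈ P, ∃ b ∈ P, y = a * b * a⁻¹ * b⁻¹} with hT
  set M : Subgroup G := Subgroup.centralizer T with hM
  by_cases hMtop : M = ⊤
  · rw [Subgroup.mem_center_iff]
    intro g
    have hg : g ∈ M := by rw [hMtop]; trivial
    rw [hM, Subgroup.mem_centralizer_iff] at hg
    exact (hg _ ⟨a, ha, b, hb, rfl⟩).symm
  · exfalso
    obtain ⟨g, hg⟩ := Cfsg.Agent.Lib.H20.exists_not_mem_conj M hMtop
    obtain ⟨Q, hQp, hQC, hQcard⟩ := SFClass.exists_pSubgroup_centralizer h p g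
    obtain ⟨P', hQP'⟩ := hQp.exists_le_sylow
    obtain ⟨x, hx⟩ := MulAction.exists_smul_eq G P P'
    apply hg x
    -- relative index of Q in P' divides p
    have hrel : Q.relIndex P' ∣ p := by
      have h1 : Q.relIndex P' * Nat.card Q = Nat.card P' := by
        have h3 := Subgroup.card_mul_index (Q.subgroupOf (P' : Subgroup G))
        have h4 : Nat.card (Q.subgroupOf (P' : Subgroup G)) = Nat.card Q :=
          Nat.card_congr (Subgroup.subgroupOfEquivOfLe hQP').toEquiv
        rw [h4, mul_comm] at h3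
        exact h3
      have h2 : Nat.card P' = p ^ (Nat.card G).factorization p := P'.card_eq_multiplicity
      rw [h2] at h1
      rw [← h1] at hQcard
      have hQpos : Nat.card Q ≠ 0 := Nat.card_pos.ne'
      exact Nat.dvd_of_mul_dvd_mul_right (Nat.pos_of_ne_zero hQpos) hQcard
    have hKidx : (Q.subgroupOf P').index ∣ p := hrel
    -- g ∈ x • M
    rw [Subgroup.mem_pointwise_smul_iff_inv_smul_mem, hM, Subgroup.mem_centralizer_iff]
    rintro y ⟨a', ha', b', hb', rfl⟩
    have hxa : x * a' * x⁻¹ ∈ (P' : Subgroup G) := by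
      rw [← hx, Sylow.coe_subgroup_smul, Subgroup.mem_pointwise_smul_iff_inv_smul_mem]
      have e1 : (MulAut.conj x)⁻¹ • (x * a' * x⁻¹) = a' := by simp [MulAut.smul_def, mul_assoc]
      rw [e1]; exact ha'
    have hxb : x * b' * x⁻¹ ∈ (P' : Subgroup G) := by
      rw [← hx, Sylow.coe_subgroup_smul, Subgroup.mem_pointwise_smul_iff_inv_smul_mem]
      have e1 : (MulAut.conj x)⁻¹ • (x * b' * x⁻¹) = b' := by simp [MulAut.smul_def, mul_assoc]
      rw [e1]; exact hb'
    have hmem := comm_mem_of_index_dvd_prime (R := (P' : Subgroup G)) P'.isPGroup'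
      (Q.subgroupOf P') hKidx ⟨_, hxa⟩ ⟨_, hxb⟩
    rw [Subgroup.mem_subgroupOf] at hmem
    have hcen := hQC hmem
    rw [Subgroup.mem_centralizer_iff] at hcen
    have := hcen g rfl
    simp only [Subgroup.coe_mul, Subgroup.coe_inv] at this
    simp only [MulAut.smul_def, MulAut.conj_apply, inv_inv]
    -- this : g * (x a' x⁻¹ x b' x⁻¹ (x a' x⁻¹)⁻¹ (x b' x⁻¹)⁻¹) = ... * g
    have e : x * a' * x⁻¹ * (x * b' * x⁻¹) * (x * a' * x⁻¹)⁻¹ * (x * b' * x⁻¹)⁻¹
        = x * (a' * b' * a'⁻¹ * b'⁻¹) * x⁻¹ := by group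
    rw [e] at this
    calc a' * b' * a'⁻¹ * b'⁻¹ * (x⁻¹ * g * x)
        = x⁻¹ * (x * (a' * b' * a'⁻¹ * b'⁻¹) * x⁻¹ * g) * x := by group
      _ = x⁻¹ * (g * (x * (a' * b' * a'⁻¹ * b'⁻¹) * x⁻¹)) * x := by rw [this]
      _ = x⁻¹ * g * x * (a' * b' * a'⁻¹ * b'⁻¹) := by group

end Cfsg.Agent.Lib.H5.SF
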