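/-
S4130-B2 (lead farm-out): counting lower bound.  If all class sizes of `G` are squarefree and `P ≠ 1` is a Sylow
`p`-subgroup, then `|P| ≤ p * c`, `c` the number of classes of nontrivial `p`-elements (Burnside's lemma for the
conjugation action on the nontrivial `p`-elements + the `p`-subgroups of index `≤ p` in the centralisers).
-/
import Mathlib
import Cfsg.Agent.Lib.L0.SFDefs
import Cfsg.Agent.Lib.H5.SFB1

set_option autoImplicit false

namespace Cfsg.Agent.Lib.H5.SF

open Cfsg.Agent.Lib.L0.SF

/-- nontrivial elements conjugate into `P` -/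
def pX {G : Type*} [Group G] {p : ℕ} [Fact p.Prime] (P : Sylow p G) : Set G :=
  {u | u ≠ 1 ∧ ∃ x : G, x * u * x⁻¹ ∈ P}

theorem pX_conj {G : Type*} [Group G] {p : ℕ} [Fact p.Prime] (P : Sylow p G) (g u : G) (hu : u ∈ pX P) :
    g * u * g⁻¹ ∈ pX P := by
  obtain ⟨h1, x, hx⟩ := hu
  refine ⟨?_, x * g⁻¹, ?_⟩
  · intro h
    apply h1
    have : u = g⁻¹ * (g * u * g⁻¹) * g := by group
    rw [this, h]; group
  · have : x * g⁻¹ * (g * u * g⁻¹) * (x * g⁻¹)⁻¹ = x * u * x⁻¹ := by group
    rw [this]; exact hx

/-- elements of a `p`-subgroup are conjugate into `P` -/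
theorem mem_pX_of_mem_pSubgroup {G : Type*} [Group G] [Finite G] {p : ℕ} [Fact p.Prime] (P : Sylow p G)
    (Q : Subgroup G) (hQ : IsPGroup p Q) (u : G) (hu : u ∈ Q) (h1 : u ≠ 1) : u ∈ pX P := by
  obtain ⟨P', hQP'⟩ := hQ.exists_le_sylow
  obtain ⟨x, hx⟩ := MulAction.exists_smul_eq G P' P
  refine ⟨h1, x, ?_⟩
  have : x * u * x⁻¹ ∈ ((x • P' : Sylow p G) : Subgroup G) := by
    rw [Sylow.coe_subgroup_smul, Subgroup.mem_pointwise_smul_iff_inv_smul_mem]
    have e1 : (MulAut.conj x)⁻¹ • (x * u * x⁻¹) = u := by simp [MulAut.smul_def, mul_assoc]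
    rw [e1]; exact hQP' hu
  rw [hx] at this
  exact this

/-- the conjugation action of `G` on the nontrivial `p`-elements -/
@[reducible] def pXAction {G : Type*} [Group G] {p : ℕ} [Fact p.Prime] (P : Sylow p G) : MulAction G (pX P) where
  smul g u := ⟨g * u.1 * g⁻¹, pX_conj P g u.1 u.2⟩
  one_smul u := by
    apply Subtype.ext
    show (1 : G) * u.1 * (1 : G)⁻¹ = u.1
    group
  mul_smul g h u := by
    apply Subtype.ext
    show (g * h) * u.1 * (g * h)⁻¹ = g * (h * u.1 * h⁻¹) * g⁻¹
    group

theorem SFClass.card_sylow_le {G : Type*} [Group G] [Finite G] (h : SFClass G) {p : ℕ} [hp : Fact p.Prime]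
    (P : Sylow p G) (hP : (P : Subgroup G) ≠ ⊥) :
    Nat.card P ≤
      p * Nat.card {C : ConjClasses G // ∃ u ∈ (P : Subgroup G), u ≠ 1 ∧ ConjClasses.mk u = C} := by
  classical
  letI : MulAction G (pX P) := pXAction P
  haveI : Fintype G := Fintype.ofFinite G
  haveI : Fintype (pX P) := Fintype.ofFinite _
  haveI : ∀ g : G, Fintype (MulAction.fixedBy (pX P) g) := fun g => Fintype.ofFinite _
  haveI : Fintype (Quotient (MulAction.orbitRel G (pX P))) := Fintype.ofFinite _
  have hsmul : ∀ (g : G) (u : pX P), ((g • u : pX P) : G) = g * u.1 * g⁻¹ := fun g u => rfl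
  -- Burnside
  have hB := MulAction.sum_card_fixedBy_eq_card_orbits_mul_card_group G (pX P)
  -- the number of orbits is at most c
  set c := Nat.card {C : ConjClasses G // ∃ u ∈ (P : Subgroup G), u ≠ 1 ∧ ConjClasses.mk u = C} with hc
  have horb : Fintype.card (Quotient (MulAction.orbitRel G (pX P))) ≤ c := by
    rw [hc, ← Nat.card_eq_fintype_card]
    let f : Quotient (MulAction.orbitRel G (pX P)) →
        {C : ConjClasses G // ∃ u ∈ (P : Subgroup G), u ≠ 1 ∧ ConjClasses.mk u = C} :=
      Quotient.lift (fun u : pX P => (⟨ConjClasses.mk u.1, by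
        obtain ⟨h1, x, hx⟩ := u.2
        refine ⟨x * u.1 * x⁻¹, hx, ?_, ?_⟩
        · intro h2
          apply h1
          have : u.1 = x⁻¹ * (x * u.1 * x⁻¹) * x := by group
          rw [this, h2]; group
        · rw [ConjClasses.mk_eq_mk_iff_isConj, isConj_comm, isConj_iff]
          exact ⟨x, rfl⟩⟩ :
          {C : ConjClasses G // ∃ u ∈ (P : Subgroup G), u ≠ 1 ∧ ConjClasses.mk u = C})) (by
        intro u v huv
        apply Subtype.ext
        show ConjClasses.mk u.1 = ConjClasses.mk v.1
        rw [ConjClasses.mk_eq_mk_iff_isConj]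
        have huv' : u ∈ MulAction.orbit G v := huv
        obtain ⟨g, hg⟩ := huv'
        rw [isConj_comm, isConj_iff]
        refine ⟨g, ?_⟩
        have := congrArg Subtype.val hg
        rw [hsmul] at this
        exact this)
    apply Nat.card_le_card_of_injective f
    intro a b hab
    induction a using Quotient.inductionOn with
    | _ u =>
      induction b using Quotient.inductionOn with
      | _ v =>
        apply Quotient.sound
        have h1 : ConjClasses.mk u.1 = ConjClasses.mk v.1 := congrArg Subtype.val hab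
        rw [ConjClasses.mk_eq_mk_iff_isConj, isConj_comm, isConj_iff] at h1
        obtain ⟨g, hg⟩ := h1
        show u ∈ MulAction.orbit G v
        refine ⟨g, ?_⟩
        apply Subtype.ext
        rw [hsmul]
        exact hg
  -- |P| = p * m
  obtain ⟨k, hk⟩ := IsPGroup.iff_card.mp P.isPGroup'
  have hk0 : k ≠ 0 := by
    rintro rfl
    apply hP
    rw [pow_zero] at hk
    exact (Subgroup.card_eq_one).mp hk
  obtain ⟨k', rfl⟩ := Nat.exists_eq_succ_of_ne_zero hk0
  set m := p ^ k' with hm
  have hPm : Nat.card P = p * m := by rw [hk, pow_succ']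
  have hmpos : 0 < m := pow_pos hp.out.pos _
  have hcardP : Nat.card P = p ^ (Nat.card G).factorization p := P.card_eq_multiplicity
  -- lower bounds on the fixed point sets
  have hfix : ∀ g : G, m ≤ Fintype.card (MulAction.fixedBy (pX P) g) + 1 := by
    intro g
    obtain ⟨Q, hQp, hQC, hQcard⟩ := SFClass.exists_pSubgroup_centralizer h p g
    rw [← hcardP, hPm] at hQcard
    have hmQ : m ≤ Nat.card Q :=
      Nat.le_of_dvd Nat.card_pos (Nat.dvd_of_mul_dvd_mul_left hp.out.pos hQcard)
    -- inject Q \ {1} into fixedBy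
    haveI : Fintype Q := Fintype.ofFinite _
    have hinj : Nat.card Q ≤ Fintype.card (MulAction.fixedBy (pX P) g) + 1 := by
      rw [Nat.card_eq_fintype_card, ← Fintype.card_option]
      let φ : Q → Option (MulAction.fixedBy (pX P) g) := fun u =>
        if h1 : (u : G) = 1 then none else
          some ⟨⟨u.1, mem_pX_of_mem_pSubgroup P Q hQp u.1 u.2 h1⟩, by
            rw [MulAction.mem_fixedBy]
            apply Subtype.ext
            rw [hsmul]
            have hcen := hQC u.2
            rw [Subgroup.mem_centralizer_iff] at hcen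
            have := hcen g rfl
            show g * u.1 * g⁻¹ = u.1
            rw [this]; group⟩
      apply Fintype.card_le_of_injective φ
      intro u v huv
      simp only [φ] at huv
      by_cases hu1 : (u : G) = 1
      · by_cases hv1 : (v : G) = 1
        · exact Subtype.ext (hu1.trans hv1.symm)
        · rw [dif_pos hu1, dif_neg hv1] at huv
          exact absurd huv (by simp)
      · by_cases hv1 : (v : G) = 1
        · rw [dif_neg hu1, dif_pos hv1] at huv
          exact absurd huv (by simp)
        · rw [dif_neg hu1, dif_neg hv1] at huv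
          have := Option.some.inj huv
          have := congrArg (fun z : MulAction.fixedBy (pX P) g => ((z : pX P) : G)) this
          exact Subtype.ext this
    exact hmQ.trans hinj
  have hfix1 : p * m ≤ Fintype.card (MulAction.fixedBy (pX P) (1 : G)) + 1 := by
    rw [← hPm]
    haveI : Fintype P := Fintype.ofFinite _
    rw [Nat.card_eq_fintype_card, ← Fintype.card_option]
    let φ : P → Option (MulAction.fixedBy (pX P) (1 : G)) := fun u =>
      if h1 : (u : G) = 1 then none else
        some ⟨⟨u.1, h1, 1, by simpa using u.2⟩, by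
          rw [MulAction.mem_fixedBy]; exact one_smul _ _⟩
    apply Fintype.card_le_of_injective φ
    intro u v huv
    simp only [φ] at huv
    by_cases hu1 : (u : G) = 1
    · by_cases hv1 : (v : G) = 1
      · exact Subtype.ext (hu1.trans hv1.symm)
      · rw [dif_pos hu1, dif_neg hv1] at huv
        exact absurd huv (by simp)
    · by_cases hv1 : (v : G) = 1
      · rw [dif_neg hu1, dif_pos hv1] at huv
        exact absurd huv (by simp)
      · rw [dif_neg hu1, dif_neg hv1] at huv
        have := Option.some.inj huv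
        have := congrArg (fun z : MulAction.fixedBy (pX P) (1 : G) => ((z : pX P) : G)) this
        exact Subtype.ext this
  -- sum the bounds
  set n := Fintype.card G with hn
  have hnpos : 0 < n := Fintype.card_pos
  have hsum : (n - 1) * m + p * m ≤ ∑ g : G, (Fintype.card (MulAction.fixedBy (pX P) g) + 1) := by
    rw [← Finset.add_sum_erase Finset.univ _ (Finset.mem_univ (1 : G))]
    have h2 : (n - 1) * m ≤ ∑ g ∈ Finset.univ.erase (1 : G),
        (Fintype.card (MulAction.fixedBy (pX P) g) + 1) := by
      have : ∑ _g ∈ Finset.univ.erase (1 : G), m = (n - 1) * m := by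
        rw [Finset.sum_const, Finset.card_erase_of_mem (Finset.mem_univ _), Finset.card_univ, smul_eq_mul]
      rw [← this]
      exact Finset.sum_le_sum (fun g _ => hfix g)
    omega
  rw [Finset.sum_add_distrib, hB, Finset.sum_const, Finset.card_univ, smul_eq_mul, mul_one] at hsum
  -- hsum : (n-1) m + p m ≤ orbits * n + n
  by_contra hlt
  push Not at hlt
  rw [hPm] at hlt
  have hcm : c + 1 ≤ m := by
    have := Nat.lt_of_mul_lt_mul_left hlt
    omega
  have h3 : Fintype.card (Quotient (MulAction.orbitRel G (pX P))) * n + n ≤ m * n := by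
    calc Fintype.card (Quotient (MulAction.orbitRel G (pX P))) * n + n
        ≤ c * n + n := by gcongr
      _ = (c + 1) * n := by ring
      _ ≤ m * n := by gcongr
  have hp2 : 2 ≤ p := hp.out.two_le
  have h4 : m * n < (n - 1) * m + p * m := by
    have : m * n = (n - 1) * m + m := by
      obtain ⟨n', hn'⟩ := Nat.exists_eq_succ_of_ne_zero hnpos.ne'
      rw [hn']; simp; ring
    rw [this]
    have : 2 * m ≤ p * m := Nat.mul_le_mul_right m hp2
    omega
  omega

end Cfsg.Agent.Lib.H5.SF
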