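import Mathlib
import Cfsg.Prelude.Def_Blocks
import Cfsg.Agent.Lib.H21.AD.Defs
import Cfsg.Agent.Lib.H23.BlockLocal
import Cfsg.Agent.Lib.H23.ADCC
import Cfsg.Agent.Lib.H10.ADROOT
import Cfsg.Agent.Lib.H21.AD.IRR

/-!
# S4937 piece (KEY): good twists are unique and compatible with restriction (helper5)
-/

set_option autoImplicit false
open Cfsg.Agent.Lib.H21.AD
open Cfsg.Agent.Lib.H23.AD (cc)
open Cfsg.Agent.Lib.H10.AD (root_eq_one)

namespace Cfsg.Agent.Lib.H5.AD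

variable {G : Type*} [Group G] [Finite G] {p : ℕ} {M : Ideal Cfsg.AlgInt}

/-- a twist is `1` at `1` -/
theorem twist_one {N J : Subgroup G} {ν : G → ℂ} (h : IsTwist N J ν) : ν 1 = 1 :=
  h.2 1 N.one_mem

/-- a twist is multiplicative on powers -/
theorem twist_pow {N J : Subgroup G} {ν : G → ℂ} (h : IsTwist N J ν) {c : G} (hc : c ∈ J) (k : ℕ) :
    ν (c ^ k) = ν c ^ k := by
  induction k with
  | zero => simpa using twist_one h
  | succ k ih => rw [pow_succ, h.1 _ (J.pow_mem hc k) _ hc, ih, pow_succ]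

/-- `c ^ |J : N| ∈ N` for `c ∈ J`, `N` normal -/
theorem pow_relIndex_mem (N : Subgroup G) [N.Normal] (J : Subgroup G) {c : G} (hc : c ∈ J) :
    c ^ N.relIndex J ∈ N := by
  have h := Subgroup.pow_index_mem (N.subgroupOf J) (⟨c, hc⟩ : J)
  rw [Subgroup.mem_subgroupOf] at h
  simpa [Subgroup.relIndex] using h

/-- (KEY) good twists are unique and compatible with restriction (`|J₂ : N|` prime to `p`) -/
theorem key (hM : Cfsg.IsPModular p M) (N : Subgroup G) [N.Normal] (Q : Subgroup G) (hQN : Q ≤ N)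
    (hQ : ¬ p ∣ Q.relIndex N)
    (hcov : ∀ g : G, ∃ n ∈ N, ∃ c ∈ Subgroup.centralizer (Q : Set G), g = n * c)
    (ψ : G → ℂ) (hψ : Cfsg.IsIrrCharacter G ψ) (hψN : Cfsg.IsIrrCharacter N (fun n : N => ψ n))
    (J₁ J₂ : Subgroup G) (hN1 : N ≤ J₁) (h12 : J₁ ≤ J₂) (hp : ¬ p ∣ N.relIndex J₂)
    (ν₁ ν₂ : G → ℂ) (h₁ : Good p ψ N J₁ ν₁) (h₂ : Good p ψ N J₂ ν₂) :
    ∀ g ∈ J₁, ν₁ g = ν₂ g := by
  intro g hg
  haveI : M.IsPrime := Cfsg.Agent.Lib.H23.isPrime_of_isPModular hM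
  have hpp : p.Prime := Cfsg.Agent.Lib.H23.prime_of_isPModular hM
  obtain ⟨n, hn, c, hc, rfl⟩ := hcov g
  have hN2 : N ≤ J₂ := hN1.trans h12
  have hc1 : c ∈ J₁ := by
    have : c = n⁻¹ * (n * c) := by group
    rw [this]
    exact J₁.mul_mem (J₁.inv_mem (hN1 hn)) hg
  have hc2 : c ∈ J₂ := h12 hc1
  rw [h₁.1.1 n (hN1 hn) c hc1, h₂.1.1 n (hN2 hn) c hc2, h₁.1.2 n hn, h₂.1.2 n hn, one_mul, one_mul]
  -- the index `m`
  set m := N.relIndex J₂ with hm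
  have hm0 : 0 < m := Nat.pos_of_ne_zero (fun h0 => hp (h0 ▸ dvd_zero p))
  have hcm : c ^ m ∈ N := pow_relIndex_mem N J₂ hc2
  have e1 : ν₁ c ^ m = 1 := by rw [← twist_pow h₁.1 hc1, h₁.1.2 _ hcm]
  have e2 : ν₂ c ^ m = 1 := by rw [← twist_pow h₂.1 hc2, h₂.1.2 _ hcm]
  have hν2 : ν₂ c ≠ 0 := by
    intro h0
    rw [h0, zero_pow hm0.ne'] at e2
    exact zero_ne_one e2
  -- index computations
  have hidx1 : N.relIndex J₁ ∣ m := by
    have := Subgroup.relIndex_mul_relIndex N J₁ J₂ hN1 h12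
    exact Dvd.intro _ this
  have hQ1 : ¬ p ∣ Q.relIndex J₁ := by
    rw [← Subgroup.relIndex_mul_relIndex Q N J₁ hQN hN1]
    intro h
    rcases hpp.dvd_mul.1 h with h | h
    · exact hQ h
    · exact hp (h.trans hidx1)
  have hQ2 : ¬ p ∣ Q.relIndex J₂ := by
    rw [← Subgroup.relIndex_mul_relIndex Q N J₂ hQN hN2]
    intro h
    rcases hpp.dvd_mul.1 h with h | h
    · exact hQ h
    · exact hp h
  -- the two central character congruences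
  have c1 := cc hM J₁ (fun g => ψ g * ν₁ g) (irr_twist N J₁ hN1 ψ hψ hψN ν₁ h₁.1) h₁.2 Q
    (hQN.trans hN1) hQ1 c hc1 hc
  have c2 := cc hM J₂ (fun g => ψ g * ν₂ g) (irr_twist N J₂ hN2 ψ hψ hψN ν₂ h₂.1) h₂.2 Q
    (hQN.trans hN2) hQ2 c hc2 hc
  simp only [twist_one h₁.1, twist_one h₂.1, mul_one] at c1 c2
  -- the quotient root of unity
  obtain ⟨ζ, hζ⟩ : ∃ ζ : ℂ, ζ = ν₁ c / ν₂ c := ⟨_, rfl⟩
  have hζm : ζ ^ m = 1 := by rw [hζ, div_pow, e1, e2, div_one]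
  have hζint : IsIntegral ℤ ζ := IsIntegral.of_pow hm0 (by rw [hζm]; exact isIntegral_one)
  have hζloc : Cfsg.MemLocalRing M ζ :=
    Cfsg.Agent.Lib.H23.mem_localRing.1 (Cfsg.Agent.Lib.H23.isIntegral_mem_localRing hζint)
  have hν1 : ν₁ c = ζ * ν₂ c := by rw [hζ]; field_simp
  have hdiff : ζ - 1 = (ψ c * ν₁ c / ψ 1 - 1) - ζ * (ψ c * ν₂ c / ψ 1 - 1) := by
    rw [hν1]; ring
  have hmem : Cfsg.MemLocalIdeal M (ζ - 1) := by
    rw [hdiff]
    exact Cfsg.Agent.Lib.H23.memLocalIdeal_sub c1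
      (Cfsg.Agent.Lib.H23.memLocalIdeal_mul_left hζloc c2)
  have h1 := root_eq_one hM ζ m hp hζm hmem
  rw [hν1, h1, one_mul]

end Cfsg.Agent.Lib.H5.AD
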