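import Mathlib
import Cfsg.Agent.Lib.H10.LocalGlobalGen
import Cfsg.Agent.Lib.H5.NCTools

/-!
# Alperin–Goldschmidt induction restricted to centric subgroups (helper5)

`good_of_centric`: a relation `Good A g` ("conjugation by `g` on `A` is under control") which is
closed under restriction, composition and inverses, which holds for centralizing elements, and which
holds for `x ∈ N_G(T)` whenever `T ≤ S` has `N_S(T)` Sylow in `N_G(T)` and `C_S(T) ≤ T`, holds for
every `Q ≤ S` and `g` with `Q^g ≤ S`.
-/

set_option autoImplicit false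

namespace Cfsg.Agent.Lib.H5.AC

open Subgroup Cfsg.Agent.Lib.H10 Cfsg.Agent.Lib.H5

variable {G : Type*} [Group G]

/-- A Sylow subgroup of `N` meets a normal subgroup `C` of `N` in a Sylow subgroup of `C`. -/
theorem not_dvd_relIndex_inf_of_normal [Finite G] {p : ℕ} [Fact p.Prime] {H N C : Subgroup G}
    (hH : IsPGroup p H) (hHN : H ≤ N) (hi : ¬ p ∣ H.relIndex N) (hCN : C ≤ N)
    (hN : N ≤ normalizer (C : Set G)) : ¬ p ∣ (H ⊓ C).relIndex C := by
  obtain ⟨R, hHR, hRC, hRp, hRi⟩ := exists_sylowIn (hH.to_le inf_le_left)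
    (inf_le_right : H ⊓ C ≤ C)
  obtain ⟨m, hmN, hm⟩ := exists_mem_map_conj_le_of_sylowIn hH hHN hi hRp (hRC.trans hCN)
  have hmC : R.map (MulAut.conj m).toMonoidHom ≤ C := by
    rintro _ ⟨r, hr, rfl⟩
    exact (mem_normalizer_iff.mp (hN hmN) r).mp (hRC hr)
  have hc : Nat.card R ≤ Nat.card (H ⊓ C : Subgroup G) := by
    rw [← card_map_conj m R]
    exact Subgroup.card_le_of_le (le_inf hm hmC)
  rw [Subgroup.eq_of_le_of_card_ge hHR hc]
  exact hRi

/-- **Alperin–Goldschmidt**, centric version. -/
theorem good_of_centric {p : ℕ} [Fact p.Prime] [Finite G] (S : Sylow p G)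
    (Good : Set G → G → Prop)
    (hres : ∀ {A B : Set G} {g : G}, Good A g → B ⊆ A → Good B g)
    (htrans : ∀ {A : Set G} {g h : G}, Good A g → Good (rconj g A) h → Good A (g * h))
    (hsymm : ∀ {A : Set G} {g : G}, Good A g → Good (rconj g A) g⁻¹)
    (hcent : ∀ (T : Subgroup G) (c : G), T ≤ (S : Subgroup G) → c ∈ centralizer (T : Set G) →
      Good (T : Set G) c)
    (hloc : ∀ T ∈ sylNormFamily p (S : Subgroup G),
      centralizer (T : Set G) ⊓ (S : Subgroup G) ≤ T →
      ∀ x ∈ normalizer (T : Set G), Good (T : Set G) x) :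
    ∀ Q : Subgroup G, Q ≤ (S : Subgroup G) → ∀ g : G,
      Q.map (MulAut.conj g⁻¹).toMonoidHom ≤ (S : Subgroup G) → Good (Q : Set G) g := by
  have key : ∀ n : ℕ, ∀ Q : Subgroup G, Q ≤ (S : Subgroup G) →
      Nat.card (S : Subgroup G) - Nat.card Q = n → ∀ g : G,
      Q.map (MulAut.conj g⁻¹).toMonoidHom ≤ (S : Subgroup G) → Good (Q : Set G) g := by
    intro n
    induction n using Nat.strong_induction_on with
    | _ n ih =>
      intro Q hQ hn g hg
      have hcQ : Nat.card Q ≤ Nat.card (S : Subgroup G) := Subgroup.card_le_of_le hQ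
      have hbig : ∀ Q' : Subgroup G, Q' ≤ (S : Subgroup G) → Nat.card Q < Nat.card Q' → ∀ g' : G,
          Q'.map (MulAut.conj g'⁻¹).toMonoidHom ≤ (S : Subgroup G) → Good (Q' : Set G) g' := by
        intro Q' hQ' hlt g' hg'
        have hcQ' : Nat.card Q' ≤ Nat.card (S : Subgroup G) := Subgroup.card_le_of_le hQ'
        exact ih (Nat.card (S : Subgroup G) - Nat.card Q') (by omega) Q' hQ' rfl g' hg'
      apply alperin_step S Good hres htrans hsymm Q hQ g hg hbig
      intro U hU hUcard x hx
      by_cases hc : centralizer (U : Set G) ⊓ (S : Subgroup G) ≤ U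
      · exact hloc U hU hc x hx
      obtain ⟨hUS, hUi⟩ := hU
      set N := normalizer (U : Set G) with hN
      set C := centralizer (U : Set G) with hC
      have hCN : C ≤ N := centralizer_le_normalizer _
      have hNC : N ≤ normalizer (C : Set G) := NC.normalizer_le_normalizer_centralizer U
      set H := (S : Subgroup G) ⊓ N with hH
      have hHp : IsPGroup p H := S.2.to_le inf_le_left
      set R := H ⊓ C with hR
      have hRp : IsPGroup p R := hHp.to_le inf_le_left
      have hRi : ¬ p ∣ R.relIndex C :=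
        not_dvd_relIndex_inf_of_normal hHp inf_le_right hUi hCN hNC
      have hRC : R ≤ C := inf_le_right
      have hY : R.map (MulAut.conj x).toMonoidHom ≤ C := by
        rintro _ ⟨r, hr, rfl⟩
        exact (mem_normalizer_iff.mp (hNC hx) r).mp (hRC hr)
      obtain ⟨k, hkC, hk⟩ := exists_mem_map_conj_le_of_sylowIn hRp hRC hRi (hRp.map _) hY
      rw [map_conj_map_conj] at hk
      have hmR : k * x ∈ normalizer (R : Set G) :=
        mem_normalizer_iff_map_conj.mpr (eq_of_le_of_card_map_conj hk le_rfl)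
      have hmN : k * x ∈ N := N.mul_mem (hCN hkC) hx
      have hmU₁ : k * x ∈ normalizer ((U ⊔ R : Subgroup G) : Set G) :=
        NC.normalizer_inf_le_normalizer_sup' U R ⟨hmN, hmR⟩
      have hRS : R ≤ (S : Subgroup G) := inf_le_left.trans inf_le_left
      have hU₁S : U ⊔ R ≤ (S : Subgroup G) := sup_le hUS hRS
      have hlt : U < U ⊔ R := by
        refine lt_of_le_of_ne le_sup_left ?_
        intro heq
        apply hc
        intro c hc'
        have hcR : c ∈ R := ⟨⟨hc'.2, hCN hc'.1⟩, hc'.1⟩
        rw [heq]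
        exact le_sup_right (a := U) hcR
      have hm' : (U ⊔ R).map (MulAut.conj (k * x)⁻¹).toMonoidHom ≤ (S : Subgroup G) := by
        rw [mem_normalizer_iff_map_conj.mp (inv_mem hmU₁)]
        exact hU₁S
      have r1 : Good ((U ⊔ R : Subgroup G) : Set G) (k * x) :=
        hbig _ hU₁S (by rw [← hUcard]; exact card_lt_card_of_lt hlt) (k * x) hm'
      have r2 : Good (U : Set G) (k * x) := hres r1 (SetLike.coe_subset_coe.mpr hlt.le)
      have r3 : Good (U : Set G) k⁻¹ := hcent U k⁻¹ hUS (inv_mem hkC)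
      have r4 : Good (U : Set G) (k⁻¹ * (k * x)) := by
        refine htrans r3 ?_
        rw [rconj_coe_of_mem_normalizer (inv_mem (hCN hkC))]
        exact r2
      have e : k⁻¹ * (k * x) = x := by group
      rwa [e] at r4
  intro Q hQ g hg
  exact key _ Q hQ rfl g hg

end Cfsg.Agent.Lib.H5.AC
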