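import Mathlib

/-!
# S3008 piece ITO (architect helper10): Ito's lemma.

If `A`, `B` are abelian and `AB` is a subgroup, all commutators `⁅a,b⁆` (`a ∈ A`, `b ∈ B`)
commute pairwise.
-/

set_option autoImplicit false

namespace Cfsg.Agent.Lib.H5.CLB

open scoped Pointwise commutatorElement

/-- The "right" commutator `x⁻¹ y⁻¹ x y` used in the classical proof. -/
def kk {G : Type*} [Group G] (x y : G) : G := x⁻¹ * y⁻¹ * x * y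

theorem kk_conj {G : Type*} [Group G] (w x y : G) :
    w⁻¹ * kk x y * w = kk (w⁻¹ * x * w) (w⁻¹ * y * w) := by
  unfold kk; group

theorem kk_mul_right {G : Type*} [Group G] {a a₂ b₂ : G} (h : a₂ * a = a * a₂) :
    kk a (a₂ * b₂) = kk a b₂ := by
  unfold kk
  have h1 : a₂⁻¹ * a * a₂ = a := by rw [mul_assoc, ← h, inv_mul_cancel_left]
  calc a⁻¹ * (a₂ * b₂)⁻¹ * a * (a₂ * b₂) = a⁻¹ * b₂⁻¹ * (a₂⁻¹ * a * a₂) * b₂ := by group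
    _ = a⁻¹ * b₂⁻¹ * a * b₂ := by rw [h1]

theorem kk_mul_left {G : Type*} [Group G] {a₃ b₃ b₂ : G} (h : b₃ * b₂ = b₂ * b₃) :
    kk (b₃ * a₃) b₂ = kk a₃ b₂ := by
  unfold kk
  have h1 : b₃⁻¹ * b₂⁻¹ * b₃ = b₂⁻¹ := by
    have hc : Commute b₃ b₂⁻¹ := Commute.inv_right h
    rw [mul_assoc, ← hc.eq, inv_mul_cancel_left]
  calc (b₃ * a₃)⁻¹ * b₂⁻¹ * (b₃ * a₃) * b₂ = a₃⁻¹ * (b₃⁻¹ * b₂⁻¹ * b₃) * a₃ * b₂ := by group
    _ = a₃⁻¹ * b₂⁻¹ * a₃ * b₂ := by rw [h1]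

theorem ito_aux {G : Type*} [Group G] (A B : Subgroup G) (hA : IsMulCommutative ↥A)
    (hB : IsMulCommutative ↥B)
    (hAB : ((A ⊔ B : Subgroup G) : Set G) = (A : Set G) * (B : Set G))
    {a a' b b' : G} (ha : a ∈ A) (ha' : a' ∈ A) (hb : b ∈ B) (hb' : b' ∈ B) :
    Commute (kk a b) ⁅a', b'⁆ := by
  have cA : ∀ x ∈ A, ∀ y ∈ A, x * y = y * x := fun x hx y hy =>
    congrArg Subtype.val (hA.is_comm.comm ⟨x, hx⟩ ⟨y, hy⟩)
  have cB : ∀ x ∈ B, ∀ y ∈ B, x * y = y * x := fun x hx y hy =>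
    congrArg Subtype.val (hB.is_comm.comm ⟨x, hx⟩ ⟨y, hy⟩)
  have hAle : A ≤ A ⊔ B := le_sup_left
  have hBle : B ≤ A ⊔ B := le_sup_right
  -- `a'⁻¹ b a' = a₂ b₂`
  have m1 : a'⁻¹ * b * a' ∈ A ⊔ B :=
    (A ⊔ B).mul_mem ((A ⊔ B).mul_mem ((A ⊔ B).inv_mem (hAle ha')) (hBle hb)) (hAle ha')
  rw [← SetLike.mem_coe, hAB] at m1
  obtain ⟨a₂, ha₂, b₂, hb₂, e1⟩ := Set.mem_mul.mp m1
  -- `b'⁻¹ a b' = b₃ a₃`
  have m2 : (b'⁻¹ * a * b')⁻¹ ∈ A ⊔ B :=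
    (A ⊔ B).inv_mem ((A ⊔ B).mul_mem ((A ⊔ B).mul_mem ((A ⊔ B).inv_mem (hBle hb')) (hAle ha))
      (hBle hb'))
  rw [← SetLike.mem_coe, hAB] at m2
  obtain ⟨α, hα, β, hβ, e2⟩ := Set.mem_mul.mp m2
  have e2' : b'⁻¹ * a * b' = β⁻¹ * α⁻¹ := by
    rw [← mul_inv_rev, e2, inv_inv]
  -- the two conjugates agree
  have hx1 : (a' * b')⁻¹ * kk a b * (a' * b') = kk α⁻¹ b₂ := by
    have s1 : a'⁻¹ * kk a b * a' = kk a b₂ := by
      rw [kk_conj, ← e1]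
      have : a'⁻¹ * a * a' = a := by rw [mul_assoc, cA a ha a' ha', inv_mul_cancel_left]
      rw [this]
      exact kk_mul_right (cA a₂ ha₂ a ha)
    have s2 : b'⁻¹ * kk a b₂ * b' = kk α⁻¹ b₂ := by
      rw [kk_conj, e2']
      have : b'⁻¹ * b₂ * b' = b₂ := by rw [mul_assoc, cB b₂ hb₂ b' hb', inv_mul_cancel_left]
      rw [this]
      exact kk_mul_left (cB β⁻¹ (B.inv_mem hβ) b₂ hb₂)
    calc (a' * b')⁻¹ * kk a b * (a' * b') = b'⁻¹ * (a'⁻¹ * kk a b * a') * b' := by group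
      _ = kk α⁻¹ b₂ := by rw [s1, s2]
  have hx2 : (b' * a')⁻¹ * kk a b * (b' * a') = kk α⁻¹ b₂ := by
    have s1 : b'⁻¹ * kk a b * b' = kk α⁻¹ b := by
      rw [kk_conj, e2']
      have : b'⁻¹ * b * b' = b := by rw [mul_assoc, cB b hb b' hb', inv_mul_cancel_left]
      rw [this]
      exact kk_mul_left (cB β⁻¹ (B.inv_mem hβ) b hb)
    have s2 : a'⁻¹ * kk α⁻¹ b * a' = kk α⁻¹ b₂ := by
      rw [kk_conj, ← e1]
      have : a'⁻¹ * α⁻¹ * a' = α⁻¹ := by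
        rw [mul_assoc, cA α⁻¹ (A.inv_mem hα) a' ha', inv_mul_cancel_left]
      rw [this]
      exact kk_mul_right (cA a₂ ha₂ α⁻¹ (A.inv_mem hα))
    calc (b' * a')⁻¹ * kk a b * (b' * a') = a'⁻¹ * (b'⁻¹ * kk a b * b') * a' := by group
      _ = kk α⁻¹ b₂ := by rw [s1, s2]
  have h := hx1.trans hx2.symm
  show kk a b * ⁅a', b'⁆ = ⁅a', b'⁆ * kk a b
  rw [commutatorElement_def]
  calc kk a b * (a' * b' * a'⁻¹ * b'⁻¹)
      = (a' * b') * ((a' * b')⁻¹ * kk a b * (a' * b')) * (b' * a')⁻¹ := by group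
    _ = (a' * b') * ((b' * a')⁻¹ * kk a b * (b' * a')) * (b' * a')⁻¹ := by rw [h]
    _ = a' * b' * a'⁻¹ * b'⁻¹ * kk a b := by group

/-- **ITO** (Ito's lemma): if `A`, `B` are abelian and `AB` is a subgroup, all commutators `⁅a,b⁆`
commute. -/
theorem ito_commute {G : Type*} [Group G] (A B : Subgroup G) (hA : IsMulCommutative ↥A)
    (hB : IsMulCommutative ↥B)
    (hAB : ((A ⊔ B : Subgroup G) : Set G) = (A : Set G) * (B : Set G))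
    {a a' b b' : G} (ha : a ∈ A) (ha' : a' ∈ A) (hb : b ∈ B) (hb' : b' ∈ B) :
    Commute ⁅a, b⁆ ⁅a', b'⁆ := by
  have h := ito_aux A B hA hB hAB (A.inv_mem ha) ha' (B.inv_mem hb) hb'
  have e : kk a⁻¹ b⁻¹ = ⁅a, b⁆ := by
    unfold kk
    rw [commutatorElement_def, inv_inv, inv_inv]
  rw [e] at h
  exact h

end Cfsg.Agent.Lib.H5.CLB
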