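import Mathlib

/-!
# S3008 piece REPL (architect helper10): Thompson-type replacement, pure group theory.

`Z` abelian, `g : G`, the commutators `⁅z,g⁆` (`z ∈ Z`) commute pairwise.  Then
`Y := ⟨⁅z,g⁆ (z ∈ Z), Z ⊓ gZg⁻¹⟩` is abelian, contained in `Z ⊔ gZg⁻¹`, and `|Z| ≤ |Y|`.
-/

set_option autoImplicit false

namespace Cfsg.Agent.Lib.H5.CLB

open scoped Pointwise commutatorElement

/-- The key computation: if `⁅z',g⁆ = ⁅z,g⁆ d` with `d ∈ D = Z ⊓ gZg⁻¹`, then `z⁻¹ z' ∈ D`. -/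
theorem repl_key {G : Type*} [Group G] (Z : Subgroup G) (g : G) (hZ : IsMulCommutative ↥Z)
    {z z' d : G} (hz : z ∈ Z) (hz' : z' ∈ Z) (hd : d ∈ Z ⊓ Z.map (MulAut.conj g).toMonoidHom)
    (h : ⁅z', g⁆ = ⁅z, g⁆ * d) : z⁻¹ * z' ∈ Z ⊓ Z.map (MulAut.conj g).toMonoidHom := by
  have cZ1 : ∀ x ∈ Z.map (MulAut.conj g).toMonoidHom, ∀ y ∈ Z.map (MulAut.conj g).toMonoidHom,
      x * y = y * x := by
    rintro _ ⟨x, hx, rfl⟩ _ ⟨y, hy, rfl⟩
    have hxy : x * y = y * x := congrArg Subtype.val (hZ.is_comm.comm ⟨x, hx⟩ ⟨y, hy⟩)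
    simp only [MulEquiv.coe_toMonoidHom, MulAut.conj_apply]
    calc g * x * g⁻¹ * (g * y * g⁻¹) = g * (x * y) * g⁻¹ := by group
      _ = g * (y * x) * g⁻¹ := by rw [hxy]
      _ = g * y * g⁻¹ * (g * x * g⁻¹) := by group
  have hσ : ∀ x ∈ Z, g * x * g⁻¹ ∈ Z.map (MulAut.conj g).toMonoidHom :=
    fun x hx => ⟨x, hx, by simp⟩
  have hu : z⁻¹ * z' ∈ Z := Z.mul_mem (Z.inv_mem hz) hz'
  have e1 : z⁻¹ * z' = (g * z⁻¹ * g⁻¹) * d * (g * z' * g⁻¹) := by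
    rw [commutatorElement_def, commutatorElement_def] at h
    have h' : z' = z * g * z⁻¹ * g⁻¹ * d * g * z' * g⁻¹ := by
      calc z' = (z' * g * z'⁻¹ * g⁻¹) * g * z' * g⁻¹ := by group
        _ = (z * g * z⁻¹ * g⁻¹ * d) * g * z' * g⁻¹ := by rw [h]
    calc z⁻¹ * z' = z⁻¹ * (z * g * z⁻¹ * g⁻¹ * d * g * z' * g⁻¹) := by rw [← h']
      _ = (g * z⁻¹ * g⁻¹) * d * (g * z' * g⁻¹) := by group
  have e2 : (g * z⁻¹ * g⁻¹) * d = d * (g * z⁻¹ * g⁻¹) :=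
    cZ1 _ (hσ _ (Z.inv_mem hz)) _ hd.2
  have e3 : z⁻¹ * z' = d * (g * (z⁻¹ * z') * g⁻¹) := by
    calc z⁻¹ * z' = (g * z⁻¹ * g⁻¹) * d * (g * z' * g⁻¹) := e1
      _ = d * (g * z⁻¹ * g⁻¹) * (g * z' * g⁻¹) := by rw [e2]
      _ = d * (g * (z⁻¹ * z') * g⁻¹) := by group
  have e4 : g * (z⁻¹ * z') * g⁻¹ = d⁻¹ * (z⁻¹ * z') := eq_inv_mul_of_mul_eq e3.symm
  have h5 : g * (z⁻¹ * z') * g⁻¹ ∈ Z := by
    rw [e4]; exact Z.mul_mem (Z.inv_mem hd.1) hu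
  have h6 : g * (z⁻¹ * z') * g⁻¹ ∈ Z ⊓ Z.map (MulAut.conj g).toMonoidHom := ⟨h5, hσ _ hu⟩
  rw [e3]
  exact Subgroup.mul_mem _ hd h6

/-- **REPL** (Thompson-type replacement, pure group theory). -/
theorem repl_core {G : Type*} [Group G] [Finite G] (Z : Subgroup G) (g : G)
    (hZ : IsMulCommutative ↥Z)
    (h1 : Z.map (MulAut.conj g).toMonoidHom ≤ Subgroup.normalizer (Z : Set G))
    (h2 : Z ≤ Subgroup.normalizer ((Z.map (MulAut.conj g).toMonoidHom : Subgroup G) : Set G))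
    (hcomm : ∀ z ∈ Z, ∀ z' ∈ Z, Commute ⁅z, g⁆ ⁅z', g⁆) :
    ∃ Y : Subgroup G, IsMulCommutative ↥Y ∧ Y ≤ Z ⊔ Z.map (MulAut.conj g).toMonoidHom ∧
      Nat.card Z ≤ Nat.card Y ∧ (∀ z ∈ Z, ⁅z, g⁆ ∈ Y) ∧
      Z ⊓ Z.map (MulAut.conj g).toMonoidHom ≤ Y := by
  classical
  have cZ : ∀ x ∈ Z, ∀ y ∈ Z, x * y = y * x := fun x hx y hy =>
    congrArg Subtype.val (hZ.is_comm.comm ⟨x, hx⟩ ⟨y, hy⟩)
  have cZ1 : ∀ x ∈ Z.map (MulAut.conj g).toMonoidHom, ∀ y ∈ Z.map (MulAut.conj g).toMonoidHom,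
      x * y = y * x := by
    rintro _ ⟨x, hx, rfl⟩ _ ⟨y, hy, rfl⟩
    have hxy : x * y = y * x := cZ x hx y hy
    simp only [MulEquiv.coe_toMonoidHom, MulAut.conj_apply]
    calc g * x * g⁻¹ * (g * y * g⁻¹) = g * (x * y) * g⁻¹ := by group
      _ = g * (y * x) * g⁻¹ := by rw [hxy]
      _ = g * y * g⁻¹ * (g * x * g⁻¹) := by group
  have hσ : ∀ x ∈ Z, g * x * g⁻¹ ∈ Z.map (MulAut.conj g).toMonoidHom :=
    fun x hx => ⟨x, hx, by simp⟩
  have hexp : ∀ z : G, ⁅z, g⁆ = z * (g * z⁻¹ * g⁻¹) := by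
    intro z; rw [commutatorElement_def]; group
  have hSW : ∀ z ∈ Z, ⁅z, g⁆ ∈ Z ⊔ Z.map (MulAut.conj g).toMonoidHom := by
    intro z hz
    rw [hexp]
    exact Subgroup.mul_mem_sup hz (hσ _ (Z.inv_mem hz))
  have hDS : ∀ d ∈ Z ⊓ Z.map (MulAut.conj g).toMonoidHom, ∀ z ∈ Z,
      d * ⁅z, g⁆ = ⁅z, g⁆ * d := by
    intro d hd z hz
    rw [hexp]
    calc d * (z * (g * z⁻¹ * g⁻¹)) = (d * z) * (g * z⁻¹ * g⁻¹) := (mul_assoc _ _ _).symm
      _ = (z * d) * (g * z⁻¹ * g⁻¹) := by rw [cZ d hd.1 z hz]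
      _ = z * (d * (g * z⁻¹ * g⁻¹)) := mul_assoc _ _ _
      _ = z * ((g * z⁻¹ * g⁻¹) * d) := by rw [cZ1 d hd.2 _ (hσ _ (Z.inv_mem hz))]
      _ = z * (g * z⁻¹ * g⁻¹) * d := (mul_assoc _ _ _).symm
  let S : Set G := {c | ∃ z ∈ Z, c = ⁅z, g⁆}
  let Y : Subgroup G :=
    Subgroup.closure (S ∪ ((Z ⊓ Z.map (MulAut.conj g).toMonoidHom : Subgroup G) : Set G))
  have hYc : IsMulCommutative ↥Y := Subgroup.isMulCommutative_closure (by
    rintro x (⟨z, hz, rfl⟩ | hx) y (⟨z', hz', rfl⟩ | hy)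
    · exact (hcomm z hz z' hz').eq
    · exact (hDS y hy z hz).symm
    · exact hDS x hx z' hz'
    · exact cZ x hx.1 y hy.1)
  have hDY : Z ⊓ Z.map (MulAut.conj g).toMonoidHom ≤ Y :=
    fun x hx => Subgroup.subset_closure (Or.inr hx)
  have hmemY : ∀ z : ↥Z, ⁅(z : G), g⁆ ∈ Y :=
    fun z => Subgroup.subset_closure (Or.inl ⟨z, z.2, rfl⟩)
  refine ⟨Y, hYc, ?_, ?_, ?_, hDY⟩
  · rw [Subgroup.closure_le]
    rintro x (⟨z, hz, rfl⟩ | hx)
    · exact hSW z hz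
    · exact (le_sup_left : Z ≤ Z ⊔ Z.map (MulAut.conj g).toMonoidHom) hx.1
  · -- counting
    let D : Subgroup G := Z ⊓ Z.map (MulAut.conj g).toMonoidHom
    let D' : Subgroup ↥Y := D.subgroupOf Y
    let ψ : ↥Z → ↥Y ⧸ D' := fun z => QuotientGroup.mk ⟨⁅(z : G), g⁆, hmemY z⟩
    haveI : Fintype ↥Z := Fintype.ofFinite _
    haveI : Fintype (↥Y ⧸ D') := Fintype.ofFinite _
    haveI : Fintype ↥D := Fintype.ofFinite _
    have hfib : ∀ a ∈ (Finset.univ : Finset ↥Z).image ψ,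
        ((Finset.univ : Finset ↥Z).filter (fun z => ψ z = a)).card ≤ Nat.card D := by
      intro a ha
      obtain ⟨z₀, -, rfl⟩ := Finset.mem_image.mp ha
      have hle : ((Finset.univ : Finset ↥Z).filter (fun z => ψ z = ψ z₀)).card
          ≤ (Finset.univ : Finset ↥D).card := by
        refine Finset.card_le_card_of_injOn
          (s := (Finset.univ : Finset ↥Z).filter (fun z => ψ z = ψ z₀))
          (t := (Finset.univ : Finset ↥D))
          (fun z => if h : (z₀ : G)⁻¹ * (z : G) ∈ D then (⟨_, h⟩ : ↥D) else 1) ?_ ?_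
        · intro z _
          exact Finset.mem_coe.mpr (Finset.mem_univ _)
        · intro z hz z' hz' hzz'
          have hzf : ψ z = ψ z₀ := (Finset.mem_filter.mp (Finset.mem_coe.mp hz)).2
          have hzf' : ψ z' = ψ z₀ := (Finset.mem_filter.mp (Finset.mem_coe.mp hz')).2
          have key : ∀ w : ↥Z, ψ w = ψ z₀ → (z₀ : G)⁻¹ * (w : G) ∈ D := by
            intro w hw
            have h4 := QuotientGroup.eq.mp hw.symm
            rw [Subgroup.mem_subgroupOf] at h4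
            have h4' : (⁅(z₀ : G), g⁆)⁻¹ * ⁅(w : G), g⁆ ∈ D := h4
            exact repl_key Z g hZ z₀.2 w.2 h4' (mul_inv_cancel_left _ _).symm
          have k1 := key z hzf
          have k2 := key z' hzf'
          simp only [dif_pos k1, dif_pos k2, Subtype.mk.injEq] at hzz'
          exact Subtype.ext (mul_left_cancel hzz')
      rw [Finset.card_univ, ← Nat.card_eq_fintype_card] at hle
      exact hle
    have h3 := Finset.card_le_mul_card_image (s := (Finset.univ : Finset ↥Z)) (f := ψ)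
      (Nat.card D) hfib
    rw [Finset.card_univ, ← Nat.card_eq_fintype_card] at h3
    have h4 : ((Finset.univ : Finset ↥Z).image ψ).card ≤ Nat.card (↥Y ⧸ D') := by
      rw [Nat.card_eq_fintype_card]
      exact Finset.card_le_univ _
    have h5 : Nat.card ↥Y = Nat.card (↥Y ⧸ D') * Nat.card D' :=
      Subgroup.card_eq_card_quotient_mul_card_subgroup D'
    have h6 : Nat.card D' = Nat.card D :=
      Nat.card_congr (Subgroup.subgroupOfEquivOfLe hDY).toEquiv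
    calc Nat.card ↥Z ≤ Nat.card D * ((Finset.univ : Finset ↥Z).image ψ).card := h3
      _ ≤ Nat.card D * Nat.card (↥Y ⧸ D') := Nat.mul_le_mul_left _ h4
      _ = Nat.card ↥Y := by rw [h5, h6, mul_comm]
  · intro z hz
    exact Subgroup.subset_closure (Or.inl ⟨z, hz, rfl⟩)

end Cfsg.Agent.Lib.H5.CLB
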