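import Mathlib
import Cfsg.Agent.Lib.H4.Dickson.NonExc2
import Cfsg.Agent.Lib.H4.Dickson.Exc3

/-!
# Subgroups of `SL₂(K)` containing `uu lam` and `ll 1`, odd characteristic: the generic case

If `|L : S| = 1 + |A|` then `A = {a | uu a ∈ L}` is a subfield `S₀`, `L` contains all matrices of
determinant one over `S₀`, and every element of `L` is such a matrix times a diagonal matrix
`diag(d, d⁻¹)` with `d² ∈ S₀`.
-/

set_option autoImplicit false

namespace Cfsg.Agent.Lib.H5.DicksonOdd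

open Matrix Cfsg.Agent.Lib.H12 Cfsg.Agent.Lib.H4.Dickson

variable {K : Type*} [Field K]

local notation "SL2" => Matrix.SpecialLinearGroup (Fin 2) K
local notation "M2" => Matrix (Fin 2) (Fin 2) K

variable {L : Subgroup (Matrix.SpecialLinearGroup (Fin 2) K)}

/-- matrices over a subfield all of whose elementary matrices lie in `L` lie in `L` -/
theorem mem_of_entries (S : Subfield K) (hA : ∀ a ∈ S, uu a ∈ L) (hB : ∀ b ∈ S, ll b ∈ L)
    (g : SL2) (hg : ∀ i j, (g : M2) i j ∈ S) : g ∈ L := by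
  have key : ∀ g : SL2, (∀ i j, (g : M2) i j ∈ S) → (g : M2) 1 0 ≠ 0 → g ∈ L := by
    intro g hg hc
    have e : g = uu (((g : M2) 0 0 - 1) / (g : M2) 1 0) * ll ((g : M2) 1 0) *
        uu (((g : M2) 1 1 - 1) / (g : M2) 1 0) := by
      have hd := det_eq g
      apply sl2_ext <;>
        simp only [mul_apply_00, mul_apply_01, mul_apply_10, mul_apply_11, uu_00, uu_01, uu_10,
          uu_11, ll_00, ll_01, ll_10, ll_11]
      · field_simp
        ring
      · field_simp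
        linear_combination (-1 : K) * hd
      · ring
      · field_simp
        ring
    rw [e]
    refine L.mul_mem (L.mul_mem (hA _ ?_) (hB _ (hg 1 0))) (hA _ ?_)
    · exact S.div_mem (S.sub_mem (hg 0 0) S.one_mem) (hg 1 0)
    · exact S.div_mem (S.sub_mem (hg 1 1) S.one_mem) (hg 1 0)
  by_cases hc : (g : M2) 1 0 = 0
  · have h00 : (g : M2) 0 0 ≠ 0 := by
      intro h
      have hd := det_eq g
      rw [h, hc] at hd
      simp at hd
    have h1 : ll 1 * g ∈ L := by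
      apply key
      · intro i j
        fin_cases i <;> fin_cases j
        · show ((ll 1 * g : SL2) : M2) 0 0 ∈ S
          rw [mul_apply_00, ll_00, ll_01]
          simpa using hg 0 0
        · show ((ll 1 * g : SL2) : M2) 0 1 ∈ S
          rw [mul_apply_01, ll_00, ll_01]
          simpa using hg 0 1
        · show ((ll 1 * g : SL2) : M2) 1 0 ∈ S
          rw [mul_apply_10, ll_10, ll_11]
          exact S.add_mem (S.mul_mem S.one_mem (hg 0 0)) (S.mul_mem S.one_mem (hg 1 0))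
        · show ((ll 1 * g : SL2) : M2) 1 1 ∈ S
          rw [mul_apply_11, ll_10, ll_11]
          exact S.add_mem (S.mul_mem S.one_mem (hg 0 1)) (S.mul_mem S.one_mem (hg 1 1))
      · rw [mul_apply_10, ll_10, ll_11, hc]
        simpa using h00
    have h2 : g = (ll 1)⁻¹ * (ll 1 * g) := by group
    rw [h2]
    exact L.mul_mem (L.inv_mem (hB 1 S.one_mem)) h1
  · exact key g hg hc

section charp

variable (p : ℕ) [Fact p.Prime] [CharP K p]

/-- in the generic case with `ll 1 ∈ L`, the set `A` is a subfield, equal to `B` -/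
theorem exists_subfield [Finite K] (hp : p ≠ 2) (hidx : (SS L).index = 1 + Nat.card (AA L))
    (h1 : ll 1 ∈ L) :
    ∃ S : Subfield K, (∀ a, a ∈ S ↔ a ∈ AA L) ∧ (∀ b, b ∈ S ↔ b ∈ BB L) := by
  have one_ne : (1 : K) ≠ 0 := one_ne_zero
  have hA1 : (1 : K) ∈ AA L := by
    have := inv_mem_AA p hp hidx one_ne h1
    rwa [inv_one] at this
  have hu1 : uu (1 : K) ∈ L := hA1
  have hun1 : uu (-1 : K) ∈ L := (mem_AA L).1 ((AA L).neg_mem hA1)
  have hln1 : ll (-1 : K) ∈ L := (mem_BB L).1 ((BB L).neg_mem h1)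
  have hw : nn (1 : K) ∈ L := by
    unfold nn
    rw [inv_one]
    exact L.mul_mem (L.mul_mem h1 hun1) h1
  have hAB : ∀ a : K, a ∈ AA L → a ∈ BB L := by
    intro a ha
    have h2 : nn (1 : K) * uu a * (nn 1)⁻¹ ∈ L := L.mul_mem (L.mul_mem hw ha) (L.inv_mem hw)
    rw [nn_conj_uu one_ne] at h2
    have h3 : -a ∈ BB L := by
      rw [mem_BB]
      convert h2 using 2
      ring
    have := (BB L).neg_mem h3
    rwa [neg_neg] at this
  have hBA : ∀ b : K, b ∈ BB L → b ∈ AA L := by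
    intro b hb
    have h2 : nn (1 : K) * ll b * (nn 1)⁻¹ ∈ L := L.mul_mem (L.mul_mem hw hb) (L.inv_mem hw)
    rw [nn_conj_ll one_ne] at h2
    have h3 : -b ∈ AA L := by
      rw [mem_AA]
      convert h2 using 2
      ring
    have := (AA L).neg_mem h3
    rwa [neg_neg] at this
  have hinv : ∀ a : K, a ∈ AA L → a⁻¹ ∈ AA L := by
    intro a ha
    by_cases h0 : a = 0
    · rw [h0, _root_.inv_zero]; exact (AA L).zero_mem
    · exact inv_mem_AA p hp hidx h0 (hAB a ha)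
  have hsq : ∀ a c : K, a ∈ AA L → c ∈ AA L → a ^ 2 * c ∈ AA L := by
    intro a c ha hc
    by_cases h0 : a = 0
    · rw [h0]; simp [(AA L).zero_mem]
    · have hai : ll (-a⁻¹) ∈ L := (mem_BB L).1 ((BB L).neg_mem (hAB _ (hinv a ha)))
      obtain ⟨D, hD⟩ : ∃ D : SL2, D = uu a * ll (-a⁻¹) * uu a * (uu 1 * ll (-1) * uu 1)⁻¹ :=
        ⟨_, rfl⟩
      have hDL : D ∈ L := by
        rw [hD]
        exact L.mul_mem (L.mul_mem (L.mul_mem ha hai) ha)
          (L.inv_mem (L.mul_mem (L.mul_mem hu1 hln1) hu1))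
      obtain ⟨hD10, hD00⟩ := diag_word h0
      rw [← hD] at hD10 hD00
      have h2 : D * uu c * D⁻¹ ∈ L := L.mul_mem (L.mul_mem hDL hc) (L.inv_mem hDL)
      rw [conj_uu_of_upper hD10, hD00] at h2
      exact h2
  have hmul : ∀ a c : K, a ∈ AA L → c ∈ AA L → a * c ∈ AA L := by
    intro a c ha hc
    apply mem_of_two_mul_mem p hp
    have h2 := hsq (a + 1) c ((AA L).add_mem ha hA1) hc
    have h3 := hsq a c ha hc
    have h4 := (AA L).sub_mem ((AA L).sub_mem h2 h3) hc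
    convert h4 using 1
    ring
  let S : Subfield K :=
    { carrier := AA L
      mul_mem' := fun {a b} ha hb => hmul a b ha hb
      one_mem' := hA1
      add_mem' := fun {a b} ha hb => (AA L).add_mem ha hb
      zero_mem' := (AA L).zero_mem
      neg_mem' := fun {a} ha => (AA L).neg_mem ha
      inv_mem' := fun a ha => hinv a ha }
  exact ⟨S, fun a => Iff.rfl, fun b => ⟨fun h => hAB b h, fun h => hBA b h⟩⟩

/-- the shape of the elements of the normalizer of `SL₂(S)` -/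
def Shape (S : Subfield K) (g : SL2) : Prop :=
  ∃ d : K, d ≠ 0 ∧ d ^ 2 ∈ S ∧ (g : M2) 0 0 * d⁻¹ ∈ S ∧ (g : M2) 1 0 * d⁻¹ ∈ S ∧
    (g : M2) 0 1 * d ∈ S ∧ (g : M2) 1 1 * d ∈ S

omit [Fact p.Prime] [CharP K p] in
/-- left multiplication by a matrix over `S` preserves the shape -/
theorem Shape.mul_left {S : Subfield K} {g : SL2} (h : Shape S g) (x : SL2)
    (hx : ∀ i j, (x : M2) i j ∈ S) : Shape S (x * g) := by
  obtain ⟨d, hd, hd2, h00, h10, h01, h11⟩ := h
  refine ⟨d, hd, hd2, ?_, ?_, ?_, ?_⟩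
  · rw [mul_apply_00]
    have : ((x : M2) 0 0 * (g : M2) 0 0 + (x : M2) 0 1 * (g : M2) 1 0) * d⁻¹ =
        (x : M2) 0 0 * ((g : M2) 0 0 * d⁻¹) + (x : M2) 0 1 * ((g : M2) 1 0 * d⁻¹) := by ring
    rw [this]
    exact S.add_mem (S.mul_mem (hx 0 0) h00) (S.mul_mem (hx 0 1) h10)
  · rw [mul_apply_10]
    have : ((x : M2) 1 0 * (g : M2) 0 0 + (x : M2) 1 1 * (g : M2) 1 0) * d⁻¹ =
        (x : M2) 1 0 * ((g : M2) 0 0 * d⁻¹) + (x : M2) 1 1 * ((g : M2) 1 0 * d⁻¹) := by ring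
    rw [this]
    exact S.add_mem (S.mul_mem (hx 1 0) h00) (S.mul_mem (hx 1 1) h10)
  · rw [mul_apply_01]
    have : ((x : M2) 0 0 * (g : M2) 0 1 + (x : M2) 0 1 * (g : M2) 1 1) * d =
        (x : M2) 0 0 * ((g : M2) 0 1 * d) + (x : M2) 0 1 * ((g : M2) 1 1 * d) := by ring
    rw [this]
    exact S.add_mem (S.mul_mem (hx 0 0) h01) (S.mul_mem (hx 0 1) h11)
  · rw [mul_apply_11]
    have : ((x : M2) 1 0 * (g : M2) 0 1 + (x : M2) 1 1 * (g : M2) 1 1) * d =
        (x : M2) 1 0 * ((g : M2) 0 1 * d) + (x : M2) 1 1 * ((g : M2) 1 1 * d) := by ring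
    rw [this]
    exact S.add_mem (S.mul_mem (hx 1 0) h01) (S.mul_mem (hx 1 1) h11)

omit [Fact p.Prime] [CharP K p] in
/-- if square roots of elements of `S` lie in `S`, the shape forces entries in `S` -/
theorem Shape.entries {S : Subfield K} {g : SL2} (h : Shape S g)
    (hsq : ∀ d : K, d ^ 2 ∈ S → d ∈ S) : ∀ i j, (g : M2) i j ∈ S := by
  obtain ⟨d, hd, hd2, h00, h10, h01, h11⟩ := h
  have hdS : d ∈ S := hsq d hd2
  have hdi : d⁻¹ ∈ S := S.inv_mem hdS
  intro i j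
  fin_cases i <;> fin_cases j
  · show (g : M2) 0 0 ∈ S
    have : (g : M2) 0 0 = (g : M2) 0 0 * d⁻¹ * d := by field_simp
    rw [this]; exact S.mul_mem h00 hdS
  · show (g : M2) 0 1 ∈ S
    have : (g : M2) 0 1 = (g : M2) 0 1 * d * d⁻¹ := by field_simp
    rw [this]; exact S.mul_mem h01 hdi
  · show (g : M2) 1 0 ∈ S
    have : (g : M2) 1 0 = (g : M2) 1 0 * d⁻¹ * d := by field_simp
    rw [this]; exact S.mul_mem h10 hdS
  · show (g : M2) 1 1 ∈ S
    have : (g : M2) 1 1 = (g : M2) 1 1 * d * d⁻¹ := by field_simp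
    rw [this]; exact S.mul_mem h11 hdi

/-- the coset representatives of the upper triangular part in the generic case -/
theorem exists_rep [Finite K] (hidx : (SS L).index = 1 + Nat.card (AA L))
    (h1 : ll 1 ∈ L) (g : ↥L) :
    g ∈ SS L ∨ ∃ a : K, ∃ ha : uu a ∈ L, (⟨uu a, ha⟩ * ⟨ll 1, h1⟩ : ↥L)⁻¹ * g ∈ SS L := by
  obtain ⟨f, hf⟩ : ∃ f : Option ↥(AA L) → ↥L ⧸ SS L, f = fun o =>
      match o with
      | none => QuotientGroup.mk (1 : ↥L)
      | some a => QuotientGroup.mk ((⟨uu (a : K), (mem_AA L).1 a.2⟩ : ↥L) * ⟨ll 1, h1⟩) := ⟨_, rfl⟩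
  have e00 : ∀ a : ↥(AA L), en L ((⟨uu (a : K), (mem_AA L).1 a.2⟩ : ↥L) * ⟨ll 1, h1⟩) 0 0 =
      1 + a := by
    intro a
    rw [en_mul_00]
    show ((uu (a : K) : SL2) : M2) 0 0 * ((ll 1 : SL2) : M2) 0 0 +
      ((uu (a : K) : SL2) : M2) 0 1 * ((ll 1 : SL2) : M2) 1 0 = _
    simp
  have e10 : ∀ a : ↥(AA L), en L ((⟨uu (a : K), (mem_AA L).1 a.2⟩ : ↥L) * ⟨ll 1, h1⟩) 1 0 = 1 := by
    intro a
    rw [en_mul_10]
    show ((uu (a : K) : SL2) : M2) 1 0 * ((ll 1 : SL2) : M2) 0 0 +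
      ((uu (a : K) : SL2) : M2) 1 1 * ((ll 1 : SL2) : M2) 1 0 = _
    simp
  have hinj : Function.Injective f := by
    intro o o' h
    rw [hf] at h
    rcases o with _ | a <;> rcases o' with _ | a'
    · rfl
    · exfalso
      simp only at h
      rw [quot_eq_iff, e10, e00, en_one_00, en_one_10] at h
      simp at h
    · exfalso
      simp only at h
      rw [quot_eq_iff, e10, e00, en_one_00, en_one_10] at h
      simp at h
    · simp only at h
      rw [quot_eq_iff, e10, e00, e10, e00] at h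
      congr 1
      apply Subtype.ext
      linear_combination h
  have hcard : Nat.card (↥L ⧸ SS L) ≤ Nat.card (Option ↥(AA L)) := by
    rw [Finite.card_option, ← Subgroup.index_eq_card, hidx]; omega
  have hsurj := (hinj.bijective_of_nat_card_le hcard).2
  obtain ⟨o, ho⟩ := hsurj (QuotientGroup.mk g)
  rw [hf] at ho
  rcases o with _ | a
  · left
    simp only at ho
    have := QuotientGroup.eq.mp ho
    simpa using this
  · right
    simp only at ho
    exact ⟨a, (mem_AA L).1 a.2, QuotientGroup.eq.mp ho⟩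

/-- **the generic case**: every element of `L` has the normalizer shape -/
theorem shape_of_mem [Finite K] (hidx : (SS L).index = 1 + Nat.card (AA L))
    (h1 : ll 1 ∈ L) (S : Subfield K) (hS : ∀ a, a ∈ S ↔ a ∈ AA L) (g : SL2) (hg : g ∈ L) :
    Shape S g := by
  have hu1 : uu (1 : K) ∈ L := (mem_AA L).1 ((hS 1).mp S.one_mem)
  -- the upper triangular elements
  have hupper : ∀ s : SL2, s ∈ L → (s : M2) 1 0 = 0 → Shape S s := by
    intro s hs h10
    have hd := det_eq s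
    rw [h10, mul_zero, sub_zero] at hd
    have h00 : (s : M2) 0 0 ≠ 0 := left_ne_zero_of_mul_eq_one hd
    have h11 : (s : M2) 1 1 = ((s : M2) 0 0)⁻¹ := eq_inv_of_mul_eq_one_right hd
    have hd2 : (s : M2) 0 0 ^ 2 ∈ S := by
      rw [hS, mem_AA]
      have h2 : s * uu 1 * s⁻¹ ∈ L := L.mul_mem (L.mul_mem hs hu1) (L.inv_mem hs)
      rw [conj_uu_of_upper h10, mul_one] at h2
      exact h2
    refine ⟨(s : M2) 0 0, h00, hd2, ?_, ?_, ?_, ?_⟩
    · rw [mul_inv_cancel₀ h00]; exact S.one_mem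
    · rw [h10, zero_mul]; exact S.zero_mem
    · -- use the coset of `s * ll 1`
      rcases exists_rep hidx h1 (⟨s, hs⟩ * ⟨ll 1, h1⟩ : ↥L) with h | ⟨a, ha, h⟩
      · exfalso
        rw [mem_SS, en_mul_10] at h
        have e1 : en L (⟨s, hs⟩ : ↥L) 1 0 = 0 := h10
        have e2 : en L (⟨s, hs⟩ : ↥L) 1 1 = ((s : M2) 0 0)⁻¹ := h11
        have e3 : en L (⟨ll 1, h1⟩ : ↥L) 1 0 = 1 := rfl
        rw [e1, e2, e3] at h
        simp at h
        exact h00 h
      · rw [coset_iff] at h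
        have e00 : en L ((⟨uu a, ha⟩ : ↥L) * ⟨ll 1, h1⟩) 0 0 = 1 + a := by
          rw [en_mul_00]
          show ((uu a : SL2) : M2) 0 0 * ((ll 1 : SL2) : M2) 0 0 +
            ((uu a : SL2) : M2) 0 1 * ((ll 1 : SL2) : M2) 1 0 = _
          simp
        have e10 : en L ((⟨uu a, ha⟩ : ↥L) * ⟨ll 1, h1⟩) 1 0 = 1 := by
          rw [en_mul_10]
          show ((uu a : SL2) : M2) 1 0 * ((ll 1 : SL2) : M2) 0 0 +
            ((uu a : SL2) : M2) 1 1 * ((ll 1 : SL2) : M2) 1 0 = _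
          simp
        have f00 : en L ((⟨s, hs⟩ : ↥L) * ⟨ll 1, h1⟩) 0 0 = (s : M2) 0 0 + (s : M2) 0 1 := by
          rw [en_mul_00]
          show (s : M2) 0 0 * ((ll 1 : SL2) : M2) 0 0 + (s : M2) 0 1 * ((ll 1 : SL2) : M2) 1 0 = _
          simp
        have f10 : en L ((⟨s, hs⟩ : ↥L) * ⟨ll 1, h1⟩) 1 0 = ((s : M2) 0 0)⁻¹ := by
          rw [en_mul_10]
          show (s : M2) 1 0 * ((ll 1 : SL2) : M2) 0 0 + (s : M2) 1 1 * ((ll 1 : SL2) : M2) 1 0 = _
          rw [h10, h11]; simp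
        rw [e00, e10, f00, f10] at h
        -- `(1 + a) * d⁻¹ = d + e`
        have haS : a ∈ S := (hS a).mpr ha
        have : (s : M2) 0 1 * (s : M2) 0 0 = (1 + a) - (s : M2) 0 0 ^ 2 := by
          field_simp at h
          linear_combination -h
        rw [this]
        exact S.sub_mem (S.add_mem S.one_mem haS) hd2
    · rw [h11, inv_mul_cancel₀ h00]; exact S.one_mem
  rcases exists_rep hidx h1 (⟨g, hg⟩ : ↥L) with h | ⟨a, ha, h⟩
  · exact hupper g hg h
  · -- `g = (uu a * ll 1) * s`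
    obtain ⟨s, hsdef⟩ : ∃ s : ↥L, s = (⟨uu a, ha⟩ * ⟨ll 1, h1⟩ : ↥L)⁻¹ * ⟨g, hg⟩ := ⟨_, rfl⟩
    rw [← hsdef] at h
    have hsS := hupper (s : SL2) s.2 h
    have hg' : g = (uu a * ll 1) * (s : SL2) := by
      have : (⟨g, hg⟩ : ↥L) = (⟨uu a, ha⟩ * ⟨ll 1, h1⟩ : ↥L) * s := by rw [hsdef]; group
      exact congrArg Subtype.val this
    rw [hg']
    apply hsS.mul_left
    have haS : a ∈ S := (hS a).mpr ha
    intro i j
    fin_cases i <;> fin_cases j
    · show ((uu a * ll 1 : SL2) : M2) 0 0 ∈ S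
      rw [mul_apply_00]; simp only [uu_00, uu_01, ll_00, ll_10]
      exact S.add_mem (S.mul_mem S.one_mem S.one_mem) (S.mul_mem haS S.one_mem)
    · show ((uu a * ll 1 : SL2) : M2) 0 1 ∈ S
      rw [mul_apply_01]; simp only [uu_00, uu_01, ll_01, ll_11]
      exact S.add_mem (S.mul_mem S.one_mem S.zero_mem) (S.mul_mem haS S.one_mem)
    · show ((uu a * ll 1 : SL2) : M2) 1 0 ∈ S
      rw [mul_apply_10]; simp only [uu_10, uu_11, ll_00, ll_10]
      exact S.add_mem (S.mul_mem S.zero_mem S.one_mem) (S.mul_mem S.one_mem S.one_mem)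
    · show ((uu a * ll 1 : SL2) : M2) 1 1 ∈ S
      rw [mul_apply_11]; simp only [uu_10, uu_11, ll_01, ll_11]
      exact S.add_mem (S.mul_mem S.zero_mem S.zero_mem) (S.mul_mem S.one_mem S.one_mem)

theorem prime_eq_three_of_pow {p k : ℕ} (hp : p.Prime) (h : 3 = p ^ k) : p = 3 := by
  have hk : k ≠ 0 := by
    rintro rfl
    simp at h
  have : p ∣ 3 := by rw [h]; exact dvd_pow_self p hk
  exact (Nat.prime_dvd_prime_iff_eq hp Nat.prime_three).1 this

/-- **Structure of subgroups of `SL₂(K)` containing `-1`, `uu 1`, `ll 1`** (odd characteristic):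
either `A = {a | uu a ∈ L}` is a subfield `S` and every element of `L` has the normalizer shape
over `S`, or `p = 3`, `|A| = 3` and `|L| = 120`. -/
theorem structure_of_lift [Finite K] (hp : p ≠ 2) (hneg : (-1 : SL2) ∈ L) (hu : uu 1 ∈ L)
    (hl : ll 1 ∈ L) :
    (∃ S : Subfield K, (∀ a, a ∈ S ↔ uu a ∈ L) ∧ (∀ b, b ∈ S ↔ ll b ∈ L) ∧
      ∀ g ∈ L, Shape S g) ∨
    (p = 3 ∧ Nat.card (AA L) = 3 ∧ Nat.card L = 120) := by
  have one_ne : (1 : K) ≠ 0 := one_ne_zero
  rcases dichotomy p hp one_ne hu one_ne hl with hidx | ⟨hq, hr, hidx⟩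
  · left
    obtain ⟨S, hSA, hSB⟩ := exists_subfield p hp hidx hl
    exact ⟨S, hSA, hSB, fun g hg => shape_of_mem hidx hl S hSA g hg⟩
  · right
    obtain ⟨k, hk⟩ := card_AA_pow (L := L) p
    have hp3 : p = 3 := prime_eq_three_of_pow (Fact.out : p.Prime) (hq ▸ hk)
    subst hp3
    exact ⟨rfl, hq, card_L_exc hq hr hidx hneg⟩

end charp

end Cfsg.Agent.Lib.H5.DicksonOdd
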