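import Mathlib
import Cfsg.Agent.Lib.H12.SL2Syl2

set_option autoImplicit false

/-!
# `SL₂` in characteristic two

The centre is trivial, and `2`-elements are involutions.
-/

namespace Cfsg.Agent.Lib.H5.SL2Char2

open Matrix Cfsg.Agent.Lib.H12

variable {F : Type*} [Field F]

local notation "SL2" => Matrix.SpecialLinearGroup (Fin 2) F
local notation "M2" => Matrix (Fin 2) (Fin 2) F
local notation "PSL2" => Matrix.ProjectiveSpecialLinearGroup (Fin 2) F

theorem neg_eq_self (h2 : (2 : F) = 0) (x : F) : -x = x := by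
  have : x + x = 0 := by rw [← two_mul, h2, zero_mul]
  exact neg_eq_of_add_eq_zero_left this

theorem neg_one_eq_one_mat (h2 : (2 : F) = 0) : (-1 : M2) = 1 := by
  ext i j
  simp only [Matrix.neg_apply]
  exact neg_eq_self h2 _

theorem sl2_neg_one_eq_one (h2 : (2 : F) = 0) : (-1 : SL2) = 1 := by
  apply Subtype.ext
  simp only [Matrix.SpecialLinearGroup.coe_neg, Matrix.SpecialLinearGroup.coe_one]
  exact neg_one_eq_one_mat h2

theorem center_eq_bot (h2 : (2 : F) = 0) : Subgroup.center SL2 = ⊥ := by
  rw [Subgroup.eq_bot_iff_forall]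
  intro z hz
  rcases sl2_center_cases z hz with h | h
  · exact h
  · rw [h]; exact sl2_neg_one_eq_one h2

theorem mk_injective (h2 : (2 : F) = 0) :
    Function.Injective (QuotientGroup.mk : SL2 → PSL2) := by
  intro a b h
  rw [QuotientGroup.eq, center_eq_bot h2, Subgroup.mem_bot] at h
  calc a = a * (a⁻¹ * b) := by rw [h, mul_one]
    _ = b := by rw [mul_inv_cancel_left]

/-- in characteristic two an element of `SL₂` with fourth power one is an involution -/
theorem mul_self_eq_one_of_pow_four (h2 : (2 : F) = 0) (g : SL2) (h4 : g ^ 4 = 1) : g * g = 1 := by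
  have hc := m2_cayley (g : M2) g.det_coe
  have h4' : ((g : M2) * (g : M2)) * ((g : M2) * (g : M2)) = 1 := by
    have : (g * g) * (g * g) = 1 := by
      rw [← h4]; simp only [pow_succ, pow_zero, one_mul, mul_assoc]
    have := congrArg (fun x : SL2 => (x : M2)) this
    simpa using this
  obtain ⟨t, ht⟩ : ∃ t : F, t = (g : M2).trace := ⟨_, rfl⟩
  rw [← ht] at hc
  have key : (t ^ 2) • ((g : M2) * (g : M2)) = 0 := by
    have h5 : ((g : M2) * (g : M2)) * ((g : M2) * (g : M2)) =
        (t ^ 2) • ((g : M2) * (g : M2)) - (2 * t) • (g : M2) + 1 := by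
      nth_rewrite 1 [hc]
      nth_rewrite 1 [hc]
      simp only [sub_mul, mul_sub, smul_mul_assoc, mul_smul_comm, one_mul, mul_one, smul_sub,
        smul_smul]
      rw [pow_two, two_mul, add_smul]
      abel
    rw [h4', h2, zero_mul, zero_smul, sub_zero] at h5
    have : (t ^ 2) • ((g : M2) * (g : M2)) + 1 = 0 + 1 := by rw [zero_add]; exact h5.symm
    exact add_right_cancel this
  have ht0 : t = 0 := by
    by_contra hne
    have h6 : ((g : M2) * (g : M2)) = 0 := by
      have := congrArg (fun M : M2 => (t ^ 2)⁻¹ • M) key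
      simp only [smul_smul, inv_mul_cancel₀ (pow_ne_zero 2 hne), one_smul, smul_zero] at this
      exact this
    rw [h6] at h4'
    simp at h4'
  apply Subtype.ext
  rw [Matrix.SpecialLinearGroup.coe_mul, hc, ht0, zero_smul, zero_sub, Matrix.SpecialLinearGroup.coe_one]
  exact neg_one_eq_one_mat h2

end Cfsg.Agent.Lib.H5.SL2Char2
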