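import Cfsg.Agent.Lib.H11.OmTs5
import Cfsg.Agent.Lib.H11.ConfOrth5
import Cfsg.Agent.Lib.H29.QuadOdd

/-!
# O2-B4: `Ω_{2m+1}(q)` normalises no field subalgebra (helper5)

Generic parts, usable for every orthogonal case:

* `commute_of_small_rank`: an element `g ∈ N(K)` of `GL` such that the image of `g - 1` lies in a subspace `W` with
  `2 dim W < |ι|` centralises the field subalgebra `K`;
* `omegaGL_le_of_gens_any`: `Ω(Q)` (`|ι| ≥ 7`) lies in every subgroup containing its elements `t` with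
  `im (t - 1) ⊆ span {u, v}` (Siegel elements generate `Ω`);
* `not_omegaGL_le_subalgebraNormalizer_any`: so `Ω(Q)` (odd characteristic, `|ι| ≥ 7`) normalises no field subalgebra of
  degree `r ≥ 2`.
-/

set_option autoImplicit false

namespace Cfsg.Agent.Lib.H5.OP2

open Cfsg Cfsg.Geo
open scoped MatrixGroups Matrix

variable {F : Type*} [Field F]

/-- An element of `N(K)` whose `g - 1` has image in a subspace `W`, `2 dim W < |ι|`, centralises the field subalgebra `K`. -/
theorem commute_of_small_rank {ι : Type} [Fintype ι] [DecidableEq ι] (r : ℕ) (K : Subalgebra F (Matrix ι ι F))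
    (hK : IsFieldSubalgebra r K) (g : GL ι F) (hgN : g ∈ subalgebraNormalizer K) (W : Submodule F (ι → F))
    (hW : ∀ w, (g : Matrix ι ι F) *ᵥ w - w ∈ W) (hdim : 2 * Module.finrank F W < Fintype.card ι)
    (X : Matrix ι ι F) (hX : X ∈ K) :
    (g : Matrix ι ι F) * X = X * (g : Matrix ι ι F) := by
  have hmem : (g : Matrix ι ι F) * X * ((g⁻¹ : GL ι F) : Matrix ι ι F) ∈ K := (hgN X).mp hX
  set y := (g : Matrix ι ι F) * X * ((g⁻¹ : GL ι F) : Matrix ι ι F) - X with hy
  have hyK : y ∈ K := K.sub_mem hmem hX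
  have hinv1 : ∀ w : ι → F, ((g⁻¹ : GL ι F) : Matrix ι ι F) *ᵥ ((g : Matrix ι ι F) *ᵥ w) = w := by
    intro w
    rw [Matrix.mulVec_mulVec, ← Units.val_mul, inv_mul_cancel, Units.val_one, Matrix.one_mulVec]
  have hinv2 : ∀ w : ι → F, (g : Matrix ι ι F) *ᵥ (((g⁻¹ : GL ι F) : Matrix ι ι F) *ᵥ w) = w := by
    intro w
    rw [Matrix.mulVec_mulVec, ← Units.val_mul, mul_inv_cancel, Units.val_one, Matrix.one_mulVec]
  set W2 : Submodule F (ι → F) := W ⊔ W.map (Matrix.toLin' X) with hW2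
  -- the image of `y * g` lies in `W + X W`
  have himg : ∀ w : ι → F, y *ᵥ ((g : Matrix ι ι F) *ᵥ w) ∈ W2 := by
    intro w
    have hcalc : y *ᵥ ((g : Matrix ι ι F) *ᵥ w) =
        ((g : Matrix ι ι F) *ᵥ (X *ᵥ w) - X *ᵥ w) - Matrix.toLin' X ((g : Matrix ι ι F) *ᵥ w - w) := by
      rw [hy, Matrix.sub_mulVec, ← Matrix.mulVec_mulVec, ← Matrix.mulVec_mulVec, hinv1,
        Matrix.toLin'_apply, Matrix.mulVec_sub]
      abel
    rw [hcalc]
    exact Submodule.sub_mem _ (Submodule.mem_sup_left (hW _))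
      (Submodule.mem_sup_right (Submodule.mem_map_of_mem (hW _)))
  have hy0 : y = 0 := by
    by_contra hne
    obtain ⟨z, -, hz⟩ := hK.inv y hyK hne
    have htop : (⊤ : Submodule F (ι → F)) ≤ W2 := by
      intro w _
      have : w = y *ᵥ ((g : Matrix ι ι F) *ᵥ (((g⁻¹ : GL ι F) : Matrix ι ι F) *ᵥ (z *ᵥ w))) := by
        rw [hinv2, Matrix.mulVec_mulVec, hz, Matrix.one_mulVec]
      rw [this]
      exact himg _
    have h1 := Submodule.finrank_mono htop
    rw [finrank_top, Module.finrank_fintype_fun_eq_card] at h1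
    have h2 : Module.finrank F W2 ≤ Module.finrank F W + Module.finrank F (W.map (Matrix.toLin' X)) :=
      Submodule.finrank_add_le_finrank_add_finrank _ _
    have h3 : Module.finrank F (W.map (Matrix.toLin' X)) ≤ Module.finrank F W :=
      Submodule.finrank_map_le _ _
    omega
  have h1 : (g : Matrix ι ι F) * X * ((g⁻¹ : GL ι F) : Matrix ι ι F) = X := sub_eq_zero.mp hy0
  have h3 : (g : Matrix ι ι F) * X * ((g⁻¹ : GL ι F) : Matrix ι ι F) * (g : Matrix ι ι F) =
      X * (g : Matrix ι ι F) := by rw [h1]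
  rw [Matrix.mul_assoc, ← Units.val_mul, inv_mul_cancel, Units.val_one, Matrix.mul_one] at h3
  exact h3

/-- a field subalgebra of dimension `r ≥ 2` contains a non-scalar matrix (general index type) -/
theorem exists_not_scalar_any {ι : Type} [Fintype ι] [DecidableEq ι] (r : ℕ) (K : Subalgebra F (Matrix ι ι F))
    (hr : 2 ≤ r) (hK : IsFieldSubalgebra r K) :
    ∃ X ∈ K, ¬ ∃ c : F, X = c • (1 : Matrix ι ι F) := by
  by_contra hcon
  push Not at hcon
  have hle1 : K.toSubmodule ≤ Submodule.span F {(1 : Matrix ι ι F)} := by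
    intro x hx
    rw [Submodule.mem_span_singleton]
    obtain ⟨c, hc⟩ := hcon x hx
    exact ⟨c, hc.symm⟩
  have hfin : Module.finrank F K.toSubmodule ≤ 1 :=
    (Submodule.finrank_mono hle1).trans
      ((finrank_span_le_card ({(1 : Matrix ι ι F)} : Set _)).trans (by simp))
  have hKr : Module.finrank F K.toSubmodule = r := hK.finrank_eq
  omega

section gens

open Cfsg.Agent.Lib.H11.SiegelGen

/-- `Ω(Q)` on `Fin n`, `n ≥ 7`, lies in every subgroup containing its elements of "Siegel shape". -/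
theorem omegaGL_le_of_gens_fin [Fintype F] {n : ℕ} (Q : QuadraticForm F (Fin n → F))
    (hQ : (QuadraticMap.polarBilin Q).Nondegenerate) (hn : 7 ≤ n) (C : Subgroup (GL (Fin n) F))
    (hC : ∀ t ∈ omegaGL ⇑Q, (∃ u v : Fin n → F, ∀ w, (t : Matrix (Fin n) (Fin n) F) *ᵥ w - w ∈
      Submodule.span F ({u, v} : Set (Fin n → F))) → t ∈ C) :
    omegaGL ⇑Q ≤ C := by
  have hS := Cfsg.Agent.Lib.H11.OmTs.comm_eq_S Q hQ hn
  intro t ht
  obtain ⟨s, hs, rfl⟩ := Subgroup.mem_map.1 ht
  have hs' : s ∈ S Q := by rw [← hS]; exact hs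
  unfold S at hs'
  induction hs' using Subgroup.closure_induction with
  | mem x hx =>
    obtain ⟨u, v, c, hu, hv, huv, hmat⟩ := hx
    refine hC _ (Subgroup.mem_map.2 ⟨x, ?_, rfl⟩) ⟨u, v, fun w => ?_⟩
    · show x ∈ commutator _
      rw [hS]
      exact Subgroup.subset_closure ⟨u, v, c, hu, hv, huv, hmat⟩
    · show ((x : GL (Fin n) F) : Matrix (Fin n) (Fin n) F) *ᵥ w - w ∈ _
      rw [hmat, Cfsg.Agent.Lib.H4.siegelMatrix_mulVec]
      have h1 : u ∈ Submodule.span F ({u, v} : Set (Fin n → F)) :=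
        Submodule.subset_span (Set.mem_insert _ _)
      have h2 : v ∈ Submodule.span F ({u, v} : Set (Fin n → F)) :=
        Submodule.subset_span (Set.mem_insert_of_mem _ (Set.mem_singleton _))
      have : w + (c * QuadraticMap.polar (⇑Q) u w) • v - (c * QuadraticMap.polar (⇑Q) v w) • u - w =
          (c * QuadraticMap.polar (⇑Q) u w) • v - (c * QuadraticMap.polar (⇑Q) v w) • u := by abel
      rw [this]
      exact Submodule.sub_mem _ (Submodule.smul_mem _ _ h2) (Submodule.smul_mem _ _ h1)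
  | one => exact C.one_mem
  | mul x y hx hy hx' hy' =>
    have hxc : x ∈ commutator _ := by rw [hS]; exact hx
    have hyc : y ∈ commutator _ := by rw [hS]; exact hy
    have := C.mul_mem (hx' hxc (Subgroup.mem_map.2 ⟨x, hxc, rfl⟩)) (hy' hyc (Subgroup.mem_map.2 ⟨y, hyc, rfl⟩))
    simpa using this
  | inv x hx hx' =>
    have hxc : x ∈ commutator _ := by rw [hS]; exact hx
    have := C.inv_mem (hx' hxc (Subgroup.mem_map.2 ⟨x, hxc, rfl⟩))
    simpa using this

end gens

section any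

variable {ι : Type} [Fintype ι] [DecidableEq ι]

/-- `Ω(Q)`, `|ι| ≥ 7`, lies in every subgroup containing its elements of "Siegel shape" (general index type). -/
theorem omegaGL_le_of_gens_any [Fintype F] (Q : (ι → F) → F) (hQ : IsNondegenerateQuadraticForm Q)
    (hn : 7 ≤ Fintype.card ι) (C : Subgroup (GL ι F))
    (hC : ∀ t ∈ omegaGL Q, (∃ u v : ι → F, ∀ w, (t : Matrix ι ι F) *ᵥ w - w ∈
      Submodule.span F ({u, v} : Set (ι → F))) → t ∈ C) :
    omegaGL Q ≤ C := by
  set e := Fintype.equivFin ι with he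
  have hcom := Cfsg.Agent.Lib.H11.OmTs.comap_omegaGL (F := F) e Q
  have key := omegaGL_le_of_gens_fin
    (Cfsg.Agent.Lib.H11.IsoReindex.trQF e (Cfsg.Agent.Lib.H29.Orth.toQF Q hQ))
    (Cfsg.Agent.Lib.H11.IsoReindex.nondeg_trQF e _ (Cfsg.Agent.Lib.H29.Orth.toQF_nondegenerate Q hQ)) hn
    (C.map (Cfsg.Agent.Lib.H11.IsoReindex.glReindex (F := F) e).toMonoidHom) ?_
  · rw [Cfsg.Agent.Lib.H11.IsoReindex.coe_trQF, Cfsg.Agent.Lib.H29.Orth.coe_toQF] at key
    intro w hw
    rw [← hcom, Subgroup.mem_comap] at hw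
    obtain ⟨c, hc, hcw⟩ := Subgroup.mem_map.1 (key hw)
    have : c = w := (Cfsg.Agent.Lib.H11.IsoReindex.glReindex (F := F) e).injective hcw
    rw [← this]; exact hc
  · intro t ht ⟨u, v, huv⟩
    rw [Cfsg.Agent.Lib.H11.IsoReindex.coe_trQF, Cfsg.Agent.Lib.H29.Orth.coe_toQF] at ht
    set g := (Cfsg.Agent.Lib.H11.IsoReindex.glReindex (F := F) e).symm t with hg
    have hgt : Cfsg.Agent.Lib.H11.IsoReindex.glReindex e g = t :=
      (Cfsg.Agent.Lib.H11.IsoReindex.glReindex (F := F) e).apply_symm_apply t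
    have hgΩ : g ∈ omegaGL Q := by
      rw [← hcom, Subgroup.mem_comap]
      show Cfsg.Agent.Lib.H11.IsoReindex.glReindex e g ∈ _
      rw [hgt]; exact ht
    refine Subgroup.mem_map.2 ⟨g, hC g hgΩ ⟨u ∘ e, v ∘ e, fun w => ?_⟩, hgt⟩
    have h1 := huv (w ∘ e.symm)
    have h2 := Submodule.mem_map_of_mem (f := LinearMap.funLeft F F e) h1
    rw [Submodule.map_span, Set.image_pair] at h2
    have h3 : (g : Matrix ι ι F) *ᵥ w - w =
        LinearMap.funLeft F F e ((t : Matrix _ _ F) *ᵥ (w ∘ e.symm) - w ∘ e.symm) := by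
      rw [← hgt, Cfsg.Agent.Lib.H11.IsoReindex.glReindex_mulVec]
      funext i
      simp [LinearMap.funLeft_apply, Function.comp_def]
    rw [h3]
    exact h2

/-- **O2-B4, general form**: `Ω(Q)` (odd characteristic, dimension at least 7) normalises no field subalgebra of degree
`r ≥ 2`. -/
theorem not_omegaGL_le_subalgebraNormalizer_any [Fintype F] (Q : (ι → F) → F) (hQ : IsNondegenerateQuadraticForm Q)
    (h2 : (2 : F) ≠ 0) (hn : 7 ≤ Fintype.card ι) (r : ℕ) (hr : 2 ≤ r) (K : Subalgebra F (Matrix ι ι F))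
    (hK : IsFieldSubalgebra r K) : ¬ omegaGL Q ≤ subalgebraNormalizer K := by
  intro hle
  obtain ⟨X, hXK, hXns⟩ := exists_not_scalar_any r K hr hK
  have hX0 : X ≠ 0 := by
    rintro rfl
    exact hXns ⟨0, by rw [zero_smul]⟩
  obtain ⟨Y, hYK, hXY⟩ := hK.inv X hXK hX0
  have hYX : Y * X = 1 := by rw [← hK.comm X hXK Y hYK]; exact hXY
  set A : GL ι F := ⟨X, Y, hXY, hYX⟩ with hA
  -- `Ω` centralises `A`
  have hcent : omegaGL Q ≤ Subgroup.centralizer {A} := by
    apply omegaGL_le_of_gens_any Q hQ hn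
    intro t ht ⟨u, v, huv⟩
    rw [Subgroup.mem_centralizer_iff]
    intro a ha
    rw [Set.mem_singleton_iff] at ha
    subst ha
    have hfin : Module.finrank F (Submodule.span F ({u, v} : Set (ι → F))) ≤ 2 := by
      classical
      refine (finrank_span_le_card ({u, v} : Set (ι → F))).trans ?_
      rw [Set.toFinset_insert, Set.toFinset_singleton]
      exact Finset.card_insert_le _ _ |>.trans (by simp)
    have := commute_of_small_rank r K hK t (hle ht) _ huv (by omega) X hXK
    apply Units.ext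
    rw [Units.val_mul, Units.val_mul]
    exact this.symm
  have hsc := Cfsg.Agent.Lib.H11.ConfOrth.schur_gen (Cfsg.Agent.Lib.H29.Orth.toQF Q hQ)
    (Cfsg.Agent.Lib.H29.Orth.toQF_nondegenerate Q hQ) h2 hn A (by
      intro w hw
      rw [Cfsg.Agent.Lib.H29.Orth.coe_toQF] at hw
      have := hcent hw
      rw [Subgroup.mem_centralizer_iff] at this
      exact this A rfl)
  obtain ⟨c, hc⟩ := (Cfsg.Agent.Lib.H11.ConfOrth.mem_Zs_iff A).1 hsc
  apply hXns
  refine ⟨(c : F), ?_⟩
  have := congrArg (fun g : GL ι F => (g : Matrix ι ι F)) hc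
  simp only [hA] at this
  rw [this]
  ext i j
  simp [Matrix.GeneralLinearGroup.scalar, Matrix.smul_apply, Matrix.one_apply, Matrix.diagonal_apply]

end any

section final

variable [Fintype F]

/-- **O2-B4**. -/
theorem not_omega_le_subalgebraNormalizer (hodd : Odd (Fintype.card F)) (m : ℕ) (hm : 3 ≤ m) (r : ℕ) (hr : r.Prime)
    (K : Subalgebra F (Matrix (Unit ⊕ (Fin m ⊕ Fin m)) (Unit ⊕ (Fin m ⊕ Fin m)) F))
    (hK : IsFieldSubalgebra r K) :
    ¬ omegaGL (quadFormOdd m F) ≤ subalgebraNormalizer K := by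
  have h2 : (2 : F) ≠ 0 := by
    intro h
    have hchar : ringChar F = 2 := by
      have := (ringChar.spec F 2).1 (by exact_mod_cast h)
      exact ((Nat.prime_dvd_prime_iff_eq (CharP.char_is_prime F (ringChar F)) Nat.prime_two).1 this)
    have h3 := FiniteField.even_card_iff_char_two.1 hchar
    rw [Nat.odd_iff] at hodd
    omega
  have hcard : Fintype.card (Unit ⊕ (Fin m ⊕ Fin m)) = 2 * m + 1 := by
    simp only [Fintype.card_sum, Fintype.card_unit, Fintype.card_fin]; omega
  exact not_omegaGL_le_subalgebraNormalizer_any (quadFormOdd m F)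
    (Cfsg.Agent.Lib.H29.QuadOdd.isNondegenerateQuadraticForm m h2) h2 (by rw [hcard]; omega) r hr.two_le K hK

end final

end Cfsg.Agent.Lib.H5.OP2
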