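import Mathlib

/-!
# S3777 (Vaughan-Lee: `|G'| ≤ p^(b(b+1)/2)`) — the CUT (helper5)

Pairs `(G, M)`: `M` a subgroup of index `p` of the finite `p`-group `G`, every `y ∉ M` has
centraliser index `≤ p ^ f`.  Three statements, proved by simultaneous strong induction on `|G|`:

* `P1`: if `M' ≠ G'` then `|G'| ≤ p ^ tri f`;
* `P2`: if `M' = G'` then `|G'| ≤ p ^ (tri f + f)`;
* `P3`: if every centraliser index is `≤ p ^ b` then `|G'| ≤ p ^ tri b`.

Definitions and the exact shapes of the three steps; `S3777Asm.lean` has the induction.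
-/

set_option autoImplicit false

namespace Cfsg.Agent.Lib.H5.S3777

universe u

/-- the triangular number `n (n+1) / 2` -/
def tri (n : ℕ) : ℕ := n * (n + 1) / 2

/-- `(G, M)` is a pair with bound `f`: `M` has index `p` and every element outside `M` has
centraliser index at most `p ^ f`. -/
structure IsPair (p : ℕ) {G : Type u} [Group G] (M : Subgroup G) (f : ℕ) : Prop where
  idx : M.index = p
  out : ∀ y : G, y ∉ M → (Subgroup.centralizer ({y} : Set G)).index ≤ p ^ f

/-- non-residual pairs satisfy the sharp bound -/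
def P1 (p : ℕ) (G : Type u) [Group G] : Prop :=
  ∀ (M : Subgroup G) (f : ℕ), IsPair p M f → ⁅M, M⁆ ≠ commutator G →
    Nat.card ↥(commutator G) ≤ p ^ tri f

/-- residual pairs satisfy the weak bound -/
def P2 (p : ℕ) (G : Type u) [Group G] : Prop :=
  ∀ (M : Subgroup G) (f : ℕ), IsPair p M f → ⁅M, M⁆ = commutator G →
    Nat.card ↥(commutator G) ≤ p ^ (tri f + f)

/-- the theorem for `G` -/
def P3 (p : ℕ) (G : Type u) [Group G] : Prop :=
  ∀ b : ℕ, (∀ x : G, (Subgroup.centralizer ({x} : Set G)).index ≤ p ^ b) →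
    Nat.card ↥(commutator G) ≤ p ^ tri b

/-- the induction hypothesis: everything holds for the `p`-groups of order `< n` (same universe) -/
def IH (p : ℕ) (n : ℕ) : Prop :=
  ∀ (H : Type u) [Group H] [Finite H], IsPGroup p H → Nat.card H < n →
    P1 p H ∧ P2 p H ∧ P3 p H

/-- step for `P1` (helper7's step with the residual sub-pair handled by `P2`) -/
def P1StepStmt : Prop :=
  ∀ (p : ℕ) [Fact p.Prime] (G : Type u) [Group G] [Finite G], IsPGroup p G →
    IH.{u} p (Nat.card G) → P1 p G

/-- step for `P2` -/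
def P2StepStmt : Prop :=
  ∀ (p : ℕ) [Fact p.Prime] (G : Type u) [Group G] [Finite G], IsPGroup p G →
    IH.{u} p (Nat.card G) → P2 p G

/-- step for `P3` -/
def P3StepStmt : Prop :=
  ∀ (p : ℕ) [Fact p.Prime] (G : Type u) [Group G] [Finite G], IsPGroup p G →
    IH.{u} p (Nat.card G) → P1 p G → P3 p G

/-- everything, for all finite `p`-groups of a universe -/
theorem all_of (h1 : P1StepStmt.{u}) (h2 : P2StepStmt.{u}) (h3 : P3StepStmt.{u})
    (p : ℕ) [Fact p.Prime] :
    ∀ n : ℕ, ∀ (G : Type u) [Group G] [Finite G], IsPGroup p G → Nat.card G = n →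
      P1 p G ∧ P2 p G ∧ P3 p G := by
  intro n
  induction n using Nat.strong_induction_on with
  | _ n ih =>
    intro G _ _ hG hn
    have hIH : IH.{u} p (Nat.card G) := by
      intro H _ _ hH hlt
      exact ih (Nat.card H) (hn ▸ hlt) H hH rfl
    have p1 := h1 p G hG hIH
    exact ⟨p1, h2 p G hG hIH, h3 p G hG hIH p1⟩

/-- the frozen statement S3777 from the three steps -/
theorem main_of (h1 : P1StepStmt.{u}) (h2 : P2StepStmt.{u}) (h3 : P3StepStmt.{u})
    {G : Type u} [Group G] [Finite G] {p : ℕ} [Fact p.Prime] (hG : IsPGroup p G) (b : ℕ)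
    (hb : ∀ x : G, (Subgroup.centralizer ({x} : Set G)).index ≤ p ^ b) :
    Nat.card (commutator G) ≤ p ^ (b * (b + 1) / 2) :=
  (all_of h1 h2 h3 p (Nat.card G) G hG rfl).2.2 b hb

end Cfsg.Agent.Lib.H5.S3777
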