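import Mathlib
import Cfsg.Prelude.Def_OddOrderLocal
import Cfsg.Prelude.Def_CaseTheorems
import Cfsg.Prelude.Def_PLocal
import Cfsg.Agent.Lib.H19.R2Defs

/-!
# S3888 piece C1B1 (helper5): normalisation of the third family

`G = (⟨y⟩ × ⟨z⟩) ⋊ ⟨x⟩` with `x⁻¹ z x = y z`, `x⁻¹ y x = y z ^ (k p ^ (n - 3))`: replace `x` by a power so
that `k` becomes `1` when `k` is a square modulo `p`.
-/

set_option autoImplicit false

namespace Cfsg.Agent.Lib.H5.R2

open Cfsg Cfsg.Agent.Lib.H19.R2
open scoped commutatorElement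

universe u

/-- powers depend only on the exponent modulo a number killing the element -/
theorem b1_pow_eq_of_modEq {G : Type*} [Group G] {g : G} {m a b : ℕ} (hg : g ^ m = 1)
    (h : a ≡ b [MOD m]) : g ^ a = g ^ b := by
  rw [pow_eq_pow_iff_modEq]
  exact h.of_dvd (orderOf_dvd_of_pow_eq_one hg)

/-- iterated conjugation by `x⁻¹` -/
theorem b1_conj_pow {G : Type*} [Group G] (x : G) (α : G →* G) (hα : ∀ g, α g = x⁻¹ * g * x) (i : ℕ)
    (g : G) : (α^[i]) g = (x ^ i)⁻¹ * g * x ^ i := by
  induction i generalizing g with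
  | zero => simp
  | succ i ih =>
    rw [Function.iterate_succ_apply', ih, hα, pow_succ, mul_inv_rev]
    simp only [mul_assoc]

/-- the orbit computation: `α z = y z`, `α y = y w`, `α w = w`, everything commuting -/
theorem b1_iterate {G : Type*} [Group G] (α : G →* G) {y z w : G} (hyz : y * z = z * y)
    (hyw : y * w = w * y) (hzw : z * w = w * z)
    (hz : α z = y * z) (hy : α y = y * w) (hw : α w = w) (i : ℕ) :
    (α^[i]) w = w ∧ (α^[i]) y = y * w ^ i ∧ (α^[i]) z = z * y ^ i * w ^ (i.choose 2) := by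
  induction i with
  | zero => simp
  | succ i ih =>
    obtain ⟨h1, h2, h3⟩ := ih
    have hyw' : Commute y w := hyw
    refine ⟨?_, ?_, ?_⟩
    · rw [Function.iterate_succ_apply', h1, hw]
    · rw [Function.iterate_succ_apply', h2, map_mul, map_pow, hy, hw, pow_succ']
      simp only [mul_assoc]
    · rw [Function.iterate_succ_apply', h3, map_mul, map_mul, map_pow, map_pow, hz, hy, hw,
        hyw'.mul_pow, hyz, Nat.choose_succ_succ, Nat.choose_one_right, pow_succ', pow_add]
      simp only [mul_assoc]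

variable {p : ℕ} [Fact p.Prime] {G : Type u} [Group G] [Finite G]

/-- C1B1.  (pure normalization; no rank hypothesis.) -/
theorem c1_B1 (hp2 : p ≠ 2) {n : ℕ} (h4 : 4 ≤ n) {x y z : G} (hx : x ^ p = 1) (hy : y ^ p = 1)
    (hzo : orderOf z = p ^ (n - 2)) (hyz : y * z = z * y) (hzx : x⁻¹ * z * x = y * z) {k : ℕ}
    (hk : ¬ p ∣ k) (hyx : x⁻¹ * y * x = y * z ^ (k * p ^ (n - 3)))
    (hgen : Subgroup.closure ({x, y, z} : Set G) = ⊤) : T3 p n G := by
  have hp : p.Prime := Fact.out
  have hzp : z ^ p ^ (n - 2) = 1 := by rw [← hzo]; exact pow_orderOf_eq_one z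
  have hn2 : p ^ (n - 2) = p * p ^ (n - 3) := by
    rw [← pow_succ']; congr 1; omega
  have hn3 : p ^ (n - 3) = p * p ^ (n - 4) := by
    rw [← pow_succ']; congr 1; omega
  by_cases hsq : IsSquare (k : ZMod p)
  swap
  · exact ⟨h4, k, x, y, z, Or.inr hsq, hgen, hx, hy, hzp, hyz, hyx, hzx⟩
  -- `k` is a square
  obtain ⟨r, hr⟩ := hsq
  have hk0 : (k : ZMod p) ≠ 0 := by
    rw [Ne, ZMod.natCast_eq_zero_iff]; exact hk
  have hr0 : r ≠ 0 := by
    rintro rfl
    exact hk0 (by rw [hr, mul_zero])
  set i : ℕ := (r⁻¹).val with hi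
  set j : ℕ := r.val with hj
  have hicast : (i : ZMod p) = r⁻¹ := ZMod.natCast_zmod_val _
  have hjcast : (j : ZMod p) = r := ZMod.natCast_zmod_val _
  have hij : i * j ≡ 1 [MOD p] := by
    rw [← ZMod.natCast_eq_natCast_iff]
    push_cast
    rw [hicast, hjcast, inv_mul_cancel₀ hr0]
  have hkii : k * (i * i) ≡ 1 [MOD p] := by
    rw [← ZMod.natCast_eq_natCast_iff]
    push_cast
    rw [hicast, hr]
    field_simp
  -- the data
  set w : G := z ^ (k * p ^ (n - 3)) with hw
  have hyw : y * w = w * y := ((show Commute y z from hyz).pow_right _).eq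
  have hzw : z * w = w * z := ((Commute.refl z).pow_right _).eq
  have hwp : w ^ p = 1 := by
    rw [hw, ← pow_mul, mul_assoc, mul_comm (p ^ (n - 3)) p, ← hn2, mul_comm, pow_mul, hzp, one_pow]
  let α : G →* G := ((MulAut.conj x).symm : G ≃* G).toMonoidHom
  have hα : ∀ g, α g = x⁻¹ * g * x := fun g => by
    simp [α, MulAut.conj_symm_apply]
  have hαz : α z = y * z := by rw [hα, hzx]
  have hαy : α y = y * w := by rw [hα, hyx]
  have hαzp : α (z ^ p) = z ^ p := by
    rw [map_pow, hαz, (show Commute y z from hyz).mul_pow, hy, one_mul]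
  have hαw : α w = w := by
    have : w = (z ^ p) ^ (k * p ^ (n - 4)) := by
      rw [hw, ← pow_mul, hn3]; congr 1; ring
    rw [this, map_pow, hαzp]
  obtain ⟨h1, h2, h3⟩ := b1_iterate α hyz hyw hzw hαz hαy hαw i
  have hci := b1_conj_pow x α hα i
  -- new generators
  set x' : G := x ^ i with hx'
  set y' : G := y ^ i * w ^ (i.choose 2) with hy'
  have hy'z : y' * z = z * y' := by
    have h1 : Commute (y ^ i) z := (show Commute y z from hyz).pow_left i
    have h2 : Commute (w ^ (i.choose 2)) z := ((show Commute z w from hzw).symm).pow_left _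
    exact (h1.mul_left h2).eq
  have hwii : w ^ (i * i) = z ^ (1 * p ^ (n - 3)) := by
    rw [hw, ← pow_mul]
    apply b1_pow_eq_of_modEq hzp
    rw [hn2]
    have := Nat.ModEq.mul_right' (p ^ (n - 3)) hkii
    calc k * p ^ (n - 3) * (i * i) = k * (i * i) * p ^ (n - 3) := by ring
      _ ≡ 1 * p ^ (n - 3) [MOD p * p ^ (n - 3)] := this
  refine ⟨h4, 1, x', y', z, Or.inl rfl, ?_, ?_, ?_, hzp, hy'z, ?_, ?_⟩
  · -- generation
    rw [eq_top_iff, ← hgen, Subgroup.closure_le]
    have hzmem : z ∈ Subgroup.closure ({x', y', z} : Set G) :=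
      Subgroup.subset_closure (by simp)
    have hx'mem : x' ∈ Subgroup.closure ({x', y', z} : Set G) :=
      Subgroup.subset_closure (by simp)
    have hy'mem : y' ∈ Subgroup.closure ({x', y', z} : Set G) :=
      Subgroup.subset_closure (by simp)
    have hwmem : w ∈ Subgroup.closure ({x', y', z} : Set G) := Subgroup.pow_mem _ hzmem _
    have hxmem : x ∈ Subgroup.closure ({x', y', z} : Set G) := by
      have : x = x' ^ j := by
        rw [hx', ← pow_mul]
        conv_lhs => rw [← pow_one x]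
        exact (b1_pow_eq_of_modEq hx hij).symm
      rw [this]; exact Subgroup.pow_mem _ hx'mem _
    have hyimem : y ^ i ∈ Subgroup.closure ({x', y', z} : Set G) := by
      have : y ^ i = y' * (w ^ (i.choose 2))⁻¹ := by rw [hy', mul_inv_cancel_right]
      rw [this]
      exact Subgroup.mul_mem _ hy'mem (Subgroup.inv_mem _ (Subgroup.pow_mem _ hwmem _))
    have hymem : y ∈ Subgroup.closure ({x', y', z} : Set G) := by
      have : y = (y ^ i) ^ j := by
        rw [← pow_mul]
        conv_lhs => rw [← pow_one y]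
        exact (b1_pow_eq_of_modEq hy hij).symm
      rw [this]; exact Subgroup.pow_mem _ hyimem _
    intro g hg
    simp only [Set.mem_insert_iff, Set.mem_singleton_iff] at hg
    rcases hg with rfl | rfl | rfl
    · exact hxmem
    · exact hymem
    · exact hzmem
  · rw [hx', ← pow_mul, mul_comm, pow_mul, hx, one_pow]
  · have hc : Commute (y ^ i) (w ^ (i.choose 2)) := ((show Commute y w from hyw).pow_left i).pow_right _
    rw [hy', hc.mul_pow, ← pow_mul, ← pow_mul, mul_comm i p, mul_comm _ p, pow_mul, pow_mul, hy, hwp,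
      one_pow, one_pow, one_mul]
  · -- `x'⁻¹ y' x' = y' z ^ (p ^ (n - 3))`
    have hc1 : Commute y (w ^ i) := (show Commute y w from hyw).pow_right i
    have hc2 : Commute (z ^ (1 * p ^ (n - 3))) (w ^ (i.choose 2)) :=
      (((Commute.refl z).pow_right _).pow_left _).pow_right _
    rw [← hci y', hy', iterate_map_mul, iterate_map_pow,
      iterate_map_pow, h2, h1, hc1.mul_pow, ← pow_mul, hwii, mul_assoc, mul_assoc, hc2.eq]
  · rw [← hci z, h3, mul_assoc]
    exact hy'z.symm

end Cfsg.Agent.Lib.H5.R2
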