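import Mathlib
import Cfsg.Prelude.Def_GeometricClasses

/-!
# O2-F2: a field subalgebra of degree `r` of `M_ι(F)` forces `r ∣ |ι|` (helper5; general index type)
-/

set_option autoImplicit false

namespace Cfsg.Agent.Lib.H5.OP2

open Cfsg Cfsg.Geo
open scoped MatrixGroups Matrix

variable {F : Type*} [Field F]

theorem isField_of_isFieldSubalgebra {ι : Type} [Fintype ι] [DecidableEq ι] [Nonempty ι] (r : ℕ)
    (K : Subalgebra F (Matrix ι ι F)) (hK : IsFieldSubalgebra r K) : IsField ↥K where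
  exists_pair_ne := ⟨0, 1, fun h => by
    have h1 : (0 : Matrix ι ι F) = 1 := congrArg Subtype.val h
    obtain ⟨i⟩ := ‹Nonempty ι›
    have := congrFun (congrFun h1 i) i
    rw [Matrix.zero_apply, Matrix.one_apply_eq] at this
    exact zero_ne_one this⟩
  mul_comm := fun a b => Subtype.ext (hK.comm a a.2 b b.2)
  mul_inv_cancel := fun {a} ha => by
    obtain ⟨y, hy, h⟩ := hK.inv a a.2 (fun h0 => ha (Subtype.ext h0))
    exact ⟨⟨y, hy⟩, Subtype.ext h⟩

/-- **O2-F2**. -/
theorem dvd_card_of_isFieldSubalgebra {ι : Type} [Fintype ι] [DecidableEq ι] [Nonempty ι] (r : ℕ)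
    (K : Subalgebra F (Matrix ι ι F)) (hK : IsFieldSubalgebra r K) : r ∣ Fintype.card ι := by
  letI : Field ↥K := (isField_of_isFieldSubalgebra r K hK).toField
  let φ : ↥K →+* Module.End F (ι → F) :=
    ((Matrix.toLinAlgEquiv' (R := F) (n := ι)).toAlgHom.comp K.val).toRingHom
  letI : Module ↥K (ι → F) := Module.compHom (ι → F) φ
  have hsmul : ∀ (k : ↥K) (v : ι → F), k • v = (k : Matrix ι ι F) *ᵥ v := by
    intro k v
    rfl
  have hst : IsScalarTower F ↥K (ι → F) := ⟨fun c k v => by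
    rw [hsmul, hsmul, Subalgebra.coe_smul, Matrix.smul_mulVec]⟩
  have := @Module.finrank_mul_finrank F ↥K (ι → F) _ _ _ _ _ _ hst _ _ _ _
  rw [hK.finrank_eq, Module.finrank_fintype_fun_eq_card] at this
  exact ⟨_, this.symm⟩

end Cfsg.Agent.Lib.H5.OP2
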