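import Mathlib

/-!
# S2174 piece HCONJ (helper5): two involutions differing by an element of an odd order subgroup
-/

set_option autoImplicit false

namespace Cfsg.Agent.Lib.H5.IC

/-- **HCONJ** (pure group theory, Mathlib only): `m = h n` with `h` in a subgroup of odd order,
`m² = n² = 1`.  Then `m` and `n` are conjugate by a power of `h`. -/
theorem conj_of_mul_inv_mem {G : Type*} [Group G] (H : Subgroup G) [Finite H]
    (hodd : Odd (Nat.card H)) (m n : G)
    (hmn : m * n⁻¹ ∈ H) (hm : m * m = 1) (hn : n * n = 1) : ∃ k ∈ H, k * m * k⁻¹ = n := by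
  obtain ⟨h, hh⟩ : ∃ h : G, h = m * n⁻¹ := ⟨_, rfl⟩
  have hhH : h ∈ H := hh ▸ hmn
  have hninv : n⁻¹ = n := inv_eq_of_mul_eq_one_right hn
  have hmh : m = h * n := by rw [hh, hninv, mul_assoc, hn, mul_one]
  have hinv : n * h * n⁻¹ = h⁻¹ := by
    have h1 : h * n * (h * n) = 1 := by rw [← hmh]; exact hm
    have h2 : h * (n * h * n⁻¹) = 1 := by rw [hninv, ← h1]; group
    exact (inv_eq_of_mul_eq_one_right h2).symm
  have hdvd : orderOf h ∣ Nat.card H := by
    have := orderOf_dvd_natCard (⟨h, hhH⟩ : H)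
    rwa [Subgroup.orderOf_mk] at this
  obtain ⟨r, hr⟩ : Odd (orderOf h) := Odd.of_dvd_nat hodd hdvd
  have hk : (h ^ r)⁻¹ = n * h ^ r * n⁻¹ := by rw [← conj_pow, hinv, inv_pow]
  refine ⟨h ^ r, H.pow_mem hhH r, ?_⟩
  rw [hmh, hk]
  have h3 : h ^ r * (h * n) * (n * h ^ r * n⁻¹) = h ^ r * h * (n * n) * h ^ r * n⁻¹ := by group
  rw [h3, hn, mul_one, ← pow_succ, ← pow_add, show r + 1 + r = 2 * r + 1 by ring, ← hr,
    pow_orderOf_eq_one, one_mul, hninv]

end Cfsg.Agent.Lib.H5.IC
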