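import Mathlib
import Cfsg.Agent.Lib.H5.SylowIn

set_option autoImplicit false

/-! # Burnside's fusion lemma for normal subgroups of a Sylow subgroup -/

namespace Cfsg.Agent.Lib.H5

open Subgroup

variable {G : Type*} [Group G]

theorem map_conj_map_conj (K : Subgroup G) (a b : G) :
    (K.map (MulAut.conj a).toMonoidHom).map (MulAut.conj b).toMonoidHom =
      K.map (MulAut.conj (b * a)).toMonoidHom := by
  ext y
  rw [mem_map_conj_iff, mem_map_conj_iff, mem_map_conj_iff]
  have : a⁻¹ * (b⁻¹ * y * b) * a = (b * a)⁻¹ * y * (b * a) := by group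
  rw [this]

theorem map_conj_eq_of_mem_normalizer {K : Subgroup G} {n : G}
    (hn : n ∈ normalizer (K : Set G)) : K.map (MulAut.conj n).toMonoidHom = K := by
  have := mem_normalizer_iff_map_conj_eq.mp hn
  exact this

theorem mem_normalizer_of_map_conj_eq {K : Subgroup G} {n : G}
    (hn : K.map (MulAut.conj n).toMonoidHom = K) : n ∈ normalizer (K : Set G) :=
  mem_normalizer_iff_map_conj_eq.mpr hn

/-- Conjugation transports normalizers. -/
theorem map_conj_le_normalizer_map_conj {P U : Subgroup G} (hPU : P ≤ normalizer (U : Set G))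
    (g : G) : P.map (MulAut.conj g).toMonoidHom ≤
      normalizer ((U.map (MulAut.conj g).toMonoidHom : Subgroup G) : Set G) := by
  rintro _ ⟨t, ht, rfl⟩
  apply mem_normalizer_of_map_conj_eq
  simp only [MulEquiv.coe_toMonoidHom, MulAut.conj_apply]
  rw [map_conj_map_conj]
  have h1 : g * t * g⁻¹ * g = g * t := by group
  rw [h1, ← map_conj_map_conj, map_conj_eq_of_mem_normalizer (hPU ht)]

/-- **Burnside's fusion lemma**: two normal subgroups of a Sylow `p`-subgroup `P` that are
conjugate in `G` are conjugate under `N_G(P)`. -/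
theorem exists_mem_normalizer_map_conj_eq [Finite G] {p : ℕ} [Fact p.Prime] (P : Sylow p G)
    {U W : Subgroup G} (hU : (P : Subgroup G) ≤ normalizer (U : Set G))
    (hW : (P : Subgroup G) ≤ normalizer (W : Set G)) (g : G)
    (hg : U.map (MulAut.conj g).toMonoidHom = W) :
    ∃ n ∈ normalizer ((P : Subgroup G) : Set G), U.map (MulAut.conj n).toMonoidHom = W := by
  have h1 : IsSylowIn p (P : Subgroup G) (normalizer (W : Set G)) :=
    (isSylowIn_top_of_sylow P).mono hW le_top
  have hPg : (P : Subgroup G).map (MulAut.conj g).toMonoidHom ≤ normalizer (W : Set G) := by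
    have := map_conj_le_normalizer_map_conj hU g
    rwa [hg] at this
  have h2 : IsSylowIn p ((P : Subgroup G).map (MulAut.conj g).toMonoidHom)
      (normalizer (W : Set G)) := by
    have h3 := (isSylowIn_top_of_sylow P).conj g
    have htop : (⊤ : Subgroup G).map (MulAut.conj g).toMonoidHom = ⊤ := by
      rw [← MonoidHom.range_eq_map, MonoidHom.range_eq_top]
      exact (MulAut.conj g).surjective
    rw [htop] at h3
    exact h3.mono hPg le_top
  obtain ⟨n, hnN, hn⟩ := h2.exists_conj h1
  rw [map_conj_map_conj] at hn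
  refine ⟨n * g, mem_normalizer_of_map_conj_eq hn.symm, ?_⟩
  rw [← map_conj_map_conj, hg, map_conj_eq_of_mem_normalizer hnN]

end Cfsg.Agent.Lib.H5
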