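import Mathlib
import Cfsg.Agent.Lib.H5.SimpleTools
import Cfsg.Agent.Lib.H5.OrderCount

set_option autoImplicit false

namespace Cfsg.Agent.Lib.H5

open Subgroup

variable {G : Type*} [Group G]

/-- In a finite simple group (not a `p`-group), if a Sylow `p`-subgroup `Q` has order `p` and its
normalizer has order `p * r` with `r` prime, then `Q` is self-centralizing. -/
theorem centralizer_eq_of_card_normalizer [Finite G] [IsSimpleGroup G] {p : ℕ} [Fact p.Prime]
    (hp : p ∣ Nat.card G) (hnp : ¬ IsPGroup p G) (Q : Sylow p G)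
    (hQ : Nat.card (Q : Subgroup G) = p) {r : ℕ} (hr : r.Prime)
    (hN : Nat.card (normalizer ((Q : Subgroup G) : Set G)) = p * r) :
    centralizer ((Q : Subgroup G) : Set G) = (Q : Subgroup G) := by
  have hpp : p.Prime := Fact.out
  have hcyc : IsCyclic (Q : Subgroup G) := isCyclic_of_prime_card hQ
  have hcomm : IsMulCommutative (Q : Subgroup G) := hcyc.isMulCommutative
  have hQC : (Q : Subgroup G) ≤ centralizer ((Q : Subgroup G) : Set G) :=
    le_centralizer_iff_isMulCommutative.mpr hcomm
  have hCN : centralizer ((Q : Subgroup G) : Set G) ≤ normalizer ((Q : Subgroup G) : Set G) :=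
    centralizer_le_normalizer _
  have h1 : p ∣ Nat.card (centralizer ((Q : Subgroup G) : Set G)) := by
    have := Subgroup.card_dvd_of_le hQC
    rwa [hQ] at this
  have h2 : Nat.card (centralizer ((Q : Subgroup G) : Set G)) ∣ p * r := by
    have := Subgroup.card_dvd_of_le hCN
    rwa [hN] at this
  obtain ⟨d, hd⟩ := h1
  rw [hd] at h2
  have h3 : d ∣ r := Nat.dvd_of_mul_dvd_mul_left hpp.pos h2
  rcases (Nat.dvd_prime hr).mp h3 with h4 | h4
  · -- card C = p
    rw [h4, mul_one] at hd
    exact (Subgroup.eq_of_le_of_card_ge hQC (by rw [hd, hQ])).symm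
  · exfalso
    rw [h4] at hd
    have : centralizer ((Q : Subgroup G) : Set G) = normalizer ((Q : Subgroup G) : Set G) :=
      Subgroup.eq_of_le_of_card_ge hCN (by rw [hd, hN])
    exact not_normalizer_le_centralizer_of_simple hp hnp Q (le_of_eq this.symm)

/-- If every Sylow `p`-subgroup has order `p` and is self-centralizing, then the centralizer of an
element of order `p` is the cyclic group it generates. -/
theorem centralizer_eq_zpowers_of_orderOf [Finite G] {p : ℕ} [Fact p.Prime]
    (hS : ∀ Q : Sylow p G, Nat.card (Q : Subgroup G) = p)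
    (hC : ∀ Q : Sylow p G, centralizer ((Q : Subgroup G) : Set G) = (Q : Subgroup G))
    (x : G) (hx : orderOf x = p) : centralizer ({x} : Set G) = zpowers x := by
  obtain ⟨Q, hxQ⟩ := exists_sylow_mem_of_orderOf_eq x hx
  have h1 := zpowers_eq_sylow_of_mem Q (hS Q) x hx hxQ
  rw [h1, ← hC Q, ← h1, zpowers_eq_closure, centralizer_closure]

/-- If elements of order `p` are self-centralizing, any element of order divisible by `p` has order `p`. -/
theorem orderOf_eq_of_dvd_of_centralizer [Finite G] {p : ℕ} [Fact p.Prime]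
    (hC : ∀ x : G, orderOf x = p → centralizer ({x} : Set G) = zpowers x)
    (g : G) (hp : p ∣ orderOf g) : orderOf g = p := by
  have hpp : p.Prime := Fact.out
  obtain ⟨k, hk⟩ := hp
  have hk0 : k ≠ 0 := by
    intro h
    rw [h, mul_zero] at hk
    exact (orderOf_pos g).ne' hk
  have hx : orderOf (g ^ k) = p := by
    rw [orderOf_pow_of_dvd hk0 (Dvd.intro_left p hk.symm), hk]
    exact Nat.mul_div_cancel _ (Nat.pos_of_ne_zero hk0)
  have hmem : g ∈ centralizer ({g ^ k} : Set G) := by
    rw [mem_centralizer_singleton_iff]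
    exact (pow_mul_comm' g k).symm
  rw [hC _ hx] at hmem
  have h1 : orderOf g ∣ p := by
    have := orderOf_dvd_natCard (⟨g, hmem⟩ : zpowers (g ^ k))
    rwa [Nat.card_zpowers, hx, Subgroup.orderOf_mk] at this
  rcases (Nat.dvd_prime hpp).mp h1 with h | h
  · rw [h] at hk
    have : p * k = 1 := hk.symm
    have := Nat.eq_one_of_mul_eq_one_right this
    exact absurd this hpp.one_lt.ne'
  · exact h

/-- A set of elements each lying in some Sylow `p`-subgroup has at most `n_p * |P|` elements. -/
theorem ncard_le_of_forall_mem_sylow [Finite G] {p : ℕ} [Fact p.Prime] (S : Set G) (m : ℕ)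
    (hm : ∀ T : Sylow p G, Nat.card (T : Subgroup G) = m)
    (hS : ∀ g ∈ S, ∃ T : Sylow p G, g ∈ T) : S.ncard ≤ Nat.card (Sylow p G) * m := by
  classical
  have : Fintype (Sylow p G) := Fintype.ofFinite _
  have hsub : S ⊆ ⋃ T ∈ (Finset.univ : Finset (Sylow p G)), ((T : Subgroup G) : Set G) := by
    intro g hg
    obtain ⟨T, hT⟩ := hS g hg
    simp only [Set.mem_iUnion]
    exact ⟨T, Finset.mem_univ _, hT⟩
  calc S.ncard ≤ (⋃ T ∈ (Finset.univ : Finset (Sylow p G)), ((T : Subgroup G) : Set G)).ncard :=
        Set.ncard_le_ncard hsub (Set.toFinite _)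
    _ ≤ ∑ T ∈ (Finset.univ : Finset (Sylow p G)), (((T : Subgroup G) : Set G)).ncard :=
        Finset.set_ncard_biUnion_le _ _
    _ = ∑ _T ∈ (Finset.univ : Finset (Sylow p G)), m := by
        apply Finset.sum_congr rfl
        intro T _
        rw [← Nat.card_coe_set_eq]
        exact hm T
    _ = Nat.card (Sylow p G) * m := by
        rw [Finset.sum_const, Finset.card_univ, Nat.card_eq_fintype_card, smul_eq_mul]

/-- An element whose order divides `p ^ k` lies in some Sylow `p`-subgroup. -/
theorem exists_sylow_mem_of_orderOf_dvd [Finite G] {p : ℕ} [Fact p.Prime] (g : G) (k : ℕ)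
    (hg : orderOf g ∣ p ^ k) : ∃ Q : Sylow p G, g ∈ Q := by
  obtain ⟨j, -, hj⟩ := (Nat.dvd_prime_pow Fact.out).mp hg
  have h1 : IsPGroup p (zpowers g) := by
    apply IsPGroup.of_card (n := j)
    rw [Nat.card_zpowers, hj]
  obtain ⟨Q, hQ⟩ := h1.exists_le_sylow
  exact ⟨Q, hQ (mem_zpowers g)⟩

end Cfsg.Agent.Lib.H5
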