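import Mathlib

set_option autoImplicit false

/-! # Groups of order 8 -/

namespace Cfsg.Agent.Lib.H5.O8

open Subgroup

variable {H : Type*} [Group H]

/-- A group in which every element squares to one is commutative. -/
theorem isMulCommutative_of_sq_eq_one (hsq : ∀ g : H, g * g = 1) : IsMulCommutative H := by
  refine ⟨⟨fun a b => ?_⟩⟩
  have h1 : a * b * (a * b) = 1 := hsq (a * b)
  have ha : a⁻¹ = a := inv_eq_of_mul_eq_one_left (hsq a)
  have hb : b⁻¹ = b := inv_eq_of_mul_eq_one_left (hsq b)
  calc a * b = (a * b)⁻¹ := (inv_eq_of_mul_eq_one_left h1).symm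
    _ = b⁻¹ * a⁻¹ := mul_inv_rev a b
    _ = b * a := by rw [ha, hb]

/-- A group of order 8 with a central element of order 4 is commutative. -/
theorem isMulCommutative_of_central_orderOf_four [Finite H] (hH : Nat.card H = 8) (x : H)
    (hx : orderOf x = 4) (hc : ∀ t : H, t * x = x * t) : IsMulCommutative H := by
  have hxZ : x ∈ center H := by
    rw [mem_center_iff]
    exact hc
  have h4 : 4 ∣ Nat.card (center H) := by
    have := orderOf_dvd_natCard (⟨x, hxZ⟩ : center H)
    rwa [Subgroup.orderOf_mk, hx] at this
  have hmul := (center H).card_mul_index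
  rw [hH] at hmul
  have hidx : (center H).index = 1 ∨ (center H).index = 2 := by
    obtain ⟨k, hk⟩ := h4
    rw [hk] at hmul
    have hk0 : k ≠ 0 := by
      intro h0
      rw [h0] at hmul
      omega
    have : k * (center H).index = 2 := by nlinarith
    have hi0 : (center H).index ≠ 0 := by
      intro h0
      rw [h0] at this
      omega
    have hle : (center H).index ≤ 2 := by
      calc (center H).index ≤ k * (center H).index := Nat.le_mul_of_pos_left _ (Nat.pos_of_ne_zero hk0)
        _ = 2 := this
    omega
  have hcyc : IsCyclic (H ⧸ center H) := by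
    rcases hidx with h1 | h2
    · have : Subsingleton (H ⧸ center H) := by
        rw [← Finite.card_le_one_iff_subsingleton]
        rw [← Subgroup.index_eq_card, h1]
      exact isCyclic_of_subsingleton
    · have : Fact (Nat.Prime 2) := ⟨Nat.prime_two⟩
      exact isCyclic_of_prime_card (p := 2) (by rw [← Subgroup.index_eq_card, h2])
  exact isMulCommutative_of_isCyclic_quotient_center_self H

/-- A non-commutative group of order 8 has an element of order 4. -/
theorem exists_orderOf_eq_four [Finite H] (hH : Nat.card H = 8) (hnc : ¬ IsMulCommutative H) :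
    ∃ x : H, orderOf x = 4 := by
  by_contra hno
  push Not at hno
  apply hnc
  apply isMulCommutative_of_sq_eq_one
  intro g
  have hd : orderOf g ∣ 8 := hH ▸ orderOf_dvd_natCard g
  have hmem : orderOf g ∈ Nat.divisors 8 := Nat.mem_divisors.mpr ⟨hd, by norm_num⟩
  have hdiv : Nat.divisors 8 = {1, 2, 4, 8} := by decide
  rw [hdiv] at hmem
  simp only [Finset.mem_insert, Finset.mem_singleton] at hmem
  rcases hmem with h' | h' | h' | h'
  · rw [orderOf_eq_one_iff] at h'
    rw [h', mul_one]
  · rw [← pow_two, ← h']
    exact pow_orderOf_eq_one g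
  · exact absurd h' (hno g)
  · exfalso
    have hcyc : IsCyclic H := isCyclic_of_orderOf_eq_card g (by rw [h', hH])
    exact hnc hcyc.isMulCommutative

end Cfsg.Agent.Lib.H5.O8
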