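import Mathlib
import Cfsg.Agent.Lib.H5.SimpleTools
import Cfsg.Agent.Lib.H5.OrderCount
import Cfsg.Agent.Lib.H5.Centralizers
import Cfsg.Agent.Lib.H5.Order8
import Cfsg.Agent.Lib.H5.ConjCount

set_option autoImplicit false
set_option linter.unusedSectionVars false

/-! # Simple groups of order 168: local structure -/

namespace Cfsg.Agent.Lib.H5.O168

open Subgroup Cfsg.Agent.Lib.H5

instance fact_prime_seven : Fact (Nat.Prime 7) := ⟨by norm_num⟩

variable {G : Type*} [Group G] [Finite G] [IsSimpleGroup G]

theorem not_isPGroup (h : Nat.card G = 168) (p : ℕ) [Fact p.Prime] : ¬ IsPGroup p G := by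
  have hp : p.Prime := Fact.out
  by_cases h2 : p = 2
  · subst h2
    exact not_isPGroup_of_prime_dvd (q := 3) (by norm_num) (by norm_num) (by rw [h]; norm_num)
  · exact not_isPGroup_of_prime_dvd (q := 2) (by norm_num) (fun h' => h2 h'.symm) (by rw [h]; norm_num)

theorem card_sylow7 (h : Nat.card G = 168) : Nat.card (Sylow 7 G) = 8 := by
  have h7 : 7 ∣ Nat.card G := by rw [h]; norm_num
  let P : Sylow 7 G := default
  obtain ⟨hPc, hPi⟩ := sylow_card_and_index P (k := 1) (m := 24) (by rw [h]; norm_num) (by norm_num)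
  have hmem := card_sylow_mem_filter_divisors P (by norm_num) hPi
  have hfil : (Nat.divisors 24).filter (fun d => d % 7 = 1) = {1, 8} := by decide
  rw [hfil] at hmem
  simp only [Finset.mem_insert, Finset.mem_singleton] at hmem
  rcases hmem with h' | h'
  · exact absurd h' (card_sylow_ne_one_of_simple h7 (not_isPGroup h 7))
  · exact h'

theorem card_sylow7_subgroup (h : Nat.card G = 168) (P : Sylow 7 G) :
    Nat.card (P : Subgroup G) = 7 := by
  simpa using (sylow_card_and_index P (k := 1) (m := 24) (by rw [h]; norm_num) (by norm_num)).1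

theorem card_normalizer_sylow7 (h : Nat.card G = 168) (P : Sylow 7 G) :
    Nat.card (normalizer ((P : Subgroup G) : Set G)) = 21 := by
  have hN := card_normalizer_mul_card_sylow P
  rw [card_sylow7 h, h] at hN
  omega

theorem centralizer_sylow7 (h : Nat.card G = 168) (P : Sylow 7 G) :
    centralizer ((P : Subgroup G) : Set G) = (P : Subgroup G) :=
  centralizer_eq_of_card_normalizer (by rw [h]; norm_num) (not_isPGroup h 7) P
    (card_sylow7_subgroup h P) (r := 3) (by norm_num) (card_normalizer_sylow7 h P)

theorem card_sylow3_subgroup (h : Nat.card G = 168) (P : Sylow 3 G) :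
    Nat.card (P : Subgroup G) = 3 := by
  simpa using (sylow_card_and_index P (k := 1) (m := 56) (by rw [h]; norm_num) (by norm_num)).1

theorem card_sylow2_subgroup (h : Nat.card G = 168) (P : Sylow 2 G) :
    Nat.card (P : Subgroup G) = 8 := by
  simpa using (sylow_card_and_index P (k := 3) (m := 21) (by rw [h]; norm_num) (by norm_num)).1

theorem centralizer_orderOf7 (h : Nat.card G = 168) (x : G) (hx : orderOf x = 7) :
    centralizer ({x} : Set G) = zpowers x :=
  centralizer_eq_zpowers_of_orderOf (card_sylow7_subgroup h) (centralizer_sylow7 h) x hx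

theorem orderOf_eq7_of_dvd (h : Nat.card G = 168) (g : G) (hg : 7 ∣ orderOf g) : orderOf g = 7 :=
  orderOf_eq_of_dvd_of_centralizer (centralizer_orderOf7 h) g hg

/-- An element of the normalizer of a Sylow 7-subgroup that is outside it has order 3. -/
theorem orderOf_eq3_of_mem_normalizer7 (h : Nat.card G = 168) (P : Sylow 7 G) (g : G)
    (hgK : g ∈ normalizer ((P : Subgroup G) : Set G)) (hgP : g ∉ (P : Subgroup G)) :
    orderOf g = 3 := by
  have h1 : orderOf g ∣ 21 := by
    have := orderOf_dvd_natCard (⟨g, hgK⟩ : normalizer ((P : Subgroup G) : Set G))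
    rwa [card_normalizer_sylow7 h P, Subgroup.orderOf_mk] at this
  have h7 : ¬ 7 ∣ orderOf g := by
    intro h7
    have h7' := orderOf_eq7_of_dvd h g h7
    have hpg : IsPGroup 7 (zpowers g) := by
      apply IsPGroup.of_card (n := 1)
      rw [Nat.card_zpowers, h7', pow_one]
    have := hpg.inf_normalizer_sylow P
    have hmem : g ∈ zpowers g ⊓ normalizer (P : Set G) :=
      ⟨mem_zpowers g, hgK⟩
    rw [this] at hmem
    exact hgP hmem.2
  have h3 : orderOf g ∣ 3 := by
    have : (21 : ℕ) = 7 * 3 := by norm_num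
    rw [this] at h1
    exact (Nat.Coprime.dvd_mul_left (by
      rw [Nat.coprime_comm]
      exact (Nat.Prime.coprime_iff_not_dvd (by norm_num)).mpr h7)).mp h1
  rcases (Nat.dvd_prime (by norm_num : Nat.Prime 3)).mp h3 with h' | h'
  · exfalso
    rw [orderOf_eq_one_iff] at h'
    exact hgP (h' ▸ one_mem _)
  · exact h'

omit [Finite G] [IsSimpleGroup G] in
theorem orderOf_conj_eq (b x : G) : orderOf (b * x * b⁻¹) = orderOf x := by
  have := (MulAut.conj b).orderOf_eq x
  simpa [MulAut.conj_apply] using this

theorem card_sylow3 (h : Nat.card G = 168) : Nat.card (Sylow 3 G) = 28 := by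
  have h3 : 3 ∣ Nat.card G := by rw [h]; norm_num
  let Q : Sylow 3 G := default
  obtain ⟨hQc, hQi⟩ := sylow_card_and_index Q (k := 1) (m := 56) (by rw [h]; norm_num) (by norm_num)
  have hmem := card_sylow_mem_filter_divisors Q (by norm_num) hQi
  have hfil : (Nat.divisors 56).filter (fun d => d % 3 = 1) = {1, 4, 7, 28} := by decide
  rw [hfil] at hmem
  simp only [Finset.mem_insert, Finset.mem_singleton] at hmem
  rcases hmem with h' | h' | h' | h'
  · exact absurd h' (card_sylow_ne_one_of_simple h3 (not_isPGroup h 3))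
  · exfalso
    have hidx := index_normalizer_eq_card_sylow Q
    rw [h'] at hidx
    have hne : normalizer ((Q : Subgroup G) : Set G) ≠ ⊤ := by
      intro htop
      rw [htop, index_top] at hidx
      omega
    have := card_dvd_factorial_index _ hne
    rw [hidx, h] at this
    revert this
    decide
  · exfalso
    let P : Sylow 7 G := default
    have hcount : Nat.card {g : G // orderOf g = 3} = 14 := by
      rw [card_orderOf_eq_prime (card_sylow3_subgroup h), h']
    have hS : ({g : G | orderOf g = 3} : Set G).ncard = 14 := by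
      rw [← _root_.Nat.card_coe_set_eq]
      exact hcount
    have hPK : ((P : Subgroup G) : Set G) ⊆ (normalizer ((P : Subgroup G) : Set G) : Set G) :=
      le_normalizer
    have hA : ((normalizer ((P : Subgroup G) : Set G) : Set G) \ ((P : Subgroup G) : Set G)).ncard
        = 14 := by
      rw [Set.ncard_sdiff hPK, ← _root_.Nat.card_coe_set_eq, ← _root_.Nat.card_coe_set_eq]
      have h1 : Nat.card ((normalizer ((P : Subgroup G) : Set G) : Set G)) = 21 :=
        card_normalizer_sylow7 h P
      have h2 : Nat.card (((P : Subgroup G) : Set G)) = 7 := card_sylow7_subgroup h P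
      rw [h1, h2]
    have hsub : ((normalizer ((P : Subgroup G) : Set G) : Set G) \ ((P : Subgroup G) : Set G))
        ⊆ {g : G | orderOf g = 3} :=
      fun g hg => orderOf_eq3_of_mem_normalizer7 h P g hg.1 hg.2
    have heq := Set.eq_of_subset_of_ncard_le hsub (by rw [hA, hS]) (Set.toFinite _)
    obtain ⟨x, hx⟩ := exists_prime_orderOf_dvd_card' 3 h3
    have hxcore : x ∈ normalCore (normalizer ((P : Subgroup G) : Set G)) := by
      intro b
      have h1 : b * x * b⁻¹ ∈ {g : G | orderOf g = 3} := by
        show orderOf (b * x * b⁻¹) = 3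
        rw [orderOf_conj_eq, hx]
      rw [← heq] at h1
      exact h1.1
    have hcore : normalCore (normalizer ((P : Subgroup G) : Set G)) = ⊥ := by
      rcases (normalCore_normal (normalizer ((P : Subgroup G) : Set G))).eq_bot_or_eq_top
        with h0 | h0
      · exact h0
      · exfalso
        have h1 : normalizer ((P : Subgroup G) : Set G) = ⊤ :=
          top_le_iff.mp (h0 ▸ normalCore_le _)
        have h2 := card_normalizer_sylow7 h P
        rw [h1, card_top, h] at h2
        omega
    rw [hcore, mem_bot] at hxcore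
    rw [hxcore, orderOf_one] at hx
    omega
  · exact h'

theorem card_normalizer_sylow3 (h : Nat.card G = 168) (P : Sylow 3 G) :
    Nat.card (normalizer ((P : Subgroup G) : Set G)) = 6 := by
  have hN := card_normalizer_mul_card_sylow P
  rw [card_sylow3 h, h] at hN
  omega

theorem centralizer_sylow3 (h : Nat.card G = 168) (P : Sylow 3 G) :
    centralizer ((P : Subgroup G) : Set G) = (P : Subgroup G) :=
  centralizer_eq_of_card_normalizer (by rw [h]; norm_num) (not_isPGroup h 3) P
    (card_sylow3_subgroup h P) (r := 2) (by norm_num) (card_normalizer_sylow3 h P)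

theorem centralizer_orderOf3 (h : Nat.card G = 168) (x : G) (hx : orderOf x = 3) :
    centralizer ({x} : Set G) = zpowers x :=
  centralizer_eq_zpowers_of_orderOf (card_sylow3_subgroup h) (centralizer_sylow3 h) x hx

theorem orderOf_eq3_of_dvd (h : Nat.card G = 168) (g : G) (hg : 3 ∣ orderOf g) : orderOf g = 3 :=
  orderOf_eq_of_dvd_of_centralizer (centralizer_orderOf3 h) g hg

/-- Every element has order 3, 7, or a divisor of 8. -/
theorem orderOf_cases (h : Nat.card G = 168) (g : G) :
    orderOf g = 3 ∨ orderOf g = 7 ∨ orderOf g ∣ 8 := by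
  by_cases h3 : 3 ∣ orderOf g
  · exact Or.inl (orderOf_eq3_of_dvd h g h3)
  by_cases h7 : 7 ∣ orderOf g
  · exact Or.inr (Or.inl (orderOf_eq7_of_dvd h g h7))
  right; right
  have h1 : orderOf g ∣ 168 := h ▸ orderOf_dvd_natCard g
  have e : (168 : ℕ) = 3 * (7 * 8) := by norm_num
  rw [e] at h1
  have c3 : Nat.Coprime (orderOf g) 3 := by
    rw [Nat.coprime_comm]
    exact (Nat.Prime.coprime_iff_not_dvd (by norm_num)).mpr h3
  have c7 : Nat.Coprime (orderOf g) 7 := by
    rw [Nat.coprime_comm]
    exact (Nat.Prime.coprime_iff_not_dvd (by norm_num)).mpr h7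
  exact c7.dvd_of_dvd_mul_left (c3.dvd_of_dvd_mul_left h1)

theorem ncard_orderOf3 (h : Nat.card G = 168) : ({g : G | orderOf g = 3} : Set G).ncard = 56 := by
  rw [← _root_.Nat.card_coe_set_eq]
  have := card_orderOf_eq_prime (G := G) (p := 3) (card_sylow3_subgroup h)
  rw [card_sylow3 h] at this
  exact this

theorem ncard_orderOf7 (h : Nat.card G = 168) : ({g : G | orderOf g = 7} : Set G).ncard = 48 := by
  rw [← _root_.Nat.card_coe_set_eq]
  have := card_orderOf_eq_prime (G := G) (p := 7) (card_sylow7_subgroup h)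
  rw [card_sylow7 h] at this
  exact this

/-- There are at least 64 elements of order dividing 8. -/
theorem ncard_orderOf_dvd8_ge (h : Nat.card G = 168) :
    64 ≤ ({g : G | orderOf g ∣ 8} : Set G).ncard := by
  have hcov : (Set.univ : Set G) ⊆ ({g : G | orderOf g = 3} ∪ {g : G | orderOf g = 7}) ∪
      {g : G | orderOf g ∣ 8} := by
    intro g _
    rcases orderOf_cases h g with h' | h' | h'
    · exact Or.inl (Or.inl h')
    · exact Or.inl (Or.inr h')
    · exact Or.inr h'
  have h1 := Set.ncard_le_ncard hcov (Set.toFinite _)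
  have h2 := Set.ncard_union_le ({g : G | orderOf g = 3} ∪ {g : G | orderOf g = 7})
    {g : G | orderOf g ∣ 8}
  have h3 := Set.ncard_union_le {g : G | orderOf g = 3} {g : G | orderOf g = 7}
  rw [ncard_orderOf3 h, ncard_orderOf7 h] at h3
  rw [Set.ncard_univ, h] at h1
  omega

theorem card_sylow2 (h : Nat.card G = 168) : Nat.card (Sylow 2 G) = 21 := by
  have h2 : 2 ∣ Nat.card G := by rw [h]; norm_num
  let Q : Sylow 2 G := default
  obtain ⟨hQc, hQi⟩ := sylow_card_and_index Q (k := 3) (m := 21) (by rw [h]; norm_num) (by norm_num)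
  have hmem := card_sylow_mem_filter_divisors Q (by norm_num) hQi
  have hfil : (Nat.divisors 21).filter (fun d => d % 2 = 1) = {1, 3, 7, 21} := by decide
  rw [hfil] at hmem
  simp only [Finset.mem_insert, Finset.mem_singleton] at hmem
  have hle := ncard_le_of_forall_mem_sylow (p := 2) ({g : G | orderOf g ∣ 8} : Set G) 8
    (card_sylow2_subgroup h) (fun g hg => exists_sylow_mem_of_orderOf_dvd (p := 2) g 3 hg)
  have hge := ncard_orderOf_dvd8_ge h
  rcases hmem with h' | h' | h' | h'
  · exact absurd h' (card_sylow_ne_one_of_simple h2 (not_isPGroup h 2))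
  · rw [h'] at hle; omega
  · rw [h'] at hle; omega
  · exact h'

theorem card_normalizer_sylow2 (h : Nat.card G = 168) (T : Sylow 2 G) :
    Nat.card (normalizer ((T : Subgroup G) : Set G)) = 8 := by
  have hN := card_normalizer_mul_card_sylow T
  rw [card_sylow2 h, h] at hN
  omega

theorem normalizer_sylow2 (h : Nat.card G = 168) (T : Sylow 2 G) :
    normalizer ((T : Subgroup G) : Set G) = (T : Subgroup G) :=
  (Subgroup.eq_of_le_of_card_ge le_normalizer
    (by rw [card_normalizer_sylow2 h T, card_sylow2_subgroup h T])).symm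

theorem sylow2_not_comm (h : Nat.card G = 168) (T : Sylow 2 G) :
    ¬ IsMulCommutative (T : Subgroup G) := by
  intro hc
  have hTC : (T : Subgroup G) ≤ centralizer ((T : Subgroup G) : Set G) :=
    le_centralizer_iff_isMulCommutative.mpr hc
  apply not_normalizer_le_centralizer_of_simple (p := 2) (by rw [h]; norm_num) (not_isPGroup h 2) T
  have := normalizer_sylow2 h T
  show normalizer ((T : Subgroup G) : Set G) ≤ centralizer ((T : Subgroup G) : Set G)
  rw [this]
  exact hTC

theorem orderOf_ne8 (h : Nat.card G = 168) (g : G) : orderOf g ≠ 8 := by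
  intro hg
  obtain ⟨T, hT⟩ := exists_sylow_mem_of_orderOf_dvd (p := 2) g 3 (by rw [hg]; norm_num)
  have hle : zpowers g ≤ (T : Subgroup G) := by rw [zpowers_le]; exact hT
  have heq : zpowers g = (T : Subgroup G) :=
    Subgroup.eq_of_le_of_card_ge hle (by rw [card_sylow2_subgroup h T, Nat.card_zpowers, hg])
  apply sylow2_not_comm h T
  rw [← heq]
  infer_instance

/-- Element orders in a simple group of order 168. -/
theorem orderOf_mem (h : Nat.card G = 168) (g : G) :
    orderOf g = 1 ∨ orderOf g = 2 ∨ orderOf g = 3 ∨ orderOf g = 4 ∨ orderOf g = 7 := by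
  rcases orderOf_cases h g with h' | h' | h'
  · exact Or.inr (Or.inr (Or.inl h'))
  · exact Or.inr (Or.inr (Or.inr (Or.inr h')))
  · have h8 := orderOf_ne8 h g
    have hmem : orderOf g ∈ Nat.divisors 8 := Nat.mem_divisors.mpr ⟨h', by norm_num⟩
    have hd : Nat.divisors 8 = {1, 2, 4, 8} := by decide
    rw [hd] at hmem
    simp only [Finset.mem_insert, Finset.mem_singleton] at hmem
    rcases hmem with h'' | h'' | h'' | h''
    · exact Or.inl h''
    · exact Or.inr (Or.inl h'')
    · exact Or.inr (Or.inr (Or.inr (Or.inl h'')))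
    · exact absurd h'' h8

/-- The centralizer of an element of order 2 or 4 is a 2-group. -/
theorem card_centralizer_dvd8 (h : Nat.card G = 168) (x : G)
    (hx : orderOf x = 2 ∨ orderOf x = 4) : Nat.card (centralizer ({x} : Set G)) ∣ 8 := by
  have hC : Nat.card (centralizer ({x} : Set G)) ∣ 168 := h ▸ Subgroup.card_subgroup_dvd_card _
  have key : ∀ q : ℕ, q.Prime → (q = 3 ∨ q = 7) →
      ¬ q ∣ Nat.card (centralizer ({x} : Set G)) := by
    intro q hq hq37 hdvd
    have : Fact q.Prime := ⟨hq⟩
    obtain ⟨y, hy⟩ := exists_prime_orderOf_dvd_card' q hdvd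
    have hy' : orderOf (y : G) = q := by rw [Subgroup.orderOf_coe]; exact hy
    have hcomm : Commute x (y : G) := by
      have := y.2
      rw [mem_centralizer_singleton_iff] at this
      exact this.symm
    have hcop : Nat.Coprime (orderOf x) (orderOf (y : G)) := by
      rw [hy']
      rcases hx with hx | hx <;> rcases hq37 with rfl | rfl <;> rw [hx] <;> norm_num
    have h1 := hcomm.orderOf_mul_eq_mul_orderOf_of_coprime hcop
    rw [hy'] at h1
    have h2 := orderOf_mem h (x * y)
    rw [h1] at h2
    rcases hx with hx | hx <;> rcases hq37 with rfl | rfl <;> rw [hx] at h2 <;> omega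
  have e : (168 : ℕ) = 3 * (7 * 8) := by norm_num
  rw [e] at hC
  have c3 : Nat.Coprime (Nat.card (centralizer ({x} : Set G))) 3 := by
    rw [Nat.coprime_comm]
    exact (Nat.Prime.coprime_iff_not_dvd (by norm_num)).mpr (key 3 (by norm_num) (Or.inl rfl))
  have c7 : Nat.Coprime (Nat.card (centralizer ({x} : Set G))) 7 := by
    rw [Nat.coprime_comm]
    exact (Nat.Prime.coprime_iff_not_dvd (by norm_num)).mpr (key 7 (by norm_num) (Or.inr rfl))
  exact c7.dvd_of_dvd_mul_left (c3.dvd_of_dvd_mul_left hC)

theorem ncard_orderOf_dvd8 (h : Nat.card G = 168) :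
    ({g : G | orderOf g ∣ 8} : Set G).ncard = 64 := by
  have hcov : (Set.univ : Set G) = ({g : G | orderOf g = 3} ∪ {g : G | orderOf g = 7}) ∪
      {g : G | orderOf g ∣ 8} := by
    symm
    rw [Set.eq_univ_iff_forall]
    intro g
    rcases orderOf_cases h g with h' | h' | h'
    · exact Or.inl (Or.inl h')
    · exact Or.inl (Or.inr h')
    · exact Or.inr h'
  have hd1 : Disjoint ({g : G | orderOf g = 3} : Set G) {g : G | orderOf g = 7} := by
    rw [Set.disjoint_left]
    intro g hg hg'
    simp only [Set.mem_ofPred_eq] at hg hg'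
    omega
  have hd2 : Disjoint (({g : G | orderOf g = 3} : Set G) ∪ {g : G | orderOf g = 7})
      {g : G | orderOf g ∣ 8} := by
    rw [Set.disjoint_left]
    intro g hg hg'
    simp only [Set.mem_ofPred_eq, Set.mem_union] at hg hg'
    rcases hg with hg | hg <;> rw [hg] at hg' <;> revert hg' <;> decide
  have h1 := Set.ncard_union_eq hd2 (Set.toFinite _) (Set.toFinite _)
  have h2 := Set.ncard_union_eq hd1 (Set.toFinite _) (Set.toFinite _)
  rw [← hcov, Set.ncard_univ, h, h2, ncard_orderOf3 h, ncard_orderOf7 h] at h1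
  omega

/-- Elements of a Sylow 2-subgroup have order 1, 2 or 4. -/
theorem orderOf_of_mem_sylow2 (h : Nat.card G = 168) (T : Sylow 2 G) (g : G)
    (hg : g ∈ (T : Subgroup G)) : orderOf g = 1 ∨ orderOf g = 2 ∨ orderOf g = 4 := by
  have hd : orderOf g ∣ 8 := by
    have := orderOf_dvd_natCard (⟨g, hg⟩ : (T : Subgroup G))
    rwa [Subgroup.orderOf_mk, card_sylow2_subgroup h T] at this
  rcases orderOf_mem h g with h' | h' | h' | h' | h'
  · exact Or.inl h'
  · exact Or.inr (Or.inl h')
  · rw [h'] at hd; exact absurd hd (by decide)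
  · exact Or.inr (Or.inr h')
  · rw [h'] at hd; exact absurd hd (by decide)

/-- A Sylow 2-subgroup has a nontrivial central element. -/
theorem exists_central (h : Nat.card G = 168) (T : Sylow 2 G) :
    ∃ z ∈ (T : Subgroup G), z ≠ 1 ∧ ∀ t ∈ (T : Subgroup G), t * z = z * t := by
  have hnt : Nontrivial (T : Subgroup G) := by
    rw [← Finite.one_lt_card_iff_nontrivial, card_sylow2_subgroup h T]
    norm_num
  have := IsPGroup.center_nontrivial T.2
  obtain ⟨z, hz⟩ := exists_ne (1 : center (T : Subgroup G))
  refine ⟨z.1.1, z.1.2, ?_, ?_⟩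
  · intro h1
    apply hz
    ext
    exact h1
  · intro t ht
    have := mem_center_iff.mp z.2 ⟨t, ht⟩
    exact congrArg Subtype.val this

/-- A central element of a Sylow 2-subgroup does not have order 4. -/
theorem orderOf_central_ne4 (h : Nat.card G = 168) (T : Sylow 2 G) (z : G)
    (hzT : z ∈ (T : Subgroup G)) (hc : ∀ t ∈ (T : Subgroup G), t * z = z * t) :
    orderOf z ≠ 4 := by
  intro h4
  apply sylow2_not_comm h T
  apply O8.isMulCommutative_of_central_orderOf_four (card_sylow2_subgroup h T) ⟨z, hzT⟩
  · rw [Subgroup.orderOf_mk, h4]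
  · intro t
    ext
    exact hc t.1 t.2

theorem orderOf_central (h : Nat.card G = 168) (T : Sylow 2 G) (z : G)
    (hzT : z ∈ (T : Subgroup G)) (hz1 : z ≠ 1) (hc : ∀ t ∈ (T : Subgroup G), t * z = z * t) :
    orderOf z = 2 := by
  rcases orderOf_of_mem_sylow2 h T z hzT with h' | h' | h'
  · exact absurd (orderOf_eq_one_iff.mp h') hz1
  · exact h'
  · exact absurd h' (orderOf_central_ne4 h T z hzT hc)

/-- The centralizer of a nontrivial central element of a Sylow 2-subgroup `T` is `T`. -/
theorem centralizer_central (h : Nat.card G = 168) (T : Sylow 2 G) (z : G)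
    (hzT : z ∈ (T : Subgroup G)) (hz1 : z ≠ 1) (hc : ∀ t ∈ (T : Subgroup G), t * z = z * t) :
    centralizer ({z} : Set G) = (T : Subgroup G) := by
  have hz2 := orderOf_central h T z hzT hz1 hc
  have hd := card_centralizer_dvd8 h z (Or.inl hz2)
  have hle : (T : Subgroup G) ≤ centralizer ({z} : Set G) := by
    intro t ht
    rw [mem_centralizer_singleton_iff]
    exact hc t ht
  exact (Subgroup.eq_of_le_of_card_ge hle
    (by rw [card_sylow2_subgroup h T]; exact Nat.le_of_dvd (by norm_num) hd)).symm

theorem exists_orderOf4_mem (h : Nat.card G = 168) (T : Sylow 2 G) :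
    ∃ x ∈ (T : Subgroup G), orderOf x = 4 := by
  obtain ⟨x, hx⟩ := O8.exists_orderOf_eq_four (card_sylow2_subgroup h T) (sylow2_not_comm h T)
  exact ⟨x.1, x.2, by rw [← hx, Subgroup.orderOf_coe]⟩

/-- The centralizer of an element of order 4 has order 4. -/
theorem card_centralizer_orderOf4 (h : Nat.card G = 168) (x : G) (hx : orderOf x = 4) :
    Nat.card (centralizer ({x} : Set G)) = 4 := by
  have hd := card_centralizer_dvd8 h x (Or.inr hx)
  have hle : zpowers x ≤ centralizer ({x} : Set G) := by
    rw [zpowers_le, mem_centralizer_singleton_iff]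
  have h4 : 4 ∣ Nat.card (centralizer ({x} : Set G)) := by
    have := Subgroup.card_dvd_of_le hle
    rwa [Nat.card_zpowers, hx] at this
  have hmem : Nat.card (centralizer ({x} : Set G)) ∈ Nat.divisors 8 :=
    Nat.mem_divisors.mpr ⟨hd, by norm_num⟩
  have hdiv : Nat.divisors 8 = {1, 2, 4, 8} := by decide
  rw [hdiv] at hmem
  simp only [Finset.mem_insert, Finset.mem_singleton] at hmem
  rcases hmem with h' | h' | h' | h'
  · rw [h'] at h4; exact absurd h4 (by decide)
  · rw [h'] at h4; exact absurd h4 (by decide)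
  · exact h'
  · exfalso
    have hpg : IsPGroup 2 (centralizer ({x} : Set G)) := by
      apply IsPGroup.of_card (n := 3)
      rw [h']; norm_num
    obtain ⟨T, hT⟩ := hpg.exists_le_sylow
    have heq : centralizer ({x} : Set G) = (T : Subgroup G) :=
      Subgroup.eq_of_le_of_card_ge hT (by rw [h', card_sylow2_subgroup h T])
    have hxT : x ∈ (T : Subgroup G) := by
      rw [← heq, mem_centralizer_singleton_iff]
    apply orderOf_central_ne4 h T x hxT _ hx
    intro t ht
    rw [← heq, mem_centralizer_singleton_iff] at ht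
    exact ht

theorem centralizer_orderOf4 (h : Nat.card G = 168) (x : G) (hx : orderOf x = 4) :
    centralizer ({x} : Set G) = zpowers x := by
  have hle : zpowers x ≤ centralizer ({x} : Set G) := by
    rw [zpowers_le, mem_centralizer_singleton_iff]
  exact (Subgroup.eq_of_le_of_card_ge hle
    (by rw [card_centralizer_orderOf4 h x hx, Nat.card_zpowers, hx])).symm

/-- The 2-elements fall into three classes: the identity, 21 involutions, 42 elements of
order 4. -/
theorem two_elements_classes (h : Nat.card G = 168) :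
    ∃ z x : G, orderOf z = 2 ∧ orderOf x = 4 ∧
      ({g : G | IsConj z g} : Set G).ncard = 21 ∧ ({g : G | IsConj x g} : Set G).ncard = 42 ∧
      ∀ g : G, orderOf g ∣ 8 → g = 1 ∨ IsConj z g ∨ IsConj x g := by
  let T : Sylow 2 G := default
  obtain ⟨z, hzT, hz1, hzc⟩ := exists_central h T
  obtain ⟨x, hxT, hx4⟩ := exists_orderOf4_mem h T
  have hz2 := orderOf_central h T z hzT hz1 hzc
  have hCz : Nat.card (centralizer ({z} : Set G)) = 8 := by
    rw [centralizer_central h T z hzT hz1 hzc, card_sylow2_subgroup h T]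
  have hCx := card_centralizer_orderOf4 h x hx4
  have hnz : ({g : G | IsConj z g} : Set G).ncard = 21 := by
    have := ncard_conj_mul_card_centralizer z
    rw [hCz, h] at this
    omega
  have hnx : ({g : G | IsConj x g} : Set G).ncard = 42 := by
    have := ncard_conj_mul_card_centralizer x
    rw [hCx, h] at this
    omega
  refine ⟨z, x, hz2, hx4, hnz, hnx, ?_⟩
  have hsub : (({1} : Set G) ∪ {g : G | IsConj z g}) ∪ {g : G | IsConj x g} ⊆
      {g : G | orderOf g ∣ 8} := by
    rintro g ((hg | hg) | hg)
    · rw [Set.mem_singleton_iff] at hg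
      show orderOf g ∣ 8
      rw [hg, orderOf_one]
      norm_num
    · show orderOf g ∣ 8
      rw [← orderOf_eq_of_isConj hg, hz2]
      norm_num
    · show orderOf g ∣ 8
      rw [← orderOf_eq_of_isConj hg, hx4]
      norm_num
  have hd1 : Disjoint ({1} : Set G) {g : G | IsConj z g} := by
    rw [Set.disjoint_left]
    intro g hg hg'
    rw [Set.mem_singleton_iff] at hg
    have := orderOf_eq_of_isConj hg'
    rw [hg, orderOf_one, hz2] at this
    omega
  have hd2 : Disjoint (({1} : Set G) ∪ {g : G | IsConj z g}) {g : G | IsConj x g} := by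
    rw [Set.disjoint_left]
    rintro g (hg | hg) hg'
    · rw [Set.mem_singleton_iff] at hg
      have := orderOf_eq_of_isConj hg'
      rw [hg, orderOf_one, hx4] at this
      omega
    · have h1 := orderOf_eq_of_isConj hg'
      have h2 := orderOf_eq_of_isConj hg
      rw [hx4] at h1
      rw [hz2] at h2
      omega
  have hc1 := Set.ncard_union_eq hd2 (Set.toFinite _) (Set.toFinite _)
  have hc2 := Set.ncard_union_eq hd1 (Set.toFinite _) (Set.toFinite _)
  rw [hc2, Set.ncard_singleton, hnz, hnx] at hc1
  have heq := Set.eq_of_subset_of_ncard_le hsub (by rw [hc1, ncard_orderOf_dvd8 h])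
    (Set.toFinite _)
  intro g hg
  have : g ∈ ({g : G | orderOf g ∣ 8} : Set G) := hg
  rw [← heq] at this
  rcases this with (hg' | hg') | hg'
  · exact Or.inl hg'
  · exact Or.inr (Or.inl hg')
  · exact Or.inr (Or.inr hg')

/-- All involutions are conjugate. -/
theorem isConj_of_orderOf2 (h : Nat.card G = 168) (s t : G) (hs : orderOf s = 2)
    (ht : orderOf t = 2) : IsConj s t := by
  obtain ⟨z, x, hz2, hx4, -, -, hall⟩ := two_elements_classes h
  have key : ∀ g : G, orderOf g = 2 → IsConj z g := by
    intro g hg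
    rcases hall g (by rw [hg]; norm_num) with h' | h' | h'
    · rw [h', orderOf_one] at hg; omega
    · exact h'
    · have := orderOf_eq_of_isConj h'
      rw [hx4, hg] at this; omega
  exact (key s hs).symm.trans (key t ht)

theorem isConj_of_orderOf4 (h : Nat.card G = 168) (s t : G) (hs : orderOf s = 4)
    (ht : orderOf t = 4) : IsConj s t := by
  obtain ⟨z, x, hz2, hx4, -, -, hall⟩ := two_elements_classes h
  have key : ∀ g : G, orderOf g = 4 → IsConj x g := by
    intro g hg
    rcases hall g (by rw [hg]; norm_num) with h' | h' | h'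
    · rw [h', orderOf_one] at hg; omega
    · have := orderOf_eq_of_isConj h'
      rw [hz2, hg] at this; omega
    · exact h'
  exact (key s hs).symm.trans (key t ht)

theorem ncard_orderOf2 (h : Nat.card G = 168) : ({g : G | orderOf g = 2} : Set G).ncard = 21 := by
  obtain ⟨z, x, hz2, hx4, hnz, -, -⟩ := two_elements_classes h
  have : ({g : G | orderOf g = 2} : Set G) = {g : G | IsConj z g} := by
    ext g
    constructor
    · intro hg
      exact isConj_of_orderOf2 h z g hz2 hg
    · intro hg
      show orderOf g = 2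
      rw [← orderOf_eq_of_isConj hg, hz2]
  rw [this, hnz]

theorem ncard_orderOf4 (h : Nat.card G = 168) : ({g : G | orderOf g = 4} : Set G).ncard = 42 := by
  obtain ⟨z, x, hz2, hx4, -, hnx, -⟩ := two_elements_classes h
  have : ({g : G | orderOf g = 4} : Set G) = {g : G | IsConj x g} := by
    ext g
    constructor
    · intro hg
      exact isConj_of_orderOf4 h x g hx4 hg
    · intro hg
      show orderOf g = 4
      rw [← orderOf_eq_of_isConj hg, hx4]
  rw [this, hnx]

theorem ncard_conj_orderOf3 (h : Nat.card G = 168) (x : G) (hx : orderOf x = 3) :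
    ({g : G | IsConj x g} : Set G).ncard = 56 := by
  have := ncard_conj_mul_card_centralizer x
  rw [centralizer_orderOf3 h x hx, Nat.card_zpowers, hx, h] at this
  omega

theorem ncard_conj_orderOf7 (h : Nat.card G = 168) (x : G) (hx : orderOf x = 7) :
    ({g : G | IsConj x g} : Set G).ncard = 24 := by
  have := ncard_conj_mul_card_centralizer x
  rw [centralizer_orderOf7 h x hx, Nat.card_zpowers, hx, h] at this
  omega

theorem isConj_of_orderOf3 (h : Nat.card G = 168) (s t : G) (hs : orderOf s = 3)
    (ht : orderOf t = 3) : IsConj s t := by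
  have hsub : ({g : G | IsConj s g} : Set G) ⊆ {g : G | orderOf g = 3} := by
    intro g hg
    show orderOf g = 3
    rw [← orderOf_eq_of_isConj hg, hs]
  have heq := Set.eq_of_subset_of_ncard_le hsub
    (by rw [ncard_conj_orderOf3 h s hs, ncard_orderOf3 h]) (Set.toFinite _)
  have : t ∈ ({g : G | orderOf g = 3} : Set G) := ht
  rw [← heq] at this
  exact this

theorem not_isConj_inv_of_orderOf7 (h : Nat.card G = 168) (x : G) (hx : orderOf x = 7) :
    ¬ IsConj x x⁻¹ := by
  intro hconj
  obtain ⟨c, hc⟩ := isConj_iff.mp hconj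
  have hcN : c ∈ normalizer ((zpowers x : Subgroup G) : Set G) := by
    rw [mem_normalizer_iff_map_conj_eq]
    have : (zpowers x).map (MulAut.conj c : G ≃* G).toMonoidHom = zpowers x := by
      rw [MonoidHom.map_zpowers]
      simp only [MulEquiv.toMonoidHom_eq_coe, MonoidHom.coe_coe, MulAut.conj_apply, hc,
        zpowers_inv]
    exact this
  obtain ⟨P, hxP⟩ := exists_sylow_mem_of_orderOf_eq x hx
  have hP := zpowers_eq_sylow_of_mem P (card_sylow7_subgroup h P) x hx hxP
  rw [hP] at hcN
  have hc21 : c ^ 21 = 1 := by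
    have h1 : orderOf c ∣ 21 := by
      have := orderOf_dvd_natCard (⟨c, hcN⟩ : normalizer ((P : Subgroup G) : Set G))
      rwa [card_normalizer_sylow7 h P, Subgroup.orderOf_mk] at this
    exact orderOf_dvd_iff_pow_eq_one.mp h1
  have h1 : c * x = x⁻¹ * c := by rw [← hc]; group
  have h2 : c * x⁻¹ = x * c := by
    have : c * x⁻¹ * c⁻¹ = x := by
      rw [← conj_inv, hc, inv_inv]
    exact mul_inv_eq_iff_eq_mul.mp this
  have hc2 : c ^ 2 ∈ centralizer ({x} : Set G) := by
    rw [mem_centralizer_singleton_iff]
    calc c ^ 2 * x = c * (c * x) := by rw [pow_two, mul_assoc]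
      _ = c * (x⁻¹ * c) := by rw [h1]
      _ = (c * x⁻¹) * c := by rw [mul_assoc]
      _ = x * c * c := by rw [h2]
      _ = x * c ^ 2 := by rw [pow_two, mul_assoc]
  rw [centralizer_orderOf7 h x hx] at hc2
  have hcpow : c = (c ^ 2) ^ 11 := by
    rw [← pow_mul]
    calc c = c ^ 21 * c := by rw [hc21, one_mul]
      _ = c ^ (2 * 11) := by rw [← pow_succ]
  have hcx : c ∈ zpowers x := by
    rw [hcpow]
    exact pow_mem hc2 11
  obtain ⟨k, hk⟩ := mem_zpowers_iff.mp hcx
  have h3 : c * x * c⁻¹ = x := by rw [← hk]; group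
  rw [h3] at hc
  have h4 : x ^ 2 = 1 := by
    rw [pow_two]
    nth_rewrite 1 [hc]
    group
  have := orderOf_dvd_of_pow_eq_one h4
  rw [hx] at this
  exact absurd this (by decide)

end Cfsg.Agent.Lib.H5.O168
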