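import Mathlib
import Cfsg.Agent.Lib.H5.Order168
import Cfsg.Agent.Lib.H5.SubgroupCard
import Cfsg.Agent.Lib.H5.SylowIn
import Cfsg.Agent.Lib.H1.TwoInvolutions

set_option autoImplicit false
set_option linter.unusedSectionVars false

/-! # Simple groups of order 168: the Sylow 2-subgroups are dihedral -/

namespace Cfsg.Agent.Lib.H5.O168

open Subgroup Cfsg.Agent.Lib.H5

variable {G : Type*} [Group G] [Finite G] [IsSimpleGroup G]

/-- The normalizer of a cyclic subgroup of order 4 has order dividing 8. -/
theorem card_normalizer_zpowers4_dvd (h : Nat.card G = 168) (y : G) (hy : orderOf y = 4) :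
    Nat.card (normalizer ((zpowers y : Subgroup G) : Set G)) ∣ 8 := by
  have h1 := relIndex_centralizer_normalizer_dvd (zpowers y)
  rw [IsCyclic.card_mulAut, Nat.card_zpowers, hy] at h1
  have hphi : Nat.totient 4 = 2 := by decide
  rw [hphi] at h1
  have h2 := card_centralizer_mul_relIndex_normalizer (zpowers y)
  have hC : Nat.card (centralizer ((zpowers y : Subgroup G) : Set G)) = 4 := by
    rw [zpowers_eq_closure, centralizer_closure]
    exact card_centralizer_orderOf4 h y hy
  rw [hC] at h2
  rw [← h2]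
  exact Nat.mul_dvd_mul_left 4 h1

/-- A Sylow 2-subgroup containing an element `y` of order 4 is the normalizer of `⟨y⟩`. -/
theorem normalizer_zpowers4 (h : Nat.card G = 168) (T : Sylow 2 G) (y : G) (hy : orderOf y = 4)
    (hyT : y ∈ (T : Subgroup G)) :
    normalizer ((zpowers y : Subgroup G) : Set G) = (T : Subgroup G) := by
  have hle : zpowers y ≤ (T : Subgroup G) := by rw [zpowers_le]; exact hyT
  have hTN : (T : Subgroup G) ≤ normalizer ((zpowers y : Subgroup G) : Set G) :=
    le_normalizer_of_card_eq_two_mul hle (by rw [card_sylow2_subgroup h T, Nat.card_zpowers, hy])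
  exact (Subgroup.eq_of_le_of_card_ge hTN (by
    rw [card_sylow2_subgroup h T]
    exact Nat.le_of_dvd (by norm_num) (card_normalizer_zpowers4_dvd h y hy))).symm

theorem sylow2_unique_of_orderOf4 (h : Nat.card G = 168) (T T' : Sylow 2 G) (y : G)
    (hy : orderOf y = 4) (hyT : y ∈ (T : Subgroup G)) (hyT' : y ∈ (T' : Subgroup G)) : T = T' :=
  Sylow.ext ((normalizer_zpowers4 h T y hy hyT).symm.trans (normalizer_zpowers4 h T' y hy hyT'))

/-- Two elements of order 4 in the same Sylow 2-subgroup generate the same cyclic subgroup. -/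
theorem mem_zpowers_of_orderOf4 (h : Nat.card G = 168) (T : Sylow 2 G) (x y : G)
    (hx : orderOf x = 4) (hy : orderOf y = 4) (hxT : x ∈ (T : Subgroup G))
    (hyT : y ∈ (T : Subgroup G)) : y ∈ zpowers x := by
  obtain ⟨g, hg⟩ := isConj_iff.mp (isConj_of_orderOf4 h x y hx hy)
  have hy' : y ∈ ((g • T : Sylow 2 G) : Subgroup G) := by
    show y ∈ (g • T : Sylow 2 G)
    rw [sylow_mem_smul_iff, ← hg]
    have : g⁻¹ * (g * x * g⁻¹) * g = x := by group
    rw [this]
    exact hxT
  have heq := sylow2_unique_of_orderOf4 h T (g • T) y hy hyT hy'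
  have hgN : g ∈ normalizer ((T : Subgroup G) : Set G) :=
    Sylow.smul_eq_iff_mem_normalizer.mp heq.symm
  rw [normalizer_sylow2 h T] at hgN
  have hgNx : g ∈ normalizer ((zpowers x : Subgroup G) : Set G) := by
    rw [normalizer_zpowers4 h T x hx hxT]
    exact hgN
  rw [← hg]
  exact (mem_normalizer_iff.mp hgNx x).mp (mem_zpowers x)

/-- Generators of a Sylow 2-subgroup as a dihedral group. -/
theorem exists_dihedral_gens (h : Nat.card G = 168) (T : Sylow 2 G) :
    ∃ x s : G, x ∈ (T : Subgroup G) ∧ s ∈ (T : Subgroup G) ∧ orderOf x = 4 ∧ orderOf s = 2 ∧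
      s ∉ zpowers x ∧ s * x * s⁻¹ = x⁻¹ := by
  classical
  obtain ⟨x, hxT, hx4⟩ := exists_orderOf4_mem h T
  have hle : zpowers x ≤ (T : Subgroup G) := by rw [zpowers_le]; exact hxT
  have hex : ∃ s ∈ (T : Subgroup G), s ∉ zpowers x := by
    by_contra hcon
    push Not at hcon
    have : (T : Subgroup G) = zpowers x := le_antisymm hcon hle
    have hc := card_sylow2_subgroup h T
    rw [this, Nat.card_zpowers, hx4] at hc
    omega
  obtain ⟨s, hsT, hsx⟩ := hex
  have hs2 : orderOf s = 2 := by
    rcases orderOf_of_mem_sylow2 h T s hsT with h' | h' | h'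
    · exfalso
      rw [orderOf_eq_one_iff] at h'
      exact hsx (h' ▸ one_mem _)
    · exact h'
    · exact absurd (mem_zpowers_of_orderOf4 h T x s hx4 h' hxT hsT) hsx
  refine ⟨x, s, hxT, hsT, hx4, hs2, hsx, ?_⟩
  have hsN : s ∈ normalizer ((zpowers x : Subgroup G) : Set G) := by
    rw [normalizer_zpowers4 h T x hx4 hxT]
    exact hsT
  have hmem : s * x * s⁻¹ ∈ zpowers x := (mem_normalizer_iff.mp hsN x).mp (mem_zpowers x)
  have hord : orderOf (s * x * s⁻¹) = 4 := by rw [orderOf_conj_eq, hx4]
  have hfin : IsOfFinOrder x := isOfFinOrder_of_finite x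
  rw [hfin.mem_zpowers_iff_mem_range_orderOf, hx4] at hmem
  simp only [Finset.mem_image, Finset.mem_range] at hmem
  obtain ⟨k, hk, hkx⟩ := hmem
  interval_cases k
  · exfalso
    rw [pow_zero] at hkx
    rw [← hkx, orderOf_one] at hord
    omega
  · exfalso
    rw [pow_one] at hkx
    have hcomm : s * x = x * s := by
      calc s * x = s * x * s⁻¹ * s := by group
        _ = x * s := by rw [← hkx]
    have : s ∈ centralizer ({x} : Set G) := by
      rw [mem_centralizer_singleton_iff]
      exact hcomm
    rw [centralizer_orderOf4 h x hx4] at this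
    exact hsx this
  · exfalso
    rw [← hkx] at hord
    have h2 : (x ^ 2) ^ 2 = 1 := by
      rw [← pow_mul]
      have := pow_orderOf_eq_one x
      rwa [hx4] at this
    have := orderOf_dvd_of_pow_eq_one h2
    rw [hord] at this
    exact absurd this (by decide)
  · rw [← hkx]
    have h4 : x ^ 4 = 1 := by
      have := pow_orderOf_eq_one x
      rwa [hx4] at this
    exact eq_inv_of_mul_eq_one_left (by rw [← pow_succ, h4])

/-- A Sylow 2-subgroup of a simple group of order 168 is dihedral of order 8. -/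
theorem sylow2_dihedral (h : Nat.card G = 168) (T : Sylow 2 G) :
    Nonempty (↥(T : Subgroup G) ≃* DihedralGroup 4) := by
  obtain ⟨x, s, hxT, hsT, hx4, hs2, hsx, hconj⟩ := exists_dihedral_gens h T
  let x' : (T : Subgroup G) := ⟨x, hxT⟩
  let s' : (T : Subgroup G) := ⟨s, hsT⟩
  have hx'4 : x' ^ 4 = 1 := by
    apply Subtype.ext
    have := pow_orderOf_eq_one x
    rw [hx4] at this
    exact this
  have hs' : s' * s' = 1 := by
    apply Subtype.ext
    exact Cfsg.Agent.Lib.H1.mul_self_eq_one_of_orderOf_eq_two hs2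
  have hsr : s' * x' * s'⁻¹ = x'⁻¹ := by
    apply Subtype.ext
    exact hconj
  let f := Cfsg.Agent.Lib.H1.dihedralLift 4 x' s' hx'4 hs' hsr
  have hord' : orderOf x' = 4 := by
    rw [Subgroup.orderOf_mk, hx4]
  have hinj : Function.Injective f := by
    rw [injective_iff_map_eq_one]
    intro a ha
    cases a with
    | r i =>
      rw [Cfsg.Agent.Lib.H1.dihedralLift_r] at ha
      have hdvd := orderOf_dvd_of_pow_eq_one ha
      rw [hord'] at hdvd
      have hlt : i.val < 4 := ZMod.val_lt i
      have h0 : i.val = 0 := Nat.eq_zero_of_dvd_of_lt hdvd hlt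
      have : i = 0 := by
        rw [← ZMod.natCast_rightInverse i]
        simp [h0]
      rw [this]
      rfl
    | sr i =>
      exfalso
      rw [Cfsg.Agent.Lib.H1.dihedralLift_sr] at ha
      have h1 : s' = (x' ^ i.val)⁻¹ := eq_inv_of_mul_eq_one_left ha
      have h2 : s = (x ^ i.val)⁻¹ := by
        have := congrArg Subtype.val h1
        simpa using this
      apply hsx
      rw [h2]
      exact inv_mem (pow_mem (mem_zpowers x) _)
  have hbij : Function.Bijective f := by
    rw [Nat.bijective_iff_injective_and_card]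
    refine ⟨hinj, ?_⟩
    rw [card_sylow2_subgroup h T, DihedralGroup.nat_card]
  exact ⟨(MulEquiv.ofBijective f hbij).symm⟩

end Cfsg.Agent.Lib.H5.O168
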