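import Mathlib
import Cfsg.Agent.Lib.H5.Order168b
import Cfsg.Agent.Lib.H5.Fusion
import Cfsg.Agent.S1012

set_option autoImplicit false
set_option linter.unusedSectionVars false

/-! # Simple groups of order 168: Klein four subgroups -/

namespace Cfsg.Agent.Lib.H5.O168

open Subgroup Cfsg.Agent.Lib.H5

variable {G : Type*} [Group G] [Finite G] [IsSimpleGroup G]

/-- Dihedral generators of a Sylow 2-subgroup. -/
structure DGens (T : Sylow 2 G) (x s : G) : Prop where
  hxT : x ∈ (T : Subgroup G)
  hsT : s ∈ (T : Subgroup G)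
  hx4 : orderOf x = 4
  hs2 : orderOf s = 2
  hsx : s ∉ zpowers x
  hconj : s * x * s⁻¹ = x⁻¹

theorem exists_dGens (h : Nat.card G = 168) (T : Sylow 2 G) : ∃ x s : G, DGens T x s := by
  obtain ⟨x, s, h1, h2, h3, h4, h5, h6⟩ := exists_dihedral_gens h T
  exact ⟨x, s, ⟨h1, h2, h3, h4, h5, h6⟩⟩

omit [Finite G] [IsSimpleGroup G] in
theorem mul_self_of_orderOf_two {a : G} (ha : orderOf a = 2) : a * a = 1 := by
  have := pow_orderOf_eq_one a
  rwa [ha, pow_two] at this

omit [Finite G] [IsSimpleGroup G] in
theorem comm_of_involutions {a b : G} (ha : a * a = 1) (hb : b * b = 1)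
    (hab : (a * b) * (a * b) = 1) : a * b = b * a := by
  have ha' : a⁻¹ = a := inv_eq_of_mul_eq_one_left ha
  have hb' : b⁻¹ = b := inv_eq_of_mul_eq_one_left hb
  calc a * b = (a * b)⁻¹ := (inv_eq_of_mul_eq_one_left hab).symm
    _ = b⁻¹ * a⁻¹ := mul_inv_rev a b
    _ = b * a := by rw [ha', hb']

omit [IsSimpleGroup G] in
theorem zpowers4_cases {x w : G} (hx4 : orderOf x = 4) (hw : w ∈ zpowers x) :
    w = 1 ∨ w = x ∨ w = x ^ 2 ∨ w = x ^ 3 := by
  classical
  have hfin : IsOfFinOrder x := isOfFinOrder_of_finite x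
  rw [hfin.mem_zpowers_iff_mem_range_orderOf, hx4] at hw
  simp only [Finset.mem_image, Finset.mem_range] at hw
  obtain ⟨k, hk, hkx⟩ := hw
  interval_cases k
  · left; rw [← hkx, pow_zero]
  · right; left; rw [← hkx, pow_one]
  · right; right; left; exact hkx.symm
  · right; right; right; exact hkx.symm

section gens

variable {T : Sylow 2 G} {x s : G}

theorem DGens.x_pow_four (d : DGens T x s) : x ^ 4 = 1 := by
  have := pow_orderOf_eq_one x
  rwa [d.hx4] at this

theorem DGens.s_mul_self (d : DGens T x s) : s * s = 1 := mul_self_of_orderOf_two d.hs2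

theorem DGens.s_inv (d : DGens T x s) : s⁻¹ = s := inv_eq_of_mul_eq_one_left d.s_mul_self

theorem DGens.zpowers_le (d : DGens T x s) : zpowers x ≤ (T : Subgroup G) := by
  rw [Subgroup.zpowers_le]; exact d.hxT

/-- Every element of `T` is in `⟨x⟩` or in `s⟨x⟩`. -/
theorem DGens.mem_or_mul_mem (h : Nat.card G = 168) (d : DGens T x s) {t : G}
    (ht : t ∈ (T : Subgroup G)) : t ∈ zpowers x ∨ s * t ∈ zpowers x := by
  have hidx : ((zpowers x).subgroupOf (T : Subgroup G)).index = 2 := by
    have h1 := card_mul_relIndex_of_le d.zpowers_le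
    rw [card_sylow2_subgroup h T, Nat.card_zpowers, d.hx4] at h1
    show (zpowers x).relIndex (T : Subgroup G) = 2
    omega
  by_cases htx : t ∈ zpowers x
  · exact Or.inl htx
  · right
    have := mul_mem_iff_of_index_two hidx (a := (⟨s, d.hsT⟩ : (T : Subgroup G)))
      (b := (⟨t, ht⟩ : (T : Subgroup G)))
    simp only [mem_subgroupOf, MulMemClass.mk_mul_mk] at this
    rw [this]
    exact ⟨fun hs => absurd hs d.hsx, fun ht' => absurd ht' htx⟩

theorem DGens.orderOf_two_of_not_mem (h : Nat.card G = 168) (d : DGens T x s) {t : G}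
    (ht : t ∈ (T : Subgroup G)) (htx : t ∉ zpowers x) : orderOf t = 2 := by
  rcases orderOf_of_mem_sylow2 h T t ht with h' | h' | h'
  · exfalso
    rw [orderOf_eq_one_iff] at h'
    exact htx (h' ▸ one_mem _)
  · exact h'
  · exact absurd (mem_zpowers_of_orderOf4 h T x t d.hx4 h' d.hxT ht) htx

theorem DGens.not_comm (h : Nat.card G = 168) (d : DGens T x s) {a : G}
    (hax : a ∉ zpowers x) : a * x ≠ x * a := by
  intro hc
  apply hax
  rw [← centralizer_orderOf4 h x d.hx4, mem_centralizer_singleton_iff]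
  exact hc

/-- `x ^ 2` is central in `T`. -/
theorem DGens.sq_central (h : Nat.card G = 168) (d : DGens T x s) {t : G}
    (ht : t ∈ (T : Subgroup G)) : t * x ^ 2 = x ^ 2 * t := by
  obtain ⟨z, hzT, hz1, hzc⟩ := exists_central h T
  have hz2 := orderOf_central h T z hzT hz1 hzc
  have hzx : z ∈ zpowers x := by
    rw [← centralizer_orderOf4 h x d.hx4, mem_centralizer_singleton_iff]
    exact (hzc x d.hxT).symm
  have hz : z = x ^ 2 := by
    rcases zpowers4_cases d.hx4 hzx with h' | h' | h' | h'
    · exact absurd h' hz1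
    · rw [h', d.hx4] at hz2; omega
    · exact h'
    · exfalso
      have h3 : orderOf (x ^ 3) = 4 := by
        rw [Nat.Coprime.orderOf_pow (by rw [d.hx4]; norm_num), d.hx4]
      rw [h', h3] at hz2
      omega
  rw [← hz]
  exact hzc t ht

theorem DGens.sq_mem (d : DGens T x s) : x ^ 2 ∈ (T : Subgroup G) := pow_mem d.hxT 2

theorem DGens.sq_ne_one (d : DGens T x s) : x ^ 2 ≠ 1 := by
  intro h2
  have := orderOf_dvd_of_pow_eq_one h2
  rw [d.hx4] at this
  exact absurd this (by decide)

theorem DGens.orderOf_sq (d : DGens T x s) : orderOf (x ^ 2) = 2 := by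
  rw [orderOf_pow_of_dvd (by norm_num) (by rw [d.hx4]; norm_num), d.hx4]

/-- The centralizer in `T` of a non-central involution. -/
def KK (T : Sylow 2 G) (a : G) : Subgroup G := centralizer ({a} : Set G) ⊓ (T : Subgroup G)

omit [Finite G] [IsSimpleGroup G] in
theorem mem_KK_iff {T : Sylow 2 G} {a t : G} :
    t ∈ KK T a ↔ t * a = a * t ∧ t ∈ (T : Subgroup G) := by
  unfold KK
  rw [Subgroup.mem_inf, mem_centralizer_singleton_iff]

theorem DGens.sq_mem_KK (h : Nat.card G = 168) (d : DGens T x s) {a : G}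
    (haT : a ∈ (T : Subgroup G)) : x ^ 2 ∈ KK T a := by
  rw [mem_KK_iff]
  exact ⟨(d.sq_central h haT).symm, d.sq_mem⟩

omit [Finite G] [IsSimpleGroup G] in
theorem mem_KK_self {T : Sylow 2 G} {a : G} (haT : a ∈ (T : Subgroup G)) : a ∈ KK T a := by
  rw [mem_KK_iff]
  exact ⟨rfl, haT⟩

theorem DGens.card_KK (h : Nat.card G = 168) (d : DGens T x s) {a : G}
    (haT : a ∈ (T : Subgroup G)) (hax : a ∉ zpowers x) : Nat.card (KK T a) = 4 := by
  have hle : KK T a ≤ (T : Subgroup G) := inf_le_right
  have hdvd : Nat.card (KK T a) ∣ 8 := by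
    have := Subgroup.card_dvd_of_le hle
    rwa [card_sylow2_subgroup h T] at this
  have hzle : zpowers (x ^ 2) ≤ KK T a := by
    rw [Subgroup.zpowers_le]
    exact d.sq_mem_KK h haT
  have h2 : 2 ∣ Nat.card (KK T a) := by
    have := Subgroup.card_dvd_of_le hzle
    rwa [Nat.card_zpowers, d.orderOf_sq] at this
  have hne8 : Nat.card (KK T a) ≠ 8 := by
    intro h8
    have : KK T a = (T : Subgroup G) :=
      Subgroup.eq_of_le_of_card_ge hle (by rw [h8, card_sylow2_subgroup h T])
    have hx : x ∈ KK T a := this ▸ d.hxT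
    rw [mem_KK_iff] at hx
    exact d.not_comm h hax hx.1.symm
  have hne2 : Nat.card (KK T a) ≠ 2 := by
    intro h2'
    have : zpowers (x ^ 2) = KK T a :=
      Subgroup.eq_of_le_of_card_ge hzle (by rw [h2', Nat.card_zpowers, d.orderOf_sq])
    have ha : a ∈ zpowers (x ^ 2) := this ▸ mem_KK_self haT
    apply hax
    have hle2 : zpowers (x ^ 2) ≤ zpowers x := by
      rw [Subgroup.zpowers_le]
      exact pow_mem (mem_zpowers x) 2
    exact hle2 ha
  have hmem : Nat.card (KK T a) ∈ Nat.divisors 8 := Nat.mem_divisors.mpr ⟨hdvd, by norm_num⟩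
  have hdiv : Nat.divisors 8 = {1, 2, 4, 8} := by decide
  rw [hdiv] at hmem
  simp only [Finset.mem_insert, Finset.mem_singleton] at hmem
  rcases hmem with h' | h' | h' | h'
  · rw [h'] at h2; exact absurd h2 (by decide)
  · exact absurd h' hne2
  · exact h'
  · exact absurd h' hne8

omit [Finite G] [IsSimpleGroup G] in
theorem isKleinFour_of_card_of_sq {H : Type*} [Group H] (hc : Nat.card H = 4)
    (hsq : ∀ g : H, g * g = 1) : IsKleinFour H := by
  refine ⟨hc, ?_⟩
  have h1 : Monoid.exponent H ∣ 2 := by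
    apply Monoid.exponent_dvd_of_forall_pow_eq_one
    intro g
    rw [pow_two]
    exact hsq g
  rcases (Nat.dvd_prime Nat.prime_two).mp h1 with h' | h'
  · exfalso
    rw [Monoid.exp_eq_one_iff] at h'
    have : Nat.card H ≤ 1 := by
      have := Nat.finite_of_card_ne_zero (α := H) (by rw [hc]; norm_num)
      exact Finite.card_le_one_iff_subsingleton.mpr h'
    omega
  · exact h'

theorem DGens.sq_of_mem_KK (h : Nat.card G = 168) (d : DGens T x s) {a : G}
    (hax : a ∉ zpowers x) {t : G} (ht : t ∈ KK T a) : t * t = 1 := by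
  rw [mem_KK_iff] at ht
  by_cases htx : t ∈ zpowers x
  · have hcomm : t * a = a * t := ht.1
    rcases zpowers4_cases d.hx4 htx with h' | h' | h' | h'
    · rw [h', mul_one]
    · exfalso
      rw [h'] at hcomm
      exact d.not_comm h hax hcomm.symm
    · rw [h', ← pow_add]
      exact d.x_pow_four
    · exfalso
      rw [h'] at hcomm
      -- x^3 commutes with a, hence x = (x^3)^3 does
      have h9 : x = (x ^ 3) ^ 3 := by
        rw [← pow_mul]
        calc x = x ^ 4 * x ^ 4 * x := by rw [d.x_pow_four, one_mul, one_mul]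
          _ = x ^ (3 * 3) := by rw [← pow_add, ← pow_succ]
      have hc3 : (x ^ 3) ^ 3 * a = a * (x ^ 3) ^ 3 := by
        have hc' : Commute (x ^ 3) a := hcomm
        exact (hc'.pow_left 3)
      rw [← h9] at hc3
      exact d.not_comm h hax hc3.symm
  · exact mul_self_of_orderOf_two (d.orderOf_two_of_not_mem h ht.2 htx)

theorem DGens.isKleinFour_KK (h : Nat.card G = 168) (d : DGens T x s) {a : G}
    (haT : a ∈ (T : Subgroup G)) (hax : a ∉ zpowers x) : IsKleinFour (KK T a) := by
  apply isKleinFour_of_card_of_sq (d.card_KK h haT hax)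
  intro g
  apply Subtype.ext
  exact d.sq_of_mem_KK h hax g.2

omit [Finite G] [IsSimpleGroup G] in
/-- Elements of a Klein four subgroup commute and square to one. -/
theorem kleinFour_comm {U : Subgroup G} (hU : IsKleinFour U) {a b : G} (ha : a ∈ U)
    (hb : b ∈ U) : a * b = b * a := by
  have := (IsKleinFour.isMulCommutative (G := U)).is_comm.comm ⟨a, ha⟩ ⟨b, hb⟩
  exact congrArg Subtype.val this

omit [Finite G] [IsSimpleGroup G] in
theorem kleinFour_sq {U : Subgroup G} (hU : IsKleinFour U) {a : G} (ha : a ∈ U) :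
    a * a = 1 := by
  have := IsKleinFour.mul_self (⟨a, ha⟩ : U)
  exact congrArg Subtype.val this

/-- A Klein four subgroup of `T` is the `T`-centralizer of any of its elements outside `⟨x⟩`. -/
theorem DGens.eq_KK (h : Nat.card G = 168) (d : DGens T x s) {U : Subgroup G}
    (hUT : U ≤ (T : Subgroup G)) (hU : IsKleinFour U) {a : G} (haU : a ∈ U)
    (hax : a ∉ zpowers x) : U = KK T a := by
  have hle : U ≤ KK T a := by
    intro u hu
    rw [mem_KK_iff]
    exact ⟨kleinFour_comm hU hu haU, hUT hu⟩
  exact Subgroup.eq_of_le_of_card_ge hle (by rw [d.card_KK h (hUT haU) hax, hU.card_four])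

theorem DGens.exists_not_mem (d : DGens T x s) {U : Subgroup G} (hU : IsKleinFour U) :
    ∃ a ∈ U, a ∉ zpowers x := by
  by_contra hcon
  push Not at hcon
  have hle : U ≤ zpowers x := hcon
  have : U = zpowers x :=
    Subgroup.eq_of_le_of_card_ge hle (by rw [hU.card_four, Nat.card_zpowers, d.hx4])
  have hx : x ∈ U := this ▸ mem_zpowers x
  have h2 := kleinFour_sq hU hx
  rw [← pow_two] at h2
  exact d.sq_ne_one h2

theorem DGens.sx_mem (d : DGens T x s) : s * x ∈ (T : Subgroup G) := mul_mem d.hsT d.hxT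

theorem DGens.sx_not_mem (d : DGens T x s) : s * x ∉ zpowers x := by
  intro hmem
  apply d.hsx
  have := mul_mem hmem (inv_mem (mem_zpowers x))
  rwa [mul_inv_cancel_right] at this

theorem DGens.sxs (d : DGens T x s) : s * x * s = x⁻¹ := by
  have := d.hconj
  rwa [d.s_inv] at this

/-- Every element of `T` outside `⟨x⟩` commutes with `s` or with `s * x`. -/
theorem DGens.comm_cases (h : Nat.card G = 168) (d : DGens T x s) {c : G}
    (hcT : c ∈ (T : Subgroup G)) (hcx : c ∉ zpowers x) :
    c * s = s * c ∨ c * (s * x) = (s * x) * c := by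
  have hc2 := mul_self_of_orderOf_two (d.orderOf_two_of_not_mem h hcT hcx)
  have hw : s * c ∈ zpowers x := by
    rcases d.mem_or_mul_mem h hcT with h' | h'
    · exact absurd h' hcx
    · exact h'
  have hss := d.s_mul_self
  rcases zpowers4_cases d.hx4 hw with h' | h' | h' | h'
  · left
    exact (comm_of_involutions hss hc2 (by rw [h', mul_one])).symm
  · right
    have hsx2 := mul_self_of_orderOf_two (d.orderOf_two_of_not_mem h d.sx_mem d.sx_not_mem)
    refine (comm_of_involutions hsx2 hc2 ?_).symm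
    have : s * x * c = 1 := by
      calc s * x * c = s * x * (s * s) * c := by rw [hss, mul_one]
        _ = s * x * s * (s * c) := by simp only [mul_assoc]
        _ = 1 := by rw [d.sxs, h', inv_mul_cancel]
    rw [this, mul_one]
  · left
    refine (comm_of_involutions hss hc2 ?_).symm
    rw [h', ← pow_add]
    exact d.x_pow_four
  · right
    have hsx2 := mul_self_of_orderOf_two (d.orderOf_two_of_not_mem h d.sx_mem d.sx_not_mem)
    refine (comm_of_involutions hsx2 hc2 ?_).symm
    have : s * x * c = x ^ 2 := by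
      calc s * x * c = s * x * (s * s) * c := by rw [hss, mul_one]
        _ = s * x * s * (s * c) := by simp only [mul_assoc]
        _ = x ^ 2 := by
            rw [d.sxs, h']
            have : x ^ 3 = x * x ^ 2 := by rw [← pow_succ']
            rw [this, inv_mul_cancel_left]
    rw [this, ← pow_add]
    exact d.x_pow_four

theorem DGens.s_sx_not_comm (d : DGens T x s) : (s * x) * s ≠ s * (s * x) := by
  intro hc
  rw [d.sxs, ← mul_assoc, d.s_mul_self, one_mul] at hc
  -- x⁻¹ = x
  have : x ^ 2 = 1 := by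
    rw [pow_two]
    nth_rewrite 1 [← hc]
    exact inv_mul_cancel x
  exact d.sq_ne_one this

/-- The Klein four subgroups of `T` are exactly `C_T(s)` and `C_T(sx)`. -/
theorem DGens.klein_cases (h : Nat.card G = 168) (d : DGens T x s) {U : Subgroup G}
    (hUT : U ≤ (T : Subgroup G)) (hU : IsKleinFour U) : U = KK T s ∨ U = KK T (s * x) := by
  obtain ⟨c, hcU, hcx⟩ := d.exists_not_mem hU
  have hUc := d.eq_KK h hUT hU hcU hcx
  rcases d.comm_cases h (hUT hcU) hcx with hc | hc
  · left
    have hsU : s ∈ U := by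
      rw [hUc, mem_KK_iff]
      exact ⟨hc.symm, d.hsT⟩
    exact d.eq_KK h hUT hU hsU d.hsx
  · right
    have hsU : s * x ∈ U := by
      rw [hUc, mem_KK_iff]
      exact ⟨hc.symm, d.sx_mem⟩
    exact d.eq_KK h hUT hU hsU d.sx_not_mem

theorem DGens.KK_ne (d : DGens T x s) : KK T s ≠ KK T (s * x) := by
  intro heq
  have h1 : s * x ∈ KK T (s * x) := mem_KK_self d.sx_mem
  rw [← heq, mem_KK_iff] at h1
  exact d.s_sx_not_comm h1.1

end gens

/-- A Sylow 2-subgroup contains exactly two Klein four subgroups. -/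
theorem card_kleinFour_le (h : Nat.card G = 168) (T : Sylow 2 G) :
    Nat.card {U : Subgroup G // U ≤ (T : Subgroup G) ∧ IsKleinFour ↥U} = 2 := by
  obtain ⟨x, s, d⟩ := exists_dGens h T
  rw [Nat.card_eq_two_iff]
  refine ⟨⟨KK T s, inf_le_right, d.isKleinFour_KK h d.hsT d.hsx⟩,
    ⟨KK T (s * x), inf_le_right, d.isKleinFour_KK h d.sx_mem d.sx_not_mem⟩, ?_, ?_⟩
  · intro heq
    exact d.KK_ne (congrArg Subtype.val heq)
  · rw [Set.eq_univ_iff_forall]
    rintro ⟨U, hUT, hU⟩
    rcases d.klein_cases h hUT hU with h' | h'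
    · left
      exact Subtype.ext h'
    · right
      exact Subtype.ext h'

theorem le_normalizer_kleinFour (h : Nat.card G = 168) (T : Sylow 2 G) {U : Subgroup G}
    (hUT : U ≤ (T : Subgroup G)) (hU : IsKleinFour U) :
    (T : Subgroup G) ≤ normalizer (U : Set G) :=
  le_normalizer_of_card_eq_two_mul hUT (by rw [card_sylow2_subgroup h T, hU.card_four])

/-- Distinct Klein four subgroups of a Sylow 2-subgroup are not conjugate in `G`. -/
theorem kleinFour_not_conj (h : Nat.card G = 168) (T : Sylow 2 G) {U W : Subgroup G}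
    (hUT : U ≤ (T : Subgroup G)) (hWT : W ≤ (T : Subgroup G)) (hU : IsKleinFour U)
    (hW : IsKleinFour W) (hne : U ≠ W) (g : G) : U.map (MulAut.conj g).toMonoidHom ≠ W := by
  intro hg
  have hNU := le_normalizer_kleinFour h T hUT hU
  have hNW := le_normalizer_kleinFour h T hWT hW
  obtain ⟨n, hn, hnW⟩ := exists_mem_normalizer_map_conj_eq T hNU hNW g hg
  rw [normalizer_sylow2 h T] at hn
  rw [map_conj_eq_of_mem_normalizer (hNU hn)] at hnW
  exact hne hnW

theorem card_centralizer_orderOf2 (h : Nat.card G = 168) (t : G) (ht : orderOf t = 2) :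
    Nat.card (centralizer ({t} : Set G)) = 8 := by
  let T : Sylow 2 G := default
  obtain ⟨z, hzT, hz1, hzc⟩ := exists_central h T
  have hz2 := orderOf_central h T z hzT hz1 hzc
  have hconj := isConj_of_orderOf2 h z t hz2 ht
  rw [card_centralizer_of_isConj hconj, centralizer_central h T z hzT hz1 hzc,
    card_sylow2_subgroup h T]

/-- The centralizer of an involution is a Sylow 2-subgroup. -/
theorem exists_sylow_eq_centralizer (h : Nat.card G = 168) (t : G) (ht : orderOf t = 2) :
    ∃ T : Sylow 2 G, (T : Subgroup G) = centralizer ({t} : Set G) := by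
  have hc := card_centralizer_orderOf2 h t ht
  have hpg : IsPGroup 2 (centralizer ({t} : Set G)) := by
    apply IsPGroup.of_card (n := 3)
    rw [hc]; norm_num
  obtain ⟨T, hT⟩ := hpg.exists_le_sylow
  exact ⟨T, (Subgroup.eq_of_le_of_card_ge hT (by rw [hc, card_sylow2_subgroup h T])).symm⟩

/-- The normalizer of a Klein four subgroup has order 24. -/
theorem card_normalizer_kleinFour (h : Nat.card G = 168) {U : Subgroup G} (hU : IsKleinFour U) :
    Nat.card (normalizer (U : Set G)) = 24 := by
  have hpg : IsPGroup 2 U := by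
    apply IsPGroup.of_card (n := 2)
    rw [hU.card_four]; norm_num
  obtain ⟨T, hUT⟩ := hpg.exists_le_sylow
  obtain ⟨x, s, d⟩ := exists_dGens h T
  obtain ⟨a, haU, hax⟩ := d.exists_not_mem hU
  have ha2 : orderOf a = 2 := d.orderOf_two_of_not_mem h (hUT haU) hax
  obtain ⟨T', hT'⟩ := exists_sylow_eq_centralizer h a ha2
  have hUT' : U ≤ (T' : Subgroup G) := by
    intro u hu
    rw [hT', mem_centralizer_singleton_iff]
    exact kleinFour_comm hU hu haU
  have hTT' : T ≠ T' := by
    intro heq
    have hx : x ∈ (T' : Subgroup G) := heq ▸ d.hxT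
    rw [hT', mem_centralizer_singleton_iff] at hx
    exact d.not_comm h hax hx.symm
  have hN1 := le_normalizer_kleinFour h T hUT hU
  have hN2 := le_normalizer_kleinFour h T' hUT' hU
  have h8 : 8 ∣ Nat.card (normalizer (U : Set G)) := by
    have := Subgroup.card_dvd_of_le hN1
    rwa [card_sylow2_subgroup h T] at this
  have h168 : Nat.card (normalizer (U : Set G)) ∣ 168 := h ▸ Subgroup.card_subgroup_dvd_card _
  have hne8 : Nat.card (normalizer (U : Set G)) ≠ 8 := by
    intro hc
    have e1 : (T : Subgroup G) = normalizer (U : Set G) :=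
      Subgroup.eq_of_le_of_card_ge hN1 (by rw [hc, card_sylow2_subgroup h T])
    have e2 : (T' : Subgroup G) = normalizer (U : Set G) :=
      Subgroup.eq_of_le_of_card_ge hN2 (by rw [hc, card_sylow2_subgroup h T'])
    exact hTT' (Sylow.ext (e1.trans e2.symm))
  have hnetop : normalizer (U : Set G) ≠ ⊤ := by
    intro htop
    have hn : U.Normal := normalizer_eq_top_iff.mp htop
    rcases hn.eq_bot_or_eq_top with h0 | h0
    · have := hU.card_four
      rw [h0, card_bot] at this
      omega
    · have := hU.card_four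
      rw [h0, card_top, h] at this
      omega
  have hne56 : Nat.card (normalizer (U : Set G)) ≠ 56 := by
    intro hc
    have hidx : (normalizer (U : Set G)).index = 3 := by
      have := (normalizer (U : Set G)).card_mul_index
      rw [hc, h] at this
      omega
    have := card_dvd_factorial_index _ hnetop
    rw [hidx, h] at this
    exact absurd this (by decide)
  have hne168 : Nat.card (normalizer (U : Set G)) ≠ 168 := by
    intro hc
    apply hnetop
    exact Subgroup.card_eq_iff_eq_top _ |>.mp (by rw [hc, h])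
  obtain ⟨k, hk⟩ := h8
  rw [hk] at h168 hne8 hne56 hne168 ⊢
  have hk21 : k ∣ 21 := by
    have : 8 * k ∣ 8 * 21 := h168
    exact Nat.dvd_of_mul_dvd_mul_left (by norm_num) this
  have hmem : k ∈ Nat.divisors 21 := Nat.mem_divisors.mpr ⟨hk21, by norm_num⟩
  have hdiv : Nat.divisors 21 = {1, 3, 7, 21} := by decide
  rw [hdiv] at hmem
  simp only [Finset.mem_insert, Finset.mem_singleton] at hmem
  rcases hmem with h' | h' | h' | h' <;> subst h' <;> omega

/-- The normalizer of a Klein four subgroup is isomorphic to `S₄`. -/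
theorem normalizer_kleinFour_equiv (h : Nat.card G = 168) {U : Subgroup G}
    (hU : IsKleinFour U) : Nonempty (↥(normalizer (U : Set G)) ≃* Equiv.Perm (Fin 4)) := by
  apply Cfsg.Agent.S1012.result (card_normalizer_kleinFour h hU)
  intro g hg
  rw [← Subgroup.orderOf_coe] at hg
  rcases orderOf_mem h (g : G) with h' | h' | h' | h' | h' <;> omega

end Cfsg.Agent.Lib.H5.O168
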