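/-
Ree tori farm-out (architect helper12), common part of REE-A2 / REE-A3:
an element `x ≠ 1` of `GL₇(q)` with `x ^ e = 1`, `e` prime to `q (q^j - 1)` for `1 ≤ j ≤ 5`, has seven distinct
eigenvalues over the algebraic closure.
-/
import Mathlib

set_option autoImplicit false

namespace Cfsg.Agent.Lib.H5.Ree

open Polynomial Matrix

section frob

variable {F : Type*} [Field F] [Fintype F] {L : Type*} [Field L] [Algebra F L]

/-- the root multiset over `L` of a polynomial over the finite field `F` is invariant under `y ↦ y ^ q` -/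
theorem a0_roots_frob [IsAlgClosed L] (p : F[X]) :
    ((p.map (algebraMap F L)).roots).map (fun y => y ^ Fintype.card F) =
      (p.map (algebraMap F L)).roots := by
  have h1 : (p.map (algebraMap F L)).map ((FiniteField.frobeniusAlgHom F L : L →ₐ[F] L) : L →+* L) =
      p.map (algebraMap F L) := by
    rw [Polynomial.map_map]
    congr 1
    exact (FiniteField.frobeniusAlgHom F L).comp_algebraMap
  have h2 := (IsAlgClosed.splits (p.map (algebraMap F L))).roots_map
    ((FiniteField.frobeniusAlgHom F L : L →ₐ[F] L) : L →+* L)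
  rw [h1] at h2
  exact h2.symm

/-- the count of a root is invariant under `y ↦ y ^ q` -/
theorem a0_count_frob [IsAlgClosed L] [DecidableEq L] (p : F[X]) (y : L) :
    ((p.map (algebraMap F L)).roots).count (y ^ Fintype.card F) =
      ((p.map (algebraMap F L)).roots).count y := by
  have hinj : Function.Injective (fun y : L => y ^ Fintype.card F) :=
    ((FiniteField.frobeniusAlgHom F L : L →ₐ[F] L) : L →+* L).injective
  conv_lhs => rw [← a0_roots_frob p]
  exact Multiset.count_map_eq_count' _ _ hinj y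

theorem a0_count_frob_pow [IsAlgClosed L] [DecidableEq L] (p : F[X]) (y : L) (j : ℕ) :
    ((p.map (algebraMap F L)).roots).count (y ^ Fintype.card F ^ j) =
      ((p.map (algebraMap F L)).roots).count y := by
  induction j with
  | zero => rw [pow_zero, pow_one]
  | succ j ih => rw [pow_succ, pow_mul, a0_count_frob, ih]

theorem a0_pow_card_pow_injective (i : ℕ) :
    Function.Injective (fun y : L => y ^ Fintype.card F ^ i) := by
  induction i with
  | zero => intro a b h; simpa using h
  | succ i ih =>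
    intro a b h
    have h' : (a ^ Fintype.card F ^ i) ^ Fintype.card F = (b ^ Fintype.card F ^ i) ^ Fintype.card F := by
      simpa only [pow_succ, pow_mul] using h
    exact ih (((FiniteField.frobeniusAlgHom F L : L →ₐ[F] L) : L →+* L).injective h')

theorem a0_e_ne_zero (e : ℕ) (he : ∀ j : ℕ, 1 ≤ j → j ≤ 5 → Nat.Coprime e (Fintype.card F ^ j - 1)) :
    e ≠ 0 := by
  intro h0
  have h2 := he 2 (by norm_num) (by norm_num)
  rw [h0, Nat.coprime_zero_left] at h2
  have hq : 2 ≤ Fintype.card F := Fintype.one_lt_card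
  have : 4 ≤ Fintype.card F ^ 2 := by nlinarith
  omega

/-- the orbit of `r ≠ 1`, `r ^ e = 1` under `y ↦ y ^ q` has at least six elements -/
theorem a0_orbit_ne (e : ℕ) (he : ∀ j : ℕ, 1 ≤ j → j ≤ 5 → Nat.Coprime e (Fintype.card F ^ j - 1))
    (r : L) (hr : r ^ e = 1) (hr1 : r ≠ 1) {i j : ℕ} (hij : i < j) (hj : j ≤ 5) :
    r ^ Fintype.card F ^ i ≠ r ^ Fintype.card F ^ j := by
  intro h
  obtain ⟨d, rfl⟩ : ∃ d, j = i + d := ⟨j - i, by omega⟩
  have hd1 : 1 ≤ d := by omega
  have hd5 : d ≤ 5 := by omega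
  have h1 : r = r ^ Fintype.card F ^ d := by
    apply a0_pow_card_pow_injective (F := F) (L := L) i
    show r ^ Fintype.card F ^ i = (r ^ Fintype.card F ^ d) ^ Fintype.card F ^ i
    rw [h, ← pow_mul, ← pow_add, add_comm]
  have hr0 : r ≠ 0 := by
    intro h0
    rw [h0, zero_pow (a0_e_ne_zero (F := F) e he)] at hr
    exact zero_ne_one hr
  have hpos : 0 < Fintype.card F ^ d := Nat.pos_of_ne_zero (pow_ne_zero _ Fintype.card_ne_zero)
  have h2 : r ^ (Fintype.card F ^ d - 1) = 1 := by
    have h3 : r ^ Fintype.card F ^ d = r ^ (Fintype.card F ^ d - 1) * r := by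
      rw [← pow_succ, Nat.sub_add_cancel hpos]
    rw [h3] at h1
    have h4 : (1 : L) * r = r ^ (Fintype.card F ^ d - 1) * r := by rw [one_mul]; exact h1
    exact (mul_right_cancel₀ hr0 h4).symm
  have h3 := pow_gcd_eq_one.mpr ⟨hr, h2⟩
  rw [Nat.Coprime.gcd_eq_one (he d hd1 hd5), pow_one] at h3
  exact hr1 h3

end frob

section multiset

variable {L : Type*} [DecidableEq L]

theorem a0_sum_count_le (R : Multiset L) (S : Finset L) (hS : ∀ s ∈ S, s ∈ R) :
    ∑ s ∈ S, R.count s ≤ R.card := by
  rw [← Multiset.toFinset_sum_count_eq R]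
  apply Finset.sum_le_sum_of_subset
  intro s hs
  exact Multiset.mem_toFinset.mpr (hS s hs)

end multiset

section nodup

variable {F : Type*} [Field F] [Fintype F] {L : Type*} [Field L] [Algebra F L]

/-- the core counting argument: seven roots, orbits of length at least six away from `1` -/
theorem a0_nodup [DecidableEq L] (e : ℕ)
    (he : ∀ j : ℕ, 1 ≤ j → j ≤ 5 → Nat.Coprime e (Fintype.card F ^ j - 1))
    (R : Multiset L) (hcard : R.card ≤ 7) (hRe : ∀ r ∈ R, r ^ e = 1)
    (hcount : ∀ (r : L) (j : ℕ), R.count (r ^ Fintype.card F ^ j) = R.count r)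
    (θ : L) (hθ : θ ∈ R) (hθ1 : θ ≠ 1) : R.Nodup := by
  rw [Multiset.nodup_iff_count_le_one]
  intro a
  by_contra hcon
  push Not at hcon
  have ha : a ∈ R := Multiset.count_pos.mp (by omega)
  -- the orbit of an element different from 1
  have horb : ∀ r : L, r ^ e = 1 → r ≠ 1 →
      (Finset.image (fun j => r ^ Fintype.card F ^ j) (Finset.range 6)).card = 6 := by
    intro r hr hr1
    rw [Finset.card_image_of_injOn, Finset.card_range]
    intro i hi j hj hij
    simp only [Finset.coe_range, Set.mem_Iio] at hi hj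
    by_contra hne
    rcases lt_or_gt_of_ne hne with h | h
    · exact a0_orbit_ne (F := F) e he r hr hr1 h (by omega) hij
    · exact a0_orbit_ne (F := F) e he r hr hr1 h (by omega) hij.symm
  by_cases ha1 : a = 1
  · -- 1 is a double root and the orbit of θ gives six more
    subst ha1
    have hS : ∀ s ∈ insert (1 : L) (Finset.image (fun j => θ ^ Fintype.card F ^ j) (Finset.range 6)),
        s ∈ R := by
      intro s hs
      rw [Finset.mem_insert, Finset.mem_image] at hs
      rcases hs with rfl | ⟨j, _, rfl⟩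
      · exact ha
      · apply Multiset.count_pos.mp
        rw [hcount]
        exact Multiset.count_pos.mpr hθ
    have h1 := a0_sum_count_le R _ hS
    have hnot : (1 : L) ∉ Finset.image (fun j => θ ^ Fintype.card F ^ j) (Finset.range 6) := by
      intro h
      rw [Finset.mem_image] at h
      obtain ⟨j, _, hj⟩ := h
      apply hθ1
      apply a0_pow_card_pow_injective (F := F) (L := L) j
      show θ ^ Fintype.card F ^ j = 1 ^ Fintype.card F ^ j
      rw [hj, one_pow]
    rw [Finset.sum_insert hnot] at h1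
    have h2 : ∑ s ∈ Finset.image (fun j => θ ^ Fintype.card F ^ j) (Finset.range 6), R.count s ≥
        ∑ s ∈ Finset.image (fun j => θ ^ Fintype.card F ^ j) (Finset.range 6), 1 := by
      apply Finset.sum_le_sum
      intro s hs
      rw [Finset.mem_image] at hs
      obtain ⟨j, _, rfl⟩ := hs
      rw [hcount]
      exact Multiset.count_pos.mpr hθ
    rw [Finset.sum_const, horb θ (hRe θ hθ) hθ1, smul_eq_mul] at h2
    omega
  · have hS : ∀ s ∈ Finset.image (fun j => a ^ Fintype.card F ^ j) (Finset.range 6), s ∈ R := by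
      intro s hs
      rw [Finset.mem_image] at hs
      obtain ⟨j, _, rfl⟩ := hs
      apply Multiset.count_pos.mp
      rw [hcount]
      exact Multiset.count_pos.mpr ha
    have h1 := a0_sum_count_le R _ hS
    have h2 : ∑ s ∈ Finset.image (fun j => a ^ Fintype.card F ^ j) (Finset.range 6), R.count s ≥
        ∑ s ∈ Finset.image (fun j => a ^ Fintype.card F ^ j) (Finset.range 6), 2 := by
      apply Finset.sum_le_sum
      intro s hs
      rw [Finset.mem_image] at hs
      obtain ⟨j, _, rfl⟩ := hs
      rw [hcount]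
      exact hcon
    rw [Finset.sum_const, horb a (hRe a ha) ha1, smul_eq_mul] at h2
    omega

end nodup

section matrix

variable {L : Type*} [Field L] {n : Type*} [Fintype n] [DecidableEq n]

theorem a0_exists_eigvec (A : Matrix n n L) (μ : L) (h : A.charpoly.IsRoot μ) :
    ∃ v : n → L, v ≠ 0 ∧ A *ᵥ v = μ • v := by
  have hdet : (Matrix.scalar n μ - A).det = 0 := by
    rw [← Matrix.eval_charpoly]; exact h
  obtain ⟨v, hv, hmul⟩ := Matrix.exists_mulVec_eq_zero_iff.mpr hdet
  refine ⟨v, hv, ?_⟩
  rw [Matrix.sub_mulVec, sub_eq_zero] at hmul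
  rw [← hmul]
  ext i
  simp [Matrix.mulVec, dotProduct, Matrix.diagonal_apply]

theorem a0_pow_mulVec (A : Matrix n n L) (μ : L) (v : n → L) (h : A *ᵥ v = μ • v) (k : ℕ) :
    (A ^ k) *ᵥ v = μ ^ k • v := by
  induction k with
  | zero => simp
  | succ k ih =>
    rw [pow_succ, ← Matrix.mulVec_mulVec, h, Matrix.mulVec_smul, ih, smul_smul, pow_succ, mul_comm]

theorem a0_eig_pow_eq_one (A : Matrix n n L) (e : ℕ) (hA : A ^ e = 1) (μ : L) (v : n → L)
    (hv : v ≠ 0) (h : A *ᵥ v = μ • v) : μ ^ e = 1 := by
  have h1 := a0_pow_mulVec A μ v h e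
  rw [hA, Matrix.one_mulVec] at h1
  by_contra hne
  apply hv
  have h2 : (μ ^ e - 1) • v = 0 := by rw [sub_smul, one_smul, ← h1, sub_self]
  rcases smul_eq_zero.mp h2 with h3 | h3
  · exact absurd (sub_eq_zero.mp h3) hne
  · exact h3

/-- a matrix of order prime to the characteristic all of whose eigenvalues are `1` is `1` -/
theorem a0_eq_one_of_roots [IsAlgClosed L] (A : Matrix n n L) (e : ℕ) (he : (e : L) ≠ 0)
    (hA : A ^ e = 1) (hroots : ∀ r ∈ A.charpoly.roots, r = 1) : A = 1 := by
  obtain ⟨m, h1⟩ : ∃ m : ℕ, A.charpoly = (X - C (1 : L)) ^ m := by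
    refine ⟨Multiset.card A.charpoly.roots, ?_⟩
    conv_lhs => rw [(IsAlgClosed.splits A.charpoly).eq_prod_roots_of_monic A.charpoly_monic]
    rw [Multiset.eq_replicate.mpr ⟨rfl, hroots⟩, Multiset.map_replicate, Multiset.prod_replicate,
      Multiset.card_replicate]
  have h2 : minpoly L A ∣ (X - C (1 : L)) ^ (m + 1) := by
    refine dvd_trans (Matrix.minpoly_dvd_charpoly A) ?_
    rw [h1]
    exact pow_dvd_pow _ (Nat.le_succ _)
  have h3 : minpoly L A ∣ (X ^ e - C (1 : L) : L[X]) := by
    apply minpoly.dvd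
    simp [hA]
  have hsq : Squarefree (minpoly L A) :=
    Squarefree.squarefree_of_dvd h3 (Polynomial.separable_X_pow_sub_C (1 : L) he one_ne_zero).squarefree
  have h4 : minpoly L A ∣ (X - C (1 : L)) :=
    (hsq.dvd_pow_iff_dvd (Nat.succ_ne_zero _)).mp h2
  obtain ⟨c, hc⟩ := h4
  have h5 : Polynomial.aeval A (X - C (1 : L) : L[X]) = 0 := by
    rw [hc, map_mul, minpoly.aeval, zero_mul]
  simpa [sub_eq_zero] using h5

/-- distinct eigenvalues: an eigenbasis -/
theorem a0_exists_diag (A : Matrix n n L) (d : n → L) (hd : Function.Injective d)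
    (hroot : ∀ i, A.charpoly.IsRoot (d i)) :
    ∃ P : Matrix n n L, IsUnit P ∧ A * P = P * Matrix.diagonal d := by
  choose v hv0 hv using fun i => a0_exists_eigvec A (d i) (hroot i)
  refine ⟨Matrix.of (fun j i => v i j), ?_, ?_⟩
  · rw [← Matrix.linearIndependent_cols_iff_isUnit]
    have : (Matrix.of (fun j i => v i j)).col = v := rfl
    rw [this]
    refine Module.End.eigenvectors_linearIndependent' (Matrix.toLin' A) d hd v (fun i => ?_)
    rw [Module.End.hasEigenvector_iff, Module.End.mem_eigenspace_iff, Matrix.toLin'_apply]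
    exact ⟨hv i, hv0 i⟩
  · ext j i
    rw [Matrix.mul_diagonal, Matrix.of_apply]
    have := congrFun (hv i) j
    rw [Pi.smul_apply, smul_eq_mul, mul_comm] at this
    rw [← this]
    rfl

/-- the commutant of a matrix with distinct eigenvalues is diagonal in the eigenbasis -/
theorem a0_diag_of_commute (P A G : Matrix n n L) (d : n → L) (hP : IsUnit P)
    (hd : Function.Injective d) (hAP : A * P = P * Matrix.diagonal d) (hG : G * A = A * G) :
    ∃ c : n → L, G * P = P * Matrix.diagonal c := by
  have hdet := (Matrix.isUnit_iff_isUnit_det P).mp hP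
  have h1 : P⁻¹ * P = 1 := Matrix.nonsing_inv_mul P hdet
  have h2 : P * P⁻¹ = 1 := Matrix.mul_nonsing_inv P hdet
  obtain ⟨G', hG'⟩ : ∃ G' : Matrix n n L, G' = P⁻¹ * G * P := ⟨_, rfl⟩
  have hGP : G * P = P * G' := by
    rw [hG', ← mul_assoc, ← mul_assoc, h2, one_mul]
  have hcomm : G' * Matrix.diagonal d = Matrix.diagonal d * G' := by
    have e1 : P * (G' * Matrix.diagonal d) = P * (Matrix.diagonal d * G') := by
      calc P * (G' * Matrix.diagonal d)
          = (P * G') * Matrix.diagonal d := by rw [mul_assoc]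
        _ = G * (P * Matrix.diagonal d) := by rw [← hGP, mul_assoc]
        _ = (G * A) * P := by rw [← hAP, mul_assoc]
        _ = A * (G * P) := by rw [hG, mul_assoc]
        _ = (A * P) * G' := by rw [hGP, mul_assoc]
        _ = P * (Matrix.diagonal d * G') := by rw [hAP, mul_assoc]
    have e2 := congrArg (fun M => P⁻¹ * M) e1
    simp only [← mul_assoc P⁻¹ P, h1, one_mul] at e2
    exact e2
  refine ⟨fun i => G' i i, ?_⟩
  rw [hGP]
  congr 1
  ext i j
  by_cases hij : i = j
  · subst hij; rw [Matrix.diagonal_apply_eq]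
  · rw [Matrix.diagonal_apply_ne _ hij]
    have h3 := congrFun (congrFun hcomm i) j
    rw [Matrix.mul_diagonal, Matrix.diagonal_mul] at h3
    have h4 : G' i j * (d j - d i) = 0 := by rw [mul_sub, h3, mul_comm, sub_self]
    rcases mul_eq_zero.mp h4 with h5 | h5
    · exact h5
    · exact absurd (hd (sub_eq_zero.mp h5)).symm hij

theorem a0_commute_of_diag (P G H : Matrix n n L) (c c' : n → L) (hP : IsUnit P)
    (hc : G * P = P * Matrix.diagonal c) (hc' : H * P = P * Matrix.diagonal c') : G * H = H * G := by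
  have hdet := (Matrix.isUnit_iff_isUnit_det P).mp hP
  have h2 : P * P⁻¹ = 1 := Matrix.mul_nonsing_inv P hdet
  have hD : Matrix.diagonal c * Matrix.diagonal c' = Matrix.diagonal c' * Matrix.diagonal c := by
    rw [Matrix.diagonal_mul_diagonal, Matrix.diagonal_mul_diagonal]
    congr 1
    funext i
    exact mul_comm _ _
  have e1 : (G * H) * P = (H * G) * P := by
    calc (G * H) * P = G * (H * P) := by rw [mul_assoc]
      _ = (G * P) * Matrix.diagonal c' := by rw [hc', mul_assoc]
      _ = P * (Matrix.diagonal c * Matrix.diagonal c') := by rw [hc, mul_assoc]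
      _ = (P * Matrix.diagonal c') * Matrix.diagonal c := by rw [hD, mul_assoc]
      _ = H * (P * Matrix.diagonal c) := by rw [← hc', mul_assoc]
      _ = (H * G) * P := by rw [← hc, mul_assoc]
  have e2 := congrArg (fun M => M * P⁻¹) e1
  simp only [mul_assoc _ P P⁻¹, h2, mul_one] at e2
  exact e2

end matrix

section main

variable {F : Type*} [Field F] [Fintype F] (L : Type*) [Field L] [Algebra F L]

theorem a0_cast_ne_zero (e : ℕ) (heF : Nat.Coprime e (Fintype.card F)) : (e : L) ≠ 0 := by
  obtain ⟨p, hp⟩ := CharP.exists F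
  obtain ⟨k, hpk, hcard⟩ := FiniteField.card F p
  have : CharP L p := charP_of_injective_algebraMap (algebraMap F L).injective p
  intro h0
  rw [CharP.cast_eq_zero_iff L p] at h0
  have h1 : p ∣ Fintype.card F := by
    rw [hcard]
    exact dvd_pow_self p k.ne_zero
  have h2 : p ∣ Nat.gcd e (Fintype.card F) := Nat.dvd_gcd h0 h1
  rw [Nat.Coprime.gcd_eq_one heF] at h2
  exact hpk.one_lt.ne' (Nat.dvd_one.mp h2)

/-- **Main structure theorem**: seven distinct eigenvalues, stable under Frobenius. -/
theorem a0_main [IsAlgClosed L] (e : ℕ) (heF : Nat.Coprime e (Fintype.card F))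
    (he : ∀ j : ℕ, 1 ≤ j → j ≤ 5 → Nat.Coprime e (Fintype.card F ^ j - 1))
    (x : Matrix (Fin 7) (Fin 7) F) (hx : x ^ e = 1) (hx1 : x ≠ 1) :
    ∃ (P : Matrix (Fin 7) (Fin 7) L) (d : Fin 7 → L),
      IsUnit P ∧ Function.Injective d ∧
      (algebraMap F L).mapMatrix x * P = P * Matrix.diagonal d ∧
      (∀ i, d i ^ e = 1) ∧ (∀ i, ∃ i', d i' = d i ^ Fintype.card F) ∧ (∃ i, d i ≠ 1) := by
  classical
  have hA : ((algebraMap F L).mapMatrix x) ^ e = 1 := by rw [← map_pow, hx, map_one]
  have hA1 : (algebraMap F L).mapMatrix x ≠ 1 := by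
    intro h
    apply hx1
    have h' : x.map (algebraMap F L) = (1 : Matrix (Fin 7) (Fin 7) F).map (algebraMap F L) := by
      rw [← RingHom.mapMatrix_apply, ← RingHom.mapMatrix_apply, h, map_one]
    exact Matrix.map_injective (algebraMap F L).injective h'
  have hchar : ((algebraMap F L).mapMatrix x).charpoly = x.charpoly.map (algebraMap F L) := by
    rw [RingHom.mapMatrix_apply, Matrix.charpoly_map]
  have hcard : Multiset.card ((algebraMap F L).mapMatrix x).charpoly.roots = 7 := by
    rw [← (IsAlgClosed.splits _).natDegree_eq_card_roots, Matrix.charpoly_natDegree_eq_dim]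
    simp
  have hRe : ∀ r ∈ ((algebraMap F L).mapMatrix x).charpoly.roots, r ^ e = 1 := by
    intro r hr
    obtain ⟨v, hv0, hv⟩ := a0_exists_eigvec _ r (Polynomial.isRoot_of_mem_roots hr)
    exact a0_eig_pow_eq_one _ e hA r v hv0 hv
  obtain ⟨θ, hθ, hθ1⟩ : ∃ θ ∈ ((algebraMap F L).mapMatrix x).charpoly.roots, θ ≠ 1 := by
    by_contra hcon
    push Not at hcon
    exact hA1 (a0_eq_one_of_roots _ e (a0_cast_ne_zero L e heF) hA hcon)
  have hcount : ∀ (r : L) (j : ℕ),
      ((algebraMap F L).mapMatrix x).charpoly.roots.count (r ^ Fintype.card F ^ j) =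
        ((algebraMap F L).mapMatrix x).charpoly.roots.count r := by
    intro r j
    rw [hchar]
    exact a0_count_frob_pow x.charpoly r j
  have hnodup := a0_nodup (F := F) e he _ hcard.le hRe hcount θ hθ hθ1
  have hfin : Fintype.card {r // r ∈ ((algebraMap F L).mapMatrix x).charpoly.roots.toFinset} = 7 := by
    rw [Fintype.card_coe, Multiset.toFinset_card_of_nodup hnodup, hcard]
  let eqv := Fintype.equivFinOfCardEq hfin
  have hdR : ∀ i, ((eqv.symm i : {r // r ∈ ((algebraMap F L).mapMatrix x).charpoly.roots.toFinset}) : L) ∈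
      ((algebraMap F L).mapMatrix x).charpoly.roots := fun i => Multiset.mem_toFinset.mp (eqv.symm i).2
  have hsurj : ∀ r ∈ ((algebraMap F L).mapMatrix x).charpoly.roots, ∃ i,
      ((eqv.symm i : {r // r ∈ ((algebraMap F L).mapMatrix x).charpoly.roots.toFinset}) : L) = r := by
    intro r hr
    refine ⟨eqv ⟨r, Multiset.mem_toFinset.mpr hr⟩, ?_⟩
    rw [Equiv.symm_apply_apply]
  have hd : Function.Injective (fun i =>
      ((eqv.symm i : {r // r ∈ ((algebraMap F L).mapMatrix x).charpoly.roots.toFinset}) : L)) :=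
    Subtype.val_injective.comp eqv.symm.injective
  obtain ⟨P, hP, hAP⟩ := a0_exists_diag _ _ hd (fun i => Polynomial.isRoot_of_mem_roots (hdR i))
  refine ⟨P, _, hP, hd, hAP, fun i => hRe _ (hdR i), fun i => ?_, ?_⟩
  · apply hsurj
    apply Multiset.count_pos.mp
    have := hcount ((eqv.symm i : {r // r ∈ ((algebraMap F L).mapMatrix x).charpoly.roots.toFinset}) : L) 1
    rw [pow_one] at this
    rw [this]
    exact Multiset.count_pos.mpr (hdR i)
  · obtain ⟨i, hi⟩ := hsurj θ hθ
    exact ⟨i, by rw [hi]; exact hθ1⟩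

end main

end Cfsg.Agent.Lib.H5.Ree
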