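/-
Ree tori farm-out (architect helper12), REE-A2 `commute_of_commute_GL7`:
the centraliser in `GL₇(q)` of `x ≠ 1`, `x ^ e = 1` (`e` prime to `q (q^j - 1)`, `j ≤ 5`) is commutative.
-/
import Cfsg.Agent.Lib.H5.ReeA0

set_option autoImplicit false

namespace Cfsg.Agent.Lib.H5.Ree

open scoped MatrixGroups

/-- **REE-A2** -/
theorem commute_of_commute_GL7 {F : Type*} [Field F] [Fintype F] (e : ℕ)
    (heF : Nat.Coprime e (Fintype.card F))
    (he : ∀ j : ℕ, 1 ≤ j → j ≤ 5 → Nat.Coprime e (Fintype.card F ^ j - 1))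
    (x : GL (Fin 7) F) (hx : x ^ e = 1) (hx1 : x ≠ 1) (g h : GL (Fin 7) F)
    (hg : g * x = x * g) (hh : h * x = x * h) : g * h = h * g := by
  have hxm : (x : Matrix (Fin 7) (Fin 7) F) ^ e = 1 := by
    rw [← Units.val_pow_eq_pow_val, hx, Units.val_one]
  have hxm1 : (x : Matrix (Fin 7) (Fin 7) F) ≠ 1 := fun h' => hx1 (Units.ext h')
  obtain ⟨P, d, hP, hd, hAP, -, -, -⟩ := a0_main (AlgebraicClosure F) e heF he _ hxm hxm1
  have hgm : (algebraMap F (AlgebraicClosure F)).mapMatrix (g : Matrix (Fin 7) (Fin 7) F) *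
      (algebraMap F (AlgebraicClosure F)).mapMatrix (x : Matrix (Fin 7) (Fin 7) F) =
      (algebraMap F (AlgebraicClosure F)).mapMatrix (x : Matrix (Fin 7) (Fin 7) F) *
      (algebraMap F (AlgebraicClosure F)).mapMatrix (g : Matrix (Fin 7) (Fin 7) F) := by
    rw [← map_mul, ← map_mul, ← Units.val_mul, ← Units.val_mul, hg]
  have hhm : (algebraMap F (AlgebraicClosure F)).mapMatrix (h : Matrix (Fin 7) (Fin 7) F) *
      (algebraMap F (AlgebraicClosure F)).mapMatrix (x : Matrix (Fin 7) (Fin 7) F) =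
      (algebraMap F (AlgebraicClosure F)).mapMatrix (x : Matrix (Fin 7) (Fin 7) F) *
      (algebraMap F (AlgebraicClosure F)).mapMatrix (h : Matrix (Fin 7) (Fin 7) F) := by
    rw [← map_mul, ← map_mul, ← Units.val_mul, ← Units.val_mul, hh]
  obtain ⟨c, hc⟩ := a0_diag_of_commute P _ _ d hP hd hAP hgm
  obtain ⟨c', hc'⟩ := a0_diag_of_commute P _ _ d hP hd hAP hhm
  have key := a0_commute_of_diag P _ _ c c' hP hc hc'
  apply Units.ext
  rw [Units.val_mul, Units.val_mul]
  rw [← map_mul, ← map_mul] at key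
  have h' : ((g : Matrix (Fin 7) (Fin 7) F) * (h : Matrix (Fin 7) (Fin 7) F)).map
      (algebraMap F (AlgebraicClosure F)) =
      ((h : Matrix (Fin 7) (Fin 7) F) * (g : Matrix (Fin 7) (Fin 7) F)).map
      (algebraMap F (AlgebraicClosure F)) := by
    rw [← RingHom.mapMatrix_apply, ← RingHom.mapMatrix_apply]; exact key
  exact Matrix.map_injective (algebraMap F (AlgebraicClosure F)).injective h'

end Cfsg.Agent.Lib.H5.Ree
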