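/-
Ree tori farm-out (architect helper12), REE-A3 `pow_of_conj_GL7`:
if `g x g⁻¹ = x ^ k` for `x ≠ 1` in `GL₇(q)`, `x ^ e = 1`, `e ∣ q^6 - 1` prime to `q (q^j - 1)`, `j ≤ 5`, then
`x ^ k = x ^ (q ^ i)` for some `i < 6`.
-/
import Cfsg.Agent.Lib.H5.ReeA0

set_option autoImplicit false
set_option linter.unusedSectionVars false

namespace Cfsg.Agent.Lib.H5.Ree

open scoped MatrixGroups
open Polynomial

section orbit

variable {F : Type*} [Field F] [Fintype F] {L : Type*} [Field L] [Algebra F L]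

theorem a3_orbit_card [DecidableEq L] (e : ℕ)
    (he : ∀ j : ℕ, 1 ≤ j → j ≤ 5 → Nat.Coprime e (Fintype.card F ^ j - 1))
    (r : L) (hr : r ^ e = 1) (hr1 : r ≠ 1) :
    (Finset.image (fun j => r ^ Fintype.card F ^ j) (Finset.range 6)).card = 6 := by
  rw [Finset.card_image_of_injOn, Finset.card_range]
  intro i hi j hj hij
  simp only [Finset.coe_range, Set.mem_Iio] at hi hj
  by_contra hne
  rcases lt_or_gt_of_ne hne with h | h
  · exact a0_orbit_ne (F := F) e he r hr hr1 h (by omega) hij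
  · exact a0_orbit_ne (F := F) e he r hr hr1 h (by omega) hij.symm

theorem a3_pow_card6 (e : ℕ) (he6 : e ∣ Fintype.card F ^ 6 - 1) (r : L) (hr : r ^ e = 1) :
    r ^ Fintype.card F ^ 6 = r := by
  obtain ⟨c, hc⟩ := he6
  have h1 : r ^ (Fintype.card F ^ 6 - 1) = 1 := by rw [hc, pow_mul, hr, one_pow]
  have hpos : 0 < Fintype.card F ^ 6 := Nat.pos_of_ne_zero (pow_ne_zero _ Fintype.card_ne_zero)
  have h2 : r ^ Fintype.card F ^ 6 = r ^ (Fintype.card F ^ 6 - 1) * r := by
    rw [← pow_succ, Nat.sub_add_cancel hpos]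
  rw [h2, h1, one_mul]

theorem a3_periodic (r : L) (h6 : r ^ Fintype.card F ^ 6 = r) (a m : ℕ) :
    r ^ Fintype.card F ^ (a + 6 * m) = r ^ Fintype.card F ^ a := by
  induction m with
  | zero => rw [Nat.mul_zero, Nat.add_zero]
  | succ m ih =>
    have : a + 6 * (m + 1) = 6 + (a + 6 * m) := by ring
    rw [this, pow_add, pow_mul, h6, ih]

/-- the non-trivial eigenvalues form one Frobenius orbit of length six -/
theorem a3_struct [DecidableEq L] (e : ℕ)
    (he : ∀ j : ℕ, 1 ≤ j → j ≤ 5 → Nat.Coprime e (Fintype.card F ^ j - 1))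
    (he6 : e ∣ Fintype.card F ^ 6 - 1) (d : Fin 7 → L) (hde : ∀ i, d i ^ e = 1)
    (hfrob : ∀ i, ∃ i', d i' = d i ^ Fintype.card F) (i0 : Fin 7) (hi0 : d i0 ≠ 1) (i : Fin 7) :
    d i = 1 ∨ ∃ a, a < 6 ∧ d i = d i0 ^ Fintype.card F ^ a := by
  have hfrob' : ∀ (a : ℕ) (i : Fin 7), ∃ i', d i' = d i ^ Fintype.card F ^ a := by
    intro a
    induction a with
    | zero => intro i; exact ⟨i, by rw [pow_zero, pow_one]⟩
    | succ a ih =>
      intro i
      obtain ⟨i1, h1⟩ := ih i
      obtain ⟨i2, h2⟩ := hfrob i1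
      exact ⟨i2, by rw [h2, h1, ← pow_mul, ← pow_succ]⟩
  by_cases h1 : d i = 1
  · exact Or.inl h1
  right
  have hS : (Finset.image d Finset.univ).card ≤ 7 := by
    refine le_trans Finset.card_image_le ?_
    simp
  have hsub : ∀ i : Fin 7, Finset.image (fun a => d i ^ Fintype.card F ^ a) (Finset.range 6) ⊆
      Finset.image d Finset.univ := by
    intro i y hy
    rw [Finset.mem_image] at hy
    obtain ⟨a, _, rfl⟩ := hy
    obtain ⟨i', hi'⟩ := hfrob' a i
    rw [← hi']
    exact Finset.mem_image_of_mem d (Finset.mem_univ _)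
  have hnd : ¬ Disjoint (Finset.image (fun a => d i0 ^ Fintype.card F ^ a) (Finset.range 6))
      (Finset.image (fun a => d i ^ Fintype.card F ^ a) (Finset.range 6)) := by
    intro hdis
    have h2 := Finset.card_union_of_disjoint hdis
    rw [a3_orbit_card (F := F) e he _ (hde i0) hi0, a3_orbit_card (F := F) e he _ (hde i) h1] at h2
    have h3 := Finset.card_le_card (Finset.union_subset (hsub i0) (hsub i))
    omega
  rw [Finset.not_disjoint_iff] at hnd
  obtain ⟨y, hy0, hy1⟩ := hnd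
  rw [Finset.mem_image] at hy0 hy1
  obtain ⟨a, ha, rfl⟩ := hy0
  obtain ⟨b, hb, hab⟩ := hy1
  rw [Finset.mem_range] at ha hb
  have h6 := a3_pow_card6 (F := F) e he6 (d i) (hde i)
  have h60 := a3_pow_card6 (F := F) e he6 (d i0) (hde i0)
  have h4 : d i = d i0 ^ Fintype.card F ^ (a + (6 - b)) := by
    calc d i = d i ^ Fintype.card F ^ 6 := h6.symm
      _ = (d i ^ Fintype.card F ^ b) ^ Fintype.card F ^ (6 - b) := by
          rw [← pow_mul, ← pow_add, Nat.add_sub_cancel' hb.le]
      _ = (d i0 ^ Fintype.card F ^ a) ^ Fintype.card F ^ (6 - b) := by rw [hab]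
      _ = d i0 ^ Fintype.card F ^ (a + (6 - b)) := by rw [← pow_mul, ← pow_add]
  refine ⟨(a + (6 - b)) % 6, Nat.mod_lt _ (by norm_num), ?_⟩
  rw [h4]
  conv_lhs => rw [← Nat.mod_add_div (a + (6 - b)) 6]
  exact a3_periodic (F := F) _ h60 _ _

end orbit

section matrix

variable {L : Type*} [Field L] {n : Type*} [Fintype n] [DecidableEq n]

theorem a3_pow_diag (A P : Matrix n n L) (d : n → L) (hAP : A * P = P * Matrix.diagonal d) (m : ℕ) :
    A ^ m * P = P * Matrix.diagonal (fun i => d i ^ m) := by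
  induction m with
  | zero =>
    simp only [pow_zero, one_mul]
    rw [Matrix.diagonal_one, mul_one]
  | succ m ih =>
    rw [pow_succ, mul_assoc, hAP, ← mul_assoc, ih, mul_assoc, Matrix.diagonal_mul_diagonal]
    congr 2
    funext i
    rw [pow_succ]

theorem a3_charpoly_roots (A P : Matrix n n L) (hP : IsUnit P) (c : n → L)
    (h : A * P = P * Matrix.diagonal c) :
    A.charpoly.roots = Multiset.map c (Finset.univ : Finset n).val := by
  have hdet := (Matrix.isUnit_iff_isUnit_det P).mp hP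
  have h1 : P⁻¹ * P = 1 := Matrix.nonsing_inv_mul P hdet
  have h2 : P * P⁻¹ = 1 := Matrix.mul_nonsing_inv P hdet
  have hA : A = P * (Matrix.diagonal c * P⁻¹) := by
    rw [← mul_assoc, ← h, mul_assoc, h2, mul_one]
  have hch : A.charpoly = (Matrix.diagonal c).charpoly := by
    rw [hA, Matrix.charpoly_mul_comm, mul_assoc, h1, mul_one]
  rw [hch, Matrix.charpoly_diagonal]
  have : (∏ i, (X - C (c i))) =
      ((Multiset.map c (Finset.univ : Finset n).val).map fun x => X - C x).prod := by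
    rw [Multiset.map_map]
    rfl
  rw [this, Polynomial.roots_multiset_prod_X_sub_C]

theorem a3_eq_of_diag_eq (A B P : Matrix n n L) (hP : IsUnit P) (c : n → L)
    (hA : A * P = P * Matrix.diagonal c) (hB : B * P = P * Matrix.diagonal c) : A = B := by
  have hdet := (Matrix.isUnit_iff_isUnit_det P).mp hP
  have h2 : P * P⁻¹ = 1 := Matrix.mul_nonsing_inv P hdet
  have e1 : A * P = B * P := by rw [hA, hB]
  have e2 := congrArg (fun M => M * P⁻¹) e1
  simp only [mul_assoc _ P P⁻¹, h2, mul_one] at e2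
  exact e2

end matrix

/-- **REE-A3** -/
theorem pow_of_conj_GL7 {F : Type*} [Field F] [Fintype F] (e : ℕ)
    (heF : Nat.Coprime e (Fintype.card F))
    (he : ∀ j : ℕ, 1 ≤ j → j ≤ 5 → Nat.Coprime e (Fintype.card F ^ j - 1))
    (he6 : e ∣ Fintype.card F ^ 6 - 1)
    (x : GL (Fin 7) F) (hx : x ^ e = 1) (hx1 : x ≠ 1) (g : GL (Fin 7) F) (k : ℕ)
    (hg : g * x * g⁻¹ = x ^ k) : ∃ i : ℕ, i < 6 ∧ x ^ k = x ^ (Fintype.card F ^ i) := by
  classical
  have hxm : (x : Matrix (Fin 7) (Fin 7) F) ^ e = 1 := by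
    rw [← Units.val_pow_eq_pow_val, hx, Units.val_one]
  have hxm1 : (x : Matrix (Fin 7) (Fin 7) F) ≠ 1 := fun h' => hx1 (Units.ext h')
  obtain ⟨P, d, hP, hd, hAP, hde, hfrob, i0, hi0⟩ := a0_main (AlgebraicClosure F) e heF he _ hxm hxm1
  -- injectivity of the base change
  have hinj : ∀ y z : GL (Fin 7) F,
      (algebraMap F (AlgebraicClosure F)).mapMatrix (y : Matrix (Fin 7) (Fin 7) F) =
      (algebraMap F (AlgebraicClosure F)).mapMatrix (z : Matrix (Fin 7) (Fin 7) F) → y = z := by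
    intro y z hyz
    apply Units.ext
    rw [RingHom.mapMatrix_apply, RingHom.mapMatrix_apply] at hyz
    exact Matrix.map_injective (algebraMap F (AlgebraicClosure F)).injective hyz
  have hpowmap : ∀ m : ℕ, (algebraMap F (AlgebraicClosure F)).mapMatrix
      ((x ^ m : GL (Fin 7) F) : Matrix (Fin 7) (Fin 7) F) =
      ((algebraMap F (AlgebraicClosure F)).mapMatrix (x : Matrix (Fin 7) (Fin 7) F)) ^ m := by
    intro m
    rw [Units.val_pow_eq_pow_val, map_pow]
  -- the characteristic polynomials of `x` and `x ^ k` agree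
  have hch : (((algebraMap F (AlgebraicClosure F)).mapMatrix (x : Matrix (Fin 7) (Fin 7) F)) ^ k).charpoly =
      ((algebraMap F (AlgebraicClosure F)).mapMatrix (x : Matrix (Fin 7) (Fin 7) F)).charpoly := by
    rw [← hpowmap, ← hg, Units.val_mul, Units.val_mul, map_mul, map_mul, mul_assoc,
      Matrix.charpoly_mul_comm, mul_assoc, ← map_mul, ← Units.val_mul, inv_mul_cancel, Units.val_one,
      map_one, mul_one]
  have hr1 := a3_charpoly_roots _ P hP _ (a3_pow_diag _ P d hAP k)
  have hr2 := a3_charpoly_roots _ P hP d hAP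
  rw [hch, hr2] at hr1
  -- `θ ^ k` is an eigenvalue
  have hmem : d i0 ^ k ∈ Multiset.map d (Finset.univ : Finset (Fin 7)).val := by
    rw [hr1]
    exact Multiset.mem_map_of_mem (fun i => d i ^ k) (Finset.mem_univ_val i0)
  rw [Multiset.mem_map] at hmem
  obtain ⟨i', _, hi'⟩ := hmem
  have hstruct := a3_struct (F := F) e he he6 d hde hfrob i0 hi0
  rcases hstruct i' with h1 | ⟨a, ha, h1⟩
  · -- `θ ^ k = 1`: then `x ^ k = 1`, impossible
    exfalso
    rw [hi'] at h1
    have hall : ∀ i, d i ^ k = 1 := by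
      intro i
      rcases hstruct i with h2 | ⟨b, _, h2⟩
      · rw [h2, one_pow]
      · rw [h2, ← pow_mul, mul_comm, pow_mul, h1, one_pow]
    have h3 : ((algebraMap F (AlgebraicClosure F)).mapMatrix (x : Matrix (Fin 7) (Fin 7) F)) ^ k = 1 := by
      apply a3_eq_of_diag_eq _ _ P hP (fun i => d i ^ k) (a3_pow_diag _ P d hAP k)
      rw [one_mul]
      have : (fun i => d i ^ k) = fun _ => (1 : AlgebraicClosure F) := funext hall
      rw [this, Matrix.diagonal_one, mul_one]
    have h4 : x ^ k = 1 := by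
      apply hinj
      rw [hpowmap, h3, Units.val_one, map_one]
    rw [h4] at hg
    apply hx1
    have : x = g⁻¹ * (g * x * g⁻¹) * g := by group
    rw [this, hg]
    group
  · refine ⟨a, ha, ?_⟩
    rw [hi'] at h1
    have hall : ∀ i, d i ^ k = d i ^ Fintype.card F ^ a := by
      intro i
      rcases hstruct i with h2 | ⟨b, _, h2⟩
      · rw [h2, one_pow, one_pow]
      · rw [h2, ← pow_mul, mul_comm, pow_mul, h1, ← pow_mul, ← pow_mul, mul_comm]
    apply hinj
    rw [hpowmap, hpowmap]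
    apply a3_eq_of_diag_eq _ _ P hP (fun i => d i ^ k) (a3_pow_diag _ P d hAP k)
    have : (fun i => d i ^ k) = fun i => d i ^ Fintype.card F ^ a := funext hall
    rw [this]
    exact a3_pow_diag _ P d hAP _

end Cfsg.Agent.Lib.H5.Ree
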