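/-
Ree tori farm-out (architect helper12), REE-G2 `exists_split_torus`:
the split torus of order `(q-1)/2` of the abstract Ree system and its normaliser.
-/
import Cfsg.Agent.Lib.H12.ReeU5
import Cfsg.Agent.Lib.H29.ReeD2
import Cfsg.Agent.Lib.H22.ReeG1

set_option autoImplicit false
set_option linter.unusedSectionVars false

namespace Cfsg.Agent.Lib.H5.Ree

open Cfsg.Agent.Lib.H12.ReeC Cfsg.Agent.Lib.H12.ReeC.RSys Cfsg.Agent.Lib.H12.ReeT

/-- the normaliser of a subgroup normalises its centraliser -/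
theorem g2_normalizer_le_normalizer_centralizer {Γ : Type*} [Group Γ] (A : Subgroup Γ) :
    Subgroup.normalizer (A : Set Γ) ≤
      Subgroup.normalizer ((Subgroup.centralizer (A : Set Γ) : Subgroup Γ) : Set Γ) := by
  have key : ∀ g : Γ, g ∈ Subgroup.normalizer (A : Set Γ) →
      ∀ c ∈ Subgroup.centralizer (A : Set Γ), g * c * g⁻¹ ∈ Subgroup.centralizer (A : Set Γ) := by
    intro g hg c hc
    rw [Subgroup.mem_centralizer_iff]
    intro a ha
    have hg' : g⁻¹ ∈ Subgroup.normalizer (A : Set Γ) := Subgroup.inv_mem _ hg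
    have h1 : g⁻¹ * a * g⁻¹⁻¹ ∈ A := (Subgroup.mem_normalizer_iff.mp hg' a).mp ha
    rw [inv_inv] at h1
    have h2 := (Subgroup.mem_centralizer_iff.mp hc) _ h1
    calc a * (g * c * g⁻¹) = g * ((g⁻¹ * a * g) * c) * g⁻¹ := by group
      _ = g * (c * (g⁻¹ * a * g)) * g⁻¹ := by rw [h2]
      _ = g * c * g⁻¹ * a := by group
  intro g hg
  rw [Subgroup.mem_normalizer_iff]
  intro c
  constructor
  · intro hc
    exact key g hg c hc
  · intro hc
    have := key g⁻¹ (Subgroup.inv_mem _ hg) _ hc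
    have e : g⁻¹ * (g * c * g⁻¹) * g⁻¹⁻¹ = c := by group
    rw [e] at this
    exact this

variable {G K : Type*} [Group G] [Field K] {R : RSys G K} [Fintype K] [Finite G]

theorem exists_split_torus {q : ℕ} (D : R.ReeData q) (hF : R.TorusFacts) (hq27 : 27 ≤ q) :
    ∃ A : Subgroup G, IsCyclic A ∧ Nat.card A = (q - 1) / 2 ∧
      Nat.card (Subgroup.normalizer (A : Set G)) = 2 * (q - 1) ∧
      ∀ A₀ : Subgroup G, A₀ ≤ A → A₀ ≠ ⊥ →
        Subgroup.normalizer (A₀ : Set G) = Subgroup.normalizer (A : Set G) := by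
  classical
  have hq8 := D.hq8
  have hHcyc : IsCyclic R.Hs := by
    unfold Hs
    exact isCyclic_of_surjective _ R.h.rangeRestrict_surjective
  have hHcard : Nat.card R.Hs = q - 1 := by rw [R.card_Hs, D.hq]
  have hd : (q - 1) / 2 ∣ Nat.card R.Hs := by
    rw [hHcard]
    exact ⟨2, by omega⟩
  obtain ⟨A, hAle, hAcyc, hAc, -⟩ :=
    Cfsg.Agent.Lib.H22.Ree.exists_subgroup_of_dvd R.Hs hHcyc ((q - 1) / 2) hd
  obtain ⟨hCcyc, hCcard, hCeq⟩ :=
    R.split_torus_centralizer hF q D.hq D.hcard (by omega) (by omega) A hAcyc hAc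
  -- `C(A) = Hs`
  have hC : Subgroup.centralizer (A : Set G) = R.Hs := by
    symm
    apply Subgroup.eq_of_le_of_card_ge
    · intro u hu
      rw [Subgroup.mem_centralizer_iff]
      intro a ha
      exact R.Hs_comm a u (hAle ha) hu
    · rw [hCcard, hHcard]
  -- normalisers
  have hN : ∀ A₀ : Subgroup G, A₀ ≤ A → A₀ ≠ ⊥ →
      Subgroup.normalizer (A₀ : Set G) = Subgroup.normalizer (R.Hs : Set G) := by
    intro A₀ h₀ hne
    apply le_antisymm
    · have h1 := g2_normalizer_le_normalizer_centralizer A₀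
      rw [hCeq A₀ h₀ hne, hC] at h1
      exact h1
    · exact Cfsg.Agent.Lib.H22.Ree.normalizer_le_of_le_cyclic R.Hs A₀ hHcyc (le_trans h₀ hAle)
  have hAne : A ≠ ⊥ := by
    intro h
    rw [h, Subgroup.card_bot] at hAc
    omega
  have hNA := hN A le_rfl hAne
  refine ⟨A, hAcyc, hAc, ?_, ?_⟩
  · rw [hNA, Cfsg.Agent.Lib.H29.Ree.card_normalizer_Hs R hF (by rw [D.hq]; omega), D.hq]
  · intro A₀ h₀ hne
    rw [hN A₀ h₀ hne, hNA]

end Cfsg.Agent.Lib.H5.Ree
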