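import Cfsg.Agent.Lib.H13.HSDefs2

/-!
# S2535 piece A6 (case C, alternating version): a transitive group whose point stabilizer is
the even part of a full two-point stabilizer
-/

set_option autoImplicit false

namespace Cfsg.Agent.Lib.H5.HS
open Equiv MulAction Cfsg.Agent.Lib.H13.HS
open scoped Pointwise

theorem altSub_normal (α : Type*) [Finite α] : (altSub α).Normal := by
  unfold altSub
  infer_instance

/-- a 3-cycle is even. -/
theorem c3_mem_altSub {α : Type*} [Finite α] [DecidableEq α] {x e f : α} (hxe : x ≠ e)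
    (hef : e ≠ f) : swap x e * swap e f ∈ altSub α := by
  have := Fintype.ofFinite α
  rw [altSub_eq, Equiv.Perm.mem_alternatingGroup, map_mul, Equiv.Perm.sign_swap hxe,
    Equiv.Perm.sign_swap hef]
  simp

theorem c3_apply_of_ne {α : Type*} [DecidableEq α] {x e f z : α} (hx : z ≠ x) (he : z ≠ e)
    (hf : z ≠ f) : (swap x e * swap e f) z = z := by
  rw [Perm.mul_apply, swap_apply_of_ne_of_ne he hf, swap_apply_of_ne_of_ne hx he]

theorem c3_apply_left {α : Type*} [DecidableEq α] {x e f : α} (hxe : x ≠ e) (hxf : x ≠ f) :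
    (swap x e * swap e f) x = e := by
  rw [Perm.mul_apply, swap_apply_of_ne_of_ne hxe hxf, swap_apply_left]

/-- two points outside a small finite set. -/
theorem exists_two_notMem {α : Type*} [Fintype α] [DecidableEq α] (S : Finset α)
    (hS : S.card + 2 ≤ Fintype.card α) : ∃ e f : α, e ∉ S ∧ f ∉ S ∧ e ≠ f := by
  have hcard : 1 < (Finset.univ \ S : Finset α).card := by
    rw [Finset.card_sdiff_of_subset (Finset.subset_univ _), Finset.card_univ]
    omega
  obtain ⟨e, he, f, hf, hef⟩ := Finset.one_lt_card.mp hcard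
  simp only [Finset.mem_sdiff, Finset.mem_univ, true_and] at he hf
  exact ⟨e, f, he, hf, hef⟩

/-- the "partner" of a point: transport of the hypothesis along the transitive action. -/
theorem caseC_alt_partner {α : Type*} [Finite α] {M : Subgroup (Perm α)}
    (htr : IsPretransitive M α) (a b : α) (hab : a ≠ b)
    (hst : ∀ g : Perm α, g a = a → (g ∈ M ↔ g b = b ∧ g ∈ altSub α)) (x : α) :
    ∃ x' : α, x' ≠ x ∧ ∀ g : Perm α, g x = x → (g ∈ M ↔ g x' = x' ∧ g ∈ altSub α) := by
  obtain ⟨h, hh⟩ := htr.exists_smul_eq a x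
  have hh' : (h : Perm α) a = x := hh
  refine ⟨(h : Perm α) b, ?_, ?_⟩
  · intro e
    apply hab
    apply (h : Perm α).injective
    rw [hh', e]
  · intro g hg
    have h1 : ((h : Perm α)⁻¹ * g * (h : Perm α)) a = a := by
      simp only [Perm.mul_apply, hh', hg]
      rw [← hh']; simp
    have h2 := hst _ h1
    have h3 : ((h : Perm α)⁻¹ * g * (h : Perm α)) ∈ M ↔ g ∈ M := by
      constructor
      · intro hm
        have := M.mul_mem (M.mul_mem h.2 hm) (M.inv_mem h.2)
        simpa [mul_assoc] using this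
      · intro hm
        exact M.mul_mem (M.mul_mem (M.inv_mem h.2) hm) h.2
    have h4 : ((h : Perm α)⁻¹ * g * (h : Perm α)) ∈ altSub α ↔ g ∈ altSub α := by
      have hn := altSub_normal α
      constructor
      · intro hm
        have := hn.conj_mem _ hm (h : Perm α)
        simpa [mul_assoc] using this
      · intro hm
        have := hn.conj_mem _ hm (h : Perm α)⁻¹
        simpa [mul_assoc] using this
    rw [← h3, h2, h4]
    simp only [Perm.mul_apply]
    constructor
    · rintro ⟨e, he⟩
      refine ⟨?_, he⟩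
      have := congrArg (h : Perm α) e
      simpa using this
    · rintro ⟨e, he⟩
      refine ⟨?_, he⟩
      rw [e]; simp

theorem caseC_alt {α : Type*} [Finite α] (h6 : 6 ≤ Nat.card α) {M : Subgroup (Perm α)}
    (htr : IsPretransitive M α) (a b : α) (hab : a ≠ b)
    (hst : ∀ g : Perm α, g a = a → (g ∈ M ↔ g b = b ∧ g ∈ altSub α)) : False := by
  classical
  have := Fintype.ofFinite α
  rw [Nat.card_eq_fintype_card] at h6
  have hab2 : ({a, b} : Finset α).card = 2 := Finset.card_pair hab
  -- a point outside `{a, b}`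
  obtain ⟨y, -, hy, -, -⟩ := exists_two_notMem ({a, b} : Finset α) (by omega)
  simp only [Finset.mem_insert, Finset.mem_singleton, not_or] at hy
  obtain ⟨hya, hyb⟩ := hy
  have h3card : ({a, b, y} : Finset α).card ≤ 3 := Finset.card_le_three
  -- the partner of `y`
  obtain ⟨y', hy'y, hy'⟩ := caseC_alt_partner htr a b hab hst y
  -- `y' ∈ {a, b}`
  have hy'ab : y' = a ∨ y' = b := by
    by_contra hcon
    rw [not_or] at hcon
    obtain ⟨hy'a, hy'b⟩ := hcon
    have h4card : ({a, b, y, y'} : Finset α).card ≤ 4 := Finset.card_le_four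
    obtain ⟨e, f, he, hf, hef⟩ := exists_two_notMem ({a, b, y, y'} : Finset α) (by omega)
    simp only [Finset.mem_insert, Finset.mem_singleton, not_or] at he hf
    obtain ⟨hea, heb, hey, hey'⟩ := he
    obtain ⟨hfa, hfb, hfy, hfy'⟩ := hf
    have hg : swap y' e * swap e f ∈ M :=
      (hst _ (c3_apply_of_ne (Ne.symm hy'a) (Ne.symm hea) (Ne.symm hfa))).2
        ⟨c3_apply_of_ne (Ne.symm hy'b) (Ne.symm heb) (Ne.symm hfb),
          c3_mem_altSub (Ne.symm hey') hef⟩
    have := ((hy' _ (c3_apply_of_ne (Ne.symm hy'y) (Ne.symm hey) (Ne.symm hfy))).1 hg).1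
    rw [c3_apply_left (Ne.symm hey') (Ne.symm hfy')] at this
    exact hey' this
  -- two points outside `{a, b, y}`
  obtain ⟨u, v, hu, hv, huv⟩ := exists_two_notMem ({a, b, y} : Finset α) (by omega)
  simp only [Finset.mem_insert, Finset.mem_singleton, not_or] at hu hv
  obtain ⟨hua, hub, huy⟩ := hu
  obtain ⟨hva, hvb, hvy⟩ := hv
  rcases hy'ab with hya' | hyb'
  · -- partner of `y` is `a`
    rw [hya'] at hy'
    have hg : swap b u * swap u v ∈ M :=
      (hy' _ (c3_apply_of_ne hyb (Ne.symm huy) (Ne.symm hvy))).2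
        ⟨c3_apply_of_ne hab (Ne.symm hua) (Ne.symm hva), c3_mem_altSub (Ne.symm hub) huv⟩
    have := ((hst _ (c3_apply_of_ne hab (Ne.symm hua) (Ne.symm hva))).1 hg).1
    rw [c3_apply_left (Ne.symm hub) (Ne.symm hvb)] at this
    exact hub this
  · -- partner of `y` is `b`: look at the partner `p` of `b`
    rw [hyb'] at hy'
    obtain ⟨p, hpb, hp⟩ := caseC_alt_partner htr a b hab hst b
    have hg : swap a u * swap u v ∈ M :=
      (hy' _ (c3_apply_of_ne hya (Ne.symm huy) (Ne.symm hvy))).2
        ⟨c3_apply_of_ne (Ne.symm hab) (Ne.symm hub) (Ne.symm hvb),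
          c3_mem_altSub (Ne.symm hua) huv⟩
    have hpa : p ≠ a := by
      intro hpa
      have := ((hp _ (c3_apply_of_ne (Ne.symm hab) (Ne.symm hub) (Ne.symm hvb))).1 hg).1
      rw [hpa, c3_apply_left (Ne.symm hua) (Ne.symm hva)] at this
      exact hua this
    have h3card' : ({a, b, p} : Finset α).card ≤ 3 := Finset.card_le_three
    obtain ⟨e, f, he, hf, hef⟩ := exists_two_notMem ({a, b, p} : Finset α) (by omega)
    simp only [Finset.mem_insert, Finset.mem_singleton, not_or] at he hf
    obtain ⟨hea, heb, hep⟩ := he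
    obtain ⟨hfa, hfb, hfp⟩ := hf
    have hg2 : swap p e * swap e f ∈ M :=
      (hst _ (c3_apply_of_ne (Ne.symm hpa) (Ne.symm hea) (Ne.symm hfa))).2
        ⟨c3_apply_of_ne (Ne.symm hpb) (Ne.symm heb) (Ne.symm hfb),
          c3_mem_altSub (Ne.symm hep) hef⟩
    have := ((hp _ (c3_apply_of_ne (Ne.symm hpb) (Ne.symm heb) (Ne.symm hfb))).1 hg2).1
    rw [c3_apply_left (Ne.symm hep) (Ne.symm hfp)] at this
    exact hep this

end Cfsg.Agent.Lib.H5.HS
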