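/-
S5634 farm-out (architect helper14), task B3 `sl_le_of_offElem`:
a subgroup of GL containing (block stabiliser ∩ SL) and an off-block elementary transvection
contains SL.
-/
import Cfsg.Agent.Lib.H14.C2Defs
import Cfsg.Agent.Lib.H2.SLGen

set_option autoImplicit false
set_option linter.unusedSectionVars false

namespace Cfsg.Agent.Lib.H5.C2

open Matrix Cfsg.Agent.Lib.H14.C2
open scoped commutatorElement

variable {ι : Type} [Fintype ι] [DecidableEq ι] {F : Type*} [Field F] [Fintype F]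

/-- congruence for `elemGL` in the indices -/
theorem b3_elemGL_congr {a b a' b' : ι} (hab : a ≠ b) (hab' : a' ≠ b') (ha : a = a') (hb : b = b')
    (c : F) : elemGL hab c = elemGL hab' c := by
  subst ha; subst hb; rfl

theorem b3_elemGL_zero {a b : ι} (hab : a ≠ b) : elemGL hab (0 : F) = 1 := by
  apply Units.ext
  rw [elemGL_val, Units.val_one, Matrix.single_zero, add_zero]

/-- conjugating an elementary transvection by a monomial matrix -/
theorem b3_monGL_conj (π : Equiv.Perm ι) (c : ι → Fˣ) {p q : ι} (h : p ≠ q) (x : F) :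
    monGL π c * elemGL h x * (monGL π c)⁻¹ =
      elemGL (π.injective.ne h) ((c p : F) * x * ((c q : F))⁻¹) := by
  rw [mul_inv_eq_iff_eq_mul]
  apply Units.ext
  rw [Units.val_mul, Units.val_mul, elemGL_val, elemGL_val, monGL_val, mul_add, add_mul, mul_one,
    one_mul]
  congr 1
  ext i j
  rw [Matrix.mul_apply, Matrix.mul_apply]
  simp only [Matrix.single_apply, monMat_apply]
  rw [Finset.sum_eq_single p, Finset.sum_eq_single (π q)]
  · by_cases hj : q = j
    · subst hj
      by_cases hi : π p = i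
      · subst hi
        simp
      · have hi' : ¬ i = π p := fun h' => hi h'.symm
        simp [hi, hi']
    · have hj' : ¬ π q = π j := fun h' => hj (π.injective h')
      simp [hj, hj']
  · intro b _ hb
    have : ¬ (π p = i ∧ π q = b) := fun h' => hb h'.2.symm
    simp [this]
  · intro h'; exact absurd (Finset.mem_univ _) h'
  · intro b _ hb
    have : ¬ (p = b ∧ q = j) := fun h' => hb h'.1.symm
    simp [this]
  · intro h'; exact absurd (Finset.mem_univ _) h'

/-- a monomial matrix whose permutation is compatible with a permutation of the blocks maps the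
blocks to blocks -/
theorem b3_monGL_mulVec_mem {t m : ℕ} (π : Equiv.Perm (Fin t × Fin m)) (σ : Equiv.Perm (Fin t))
    (hπ : ∀ p, (π p).1 = σ p.1) (c : Fin t × Fin m → Fˣ) (i : Fin t) (v : Fin t × Fin m → F)
    (hv : v ∈ stdD (F := F) t m i) :
    ((monGL π c : GL (Fin t × Fin m) F) : Matrix _ _ F) *ᵥ v ∈ stdD (F := F) t m (σ i) := by
  rw [mem_stdD] at hv ⊢
  intro p hp
  rw [monGL_mulVec]
  have : (π.symm p).1 ≠ i := by
    intro h
    apply hp
    have := hπ (π.symm p)
    rw [Equiv.apply_symm_apply] at this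
    rw [this, h]
  rw [hv _ this, mul_zero]

theorem b3_monGL_mem_blockStab {t m : ℕ} (π : Equiv.Perm (Fin t × Fin m)) (σ : Equiv.Perm (Fin t))
    (hπ : ∀ p, (π p).1 = σ p.1) (c : Fin t × Fin m → Fˣ) :
    monGL π c ∈ blockStab t m F := by
  refine ⟨σ, fun i => ?_⟩
  apply le_antisymm
  · rintro _ ⟨v, hv, rfl⟩
    rw [Matrix.toLin'_apply]
    exact b3_monGL_mulVec_mem π σ hπ c i v hv
  · intro w hw
    have hπ' : ∀ p, (π⁻¹ p).1 = σ⁻¹ p.1 := by
      intro p
      have := hπ (π⁻¹ p)
      rw [Equiv.Perm.inv_def, Equiv.apply_symm_apply] at this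
      rw [Equiv.Perm.inv_def, Equiv.Perm.inv_def, this, Equiv.symm_apply_apply]
    have h1 := b3_monGL_mulVec_mem π⁻¹ σ⁻¹ hπ' (fun j => (c (π⁻¹ j))⁻¹) (σ i) w hw
    rw [Equiv.Perm.inv_def σ, Equiv.symm_apply_apply, ← monGL_inv] at h1
    refine ⟨_, h1, ?_⟩
    rw [Matrix.toLin'_apply, Matrix.mulVec_mulVec, ← Units.val_mul, mul_inv_cancel, Units.val_one,
      Matrix.one_mulVec]

/-- units with prescribed values at `p`, `p'` and making the determinant of `monGL π c` one -/
theorem b3_exists_units (π : Equiv.Perm ι) {p p' : ι} (h : p ≠ p') (h3 : 3 ≤ Fintype.card ι)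
    (u : Fˣ) :
    ∃ c : ι → Fˣ, c p = u ∧ c p' = 1 ∧ ((Equiv.Perm.sign π : ℤ) : F) * ∏ j, (c j : F) = 1 := by
  obtain ⟨r, hr⟩ : ∃ r, r ∉ ({p, p'} : Finset ι) := by
    by_contra hcon
    push Not at hcon
    have : Fintype.card ι ≤ ({p, p'} : Finset ι).card := by
      rw [← Finset.card_univ]
      exact Finset.card_le_card (fun x _ => hcon x)
    have h2 : ({p, p'} : Finset ι).card ≤ 2 := Finset.card_le_two
    omega
  simp only [Finset.mem_insert, Finset.mem_singleton, not_or] at hr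
  obtain ⟨hrp, hrp'⟩ := hr
  have hε : ((Equiv.Perm.sign π : ℤ) : F) ≠ 0 := by
    rcases Int.units_eq_one_or (Equiv.Perm.sign π) with h' | h' <;> simp [h']
  let s : Fˣ := Units.mk0 ((((Equiv.Perm.sign π : ℤ) : F) * (u : F))⁻¹)
    (inv_ne_zero (mul_ne_zero hε u.ne_zero))
  refine ⟨fun j => if j = p then u else if j = r then s else 1, ?_, ?_, ?_⟩
  · simp
  · simp [h.symm, Ne.symm hrp']
  · have hprod : ∏ j, (((if j = p then u else if j = r then s else 1 : Fˣ)) : F) = (u : F) * (s : F) := by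
      rw [Finset.prod_eq_mul p r (Ne.symm hrp)]
      · simp [hrp]
      · intro j _ hj
        simp [hj.1, hj.2]
      · intro h'; exact absurd (Finset.mem_univ _) h'
      · intro h'; exact absurd (Finset.mem_univ _) h'
    rw [hprod]
    show ((Equiv.Perm.sign π : ℤ) : F) * ((u : F) * (((Equiv.Perm.sign π : ℤ) : F) * (u : F))⁻¹) = 1
    rw [← mul_assoc]
    exact mul_inv_cancel₀ (mul_ne_zero hε u.ne_zero)

/-- the conjugation step: from `x_{p p'}(x) ∈ M` to `x_{πp πp'}(y) ∈ M` -/
theorem b3_conj_step {t m : ℕ} (h4 : 3 ≤ Fintype.card (Fin t × Fin m))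
    (M : Subgroup (GL (Fin t × Fin m) F))
    (hHM : blockStab t m F ⊓ Cfsg.Geo.specialLinear (Fin t × Fin m) F ≤ M)
    {p p' : Fin t × Fin m} (h : p ≠ p') (x : F) (hx : x ≠ 0) (hM : elemGL h x ∈ M)
    (π : Equiv.Perm (Fin t × Fin m)) (σ : Equiv.Perm (Fin t)) (hπ : ∀ p, (π p).1 = σ p.1)
    (y : F) : elemGL (π.injective.ne h) y ∈ M := by
  by_cases hy : y = 0
  · rw [hy, b3_elemGL_zero]; exact M.one_mem
  obtain ⟨c, hcp, hcp', hdet⟩ := b3_exists_units (F := F) π h h4 (Units.mk0 (y / x) (div_ne_zero hy hx))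
  have hg : monGL π c ∈ M := by
    apply hHM
    refine ⟨b3_monGL_mem_blockStab π σ hπ c, ?_⟩
    show monGL π c ∈ Cfsg.Geo.specialLinear (Fin t × Fin m) F
    rw [mem_sl_iff, det_monGL]
    exact hdet
  have h1 : monGL π c * elemGL h x * (monGL π c)⁻¹ ∈ M :=
    M.mul_mem (M.mul_mem hg hM) (M.inv_mem hg)
  rw [b3_monGL_conj, hcp, hcp'] at h1
  have h2 : ((Units.mk0 (y / x) (div_ne_zero hy hx) : Fˣ) : F) * x * (((1 : Fˣ) : F))⁻¹ = y := by
    rw [Units.val_mk0, Units.val_one, inv_one, mul_one, div_mul_cancel₀ y hx]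
  rw [h2] at h1
  exact h1

/-- double transitivity of the symmetric group -/
theorem b3_exists_perm {α : Type*} [DecidableEq α] {a a' b b' : α} (ha : a ≠ a') (hb : b ≠ b') :
    ∃ σ : Equiv.Perm α, σ a = b ∧ σ a' = b' := by
  refine ⟨Equiv.swap (Equiv.swap a b a') b' * Equiv.swap a b, ?_, ?_⟩
  · rw [Equiv.Perm.mul_apply, Equiv.swap_apply_left]
    apply Equiv.swap_apply_of_ne_of_ne
    · intro h
      have : Equiv.swap a b b = Equiv.swap a b (Equiv.swap a b a') := by rw [← h]
      rw [Equiv.swap_apply_right, Equiv.swap_apply_self] at this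
      exact ha this
    · exact hb
  · rw [Equiv.Perm.mul_apply, Equiv.swap_apply_left]

/-- a block-compatible permutation with prescribed values at two points of different blocks -/
theorem b3_exists_blockPerm {t m : ℕ} {p p' q q' : Fin t × Fin m} (hp : p.1 ≠ p'.1)
    (hq : q.1 ≠ q'.1) :
    ∃ (π : Equiv.Perm (Fin t × Fin m)) (σ : Equiv.Perm (Fin t)),
      (∀ x, (π x).1 = σ x.1) ∧ π p = q ∧ π p' = q' := by
  obtain ⟨σ, hσ1, hσ2⟩ := b3_exists_perm hp hq
  refine ⟨Equiv.prodShear σ (fun a => Equiv.swap (if a = p.1 then p.2 else p'.2)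
    (if a = p.1 then q.2 else q'.2)), σ, fun x => rfl, ?_, ?_⟩
  · rw [Equiv.prodShear_apply]
    simp [hσ1]
  · rw [Equiv.prodShear_apply]
    simp [hσ2, Ne.symm hp]

/-- all off-block elementary transvections are in `M` -/
theorem b3_offBlock {t m : ℕ} (h4 : 3 ≤ Fintype.card (Fin t × Fin m))
    (M : Subgroup (GL (Fin t × Fin m) F))
    (hHM : blockStab t m F ⊓ Cfsg.Geo.specialLinear (Fin t × Fin m) F ≤ M)
    {p p' : Fin t × Fin m} (h : p ≠ p') (hp : p.1 ≠ p'.1) (x : F) (hx : x ≠ 0)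
    (hM : elemGL h x ∈ M) {q q' : Fin t × Fin m} (hqq : q ≠ q') (hq : q.1 ≠ q'.1) (y : F) :
    elemGL hqq y ∈ M := by
  obtain ⟨π, σ, hπ, h1, h2⟩ := b3_exists_blockPerm hp hq
  have := b3_conj_step h4 M hHM h x hx hM π σ hπ y
  rw [b3_elemGL_congr _ hqq h1 h2] at this
  exact this

/-- B3. -/
theorem sl_le_of_offElem (t m : ℕ) (hm : 2 ≤ m) (ht : 2 ≤ t)
    (M : Subgroup (GL (Fin t × Fin m) F))
    (hHM : blockStab t m F ⊓ Cfsg.Geo.specialLinear (Fin t × Fin m) F ≤ M)
    (h : ∃ (p p' : Fin t × Fin m) (h : p ≠ p') (c : F), p.1 ≠ p'.1 ∧ c ≠ 0 ∧ elemGL h c ∈ M) :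
    Cfsg.Geo.specialLinear (Fin t × Fin m) F ≤ M := by
  obtain ⟨p, p', hpp, x, hp, hx, hM⟩ := h
  have hcard : Fintype.card (Fin t × Fin m) = t * m := by simp
  have h4 : 3 ≤ Fintype.card (Fin t × Fin m) := by
    rw [hcard]; nlinarith
  have : Nontrivial (Fin t × Fin m) := by
    rw [← Fintype.one_lt_card_iff_nontrivial]; omega
  -- all elementary transvections are in M
  have hall : ∀ (q q' : Fin t × Fin m) (hqq : q ≠ q') (y : F), elemGL hqq y ∈ M := by
    intro q q' hqq y
    by_cases hq : q.1 = q'.1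
    · -- in-block: commutator with a third index in another block
      obtain ⟨b, hb⟩ : ∃ b : Fin t, b ≠ q.1 := by
        by_contra hcon
        push Not at hcon
        have h1 : (⟨0, by omega⟩ : Fin t) = q.1 := hcon _
        have h2 : (⟨1, by omega⟩ : Fin t) = q.1 := hcon _
        have := h1.trans h2.symm
        simp [Fin.ext_iff] at this
      have hqr : q ≠ (b, q.2) := fun h' => hb (congrArg Prod.fst h').symm
      have hrq' : (b, q.2) ≠ q' := fun h' => hb (by rw [hq, ← h'])
      have h1 : elemGL hqr y ∈ M := b3_offBlock h4 M hHM hpp hp x hx hM hqr (Ne.symm hb) y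
      have h2 : elemGL hrq' (1 : F) ∈ M :=
        b3_offBlock h4 M hHM hpp hp x hx hM hrq' (by rw [← hq]; exact hb) 1
      have h3 : elemGL hqq y = ⁅elemGL hqr y, elemGL hrq' (1 : F)⁆ := by
        show SpecialLinearGroup.toGL _ = _
        rw [Cfsg.Agent.Lib.H2.transvection_eq_commutator hqq hqr hrq' y, map_commutatorElement]
        rfl
      rw [h3, commutatorElement_def]
      exact M.mul_mem (M.mul_mem (M.mul_mem h1 h2) (M.inv_mem h1)) (M.inv_mem h2)
    · exact b3_offBlock h4 M hHM hpp hp x hx hM hqq hq y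
  intro g hg
  have hdet : (g : Matrix (Fin t × Fin m) (Fin t × Fin m) F).det = 1 := (mem_sl_iff g).mp hg
  have key : ∀ A : SpecialLinearGroup (Fin t × Fin m) F, SpecialLinearGroup.toGL A ∈ M := by
    intro A
    refine Cfsg.Agent.Lib.H2.SL_transvection_induction
      (fun A => SpecialLinearGroup.toGL A ∈ M) ?_ ?_ A
    · intro i j hij c
      exact hall i j hij c
    · intro A B hA hB
      show SpecialLinearGroup.toGL (A * B) ∈ M
      rw [map_mul]
      exact M.mul_mem hA hB
  have : g = SpecialLinearGroup.toGL ⟨(g : Matrix (Fin t × Fin m) (Fin t × Fin m) F), hdet⟩ := by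
    apply Units.ext; rfl
  rw [this]
  exact key _

end Cfsg.Agent.Lib.H5.C2
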