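/-
S5634 farm-out (architect helper14), task A4 `colWt_ne_two`:
if a subgroup of GL contains the monomial matrices of determinant one and all its column weights are
1, 2 or n, then no column has weight 2.
-/
import Cfsg.Agent.Lib.H14.C2Defs
import Cfsg.Agent.Lib.H5.C2B3

set_option autoImplicit false
set_option linter.unusedSectionVars false

namespace Cfsg.Agent.Lib.H5.C2

open Matrix Cfsg.Agent.Lib.H14.C2

variable {ι : Type} [Fintype ι] [DecidableEq ι] {F : Type*} [Field F] [Fintype F]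

/-! ### facts on `colWt` -/

theorem a4_le_colWt (A : Matrix ι ι F) (l : ι) (S : Finset ι) (h : ∀ c ∈ S, A c l ≠ 0) :
    S.card ≤ colWt A l := by
  classical
  unfold colWt
  apply Finset.card_le_card
  intro c hc
  rw [Finset.mem_filter]
  exact ⟨Finset.mem_univ _, h c hc⟩

theorem a4_colWt_lt (A : Matrix ι ι F) (l c : ι) (h : A c l = 0) :
    colWt A l < Fintype.card ι := by
  classical
  unfold colWt
  rw [← Finset.card_univ]
  apply Finset.card_lt_card
  rw [Finset.ssubset_iff_of_subset (Finset.filter_subset _ _)]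
  refine ⟨c, Finset.mem_univ _, ?_⟩
  rw [Finset.mem_filter]
  exact fun h' => h'.2 h

theorem a4_colWt_full (A : Matrix ι ι F) (l : ι) (h : colWt A l = Fintype.card ι) (c : ι) :
    A c l ≠ 0 := by
  intro hc
  have := a4_colWt_lt A l c hc
  omega

theorem a4_colWt_two (A : Matrix ι ι F) (l : ι) (h : colWt A l = 2) :
    ∃ a b, a ≠ b ∧ A a l ≠ 0 ∧ A b l ≠ 0 ∧ ∀ c, c ≠ a → c ≠ b → A c l = 0 := by
  classical
  unfold colWt at h
  rw [Finset.card_eq_two] at h
  obtain ⟨a, b, hab, hS⟩ := h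
  have hmem : ∀ c, A c l ≠ 0 ↔ c = a ∨ c = b := by
    intro c
    have : c ∈ Finset.univ.filter (fun k => A k l ≠ 0) ↔ c ∈ ({a, b} : Finset ι) := by rw [hS]
    simpa using this
  refine ⟨a, b, hab, (hmem a).mpr (Or.inl rfl), (hmem b).mpr (Or.inr rfl), fun c hca hcb => ?_⟩
  by_contra hc
  rcases (hmem c).mp hc with h1 | h1
  · exact hca h1
  · exact hcb h1

theorem a4_card_three {a b c : ι} (hab : a ≠ b) (hac : a ≠ c) (hbc : b ≠ c) :
    ({a, b, c} : Finset ι).card = 3 := by
  rw [Finset.card_insert_of_notMem, Finset.card_pair hbc]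
  simp [hab, hac]

theorem a4_card_compl_pair (a b : ι) :
    Fintype.card ι - 2 ≤ ((Finset.univ : Finset ι) \ {a, b}).card := by
  have h1 := Finset.le_card_sdiff ({a, b} : Finset ι) (Finset.univ : Finset ι)
  have h2 : ({a, b} : Finset ι).card ≤ 2 := Finset.card_le_two
  rw [Finset.card_univ] at h1
  omega

theorem a4_exists_ne_ne {α : Type*} [Fintype α] [DecidableEq α] (h : 3 ≤ Fintype.card α) (a b : α) :
    ∃ c, c ≠ a ∧ c ≠ b := by
  by_contra hcon
  push Not at hcon
  have : Fintype.card α ≤ ({a, b} : Finset α).card := by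
    rw [← Finset.card_univ]
    apply Finset.card_le_card
    intro x _
    by_cases hx : x = a
    · simp [hx]
    · simp [hcon x hx]
  have h2 : ({a, b} : Finset α).card ≤ 2 := Finset.card_le_two
  omega

theorem a4_exists_y (hq : 3 ≤ Fintype.card F) (β z : F) (hβ : β ≠ 0) :
    ∃ y : F, y ≠ 0 ∧ β + y * z ≠ 0 := by
  classical
  by_cases hz : z = 0
  · exact ⟨1, one_ne_zero, by rw [hz, mul_zero, add_zero]; exact hβ⟩
  · obtain ⟨y, hy0, hy⟩ := a4_exists_ne_ne hq (0 : F) (-β / z)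
    refine ⟨y, hy0, fun h => hy ?_⟩
    rw [eq_div_iff hz]
    linear_combination h

/-! ### multiplying by monomial matrices -/

theorem a4_mul_monMat (A : Matrix ι ι F) (π : Equiv.Perm ι) (c : ι → F) (i j : ι) :
    (A * monMat π c) i j = A i (π j) * c j := by
  rw [Matrix.mul_apply, Finset.sum_eq_single (π j)]
  · rw [monMat_apply, if_pos rfl]
  · intro x _ hx
    rw [monMat_apply, if_neg hx, mul_zero]
  · intro h; exact absurd (Finset.mem_univ _) h

/-- if column `k` of `g ∈ G` has support `{a, b}` then `col_k + y col_l` is again a column of an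
element of `G` -/
theorem a4_combine (hn : 3 ≤ Fintype.card ι) (G : Subgroup (GL ι F)) (hG : HasMonP G)
    (g : GL ι F) (hg : g ∈ G) {k a b : ι} (hab : a ≠ b)
    (ha : (g : Matrix ι ι F) a k ≠ 0) (hb : (g : Matrix ι ι F) b k ≠ 0)
    (hc : ∀ c, c ≠ a → c ≠ b → (g : Matrix ι ι F) c k = 0) {l : ι} (hkl : k ≠ l) (y : F)
    (hy : y ≠ 0) :
    ∃ g' ∈ G, ∀ i, (g' : Matrix ι ι F) i k = (g : Matrix ι ι F) i k + y * (g : Matrix ι ι F) i l := by
  obtain ⟨π, hπa, hπb⟩ := b3_exists_perm hab hkl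
  obtain ⟨c1, hc1a, hc1b, hdet1⟩ := b3_exists_units (F := F) π hab hn
    (Units.mk0 ((g : Matrix ι ι F) a k)⁻¹ (inv_ne_zero ha))
  obtain ⟨c2, hc2b, hc2a, hdet2⟩ := b3_exists_units (F := F) (1 : Equiv.Perm ι) hab.symm hn
    (Units.mk0 (y / (g : Matrix ι ι F) b k) (div_ne_zero hy hb))
  have h1 : monGL π c1 ∈ G := monGL_mem_of_hasMonP hG π c1 hdet1
  have h2 : monGL (1 : Equiv.Perm ι) c2 ∈ G := monGL_mem_of_hasMonP hG 1 c2 hdet2
  refine ⟨g * monGL π c1 * monGL 1 c2 * g, G.mul_mem (G.mul_mem (G.mul_mem hg h1) h2) hg, ?_⟩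
  intro i
  rw [Units.val_mul, Matrix.mul_apply, Finset.sum_eq_add a b hab]
  · rw [Units.val_mul, Units.val_mul, monGL_val, monGL_val, a4_mul_monMat, a4_mul_monMat,
      a4_mul_monMat, a4_mul_monMat, Equiv.Perm.one_apply, Equiv.Perm.one_apply, hπa, hπb, hc1a, hc1b,
      hc2a, hc2b, Units.val_mk0, Units.val_mk0, Units.val_one]
    field_simp
  · intro c _ hc'
    rw [hc c hc'.1 hc'.2, mul_zero]
  · intro h; exact absurd (Finset.mem_univ _) h
  · intro h; exact absurd (Finset.mem_univ _) h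

/-- Case A: column `l` vanishes at `a` but not at some `c ∉ {a, b}`. -/
theorem a4_caseA (hq : 3 ≤ Fintype.card F) (hn : 6 ≤ Fintype.card ι) (G : Subgroup (GL ι F))
    (hG : HasMonP G)
    (hW : ∀ g ∈ G, ∀ l, colWt (g : Matrix ι ι F) l = 1 ∨ colWt (g : Matrix ι ι F) l = 2 ∨
      colWt (g : Matrix ι ι F) l = Fintype.card ι)
    (g : GL ι F) (hg : g ∈ G) {k a b : ι} (hab : a ≠ b)
    (ha : (g : Matrix ι ι F) a k ≠ 0) (hb : (g : Matrix ι ι F) b k ≠ 0)
    (hc : ∀ c, c ≠ a → c ≠ b → (g : Matrix ι ι F) c k = 0) {l : ι} (hkl : k ≠ l)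
    (hla : (g : Matrix ι ι F) a l = 0) {c : ι} (hca : c ≠ a) (hcb : c ≠ b)
    (hlc : (g : Matrix ι ι F) c l ≠ 0) : False := by
  classical
  obtain ⟨y, hy0, hy⟩ := a4_exists_y hq ((g : Matrix ι ι F) b k) ((g : Matrix ι ι F) b l) hb
  obtain ⟨g', hg', hv⟩ := a4_combine (by omega) G hG g hg hab ha hb hc hkl y hy0
  -- three non-zero entries
  have h3 : 3 ≤ colWt (g' : Matrix ι ι F) k := by
    rw [← a4_card_three hab (Ne.symm hca) (Ne.symm hcb)]
    apply a4_le_colWt
    intro x hx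
    simp only [Finset.mem_insert, Finset.mem_singleton] at hx
    rcases hx with rfl | rfl | rfl
    · rw [hv, hla, mul_zero, add_zero]; exact ha
    · rw [hv]; exact hy
    · rw [hv, hc _ hca hcb, zero_add]; exact mul_ne_zero hy0 hlc
  -- column l has weight at most two
  have hl2 : colWt (g : Matrix ι ι F) l ≤ 2 := by
    have := a4_colWt_lt (g : Matrix ι ι F) l a hla
    rcases hW g hg l with h | h | h <;> omega
  -- a zero entry of column l outside {a, b}
  obtain ⟨d, hda, hdb, hd⟩ : ∃ d, d ≠ a ∧ d ≠ b ∧ (g : Matrix ι ι F) d l = 0 := by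
    by_contra hcon
    push Not at hcon
    have h1 : ((Finset.univ : Finset ι) \ {a, b}).card ≤ colWt (g : Matrix ι ι F) l := by
      apply a4_le_colWt
      intro x hx
      simp only [Finset.mem_sdiff, Finset.mem_univ, Finset.mem_insert, Finset.mem_singleton,
        true_and, not_or] at hx
      exact hcon x hx.1 hx.2
    have h2 := a4_card_compl_pair a b
    omega
  have hlt : colWt (g' : Matrix ι ι F) k < Fintype.card ι := by
    apply a4_colWt_lt _ _ d
    rw [hv, hc d hda hdb, hd, mul_zero, add_zero]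
  rcases hW g' hg' k with h | h | h <;> omega

/-- Case B: column `l` is full. -/
theorem a4_caseB (hn : 6 ≤ Fintype.card ι) (G : Subgroup (GL ι F))
    (hG : HasMonP G)
    (hW : ∀ g ∈ G, ∀ l, colWt (g : Matrix ι ι F) l = 1 ∨ colWt (g : Matrix ι ι F) l = 2 ∨
      colWt (g : Matrix ι ι F) l = Fintype.card ι)
    (g : GL ι F) (hg : g ∈ G) {k a b : ι} (hab : a ≠ b)
    (ha : (g : Matrix ι ι F) a k ≠ 0) (hb : (g : Matrix ι ι F) b k ≠ 0)
    (hc : ∀ c, c ≠ a → c ≠ b → (g : Matrix ι ι F) c k = 0) {l : ι} (hkl : k ≠ l)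
    (hfull : ∀ c, (g : Matrix ι ι F) c l ≠ 0) : False := by
  classical
  have hy0 : -(g : Matrix ι ι F) a k / (g : Matrix ι ι F) a l ≠ 0 :=
    div_ne_zero (neg_ne_zero.mpr ha) (hfull a)
  obtain ⟨g', hg', hv⟩ := a4_combine (by omega) G hG g hg hab ha hb hc hkl _ hy0
  have hlt : colWt (g' : Matrix ι ι F) k < Fintype.card ι := by
    apply a4_colWt_lt _ _ a
    rw [hv, div_mul_cancel₀ _ (hfull a), add_neg_cancel]
  have h1 : ((Finset.univ : Finset ι) \ {a, b}).card ≤ colWt (g' : Matrix ι ι F) k := by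
    apply a4_le_colWt
    intro x hx
    simp only [Finset.mem_sdiff, Finset.mem_univ, Finset.mem_insert, Finset.mem_singleton,
      true_and, not_or] at hx
    rw [hv, hc x hx.1 hx.2, zero_add]
    exact mul_ne_zero hy0 (hfull x)
  have h2 := a4_card_compl_pair a b
  rcases hW g' hg' k with h | h | h <;> omega

/-- no entry of another column outside `{a, b}` -/
theorem a4_no_outside (hq : 3 ≤ Fintype.card F) (hn : 6 ≤ Fintype.card ι) (G : Subgroup (GL ι F))
    (hG : HasMonP G)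
    (hW : ∀ g ∈ G, ∀ l, colWt (g : Matrix ι ι F) l = 1 ∨ colWt (g : Matrix ι ι F) l = 2 ∨
      colWt (g : Matrix ι ι F) l = Fintype.card ι)
    (g : GL ι F) (hg : g ∈ G) {k a b : ι} (hab : a ≠ b)
    (ha : (g : Matrix ι ι F) a k ≠ 0) (hb : (g : Matrix ι ι F) b k ≠ 0)
    (hc : ∀ c, c ≠ a → c ≠ b → (g : Matrix ι ι F) c k = 0) {l : ι} (hkl : k ≠ l)
    {c : ι} (hca : c ≠ a) (hcb : c ≠ b) : (g : Matrix ι ι F) c l = 0 := by
  by_contra hlc
  by_cases hla : (g : Matrix ι ι F) a l = 0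
  · exact a4_caseA hq hn G hG hW g hg hab ha hb hc hkl hla hca hcb hlc
  by_cases hlb : (g : Matrix ι ι F) b l = 0
  · exact a4_caseA hq hn G hG hW g hg hab.symm hb ha (fun x h1 h2 => hc x h2 h1) hkl hlb hcb hca hlc
  -- three non-zero entries: the column is full
  have h3 : 3 ≤ colWt (g : Matrix ι ι F) l := by
    rw [← a4_card_three hab (Ne.symm hca) (Ne.symm hcb)]
    apply a4_le_colWt
    intro x hx
    simp only [Finset.mem_insert, Finset.mem_singleton] at hx
    rcases hx with rfl | rfl | rfl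
    · exact hla
    · exact hlb
    · exact hlc
  have hfull : colWt (g : Matrix ι ι F) l = Fintype.card ι := by
    rcases hW g hg l with h | h | h
    · omega
    · omega
    · exact h
  exact a4_caseB hn G hG hW g hg hab ha hb hc hkl (a4_colWt_full _ l hfull)

/-- A4 (no column of weight 2). -/
theorem colWt_ne_two (hq : 3 ≤ Fintype.card F) (hn : 6 ≤ Fintype.card ι) (G : Subgroup (GL ι F))
    (hG : HasMonP G)
    (hW : ∀ g ∈ G, ∀ l, colWt (g : Matrix ι ι F) l = 1 ∨ colWt (g : Matrix ι ι F) l = 2 ∨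
      colWt (g : Matrix ι ι F) l = Fintype.card ι) :
    ∀ g ∈ G, ∀ l, colWt (g : Matrix ι ι F) l ≠ 2 := by
  intro g hg k h2
  obtain ⟨a, b, hab, ha, hb, hc⟩ := a4_colWt_two _ k h2
  obtain ⟨c, hca, hcb⟩ := a4_exists_ne_ne (show 3 ≤ Fintype.card ι by omega) a b
  have hdet : (g : Matrix ι ι F).det = 0 := by
    apply Matrix.det_eq_zero_of_row_eq_zero c
    intro l
    by_cases hkl : k = l
    · rw [← hkl]; exact hc c hca hcb
    · exact a4_no_outside hq hn G hG hW g hg hab ha hb hc hkl hca hcb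
  have : IsUnit (g : Matrix ι ι F).det := by
    rw [← Matrix.isUnit_iff_isUnit_det]; exact g.isUnit
  rw [hdet] at this
  exact not_isUnit_zero this

end Cfsg.Agent.Lib.H5.C2
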