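import Mathlib
import Cfsg.Prelude.Def_Blocks
import Cfsg.Prelude.Def_Characters
import Cfsg.Prelude.Def_Local
import Cfsg.Prelude.Def_Transfer
import Cfsg.Agent.Lib.H1.PCore

/-!
# S4751 piece EAB (architect helper23)

If all nontrivial normal `p`-subgroups of `G` have the same order then `O_p(G)` is elementary
abelian.
-/

set_option autoImplicit false

namespace Cfsg.Agent.Lib.H5.RU

open Cfsg

/-- EAB. -/
theorem isElementaryAbelian_pCore {G : Type*} [Group G] [Finite G] (p : ℕ) [Fact p.Prime]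
    (hP : pCore p G ≠ ⊥)
    (hcard : ∀ N : Subgroup G, N.Normal → IsPGroup p N → N ≠ ⊥ →
      Nat.card N = Nat.card (pCore p G)) :
    IsElementaryAbelian p (pCore p G) := by
  have hp : p.Prime := Fact.out
  obtain ⟨P, hPdef⟩ : ∃ P : Subgroup G, P = pCore p G := ⟨_, rfl⟩
  rw [← hPdef] at hP hcard ⊢
  haveI hPn : P.Normal := by rw [hPdef]; exact Cfsg.Agent.Lib.H1.pCore_normal p G
  have hPp : IsPGroup p P := by rw [hPdef]; exact Cfsg.Agent.Lib.H1.pCore_isPGroup p G
  haveI : Nontrivial ↥P := (Subgroup.nontrivial_iff_ne_bot P).mpr hP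
  -- step 1: `P` is abelian
  have hZ : P ⊓ Subgroup.centralizer (P : Set G) = P := by
    have hZn : (P ⊓ Subgroup.centralizer (P : Set G)).Normal := inferInstance
    have hZp : IsPGroup p ↥(P ⊓ Subgroup.centralizer (P : Set G)) := hPp.to_le inf_le_left
    have hZ1 : P ⊓ Subgroup.centralizer (P : Set G) ≠ ⊥ := by
      haveI := hPp.center_nontrivial
      obtain ⟨z, hz1⟩ := exists_ne (1 : ↥(Subgroup.center ↥P))
      intro hbot
      have hmem : ((z : ↥P) : G) ∈ P ⊓ Subgroup.centralizer (P : Set G) := by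
        refine Subgroup.mem_inf.mpr ⟨(z : ↥P).2, ?_⟩
        rw [Subgroup.mem_centralizer_iff]
        intro x hx
        have := (Subgroup.mem_center_iff.mp z.2) ⟨x, hx⟩
        exact congrArg Subtype.val this
      rw [hbot, Subgroup.mem_bot] at hmem
      apply hz1
      apply Subtype.ext
      apply Subtype.ext
      exact hmem
    have hc := hcard _ hZn hZp hZ1
    exact Subgroup.eq_of_le_of_card_ge inf_le_left hc.ge
  have hcomm : ∀ x ∈ P, ∀ y ∈ P, x * y = y * x := by
    intro x hx y hy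
    have h1 : y ∈ Subgroup.centralizer (P : Set G) := by
      have : y ∈ P ⊓ Subgroup.centralizer (P : Set G) := by rw [hZ]; exact hy
      exact this.2
    exact (Subgroup.mem_centralizer_iff.mp h1) x hx
  -- step 2: exponent `p`
  let Ω : Subgroup G :=
    { carrier := {x | x ∈ P ∧ x ^ p = 1}
      one_mem' := ⟨P.one_mem, one_pow p⟩
      mul_mem' := by
        rintro x y ⟨hx, hx1⟩ ⟨hy, hy1⟩
        refine ⟨P.mul_mem hx hy, ?_⟩
        have hc : Commute x y := hcomm x hx y hy
        rw [hc.mul_pow, hx1, hy1, one_mul]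
      inv_mem' := by
        rintro x ⟨hx, hx1⟩
        exact ⟨P.inv_mem hx, by rw [inv_pow, hx1, inv_one]⟩ }
  have hΩmem : ∀ x : G, x ∈ Ω ↔ x ∈ P ∧ x ^ p = 1 := fun x => Iff.rfl
  have hΩle : Ω ≤ P := fun x hx => ((hΩmem x).mp hx).1
  have hΩn : Ω.Normal := by
    constructor
    intro x hx g
    obtain ⟨hxP, hx1⟩ := (hΩmem x).mp hx
    refine (hΩmem _).mpr ⟨hPn.conj_mem x hxP g, ?_⟩
    rw [conj_pow, hx1, mul_one, mul_inv_cancel]
  have hΩp : IsPGroup p ↥Ω := hPp.to_le hΩle
  have hΩ1 : Ω ≠ ⊥ := by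
    have hdvd : p ∣ Nat.card ↥P := by
      obtain ⟨n, hn⟩ := IsPGroup.iff_card.mp hPp
      rw [hn]
      apply dvd_pow_self
      rintro rfl
      rw [pow_zero] at hn
      exact hP (Subgroup.card_eq_one.mp hn)
    obtain ⟨z, hz⟩ := exists_prime_orderOf_dvd_card' p hdvd
    intro hbot
    have hmem : (z : G) ∈ Ω := by
      refine (hΩmem _).mpr ⟨z.2, ?_⟩
      have : z ^ p = 1 := by rw [← hz]; exact pow_orderOf_eq_one z
      have := congrArg Subtype.val this
      simpa using this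
    rw [hbot, Subgroup.mem_bot] at hmem
    have hz1 : z = 1 := Subtype.ext hmem
    rw [hz1, orderOf_one] at hz
    exact hp.one_lt.ne hz
  have hΩeq : Ω = P := Subgroup.eq_of_le_of_card_ge hΩle (hcard Ω hΩn hΩp hΩ1).ge
  refine ⟨⟨⟨fun a b => Subtype.ext (hcomm a a.2 b b.2)⟩⟩, ?_⟩
  intro a ha
  have : a ∈ Ω := by rw [hΩeq]; exact ha
  exact ((hΩmem a).mp this).2

end Cfsg.Agent.Lib.H5.RU
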