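import Mathlib
import Cfsg.Agent.Lib.H14.SuzM.Base

set_option autoImplicit false

/-!
# S2048 piece ET (helper14 architect): a perfect subgroup with multiplier dividing `m` that lifts in
extensions with kernel dividing `n` gives multiplier dividing `m * n`.
-/

namespace Cfsg.Agent.Lib.H5.SuzM

open Cfsg.Agent.Lib.H14.SuzM
open scoped commutatorElement

universe u

/-- **ET**. -/
theorem card_ker_dvd_of_lift {G : Type u} [Group G] (K : Subgroup G) (m n : ℕ)
    (hperf : ⁅K, K⁆ = K)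
    (hK : ∀ (L : Type u) [Group L] [Finite L] (τ : L →* ↥K), Cfsg.IsStemExtension τ →
      Nat.card τ.ker ∣ m)
    (hcore : ∀ (E : Type u) [Group E] [Finite E] (τ : E →* G), Cfsg.IsStemExtension τ →
      ∀ K' : Subgroup E, K' ⊓ τ.ker = ⊥ → K'.map τ = K → Nat.card τ.ker ∣ n)
    (Γ : Type u) [Group Γ] [Finite Γ] (σ : Γ →* G) (hσ : Cfsg.IsStemExtension σ) :
    Nat.card σ.ker ∣ m * n := by
  classical
  obtain ⟨hs, hc, hd⟩ := hσ
  have hGfin : Finite G := Finite.of_surjective σ hs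
  obtain ⟨Lσ, hLσ⟩ : ∃ Lσ : Subgroup Γ, Lσ = SL.L σ K := ⟨_, rfl⟩
  obtain ⟨N, hN⟩ : ∃ N : Subgroup Γ, N = σ.ker ⊓ Lσ := ⟨_, rfl⟩
  have hNker : N ≤ σ.ker := hN ▸ inf_le_left
  have hNn : N.Normal := ⟨fun x hx g => by
    have hcen := Subgroup.mem_center_iff.1 (hc (hNker hx))
    have : g * x * g⁻¹ = x := by rw [hcen g, mul_inv_cancel_right]
    rw [this]; exact hx⟩
  obtain ⟨τ, hτdef⟩ : ∃ τ : Γ ⧸ N →* G, τ = QuotientGroup.lift N σ hNker := ⟨_, rfl⟩
  have hτmk : ∀ x : Γ, τ (x : Γ ⧸ N) = σ x := fun x => by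
    rw [hτdef]; exact QuotientGroup.lift_mk N hNker x
  have hτs : Function.Surjective τ := by
    intro g
    obtain ⟨x, hx⟩ := hs g
    exact ⟨(x : Γ ⧸ N), by rw [hτmk, hx]⟩
  have hτker : ∀ q : Γ ⧸ N, q ∈ τ.ker → ∃ x ∈ σ.ker, (x : Γ ⧸ N) = q := by
    intro q hq
    obtain ⟨x, rfl⟩ := QuotientGroup.mk_surjective q
    refine ⟨x, ?_, rfl⟩
    rw [MonoidHom.mem_ker] at hq ⊢
    rw [← hτmk]; exact hq
  have hτstem : Cfsg.IsStemExtension τ := by
    refine ⟨hτs, ?_, ?_⟩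
    · intro q hq
      obtain ⟨x, hx, rfl⟩ := hτker q hq
      rw [Subgroup.mem_center_iff]
      intro r
      obtain ⟨y, rfl⟩ := QuotientGroup.mk_surjective r
      have hcen := Subgroup.mem_center_iff.1 (hc hx) y
      rw [← QuotientGroup.mk_mul, ← QuotientGroup.mk_mul, hcen]
    · intro q hq
      obtain ⟨x, hx, rfl⟩ := hτker q hq
      have h1 : x ∈ commutator Γ := hd hx
      have h2 : (commutator Γ).map (QuotientGroup.mk' N) = commutator (Γ ⧸ N) := by
        rw [commutator_def, Subgroup.map_commutator,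
          Subgroup.map_top_of_surjective _ (QuotientGroup.mk'_surjective N), ← commutator_def]
      rw [← h2]
      exact Subgroup.mem_map_of_mem (QuotientGroup.mk' N) h1
  -- the lifted copy of `K`
  obtain ⟨K', hK'⟩ : ∃ K' : Subgroup (Γ ⧸ N), K' = Lσ.map (QuotientGroup.mk' N) := ⟨_, rfl⟩
  have hb : K' ⊓ τ.ker = ⊥ := by
    rw [Subgroup.eq_bot_iff_forall]
    intro q hq
    rw [hK'] at hq
    obtain ⟨y, hy, rfl⟩ := Subgroup.mem_map.1 hq.1
    have h2 : τ ((y : Γ ⧸ N)) = 1 := MonoidHom.mem_ker.1 hq.2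
    rw [hτmk] at h2
    have hyN : y ∈ N := by
      rw [hN]; exact ⟨MonoidHom.mem_ker.2 h2, hy⟩
    exact (QuotientGroup.eq_one_iff y).2 hyN
  have hmap : K'.map τ = K := by
    rw [hK', Subgroup.map_map]
    have : τ.comp (QuotientGroup.mk' N) = σ := MonoidHom.ext (fun x => hτmk x)
    rw [this, hLσ]
    exact SL.map_L σ K hs hperf
  have hn : Nat.card τ.ker ∣ n := hcore (Γ ⧸ N) τ hτstem K' hb hmap
  -- the kernel of `tau`
  have hm : Nat.card ↥N ∣ m := by
    have h1 := hK ↥(SL.L σ K) (SL.tau σ K) (SL.tau_stem σ K hs hc hperf)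
    have hNmem : ∀ x : Γ, x ∈ N ↔ x ∈ σ.ker ∧ x ∈ SL.L σ K := fun x => by
      rw [hN, hLσ]; exact Subgroup.mem_inf
    have e : ↥(SL.tau σ K).ker ≃ ↥N :=
      { toFun := fun x => ⟨x.1.1, (hNmem _).2 ⟨(SL.mem_ker_tau σ K x.1).1 x.2, x.1.2⟩⟩
        invFun := fun y => ⟨⟨y.1, ((hNmem _).1 y.2).2⟩,
          (SL.mem_ker_tau σ K _).2 ((hNmem _).1 y.2).1⟩
        left_inv := fun x => rfl
        right_inv := fun y => rfl }
    rw [← Nat.card_congr e]
    exact h1
  -- counting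
  have h1 : Nat.card Γ = Nat.card G * Nat.card σ.ker := by
    rw [Subgroup.card_eq_card_quotient_mul_card_subgroup σ.ker,
      Nat.card_congr (QuotientGroup.quotientKerEquivOfSurjective σ hs).toEquiv]
  have h2 : Nat.card (Γ ⧸ N) = Nat.card G * Nat.card τ.ker := by
    rw [Subgroup.card_eq_card_quotient_mul_card_subgroup τ.ker,
      Nat.card_congr (QuotientGroup.quotientKerEquivOfSurjective τ hτs).toEquiv]
  have h3 : Nat.card Γ = Nat.card (Γ ⧸ N) * Nat.card ↥N :=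
    Subgroup.card_eq_card_quotient_mul_card_subgroup N
  have hGpos : 0 < Nat.card G := Nat.card_pos
  have h4 : Nat.card σ.ker = Nat.card τ.ker * Nat.card ↥N := by
    apply Nat.eq_of_mul_eq_mul_left hGpos
    rw [← h1, h3, h2, mul_assoc]
  rw [h4, mul_comm m n]
  exact Nat.mul_dvd_mul hn hm

end Cfsg.Agent.Lib.H5.SuzM
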