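import Cfsg.Agent.Lib.H5.KYCY3Core
import Cfsg.Agent.Lib.H3.KYCY2

set_option autoImplicit false

namespace Cfsg.Agent.Lib.H5.KY

open scoped ComplexConjugate

/-- (CY3) a REAL element `y = ∑_{i<n} γ_i ζ^i` of `𝔪` has `γ_0` even. -/
theorem real_parity (R : Subring ℂ) [IsLocalRing R] (h2 : (2 : R) ∈ IsLocalRing.maximalIdeal R)
    (ζ : ℂ) (hζR : ζ ∈ R) (a : ℕ) (hζ : ζ ^ (2 ^ a) = -1) (γ : ℕ → ℤ)
    (hreal : conj (∑ i ∈ Finset.range (2 ^ a), (γ i : ℂ) * ζ ^ i) =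
      ∑ i ∈ Finset.range (2 ^ a), (γ i : ℂ) * ζ ^ i)
    (y : R) (hy : (y : ℂ) = ∑ i ∈ Finset.range (2 ^ a), (γ i : ℂ) * ζ ^ i)
    (hym : y ∈ IsLocalRing.maximalIdeal R) : (2 : ℤ) ∣ γ 0 :=
  real_parity_core R h2 ζ hζR a hζ
    (fun β h r hr hx => Cfsg.Agent.Lib.H3.KY.coeff_dvd R h2 ζ hζR a hζ β h r hr hx)
    γ hreal y hy hym

end Cfsg.Agent.Lib.H5.KY
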