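import Mathlib

set_option autoImplicit false

namespace Cfsg.Agent.Lib.H5.KY

/-- a unit of `ZMod m` with prescribed residue (coprime to `d`) modulo a divisor `d` of `m`. -/
theorem exists_unit_val_modEq' (m d n : ℕ) [NeZero m] (hdm : d ∣ m) (hcop : Nat.Coprime n d) :
    ∃ t : (ZMod m)ˣ, (t : ZMod m).val ≡ n [MOD d] := by
  obtain ⟨t, ht⟩ := ZMod.unitsMap_surjective hdm (ZMod.unitOfCoprime n hcop)
  refine ⟨t, ?_⟩
  have h3 : ((ZMod.unitsMap hdm t : (ZMod d)ˣ) : ZMod d) = ((n : ℕ) : ZMod d) := by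
    rw [ht, ZMod.coe_unitOfCoprime]
  rw [ZMod.unitsMap_def, Units.coe_map] at h3
  have h4 : ((ZMod.castHom hdm (ZMod d)) (t : ZMod m)) = (((t : ZMod m).val : ℕ) : ZMod d) := by
    simp [ZMod.natCast_val]
  rw [MonoidHom.coe_coe, h4] at h3
  exact (ZMod.natCast_eq_natCast_iff _ _ _).mp h3

/-- if a root of unity `w ≠ 1` of 2-power order satisfies `w ^ m = 1` then `m` is even and every unit
of `ZMod m` has odd `val`. -/
theorem odd_val_units_of_two_pow (m : ℕ) [NeZero m] (w : ℂ) (hwm : w ^ m = 1) (j : ℕ)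
    (hwj : w ^ (2 ^ j) = 1) (h1 : w ≠ 1) : ∀ k : (ZMod m)ˣ, Odd (k : ZMod m).val := by
  have hd_dvd_m : orderOf w ∣ m := orderOf_dvd_of_pow_eq_one hwm
  obtain ⟨i, _, hi⟩ := (Nat.dvd_prime_pow Nat.prime_two).mp (orderOf_dvd_of_pow_eq_one hwj)
  have hi1 : 1 ≤ i := by
    rcases Nat.eq_zero_or_pos i with h | h
    · exfalso
      rw [h, pow_zero, orderOf_eq_one_iff] at hi
      exact h1 hi
    · exact h
  have hm_even : 2 ∣ m := by
    refine dvd_trans ?_ hd_dvd_m
    rw [hi]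
    exact dvd_pow_self 2 (by omega)
  intro k
  have hc : Nat.Coprime (k : ZMod m).val m := ZMod.val_coe_unit_coprime k
  rw [← Nat.not_even_iff_odd]
  intro he
  have h2 : 2 ∣ Nat.gcd (k : ZMod m).val m := Nat.dvd_gcd he.two_dvd hm_even
  rw [hc] at h2
  omega

/-- (E1', case `w = -1`) the Ramanujan sum of `-1` over the units of `ℤ/m` (`m` even) is `-φ(m)`. -/
theorem sum_units_pow_eq_neg (m : ℕ) [NeZero m] (hwm : (-1 : ℂ) ^ m = 1) :
    ∑ k : (ZMod m)ˣ, (-1 : ℂ) ^ (k : ZMod m).val = -(Fintype.card (ZMod m)ˣ : ℂ) := by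
  have hne : (-1 : ℂ) ≠ 1 := by norm_num
  have hodd := odd_val_units_of_two_pow m (-1 : ℂ) hwm 1 (by norm_num) hne
  have : ∀ k : (ZMod m)ˣ, (-1 : ℂ) ^ (k : ZMod m).val = -1 := fun k => (hodd k).neg_one_pow
  simp only [this, Finset.sum_const, Finset.card_univ, nsmul_eq_mul]
  ring

/-- (Z1) the Ramanujan sum of a root of unity of 2-power order `≥ 4` vanishes. -/
theorem sum_units_pow_eq_zero (m : ℕ) [NeZero m] (w : ℂ) (hwm : w ^ m = 1) (j : ℕ)
    (hwj : w ^ (2 ^ j) = 1) (h1 : w ≠ 1) (hm1 : w ≠ -1) :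
    ∑ k : (ZMod m)ˣ, w ^ (k : ZMod m).val = 0 := by
  have hd_dvd_m : orderOf w ∣ m := orderOf_dvd_of_pow_eq_one hwm
  obtain ⟨i, _, hi⟩ := (Nat.dvd_prime_pow Nat.prime_two).mp (orderOf_dvd_of_pow_eq_one hwj)
  have hodd := odd_val_units_of_two_pow m w hwm j hwj h1
  have hi2 : 2 ≤ i := by
    by_contra hlt
    have hi_le : i ≤ 1 := by omega
    rcases Nat.eq_zero_or_pos i with h0 | h0
    · rw [h0, pow_zero, orderOf_eq_one_iff] at hi
      exact h1 hi
    · have hi_eq : i = 1 := by omega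
      rw [hi_eq, pow_one] at hi
      have hsq : w ^ 2 = 1 := by rw [← hi]; exact pow_orderOf_eq_one w
      have : (w - 1) * (w + 1) = 0 := by linear_combination hsq
      rcases mul_eq_zero.mp this with h | h
      · exact h1 (by linear_combination h)
      · exact hm1 (by linear_combination h)
  obtain ⟨i', rfl⟩ : ∃ i', i = i' + 2 := ⟨i - 2, by omega⟩
  set h : ℕ := 2 ^ (i' + 1) with hh
  have hd : orderOf w = 2 * h := by rw [hi, hh]; ring
  have hwh : w ^ h = -1 := by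
    have hsq : (w ^ h) ^ 2 = 1 := by
      rw [← pow_mul, mul_comm, ← hd]; exact pow_orderOf_eq_one w
    have : (w ^ h - 1) * (w ^ h + 1) = 0 := by linear_combination hsq
    rcases mul_eq_zero.mp this with h' | h'
    · exfalso
      have hw1 : w ^ h = 1 := by linear_combination h'
      have hdvd : orderOf w ∣ h := orderOf_dvd_of_pow_eq_one hw1
      rw [hd] at hdvd
      have hpos : 0 < h := by rw [hh]; positivity
      have := Nat.le_of_dvd hpos hdvd
      omega
    · linear_combination h'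
  have hcop : Nat.Coprime (1 + h) (orderOf w) := by
    rw [hi]
    apply Nat.Coprime.pow_right
    rw [Nat.coprime_two_right]
    rw [hh, pow_succ]
    exact ⟨2 ^ i', by ring⟩
  obtain ⟨t, htval⟩ := exists_unit_val_modEq' m (orderOf w) (1 + h) hd_dvd_m hcop
  have hwt : w ^ (t : ZMod m).val = -w := by
    have e : w ^ (t : ZMod m).val = w ^ (1 + h) := by
      rw [← pow_mod_orderOf w (t : ZMod m).val, ← pow_mod_orderOf w (1 + h)]
      exact congrArg (fun n => w ^ n) htval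
    rw [e, pow_add, pow_one, hwh]; ring
  have hS : (∑ k : (ZMod m)ˣ, w ^ (k : ZMod m).val) =
      ∑ k : (ZMod m)ˣ, w ^ ((t * k : (ZMod m)ˣ) : ZMod m).val :=
    (Equiv.sum_comp (Equiv.mulLeft t) (fun k : (ZMod m)ˣ => w ^ (k : ZMod m).val)).symm
  have hterm : ∀ k : (ZMod m)ˣ, w ^ ((t * k : (ZMod m)ˣ) : ZMod m).val =
      -(w ^ (k : ZMod m).val) := by
    intro k
    have e1 : ((t * k : (ZMod m)ˣ) : ZMod m).val =
        ((t : ZMod m).val * (k : ZMod m).val) % m := by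
      rw [Units.val_mul, ZMod.val_mul]
    rw [e1, ← pow_eq_pow_mod _ hwm, pow_mul, hwt, (hodd k).neg_pow]
  have hneg : (∑ k : (ZMod m)ˣ, w ^ (k : ZMod m).val) =
      -(∑ k : (ZMod m)ˣ, w ^ (k : ZMod m).val) := by
    conv_lhs => rw [hS]
    simp only [hterm, Finset.sum_neg_distrib]
  linear_combination (1 / 2 : ℂ) * hneg

end Cfsg.Agent.Lib.H5.KY
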