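import Mathlib
import Cfsg.Agent.Lib.H1.DicksonBridge
import Cfsg.Agent.Lib.H4.Dickson.SubfieldForm

/-!
# Orders of subgroups of `SL₂(F)` with more than one Sylow `p`-subgroup (odd characteristic)

Glue between helper1's normal form (`DicksonBridge.exists_normal_form`) and helper4's
`dichotomy`/`generic_structure`/`card_L_exc`.
-/

set_option autoImplicit false

namespace Cfsg.Agent.Lib.H5.DicksonOddGen

open Matrix Cfsg.Agent.Lib.H12 Cfsg.Agent.Lib.H4.Dickson

variable {F : Type*} [Field F] [Finite F]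

local notation "SL2" => Matrix.SpecialLinearGroup (Fin 2) F
local notation "M2" => Matrix (Fin 2) (Fin 2) F

theorem uu_eq (a : F) : Cfsg.Agent.Lib.H1.QdSec.uu a = uu a := Subtype.ext rfl

theorem ll_eq (a : F) : Cfsg.Agent.Lib.H1.QdSec.ll a = ll a := Subtype.ext rfl

variable (p : ℕ) [Fact p.Prime] [CharP F p]

/-- an automorphism of `SL₂(F)` fixes `-1` (odd characteristic) -/
theorem equiv_neg_one (hp : p ≠ 2) (Θ : SL2 ≃* SL2) : Θ (-1) = -1 := by
  have h2 : (2 : F) ≠ 0 := two_ne_zero_of_odd (K := F) p hp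
  have hc : Θ (-1) ∈ Subgroup.center SL2 := by
    rw [Subgroup.mem_center_iff]
    intro g
    obtain ⟨g', rfl⟩ := Θ.surjective g
    rw [← map_mul, ← map_mul]
    congr 1
    exact (Subgroup.mem_center_iff.mp sl2_neg_one_mem_center) g'
  rcases sl2_center_cases _ hc with h | h
  · exfalso
    have h1 : (-1 : SL2) = 1 := Θ.injective (by rw [h, map_one])
    have h' := congrArg (fun w : SL2 => (w : M2) 0 0) h1
    simp only [Matrix.SpecialLinearGroup.coe_neg, Matrix.SpecialLinearGroup.coe_one,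
      Matrix.neg_apply, Matrix.one_apply_eq] at h'
    apply h2
    linear_combination -h'
  · exact h

/-- **Orders of subgroups of `SL₂(F)` with more than one Sylow `p`-subgroup**, `p` odd: either
there is a subfield `S` with `|L| = (1 + |S|) |S| (|S| - 1)` or twice that, or `p = 3` and
`|L| = 120`. -/
theorem card_of_two_sylow (hp : p ≠ 2) (L : Subgroup SL2) (hneg : (-1 : SL2) ∈ L)
    (h2 : 1 < Nat.card (Sylow p L)) :
    (∃ S : Subfield F,
      Nat.card L = (1 + Nat.card S) * (Nat.card S * (Nat.card S - 1)) ∨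
      Nat.card L = (1 + Nat.card S) * (Nat.card S * (2 * (Nat.card S - 1)))) ∨
    (p = 3 ∧ Nat.card L = 120) := by
  obtain ⟨x, y, v, w, hx, hy, hx1, hy1, hxv, hyw, hδ⟩ :=
    Cfsg.Agent.Lib.H1.DicksonBridge.exists_unipotent_pair (p := p) L h2
  obtain ⟨Θ, lam, hlam, hΘx, hΘy⟩ :=
    Cfsg.Agent.Lib.H1.DicksonBridge.exists_normal_form x y v w hx1 hy1 hxv hyw hδ
  rw [ll_eq] at hΘx
  rw [uu_eq] at hΘy
  obtain ⟨L', hL'⟩ : ∃ L' : Subgroup SL2, L' = L.map Θ.toMonoidHom := ⟨_, rfl⟩
  have hcard : Nat.card L' = Nat.card L := by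
    rw [hL']
    exact Nat.card_congr (L.equivMapOfInjective Θ.toMonoidHom Θ.injective).symm.toEquiv
  have hl1 : ll (1 : F) ∈ L' := by
    rw [hL', ← hΘx]; exact Subgroup.mem_map_of_mem _ hx
  have hul : uu lam ∈ L' := by
    rw [hL', ← hΘy]; exact Subgroup.mem_map_of_mem _ hy
  have hneg' : (-1 : SL2) ∈ L' := by
    rw [hL', ← equiv_neg_one p hp Θ]; exact Subgroup.mem_map_of_mem _ hneg
  rw [← hcard]
  rcases dichotomy p hp hlam hul one_ne_zero hl1 with hidx | ⟨hq, hr, hidx⟩
  · left
    obtain ⟨S, -, -, -, hc⟩ := generic_structure p hp hidx hlam hul hl1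
    exact ⟨S, hc⟩
  · right
    -- `|A| = 3` is a power of `p`
    have hA : IsPGroup p (Multiplicative (AA L')) := by
      intro a
      refine ⟨1, ?_⟩
      rw [pow_one]
      have : (p : ℕ) • (Multiplicative.toAdd a) = 0 := by
        apply Subtype.ext
        rw [AddSubgroup.coe_nsmul, nsmul_eq_mul, CharP.cast_eq_zero F p, zero_mul]
        rfl
      exact congrArg Multiplicative.ofAdd this
    obtain ⟨k, hk⟩ := hA.exists_card_eq
    rw [Nat.card_congr (Multiplicative.toAdd), hq] at hk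
    have hk0 : k ≠ 0 := by rintro rfl; simp at hk
    have hp3 : p = 3 := by
      have : p ∣ 3 := by rw [hk]; exact dvd_pow_self p hk0
      exact (Nat.prime_dvd_prime_iff_eq Fact.out Nat.prime_three).1 this
    subst hp3
    exact ⟨rfl, card_L_exc hq hr hidx hneg'⟩

end Cfsg.Agent.Lib.H5.DicksonOddGen
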