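import Mathlib
import Cfsg.Agent.Lib.H12.SL2Syl2

set_option autoImplicit false

/-!
# Subgroups of order four of `SL₂(q)`, `q` odd

A subgroup of order four is generated by an element of square `-1`; all such elements are conjugate;
the normalizer of `⟨x⟩` is the normalizer of the centralizer of `x`.
-/

namespace Cfsg.Agent.Lib.H5.SL2Four

open Matrix Cfsg.Agent.Lib.H12

variable {F : Type*} [Field F]

local notation "SL2" => Matrix.SpecialLinearGroup (Fin 2) F
local notation "M2" => Matrix (Fin 2) (Fin 2) F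

theorem orderOf_of_mul_self (h2 : (2 : F) ≠ 0) {x : SL2} (hxx : x * x = -1) : orderOf x = 4 := by
  have h := orderOf_eq_prime_pow (p := 2) (n := 1) (x := x) ?_ ?_
  · simpa using h
  · rw [pow_one, pow_two, hxx]
    exact sl2_neg_one_ne_one h2
  · exact pow_four_of_mul_self_neg_one hxx

/-- a subgroup of order four of `SL₂` is generated by an element of square `-1` -/
theorem exists_gen_of_card_four (h2 : (2 : F) ≠ 0) (A : Subgroup SL2) (hA : Nat.card A = 4) :
    ∃ x : SL2, x * x = -1 ∧ A = Subgroup.zpowers x := by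
  haveI : Finite A := Nat.finite_of_card_ne_zero (by omega)
  have hex : ∃ x ∈ A, x * x ≠ 1 := by
    by_contra hne
    push Not at hne
    have : Nat.card A ≤ 2 := by
      apply card_le_two_of_forall A 1 (-1)
      intro s hs
      exact (sl2_mul_self_eq_one_iff h2 s).mp (hne s hs)
    omega
  obtain ⟨x, hxA, hx1⟩ := hex
  have hx4 : x ^ 4 = 1 := by
    have := pow_card_eq_one' (G := A) (x := ⟨x, hxA⟩)
    rw [hA] at this
    exact congrArg Subtype.val this
  have hxx : x * x = -1 := by
    have : (x * x) * (x * x) = 1 := by rw [← hx4]; simp only [pow_succ, pow_zero, one_mul, mul_assoc]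
    rcases (sl2_mul_self_eq_one_iff h2 (x * x)).mp this with h | h
    · exact absurd h hx1
    · exact h
  refine ⟨x, hxx, ?_⟩
  symm
  apply Subgroup.eq_of_le_of_card_ge
  · rwa [Subgroup.zpowers_le]
  · rw [hA, Nat.card_zpowers, orderOf_of_mul_self h2 hxx]

theorem isConj_of_mul_self [Fintype F] (hodd : Odd (Fintype.card F)) {x y : SL2}
    (hx : x * x = -1) (hy : y * y = -1) : IsConj x y := by
  have h2 : (2 : F) ≠ 0 := two_ne_zero_of_odd hodd
  apply sl2_isConj_of_trace_regular hodd x y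
  · exact nonScalar_of_trace_sq_ne y (trace_sq_ne_of_mul_self h2 y hy)
  · rw [trace_eq_zero_of_mul_self x hx, trace_eq_zero_of_mul_self y hy]
  · exact trace_sq_ne_of_mul_self h2 x hx

theorem zpowers_le_centralizer {G : Type*} [Group G] (x : G) :
    Subgroup.zpowers x ≤ Subgroup.centralizer ({x} : Set G) := by
  rw [Subgroup.zpowers_le]
  exact self_mem_centralizer x

theorem conj_zpow_mem {G : Type*} [Group G] {g x : G} (h : g * x * g⁻¹ ∈ Subgroup.zpowers x) {y : G}
    (hy : y ∈ Subgroup.zpowers x) : g * y * g⁻¹ ∈ Subgroup.zpowers x := by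
  obtain ⟨k, rfl⟩ := Subgroup.mem_zpowers_iff.mp hy
  have : g * x ^ k * g⁻¹ = (g * x * g⁻¹) ^ k := by
    have := map_zpow (MulAut.conj g).toMonoidHom x k
    simpa using this
  rw [this]
  exact Subgroup.zpow_mem _ h k

theorem mem_normalizer_zpowers {G : Type*} [Group G] {g x : G}
    (h : g * x * g⁻¹ = x ∨ g * x * g⁻¹ = x⁻¹) :
    g ∈ Subgroup.normalizer (Subgroup.zpowers x : Set G) := by
  have h1 : g * x * g⁻¹ ∈ Subgroup.zpowers x := by
    rcases h with h | h
    · rw [h]; exact Subgroup.mem_zpowers x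
    · rw [h]; exact Subgroup.inv_mem _ (Subgroup.mem_zpowers x)
  have h2 : g⁻¹ * x * g⁻¹⁻¹ ∈ Subgroup.zpowers x := by
    rcases h with h | h
    · have : g⁻¹ * x * g⁻¹⁻¹ = x := by
        calc g⁻¹ * x * g⁻¹⁻¹ = g⁻¹ * (g * x * g⁻¹) * g := by rw [h, inv_inv]
          _ = x := by group
      rw [this]; exact Subgroup.mem_zpowers x
    · have : g⁻¹ * x * g⁻¹⁻¹ = x⁻¹ := by
        have h' : x = g * x⁻¹ * g⁻¹ := by
          have := congrArg (fun z => z⁻¹) h
          simp only [_root_.mul_inv_rev, inv_inv] at this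
          rw [← mul_assoc] at this
          exact this.symm
        calc g⁻¹ * x * g⁻¹⁻¹ = g⁻¹ * (g * x⁻¹ * g⁻¹) * g := by rw [← h', inv_inv]
          _ = x⁻¹ := by group
      rw [this]; exact Subgroup.inv_mem _ (Subgroup.mem_zpowers x)
  rw [Subgroup.mem_normalizer_iff]
  intro y
  constructor
  · intro hy
    exact conj_zpow_mem h1 hy
  · intro hy
    have := conj_zpow_mem h2 hy
    have e : g⁻¹ * (g * y * g⁻¹) * g⁻¹⁻¹ = y := by group
    rwa [e] at this

theorem mem_normalizer_centralizer {G : Type*} [Group G] {g x : G}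
    (h : g * x * g⁻¹ = x ∨ g * x * g⁻¹ = x⁻¹) :
    g ∈ Subgroup.normalizer (Subgroup.centralizer ({x} : Set G) : Set G) := by
  rw [Subgroup.mem_normalizer_iff]
  intro y
  rw [Subgroup.mem_centralizer_singleton_iff, Subgroup.mem_centralizer_singleton_iff]
  rcases h with h3 | h3
  · constructor
    · intro hy
      calc (g * y * g⁻¹) * x = (g * y * g⁻¹) * (g * x * g⁻¹) := by rw [h3]
        _ = g * (y * x) * g⁻¹ := by group
        _ = g * (x * y) * g⁻¹ := by rw [hy]
        _ = (g * x * g⁻¹) * (g * y * g⁻¹) := by group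
        _ = x * (g * y * g⁻¹) := by rw [h3]
    · intro hy
      rw [← h3] at hy
      have : g * (y * x) * g⁻¹ = g * (x * y) * g⁻¹ := by
        calc g * (y * x) * g⁻¹ = (g * y * g⁻¹) * (g * x * g⁻¹) := by group
          _ = (g * x * g⁻¹) * (g * y * g⁻¹) := hy
          _ = g * (x * y) * g⁻¹ := by group
      exact mul_left_cancel (mul_right_cancel this)
  · have hx' : x = g * x⁻¹ * g⁻¹ := by
      have := congrArg (fun z => z⁻¹) h3
      simp only [_root_.mul_inv_rev, inv_inv] at this
      rw [← mul_assoc] at this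
      exact this.symm
    constructor
    · intro hy
      have hy' : y * x⁻¹ = x⁻¹ * y := by
        calc y * x⁻¹ = x⁻¹ * (x * y) * x⁻¹ := by group
          _ = x⁻¹ * (y * x) * x⁻¹ := by rw [hy]
          _ = x⁻¹ * y := by group
      calc (g * y * g⁻¹) * x = (g * y * g⁻¹) * (g * x⁻¹ * g⁻¹) := by rw [← hx']
        _ = g * (y * x⁻¹) * g⁻¹ := by group
        _ = g * (x⁻¹ * y) * g⁻¹ := by rw [hy']
        _ = (g * x⁻¹ * g⁻¹) * (g * y * g⁻¹) := by group
        _ = x * (g * y * g⁻¹) := by rw [← hx']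
    · intro hy
      have hy2 : (g * y * g⁻¹) * (g * x⁻¹ * g⁻¹) = (g * x⁻¹ * g⁻¹) * (g * y * g⁻¹) := by
        rw [← hx']; exact hy
      have : g * (y * x⁻¹) * g⁻¹ = g * (x⁻¹ * y) * g⁻¹ := by
        calc g * (y * x⁻¹) * g⁻¹ = (g * y * g⁻¹) * (g * x⁻¹ * g⁻¹) := by group
          _ = (g * x⁻¹ * g⁻¹) * (g * y * g⁻¹) := hy2
          _ = g * (x⁻¹ * y) * g⁻¹ := by group
      have hy' : y * x⁻¹ = x⁻¹ * y := mul_left_cancel (mul_right_cancel this)
      calc y * x = x * (x⁻¹ * y) * x := by group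
        _ = x * (y * x⁻¹) * x := by rw [hy']
        _ = x * y := by group

theorem normalizer_zpowers_eq (h2 : (2 : F) ≠ 0) {x : SL2} (hxx : x * x = -1) :
    Subgroup.normalizer (Subgroup.zpowers x : Set SL2) =
      Subgroup.normalizer (Subgroup.centralizer ({x} : Set SL2) : Set SL2) := by
  have ht := trace_sq_ne_of_mul_self h2 x hxx
  apply le_antisymm
  · intro g hg
    have h1 : g * x * g⁻¹ ∈ Subgroup.zpowers x :=
      (Subgroup.mem_normalizer_iff.mp hg x).mp (Subgroup.mem_zpowers x)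
    exact mem_normalizer_centralizer (conj_cases_of_mem h2 ht (zpowers_le_centralizer x h1))
  · intro g hg
    exact mem_normalizer_zpowers (conj_cases h2 ht hg)

theorem isSquare_neg_four_iff (h2 : (2 : F) ≠ 0) : IsSquare ((0 : F) ^ 2 - 4) ↔ IsSquare (-1 : F) := by
  have e : (0 : F) ^ 2 - 4 = (-1) * (2 * 2) := by ring
  rw [e]
  constructor
  · rintro ⟨s, hs⟩
    refine ⟨s / 2, ?_⟩
    field_simp
    linear_combination hs
  · rintro ⟨s, hs⟩
    refine ⟨s * 2, ?_⟩
    rw [hs]; ring

theorem card_normalizer_zpowers [Fintype F] (hodd : Odd (Fintype.card F)) {x : SL2}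
    (hxx : x * x = -1) :
    (Fintype.card F % 4 = 1 →
      Nat.card (Subgroup.normalizer (Subgroup.zpowers x : Set SL2)) = 2 * (Fintype.card F - 1)) ∧
    (Fintype.card F % 4 = 3 →
      Nat.card (Subgroup.normalizer (Subgroup.zpowers x : Set SL2)) = 2 * (Fintype.card F + 1)) := by
  have h2 : (2 : F) ≠ 0 := two_ne_zero_of_odd hodd
  have ht := trace_sq_ne_of_mul_self h2 x hxx
  have htr := trace_eq_zero_of_mul_self x hxx
  rw [normalizer_zpowers_eq h2 hxx, (classes_normalizer hodd ht).1]
  obtain ⟨-, hsq, hnsq⟩ := regular_centralizer hodd x ht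
  rw [htr, isSquare_neg_four_iff h2, FiniteField.isSquare_neg_one_iff] at hsq hnsq
  constructor
  · intro h
    rw [hsq (by omega)]
  · intro h
    rw [hnsq (by omega)]

/-- an element of order two of `PSL₂` lifts to an element of square `-1` -/
theorem exists_lift_of_orderOf_two (h2 : (2 : F) ≠ 0)
    (x : Matrix.ProjectiveSpecialLinearGroup (Fin 2) F) (hx : orderOf x = 2) :
    ∃ a : SL2, a * a = -1 ∧ (QuotientGroup.mk a : Matrix.ProjectiveSpecialLinearGroup (Fin 2) F) = x := by
  obtain ⟨a, rfl⟩ := QuotientGroup.mk_surjective x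
  refine ⟨a, ?_, rfl⟩
  have h1 : (QuotientGroup.mk a : Matrix.ProjectiveSpecialLinearGroup (Fin 2) F) ≠ 1 := by
    intro h
    rw [h, orderOf_one] at hx
    omega
  have hsq : (QuotientGroup.mk a : Matrix.ProjectiveSpecialLinearGroup (Fin 2) F) ^ 2 = 1 := by
    have := pow_orderOf_eq_one (QuotientGroup.mk a : Matrix.ProjectiveSpecialLinearGroup (Fin 2) F)
    rwa [hx] at this
  have h3 : a * a ∈ Subgroup.center SL2 := by
    rw [← QuotientGroup.eq_one_iff, QuotientGroup.mk_mul, ← pow_two]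
    exact hsq
  have h4 : a ∉ Subgroup.center SL2 := by
    intro h
    apply h1
    exact (QuotientGroup.eq_one_iff a).mpr h
  rcases sl2_center_cases _ h3 with h | h
  · exfalso
    apply h4
    rcases (sl2_mul_self_eq_one_iff h2 a).mp h with h5 | h5
    · rw [h5]; exact Subgroup.one_mem _
    · rw [h5]; exact sl2_neg_one_mem_center
  · exact h

theorem psl2_involutions_isConj [Fintype F] (hodd : Odd (Fintype.card F))
    (x y : Matrix.ProjectiveSpecialLinearGroup (Fin 2) F) (hx : orderOf x = 2) (hy : orderOf y = 2) :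
    IsConj x y := by
  have h2 : (2 : F) ≠ 0 := two_ne_zero_of_odd hodd
  obtain ⟨a, ha, rfl⟩ := exists_lift_of_orderOf_two h2 x hx
  obtain ⟨b, hb, rfl⟩ := exists_lift_of_orderOf_two h2 y hy
  exact (QuotientGroup.mk' (Subgroup.center SL2)).map_isConj (isConj_of_mul_self hodd ha hb)

end Cfsg.Agent.Lib.H5.SL2Four
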