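import Mathlib
import Cfsg.Agent.Lib.H5.SL2Four
import Cfsg.Agent.Lib.H5.KleinCount
import Cfsg.Agent.Lib.H5.ConjCount

set_option autoImplicit false

/-!
# Klein four-subgroups of `PSL₂(q)`, `q` odd

Counting ordered pairs of distinct commuting involutions of `PSL₂(q)` through `SL₂(q)`:
`4 * #pairs = |SL₂(q)|`, hence `12 * #Klein four-subgroups = |PSL₂(q)|`.
-/

namespace Cfsg.Agent.Lib.H5.PSL2Klein

open Matrix Cfsg.Agent.Lib.H12 Cfsg.Agent.Lib.H5.SL2Four Cfsg.Agent.Lib.H5.KleinCount

variable {F : Type*} [Field F]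

local notation "SL2" => Matrix.SpecialLinearGroup (Fin 2) F
local notation "M2" => Matrix (Fin 2) (Fin 2) F
local notation "PSL2" => Matrix.ProjectiveSpecialLinearGroup (Fin 2) F

/-- a standard element of square `-1` -/
def j0 : SL2 := ⟨!![0, 1; -1, 0], by simp [Matrix.det_fin_two]⟩

theorem j0_mul_self : (j0 : SL2) * j0 = -1 := by
  apply Subtype.ext
  rw [Matrix.SpecialLinearGroup.coe_mul]
  ext i j
  fin_cases i <;> fin_cases j <;> simp [j0, Matrix.mul_apply, Fin.sum_univ_two]

theorem mk_eq_mk_iff (a b : SL2) : (QuotientGroup.mk a : PSL2) = QuotientGroup.mk b ↔ b = a ∨ b = -a := by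
  rw [QuotientGroup.eq]
  constructor
  · intro h
    rcases sl2_center_cases _ h with h | h
    · left
      have : a * (a⁻¹ * b) = a * 1 := by rw [h]
      simpa using this
    · right
      have : a * (a⁻¹ * b) = a * (-1) := by rw [h]
      rw [mul_inv_cancel_left, mul_neg, mul_one] at this
      exact this
  · rintro (rfl | rfl)
    · rw [inv_mul_cancel]; exact Subgroup.one_mem _
    · rw [mul_neg, inv_mul_cancel]; exact sl2_neg_one_mem_center

theorem card_center (h2 : (2 : F) ≠ 0) : Nat.card (Subgroup.center SL2) = 2 := by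
  have h : Nat.card (Subgroup.center SL2) = (Subgroup.center SL2 : Set SL2).ncard :=
    Nat.card_coe_set_eq _
  have hs : (Subgroup.center SL2 : Set SL2) = {1, -1} := by
    ext z
    simp only [SetLike.mem_coe, Set.mem_insert_iff, Set.mem_singleton_iff]
    constructor
    · exact sl2_center_cases z
    · rintro (rfl | rfl)
      · exact Subgroup.one_mem _
      · exact sl2_neg_one_mem_center
  rw [h, hs, Set.ncard_pair (sl2_neg_one_ne_one h2).symm]

theorem mul_self_of_orderOf_mk (h2 : (2 : F) ≠ 0) (a : SL2)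
    (hx : orderOf (QuotientGroup.mk a : PSL2) = 2) : a * a = -1 := by
  have h1 : (QuotientGroup.mk a : PSL2) ≠ 1 := ne_one_of_orderOf hx
  have hsq : (QuotientGroup.mk a : PSL2) * QuotientGroup.mk a = 1 := mul_self_of_orderOf hx
  have h3 : a * a ∈ Subgroup.center SL2 := by
    rw [← QuotientGroup.eq_one_iff, QuotientGroup.mk_mul]
    exact hsq
  have h4 : a ∉ Subgroup.center SL2 := by
    intro h
    apply h1
    exact (QuotientGroup.eq_one_iff a).mpr h
  rcases sl2_center_cases _ h3 with h | h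
  · exfalso
    apply h4
    rcases (sl2_mul_self_eq_one_iff h2 a).mp h with h5 | h5
    · rw [h5]; exact Subgroup.one_mem _
    · rw [h5]; exact sl2_neg_one_mem_center
  · exact h

theorem not_mem_center_of_mul_self (h2 : (2 : F) ≠ 0) {a : SL2} (ha : a * a = -1) :
    a ∉ Subgroup.center SL2 := by
  intro h
  rcases sl2_center_cases _ h with h | h
  · rw [h, mul_one] at ha
    exact sl2_neg_one_ne_one h2 ha.symm
  · rw [h, neg_mul_neg, mul_one] at ha
    exact sl2_neg_one_ne_one h2 ha.symm

theorem orderOf_mk_of_mul_self (h2 : (2 : F) ≠ 0) {a : SL2} (ha : a * a = -1) :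
    orderOf (QuotientGroup.mk a : PSL2) = 2 := by
  apply KleinCount.orderOf_of_mul_self
  · rw [← QuotientGroup.mk_mul, ha]
    exact (QuotientGroup.eq_one_iff _).mpr sl2_neg_one_mem_center
  · intro h
    exact not_mem_center_of_mul_self h2 ha ((QuotientGroup.eq_one_iff a).mp h)

theorem orderOf_mk_iff (h2 : (2 : F) ≠ 0) (a : SL2) :
    orderOf (QuotientGroup.mk a : PSL2) = 2 ↔ a * a = -1 :=
  ⟨mul_self_of_orderOf_mk h2 a, orderOf_mk_of_mul_self h2⟩

/-- `b` inverts `a` iff the image of `b` is an involution different from and commuting with the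
image of `a` -/
theorem inverts_iff (h2 : (2 : F) ≠ 0) {a : SL2} (ha : a * a = -1) (b : SL2) :
    b * a * b⁻¹ = a⁻¹ ↔
      (orderOf (QuotientGroup.mk b : PSL2) = 2 ∧ (QuotientGroup.mk b : PSL2) ≠ QuotientGroup.mk a ∧
        (QuotientGroup.mk a : PSL2) * QuotientGroup.mk b = QuotientGroup.mk b * QuotientGroup.mk a) := by
  have ht := trace_sq_ne_of_mul_self h2 a ha
  have hd : NonScalar (a : M2) := nonScalar_of_trace_sq_ne a ht
  have hinv := inv_eq_neg_of_mul_self a ha
  constructor
  · intro h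
    have hbb : b * b = -1 := mul_self_of_inverts hd h
    refine ⟨orderOf_mk_of_mul_self h2 hbb, ?_, ?_⟩
    · intro he
      have hcomm : b * a = a * b := by
        rcases (mk_eq_mk_iff a b).mp he.symm with rfl | rfl
        · rfl
        · rw [neg_mul, mul_neg]
      have h3 : b * a * b⁻¹ = a := by rw [hcomm]; group
      rw [h3] at h
      have h4 : a * a = 1 := by
        nth_rewrite 1 [h]
        exact inv_mul_cancel a
      rw [ha] at h4
      exact sl2_neg_one_ne_one h2 h4
    · rw [← QuotientGroup.mk_mul, ← QuotientGroup.mk_mul, mk_eq_mk_iff]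
      right
      have : b * a = a⁻¹ * b := by rw [← h]; group
      rw [this, hinv, neg_mul]
  · rintro ⟨hb, hne, hc⟩
    have hbb : b * b = -1 := mul_self_of_orderOf_mk h2 b hb
    rw [← QuotientGroup.mk_mul, ← QuotientGroup.mk_mul, mk_eq_mk_iff] at hc
    rcases hc with hc | hc
    · exfalso
      apply hne
      have hbC : b ∈ Subgroup.centralizer ({a} : Set SL2) :=
        Subgroup.mem_centralizer_singleton_iff.mpr hc
      have htr : (b : M2).trace = (a : M2).trace := by
        rw [trace_eq_zero_of_mul_self a ha, trace_eq_zero_of_mul_self b hbb]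
      rcases eq_or_eq_inv_of_trace h2 ht hbC htr with h | h
      · rw [h]
      · rw [h, hinv]
        exact ((mk_eq_mk_iff a (-a)).mpr (Or.inr rfl)).symm
    · rw [hc, hinv]
      rw [neg_mul, mul_assoc, mul_inv_cancel, mul_one]

/-- the elements inverting `a` form a coset of the centralizer -/
noncomputable def invertingEquiv {G : Type*} [Group G] {a w : G} (hw : w * a * w⁻¹ = a⁻¹) :
    Subgroup.centralizer ({a} : Set G) ≃ {b : G // b * a * b⁻¹ = a⁻¹} where
  toFun c := ⟨w * c, by
    have hc : (c : G) * a = a * c := Subgroup.mem_centralizer_singleton_iff.mp c.2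
    calc w * c * a * (w * c)⁻¹ = w * (c * a) * (c : G)⁻¹ * w⁻¹ := by group
      _ = w * (a * c) * (c : G)⁻¹ * w⁻¹ := by rw [hc]
      _ = w * a * w⁻¹ := by group
      _ = a⁻¹ := hw⟩
  invFun b := ⟨w⁻¹ * b, by
    rw [Subgroup.mem_centralizer_singleton_iff]
    have hb : (b : G) * a = a⁻¹ * b := by
      have := b.2
      calc (b : G) * a = ((b : G) * a * (b : G)⁻¹) * b := by group
        _ = a⁻¹ * b := by rw [this]
    have hw' : w⁻¹ * a⁻¹ = a * w⁻¹ := by
      have : a⁻¹ = w * a * w⁻¹ := hw.symm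
      rw [this]; group
    calc w⁻¹ * b * a = w⁻¹ * (b * a) := by group
      _ = w⁻¹ * (a⁻¹ * b) := by rw [hb]
      _ = (w⁻¹ * a⁻¹) * b := by group
      _ = a * w⁻¹ * b := by rw [hw']
      _ = a * (w⁻¹ * b) := by group⟩
  left_inv c := by
    apply Subtype.ext
    simp
  right_inv b := by
    apply Subtype.ext
    simp

theorem card_inverting [Fintype F] (hodd : Odd (Fintype.card F)) {a : SL2} (ha : a * a = -1) :
    Nat.card {b : SL2 // b * a * b⁻¹ = a⁻¹} = Nat.card (Subgroup.centralizer ({a} : Set SL2)) := by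
  have h2 : (2 : F) ≠ 0 := two_ne_zero_of_odd hodd
  obtain ⟨w, hw⟩ := exists_inverting hodd (trace_sq_ne_of_mul_self h2 a ha)
  exact (Nat.card_congr (invertingEquiv hw)).symm

/-- pairs as a sigma type -/
def invPairSigma (H : Type*) [Group H] :
    InvPair H ≃ Σ u : {u : H // orderOf u = 2}, {v : H // orderOf v = 2 ∧ v ≠ u.1 ∧ u.1 * v = v * u.1} where
  toFun p := ⟨⟨p.1.1, p.2.1⟩, ⟨p.1.2, p.2.2.1, p.2.2.2.1, p.2.2.2.2⟩⟩
  invFun s := ⟨(s.1.1, s.2.1), s.1.2, s.2.2.1, s.2.2.2.1, s.2.2.2.2⟩
  left_inv p := rfl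
  right_inv s := rfl

theorem four_mul_card_invPair [Fintype F] (hodd : Odd (Fintype.card F)) :
    4 * Nat.card (InvPair PSL2) = Nat.card SL2 := by
  classical
  have h2 : (2 : F) ≠ 0 := two_ne_zero_of_odd hodd
  obtain ⟨c, hc⟩ : ∃ c, c = Nat.card (Subgroup.centralizer ({(j0 : SL2)} : Set SL2)) := ⟨_, rfl⟩
  have hJ : ∀ u : {u : PSL2 // orderOf u = 2},
      2 * Nat.card {v : PSL2 // orderOf v = 2 ∧ v ≠ u.1 ∧ u.1 * v = v * u.1} = c := by
    rintro ⟨u, hu⟩
    obtain ⟨a, ha, rfl⟩ := exists_lift_of_orderOf_two h2 u hu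
    have h1 : Nat.card {b : SL2 // b * a * b⁻¹ = a⁻¹} =
        2 * Nat.card {v : PSL2 // orderOf v = 2 ∧ v ≠ (QuotientGroup.mk a : PSL2) ∧
          (QuotientGroup.mk a : PSL2) * v = v * QuotientGroup.mk a} := by
      have e : {b : SL2 // b * a * b⁻¹ = a⁻¹} ≃ Subgroup.center SL2 ×
          ({v : PSL2 | orderOf v = 2 ∧ v ≠ (QuotientGroup.mk a : PSL2) ∧
            (QuotientGroup.mk a : PSL2) * v = v * QuotientGroup.mk a} : Set PSL2) := by
        refine Equiv.trans ?_ (QuotientGroup.preimageMkEquivSubgroupProdSet (Subgroup.center SL2)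
          {v : PSL2 | orderOf v = 2 ∧ v ≠ (QuotientGroup.mk a : PSL2) ∧
            (QuotientGroup.mk a : PSL2) * v = v * QuotientGroup.mk a})
        exact Equiv.subtypeEquivRight (fun b => inverts_iff h2 ha b)
      rw [Nat.card_congr e, Nat.card_prod, card_center h2]
      rfl
    rw [← h1, card_inverting hodd ha, hc]
    exact card_centralizer_of_isConj (isConj_of_mul_self hodd j0_mul_self ha)
  have hI : Nat.card {a : SL2 // a * a = -1} = 2 * Nat.card {u : PSL2 // orderOf u = 2} := by
    have e : {a : SL2 // a * a = -1} ≃ Subgroup.center SL2 × ({u : PSL2 | orderOf u = 2} : Set PSL2) := by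
      refine Equiv.trans ?_ (QuotientGroup.preimageMkEquivSubgroupProdSet (Subgroup.center SL2)
        {u : PSL2 | orderOf u = 2})
      exact Equiv.subtypeEquivRight (fun b => (orderOf_mk_iff h2 b).symm)
    rw [Nat.card_congr e, Nat.card_prod, card_center h2]
    rfl
  have hX : Nat.card {a : SL2 // a * a = -1} * c = Nat.card SL2 := by
    rw [hc, ← card_conj_mul_card_centralizer (j0 : SL2)]
    congr 1
    apply Nat.card_congr
    apply Equiv.subtypeEquivRight
    intro g
    constructor
    · intro hg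
      exact isConj_of_mul_self hodd j0_mul_self hg
    · intro hg
      obtain ⟨d, rfl⟩ := isConj_iff.mp hg
      calc d * j0 * d⁻¹ * (d * j0 * d⁻¹) = d * (j0 * j0) * d⁻¹ := by group
        _ = -1 := by rw [j0_mul_self, mul_neg, mul_one, neg_mul, mul_inv_cancel]
  haveI : Finite {u : PSL2 // orderOf u = 2} := Subtype.finite
  haveI : Fintype {u : PSL2 // orderOf u = 2} := Fintype.ofFinite _
  have hP : 2 * Nat.card (InvPair PSL2) = Nat.card {u : PSL2 // orderOf u = 2} * c := by
    rw [Nat.card_congr (invPairSigma PSL2), Nat.card_sigma, Finset.mul_sum,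
      Finset.sum_congr rfl (fun u _ => hJ u), Finset.sum_const, Finset.card_univ, smul_eq_mul,
      Nat.card_eq_fintype_card]
  calc 4 * Nat.card (InvPair PSL2) = 2 * (2 * Nat.card (InvPair PSL2)) := by ring
    _ = (2 * Nat.card {u : PSL2 // orderOf u = 2}) * c := by rw [hP]; ring
    _ = Nat.card SL2 := by rw [← hI, hX]

theorem card_sl2_eq_two_mul (h2 : (2 : F) ≠ 0) : Nat.card SL2 = 2 * Nat.card PSL2 := by
  rw [Subgroup.card_eq_card_quotient_mul_card_subgroup (Subgroup.center SL2), card_center h2, mul_comm]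

/-- twelve times the number of Klein four-subgroups of `PSL₂(q)`, `q` odd, is `|PSL₂(q)|` -/
theorem twelve_mul_card_klein [Fintype F] (hodd : Odd (Fintype.card F)) :
    12 * Nat.card {V : Subgroup PSL2 // IsKleinFour V} = Nat.card PSL2 := by
  have h2 : (2 : F) ≠ 0 := two_ne_zero_of_odd hodd
  have h1 := four_mul_card_invPair hodd
  rw [card_invPair, card_sl2_eq_two_mul h2] at h1
  omega

end Cfsg.Agent.Lib.H5.PSL2Klein
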