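import Mathlib
import Cfsg.Agent.Lib.H5.PSL2Klein
import Cfsg.Agent.Lib.H5.SylowIn
import Cfsg.Agent.Lib.H12.SL2RegCard

/-!
# The partition of `PSL₂(F)` by images of centralizers

For `x ≠ 1` in `PSL₂(F)` the subgroup `tb x` is the image of the centralizer in `SL₂(F)` of a lift
of `x`.  These subgroups partition `PSL₂(F)`, are permuted by conjugation, and for a regular
semisimple `x` (over a finite field of odd order) `tb x` is cyclic with `N(tb x) \ tb x`
consisting of involutions inverting `tb x`.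
-/

set_option autoImplicit false

namespace Cfsg.Agent.Lib.H5.PSL2Torus

open Matrix Cfsg.Agent.Lib.H12 Cfsg.Agent.Lib.H5.PSL2Klein

variable {F : Type*} [Field F]

local notation "SL2" => Matrix.SpecialLinearGroup (Fin 2) F
local notation "M2" => Matrix (Fin 2) (Fin 2) F
local notation "PSL2" => Matrix.ProjectiveSpecialLinearGroup (Fin 2) F

/-- the quotient map -/
def pr : SL2 →* PSL2 := QuotientGroup.mk' (Subgroup.center SL2)

theorem pr_surjective : Function.Surjective (pr (F := F)) := QuotientGroup.mk'_surjective _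

theorem pr_eq_pr_iff (a b : SL2) : pr a = pr b ↔ b = a ∨ b = -a := mk_eq_mk_iff a b

theorem pr_eq_one_iff (a : SL2) : pr a = 1 ↔ a ∈ Subgroup.center SL2 :=
  QuotientGroup.eq_one_iff a

theorem nonScalar_of_pr_ne_one {a : SL2} (h : pr a ≠ 1) : Cfsg.Agent.Lib.H12.NonScalar (a : M2) := by
  by_contra hn
  exact h ((pr_eq_one_iff a).mpr (sl2_mem_center_of_not_nonScalar a hn))

theorem centralizer_neg (g : SL2) :
    Subgroup.centralizer ({-g} : Set SL2) = Subgroup.centralizer ({g} : Set SL2) := by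
  ext k
  rw [Subgroup.mem_centralizer_singleton_iff, Subgroup.mem_centralizer_singleton_iff]
  constructor
  · intro h
    have := congrArg (fun x : SL2 => -x) h
    simpa using this
  · intro h
    rw [mul_neg, neg_mul, h]

theorem neg_mem_centralizer {g k : SL2} (h : k ∈ Subgroup.centralizer ({g} : Set SL2)) :
    -k ∈ Subgroup.centralizer ({g} : Set SL2) := by
  rw [Subgroup.mem_centralizer_singleton_iff] at h ⊢
  rw [neg_mul, mul_neg, h]

/-- the image in `PSL₂` of the centralizer of `g` -/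
def torus (g : SL2) : Subgroup PSL2 := (Subgroup.centralizer ({g} : Set SL2)).map pr

theorem torus_neg (g : SL2) : torus (-g) = torus g := by
  unfold torus
  rw [centralizer_neg]

theorem pr_mem_torus_iff (g k : SL2) : pr k ∈ torus g ↔ k ∈ Subgroup.centralizer ({g} : Set SL2) := by
  constructor
  · rintro ⟨k', hk', h⟩
    rcases (pr_eq_pr_iff k' k).mp h with rfl | rfl
    · exact hk'
    · exact neg_mem_centralizer hk'
  · intro h
    exact ⟨k, h, rfl⟩

/-- the torus of an element of `PSL₂` -/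
noncomputable def tb (x : PSL2) : Subgroup PSL2 := torus (Quotient.out x)

theorem pr_out (x : PSL2) : pr (Quotient.out x) = x := QuotientGroup.out_eq' x

theorem tb_pr (g : SL2) : tb (pr g) = torus g := by
  unfold tb
  have h := pr_out (pr g)
  rcases (pr_eq_pr_iff _ _).mp h with h' | h'
  · rw [← h']
  · have h3 : Quotient.out (pr g) = -g := neg_eq_iff_eq_neg.mp h'.symm
    rw [h3, torus_neg]

theorem self_mem_tb (x : PSL2) : x ∈ tb x := by
  obtain ⟨g, rfl⟩ := pr_surjective x
  rw [tb_pr, pr_mem_torus_iff, Subgroup.mem_centralizer_singleton_iff]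

theorem tb_eq_of_mem {x y : PSL2} (hx : x ≠ 1) (hy : y ≠ 1) (h : y ∈ tb x) : tb y = tb x := by
  obtain ⟨g, rfl⟩ := pr_surjective x
  obtain ⟨k, rfl⟩ := pr_surjective y
  rw [tb_pr] at h ⊢
  rw [tb_pr]
  rw [pr_mem_torus_iff] at h
  unfold torus
  rw [centralizer_eq_of_mem (nonScalar_of_pr_ne_one hx) (nonScalar_of_pr_ne_one hy) h]

theorem centralizer_conj (a g : SL2) :
    Subgroup.centralizer ({a * g * a⁻¹} : Set SL2) =
      (Subgroup.centralizer ({g} : Set SL2)).map (MulAut.conj a).toMonoidHom := by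
  ext k
  rw [Cfsg.Agent.Lib.H5.mem_map_conj_iff, Subgroup.mem_centralizer_singleton_iff,
    Subgroup.mem_centralizer_singleton_iff]
  constructor
  · intro h
    calc a⁻¹ * k * a * g = a⁻¹ * (k * (a * g * a⁻¹)) * a := by group
      _ = a⁻¹ * ((a * g * a⁻¹) * k) * a := by rw [h]
      _ = g * (a⁻¹ * k * a) := by group
  · intro h
    calc k * (a * g * a⁻¹) = a * ((a⁻¹ * k * a) * g) * a⁻¹ := by group
      _ = a * (g * (a⁻¹ * k * a)) * a⁻¹ := by rw [h]
      _ = a * g * a⁻¹ * k := by group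

theorem torus_conj (a g : SL2) :
    torus (a * g * a⁻¹) = (torus g).map (MulAut.conj (pr a)).toMonoidHom := by
  unfold torus
  rw [centralizer_conj]
  ext y
  constructor
  · rintro ⟨k, ⟨k', hk', rfl⟩, rfl⟩
    exact ⟨pr k', ⟨k', hk', rfl⟩, by simp⟩
  · rintro ⟨y', ⟨k', hk', rfl⟩, rfl⟩
    exact ⟨a * k' * a⁻¹, ⟨k', hk', by simp⟩, by simp⟩

theorem tb_conj (a x : PSL2) : tb (a * x * a⁻¹) = (tb x).map (MulAut.conj a).toMonoidHom := by
  obtain ⟨g, rfl⟩ := pr_surjective x
  obtain ⟨α, rfl⟩ := pr_surjective a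
  have : pr α * pr g * (pr α)⁻¹ = pr (α * g * α⁻¹) := by simp
  rw [this, tb_pr, tb_pr, torus_conj]

/-- regular semisimple elements of `PSL₂` -/
def IsRegSS (x : PSL2) : Prop := ∀ g : SL2, pr g = x → (g : M2).trace ^ 2 ≠ 4

section odd

variable [Fintype F]

theorem isCyclic_torus (hodd : Odd (Fintype.card F)) {g : SL2} (ht : (g : M2).trace ^ 2 ≠ 4) :
    IsCyclic (torus g) := by
  have := (regular_centralizer hodd g ht).1
  unfold torus
  exact isCyclic_of_surjective ((pr (F := F)).subgroupMap (Subgroup.centralizer ({g} : Set SL2)))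
    (MonoidHom.subgroupMap_surjective _ _)

theorem isCyclic_tb (hodd : Odd (Fintype.card F)) {x : PSL2} (hx : IsRegSS x) : IsCyclic (tb x) := by
  obtain ⟨g, rfl⟩ := pr_surjective x
  rw [tb_pr]
  exact isCyclic_torus hodd (hx g rfl)

/-- an element conjugating `x` into its torus lies in the torus or is an involution inverting
the torus -/
theorem conj_mem_cases (hodd : Odd (Fintype.card F)) {x a : PSL2} (hx : IsRegSS x)
    (h : a * x * a⁻¹ ∈ tb x) :
    a ∈ tb x ∨ (a * a = 1 ∧ ∀ y ∈ tb x, a * y * a⁻¹ = y⁻¹) := by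
  have h2 : (2 : F) ≠ 0 := two_ne_zero_of_odd hodd
  obtain ⟨g, rfl⟩ := pr_surjective x
  obtain ⟨α, rfl⟩ := pr_surjective a
  have ht := hx g rfl
  have hd : Cfsg.Agent.Lib.H12.NonScalar (g : M2) := nonScalar_of_trace_sq_ne g ht
  have e : pr α * pr g * (pr α)⁻¹ = pr (α * g * α⁻¹) := by simp
  rw [e, tb_pr, pr_mem_torus_iff] at h
  rw [tb_pr]
  rcases conj_cases_of_mem h2 ht h with h' | h'
  · left
    rw [pr_mem_torus_iff, Subgroup.mem_centralizer_singleton_iff]
    calc α * g = (α * g * α⁻¹) * α := by group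
      _ = g * α := by rw [h']
  · right
    constructor
    · have hsq : α * α = -1 := by
        apply Subtype.ext
        rw [sq_eq_neg_one_of_inverts hd h']
        simp
      rw [← map_mul, hsq, pr_eq_one_iff]
      exact sl2_neg_one_mem_center
    · rintro y ⟨k, hk, rfl⟩
      have h5 := inverts_centralizer hd h' hk
      have h6 : pr α * pr k * (pr α)⁻¹ = pr (α * k * α⁻¹) := by simp
      rw [h6, h5, map_inv]

theorem conj_cases_lift (hodd : Odd (Fintype.card F)) {g α : SL2} (ht : (g : M2).trace ^ 2 ≠ 4)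
    (h : pr α * pr g * (pr α)⁻¹ ∈ tb (pr g)) :
    α ∈ Subgroup.centralizer ({g} : Set SL2) ∨ α * g * α⁻¹ = g⁻¹ := by
  have h2 : (2 : F) ≠ 0 := two_ne_zero_of_odd hodd
  have e : pr α * pr g * (pr α)⁻¹ = pr (α * g * α⁻¹) := by simp
  rw [e, tb_pr, pr_mem_torus_iff] at h
  rcases conj_cases_of_mem h2 ht h with h' | h'
  · left
    rw [Subgroup.mem_centralizer_singleton_iff]
    calc α * g = (α * g * α⁻¹) * α := by group
      _ = g * α := by rw [h']
  · exact Or.inr h'

theorem mul_mem_of_inverting (hodd : Odd (Fintype.card F)) {x a a' : PSL2} (hx : IsRegSS x)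
    (h : a * x * a⁻¹ ∈ tb x) (ha : a ∉ tb x) (h' : a' * x * a'⁻¹ ∈ tb x) (ha' : a' ∉ tb x) :
    a * a' ∈ tb x := by
  obtain ⟨g, rfl⟩ := pr_surjective x
  obtain ⟨α, rfl⟩ := pr_surjective a
  obtain ⟨α', rfl⟩ := pr_surjective a'
  have ht := hx g rfl
  rw [tb_pr, pr_mem_torus_iff] at ha ha'
  have i1 := (conj_cases_lift hodd ht h).resolve_left ha
  have i2 := (conj_cases_lift hodd ht h').resolve_left ha'
  rw [← map_mul, tb_pr, pr_mem_torus_iff, Subgroup.mem_centralizer_singleton_iff]
  have c : α * α' * g * (α * α')⁻¹ = g := by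
    have : α * α' * g * (α * α')⁻¹ = α * (α' * g * α'⁻¹) * α⁻¹ := by group
    rw [this, i2]
    have : α * g⁻¹ * α⁻¹ = (α * g * α⁻¹)⁻¹ := by group
    rw [this, i1, inv_inv]
  calc α * α' * g = (α * α' * g * (α * α')⁻¹) * (α * α') := by group
    _ = g * (α * α') := by rw [c]

end odd

end Cfsg.Agent.Lib.H5.PSL2Torus
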