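import Mathlib
import Cfsg.Agent.Lib.H2.SL2Sylow
import Cfsg.Agent.Lib.H18.SL2Char2Action
import Cfsg.Agent.Lib.H1.PCore

/-!
# The normalizer of a Sylow `p`-subgroup of `SL₂(q)` is its unique maximal overgroup (helper5)
-/

set_option autoImplicit false

namespace Cfsg.Agent.Lib.H5.SLM

open Matrix Subgroup Cfsg.Agent.Lib.H2.SL2

section SL2

variable {F : Type*} [Field F] [Fintype F] (p : ℕ) [Fact p.Prime] [CharP F p]

/-- The lower unitriangular element `lSL 1` does not normalize `U`. -/
theorem lSL_one_not_mem_normalizer :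
    (lSL (1 : F)) ∉ normalizer (U F : Set (SpecialLinearGroup (Fin 2) F)) := by
  intro h
  have h1 := (mem_normalizer_iff.mp h (uSL 1)).mp (uSL_mem 1)
  obtain ⟨t, ht⟩ := (mem_U_iff _).mp h1
  have h2 : uSL t * lSL (1 : F) = lSL 1 * uSL 1 := by
    rw [ht, inv_mul_cancel_right]
  have e00 := congrArg (fun g : SpecialLinearGroup (Fin 2) F =>
    (g : Matrix (Fin 2) (Fin 2) F) 0 0) h2
  have e01 := congrArg (fun g : SpecialLinearGroup (Fin 2) F =>
    (g : Matrix (Fin 2) (Fin 2) F) 0 1) h2
  simp only [mul_val, uSL_val, lSL_val, Matrix.of_apply, Matrix.cons_val',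
    Matrix.cons_val_zero, Matrix.cons_val_one, Matrix.empty_val', Matrix.cons_val_fin_one] at e00 e01
  have ht0 : t = 0 := by linear_combination e00
  rw [ht0] at e01
  simp at e01

/-- There are two distinct Sylow `p`-subgroups. -/
theorem exists_sylow_ne (P : Sylow p (SpecialLinearGroup (Fin 2) F)) :
    ∃ Q : Sylow p (SpecialLinearGroup (Fin 2) F), Q ≠ P := by
  by_contra hcon
  push Not at hcon
  have h1 : (lSL (1 : F)) • (USylow (F := F) p) = USylow p := by
    rw [hcon (lSL (1 : F) • USylow p), hcon (USylow p)]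
  rw [Sylow.smul_eq_iff_mem_normalizer] at h1
  exact lSL_one_not_mem_normalizer h1

/-- Overgroups of a Sylow `p`-subgroup of `SL₂(q)` are contained in its normalizer or are
everything. -/
theorem le_normalizer_or_eq_top (P : Sylow p (SpecialLinearGroup (Fin 2) F))
    (M : Subgroup (SpecialLinearGroup (Fin 2) F))
    (hPM : (P : Subgroup (SpecialLinearGroup (Fin 2) F)) ≤ M) :
    M ≤ normalizer ((P : Subgroup (SpecialLinearGroup (Fin 2) F)) : Set (SpecialLinearGroup (Fin 2) F)) ∨ M = ⊤ := by
  by_cases h : M ≤ normalizer ((P : Subgroup (SpecialLinearGroup (Fin 2) F)) : Set (SpecialLinearGroup (Fin 2) F))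
  · exact Or.inl h
  · right
    obtain ⟨m, hmM, hmN⟩ := SetLike.not_le_iff_exists.mp h
    have hne : m • P ≠ P := by
      intro heq
      exact hmN (Sylow.smul_eq_iff_mem_normalizer.mp heq)
    have h1 := sylow_sup_eq_top p (m • P) P hne
    rw [eq_top_iff, ← h1]
    apply sup_le _ hPM
    intro y hy
    have hy' := (mem_sylow_smul_iff m y P).mp hy
    have h3 : y = m * (m⁻¹ * y * m) * m⁻¹ := by group
    rw [h3]
    exact M.mul_mem (M.mul_mem hmM (hPM hy')) (M.inv_mem hmM)

/-- The normalizer of a Sylow `p`-subgroup of `SL₂(q)` is not the whole group. -/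
theorem normalizer_ne_top (P : Sylow p (SpecialLinearGroup (Fin 2) F)) :
    normalizer ((P : Subgroup (SpecialLinearGroup (Fin 2) F)) : Set (SpecialLinearGroup (Fin 2) F)) ≠ ⊤ := by
  intro h
  obtain ⟨Q, hQ⟩ := exists_sylow_ne p P
  obtain ⟨g, hg⟩ := MulAction.exists_smul_eq (SpecialLinearGroup (Fin 2) F) P Q
  apply hQ
  rw [← hg]
  apply Sylow.smul_eq_iff_mem_normalizer.mpr
  rw [← P.coe_coe, h]
  exact mem_top g

end SL2

section Lift

variable {X Y : Type*} [Group X] [Group Y]

/-- Lifting "the normalizer of a Sylow subgroup is the unique maximal overgroup" along a surjection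
whose kernel lies in the Sylow subgroup. -/
theorem lift_unique_max [Finite X] {p : ℕ} [Fact p.Prime] (φ : X →* Y) (hφ : Function.Surjective φ)
    (T : Sylow p X) (hker : φ.ker ≤ (T : Subgroup X))
    (hY : ∀ M : Subgroup Y, (T : Subgroup X).map φ ≤ M →
      M ≤ normalizer (((T : Subgroup X).map φ : Subgroup Y) : Set Y) ∨ M = ⊤)
    (hN : normalizer (((T : Subgroup X).map φ : Subgroup Y) : Set Y) ≠ ⊤) :
    IsCoatom (normalizer ((T : Subgroup X) : Set X)) ∧
      ∀ M : Subgroup X, IsCoatom M → (T : Subgroup X) ≤ M →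
        M = normalizer ((T : Subgroup X) : Set X) := by
  have hcomap : ((T : Subgroup X).map φ).comap φ = (T : Subgroup X) :=
    Subgroup.comap_map_eq_self hker
  have hnorm : (normalizer (((T : Subgroup X).map φ : Subgroup Y) : Set Y)).comap φ =
      normalizer ((T : Subgroup X) : Set X) := by
    have := Subgroup.comap_normalizer_eq_of_surjective ((T : Subgroup X).map φ) hφ
    rw [hcomap] at this
    exact this
  have hNX : normalizer ((T : Subgroup X) : Set X) ≠ ⊤ := by
    intro h
    apply hN
    rw [eq_top_iff]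
    intro y _
    obtain ⟨x, rfl⟩ := hφ y
    have hx : x ∈ normalizer ((T : Subgroup X) : Set X) := h ▸ mem_top x
    rw [← hnorm] at hx
    exact hx
  have key : ∀ M : Subgroup X, (T : Subgroup X) ≤ M →
      M ≤ normalizer ((T : Subgroup X) : Set X) ∨ M = ⊤ := by
    intro M hTM
    rcases hY (M.map φ) (Subgroup.map_mono hTM) with h | h
    · left
      rw [← hnorm]
      exact (Subgroup.le_comap_map φ M).trans (Subgroup.comap_mono h)
    · right
      have h2 := Subgroup.comap_map_eq_self (hker.trans hTM)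
      rw [h, Subgroup.comap_top] at h2
      exact h2.symm
  refine ⟨⟨hNX, ?_⟩, ?_⟩
  · intro M hM
    rcases key M (le_normalizer.trans hM.le) with h | h
    · exact absurd (lt_of_lt_of_le hM h) (lt_irrefl _)
    · exact h
  · intro M hM hTM
    rcases key M hTM with h | h
    · rcases eq_or_lt_of_le h with h' | h'
      · exact h'
      · exact absurd (hM.2 _ h') hNX
    · exact absurd h hM.1

end Lift

end Cfsg.Agent.Lib.H5.SLM
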