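import Mathlib
import Cfsg.Agent.Lib.H5.PSL2Torus
import Cfsg.Agent.Lib.H5.SL2MaxOver
import Cfsg.Agent.Lib.H12.BorelMcKay

/-!
# The Borel subgroup of `PSL₂(F)`

The normalizer of a Sylow `p`-subgroup of `PSL₂(F)` (`p` the characteristic) is the image of the
upper triangular group; its subgroups of order prime to `p` are cyclic; an overgroup of a Sylow
`p`-subgroup lies in its normalizer or is everything.
-/

set_option autoImplicit false

namespace Cfsg.Agent.Lib.H5.PSL2Borel

open Matrix Cfsg.Agent.Lib.H12 Cfsg.Agent.Lib.H5.PSL2Torus Cfsg.Agent.Lib.H2.SL2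

variable {F : Type*} [Field F]

local notation "SL2" => Matrix.SpecialLinearGroup (Fin 2) F
local notation "M2" => Matrix (Fin 2) (Fin 2) F
local notation "PSL2" => Matrix.ProjectiveSpecialLinearGroup (Fin 2) F

/-- the image of the upper unitriangular group -/
def prU (F : Type*) [Field F] : Subgroup (Matrix.ProjectiveSpecialLinearGroup (Fin 2) F) :=
  (U F).map pr

/-- the image of the Borel subgroup -/
def prB (F : Type*) [Field F] : Subgroup (Matrix.ProjectiveSpecialLinearGroup (Fin 2) F) :=
  (borelSL F).map pr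

theorem neg_mem_borelSL {g : SL2} (h : g ∈ borelSL F) : -g ∈ borelSL F := by
  rw [mem_borelSL] at h ⊢
  rw [Matrix.SpecialLinearGroup.coe_neg, Matrix.neg_apply, h, neg_zero]

theorem pr_mem_prB_iff (g : SL2) : pr g ∈ prB F ↔ g ∈ borelSL F := by
  constructor
  · rintro ⟨k, hk, h⟩
    rcases (pr_eq_pr_iff k g).mp h with rfl | rfl
    · exact hk
    · exact neg_mem_borelSL hk
  · intro h
    exact ⟨g, h, rfl⟩

theorem prU_le_prB : prU F ≤ prB F := by
  apply Subgroup.map_mono
  intro g hg
  obtain ⟨t, rfl⟩ := (mem_U_iff g).mp hg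
  rw [mem_borelSL, uSL_val]
  simp

/-- the normalizer of the image of the unitriangular group is the image of the Borel subgroup -/
theorem normalizer_prU : Subgroup.normalizer ((prU F : Subgroup PSL2) : Set PSL2) = prB F := by
  apply le_antisymm
  · intro x hx
    obtain ⟨g, rfl⟩ := pr_surjective x
    rw [pr_mem_prB_iff, mem_borelSL]
    have h1 : pr g * pr (uSL 1) * (pr g)⁻¹ ∈ prU F :=
      (Subgroup.mem_normalizer_iff.mp hx _).mp ⟨uSL 1, uSL_mem 1, rfl⟩
    obtain ⟨u, hu, h2⟩ := h1
    obtain ⟨t, rfl⟩ := (mem_U_iff u).mp hu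
    have h3 : pr (uSL t) = pr (g * uSL 1 * g⁻¹) := by rw [h2]; simp
    have hdet := g.det_coe
    rw [Matrix.det_fin_two] at hdet
    rcases (pr_eq_pr_iff _ _).mp h3 with h4 | h4
    · have h5 : uSL t * g = g * uSL 1 := by rw [← h4]; group
      have h6 := congrArg (fun m : SL2 => (m : M2) 1 1) h5
      simp only [mul_val, uSL_val] at h6
      simp at h6
      exact h6
    · have h5 : g * uSL 1 = -(uSL t * g) := by
        rw [← neg_mul, ← h4]; group
      have h6 := congrArg (fun m : SL2 => (m : M2) 1 1) h5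
      have h7 := congrArg (fun m : SL2 => (m : M2) 1 0) h5
      simp only [mul_val, uSL_val, Matrix.SpecialLinearGroup.coe_neg, Matrix.neg_apply] at h6 h7
      simp at h6 h7
      -- `h7 : c = -c`, `h6 : c + d = -d`
      by_cases h2 : (2 : F) = 0
      · have : (g : M2) 1 0 = -(2 * (g : M2) 1 1) := by linear_combination h6
        rw [this, h2]; simp
      · exfalso
        have hc : (g : M2) 1 0 = 0 := by
          have : 2 * (g : M2) 1 0 = 0 := by linear_combination h7
          exact (mul_eq_zero.mp this).resolve_left h2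
        have hd : (g : M2) 1 1 = 0 := by
          have : 2 * (g : M2) 1 1 = 0 := by linear_combination h6 - hc
          exact (mul_eq_zero.mp this).resolve_left h2
        rw [hc, hd] at hdet
        simp at hdet
  · have h1 := Subgroup.le_normalizer_map (H := U F) (pr (F := F))
    rw [normalizer_U_eq] at h1
    exact h1

section finite

variable [Fintype F]

/-- a subgroup of the Borel subgroup meeting the unipotent radical trivially is cyclic -/
theorem isCyclic_of_le_prB (M : Subgroup PSL2) (hM : M ≤ prB F) (hMU : M ⊓ prU F = ⊥) :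
    IsCyclic M := by
  classical
  let M' : Subgroup ↥(borelSL F) := (M.comap pr).subgroupOf (borelSL F)
  let f : ↥M' →* Fˣ := (borelDiag F).comp M'.subtype
  have hf : Function.Injective f := by
    rw [injective_iff_map_eq_one]
    intro b hb
    have hb' : (b : ↥(borelSL F)) ∈ (borelDiag F).ker := hb
    obtain ⟨e, he⟩ := (mem_ker_borelDiag _).mp hb'
    have hbM : pr ((b : ↥(borelSL F)) : SL2) ∈ M := Subgroup.mem_subgroupOf.mp b.2
    have hval : (((b : ↥(borelSL F)) : SL2) : M2) = !![1, e; 0, 1] := by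
      rw [he, borelMkSL_val]
      simp
    have hbU : ((b : ↥(borelSL F)) : SL2) = uSL e := by
      apply Subtype.ext
      rw [hval, uSL_val]
    have h1 : pr ((b : ↥(borelSL F)) : SL2) ∈ M ⊓ prU F :=
      ⟨hbM, ⟨_, hbU ▸ uSL_mem e, rfl⟩⟩
    rw [hMU, Subgroup.mem_bot, pr_eq_one_iff, hbU] at h1
    -- a central unitriangular matrix is trivial
    have h2 := Subgroup.mem_center_iff.mp h1 (lSL 1)
    have h3 := congrArg (fun m : SL2 => (m : M2) 0 0) h2
    simp only [mul_val, uSL_val, lSL_val] at h3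
    simp at h3
    apply Subtype.ext
    apply Subtype.ext
    rw [hbU, h3, uSL_zero]
    rfl
  haveI : IsCyclic ↥M' := isCyclic_of_injective f hf
  let φ : ↥M' →* ↥M :=
    { toFun := fun b => ⟨pr ((b : ↥(borelSL F)) : SL2), Subgroup.mem_subgroupOf.mp b.2⟩
      map_one' := by apply Subtype.ext; simp
      map_mul' := fun a b => by apply Subtype.ext; simp }
  apply isCyclic_of_surjective φ
  intro x
  obtain ⟨g, hg⟩ := pr_surjective (x : PSL2)
  have hgB : g ∈ borelSL F := (pr_mem_prB_iff g).mp (hg ▸ hM x.2)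
  refine ⟨⟨⟨g, hgB⟩, ?_⟩, ?_⟩
  · rw [Subgroup.mem_subgroupOf]
    show pr g ∈ M
    rw [hg]; exact x.2
  · apply Subtype.ext
    exact hg

variable (p : ℕ) [Fact p.Prime] [CharP F p]

theorem isPGroup_prU : IsPGroup p (prU F) := by
  have h : IsPGroup p (U F) := by
    rw [← coe_USylow p]
    exact (USylow (F := F) p).isPGroup'
  exact h.map pr

/-- the standard Sylow `p`-subgroup of `PSL₂` -/
noncomputable def prUSylow : Sylow p PSL2 := (USylow (F := F) p).mapSurjective pr_surjective

theorem coe_prUSylow : ((prUSylow p : Sylow p PSL2) : Subgroup PSL2) = prU F := rfl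

/-- subgroups of the normalizer of a Sylow `p`-subgroup of order prime to `p` are cyclic -/
theorem isCyclic_of_le_normalizer (P : Sylow p PSL2) (M : Subgroup PSL2)
    (hM : M ≤ Subgroup.normalizer ((P : Subgroup PSL2) : Set PSL2)) (hp : ¬ p ∣ Nat.card M) :
    IsCyclic M := by
  obtain ⟨g, hg⟩ := MulAction.exists_smul_eq PSL2 P (prUSylow p)
  -- conjugate `M` by `g`
  let M₁ : Subgroup PSL2 := M.map (MulAut.conj g).toMonoidHom
  let e : ↥M ≃* ↥M₁ := (MulAut.conj g).subgroupMap M
  have hcard : Nat.card M₁ = Nat.card M := (Nat.card_congr e.toEquiv).symm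
  have hM₁ : M₁ ≤ prB F := by
    rw [← normalizer_prU, ← coe_prUSylow p, ← hg]
    rintro y ⟨x, hx, rfl⟩
    have hx' := hM hx
    show g * x * g⁻¹ ∈ _
    rw [Subgroup.mem_normalizer_iff] at hx' ⊢
    intro z
    have h1 := hx' (g⁻¹ * z * g)
    rw [Sylow.coe_subgroup_smul, Subgroup.mem_smul_pointwise_iff_exists,
      Subgroup.mem_smul_pointwise_iff_exists]
    constructor
    · rintro ⟨s, hs, rfl⟩
      refine ⟨x * s * x⁻¹, ?_, ?_⟩
      · have := (hx' s).mp hs
        exact this
      · simp only [MulAut.smul_def, MulAut.conj_apply]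
        group
    · rintro ⟨s, hs, h2⟩
      refine ⟨x⁻¹ * s * x, ?_, ?_⟩
      · have := (hx' (x⁻¹ * s * x)).mpr (by convert hs using 1; group)
        exact this
      · simp only [MulAut.smul_def, MulAut.conj_apply] at h2 ⊢
        have : z = (g * x * g⁻¹)⁻¹ * (g * s * g⁻¹) * (g * x * g⁻¹) := by
          rw [h2]; group
        rw [this]; group
  have hMU : M₁ ⊓ prU F = ⊥ := by
    have h1 : IsPGroup p ↥(M₁ ⊓ prU F) := (isPGroup_prU p).to_le inf_le_right
    obtain ⟨n, hn⟩ := h1.exists_card_eq
    have h2 : Nat.card ↥(M₁ ⊓ prU F) ∣ Nat.card M₁ := Subgroup.card_dvd_of_le inf_le_left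
    rw [hcard, hn] at h2
    rcases Nat.eq_zero_or_pos n with h0 | h0
    · rw [h0, pow_zero] at hn
      exact Subgroup.card_eq_one.mp hn
    · exact absurd ((dvd_pow_self p h0.ne').trans h2) hp
  haveI := isCyclic_of_le_prB M₁ hM₁ hMU
  exact isCyclic_of_surjective e.symm e.symm.surjective

/-- an overgroup of a Sylow `p`-subgroup of `PSL₂(F)` lies in its normalizer or is everything -/
theorem le_normalizer_or_eq_top (P : Sylow p PSL2) (M : Subgroup PSL2)
    (hPM : (P : Subgroup PSL2) ≤ M) :
    M ≤ Subgroup.normalizer ((P : Subgroup PSL2) : Set PSL2) ∨ M = ⊤ := by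
  obtain ⟨P', hP'⟩ := Sylow.mapSurjective_surjective (pr_surjective (F := F)) p P
  have hcoe : (P : Subgroup PSL2) = (P' : Subgroup SL2).map pr := by
    rw [← hP']; rfl
  have h1 : (P' : Subgroup SL2) ≤ M.comap pr := by
    intro x hx
    exact hPM (hcoe ▸ ⟨x, hx, rfl⟩)
  rcases Cfsg.Agent.Lib.H5.SLM.le_normalizer_or_eq_top p P' (M.comap pr) h1 with h | h
  · left
    intro x hx
    obtain ⟨g, rfl⟩ := pr_surjective x
    have h2 := h hx
    rw [hcoe]
    exact Subgroup.le_normalizer_map pr ⟨g, h2, rfl⟩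
  · right
    rw [eq_top_iff]
    intro x _
    obtain ⟨g, rfl⟩ := pr_surjective x
    have : g ∈ M.comap pr := h ▸ Subgroup.mem_top g
    exact this

/-- the order of a Sylow `p`-subgroup divides the order of the field -/
theorem card_sylow_dvd (P : Sylow p PSL2) : Nat.card P ∣ Fintype.card F := by
  obtain ⟨P', hP'⟩ := Sylow.mapSurjective_surjective (pr_surjective (F := F)) p P
  have hcoe : (P : Subgroup PSL2) = (P' : Subgroup SL2).map pr := by
    rw [← hP']; rfl
  have h1 : Nat.card (P : Subgroup PSL2) ∣ Nat.card (P' : Subgroup SL2) := by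
    rw [hcoe]; exact Subgroup.card_map_dvd _ _
  have h2 : Nat.card (P' : Subgroup SL2) = Nat.card (USylow (F := F) p : Subgroup SL2) :=
    Nat.card_congr (Sylow.equiv P' (USylow p)).toEquiv
  rw [coe_USylow, card_U] at h2
  rw [← Nat.card_eq_fintype_card, ← h2]
  exact h1

/-- over the prime field, a subgroup of order divisible by `p` contains a Sylow `p`-subgroup -/
theorem exists_sylow_le_of_dvd (hF : Fintype.card F = p) (M : Subgroup PSL2)
    (hp : p ∣ Nat.card M) : ∃ P : Sylow p PSL2, (P : Subgroup PSL2) ≤ M := by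
  obtain ⟨x, hx⟩ := exists_prime_orderOf_dvd_card' p hp
  have hZ : IsPGroup p (Subgroup.zpowers (x : PSL2)) := by
    apply IsPGroup.of_card (n := 1)
    rw [Nat.card_zpowers, pow_one, Subgroup.orderOf_coe, hx]
  obtain ⟨P, hP⟩ := hZ.exists_le_sylow
  refine ⟨P, ?_⟩
  have h1 : Nat.card (P : Subgroup PSL2) ≤ p := by
    have := card_sylow_dvd p P
    rw [hF] at this
    exact Nat.le_of_dvd (Fact.out : p.Prime).pos this
  have h2 : Nat.card (Subgroup.zpowers (x : PSL2)) = p := by
    rw [Nat.card_zpowers, Subgroup.orderOf_coe, hx]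
  have h3 : (Subgroup.zpowers (x : PSL2)) = (P : Subgroup PSL2) :=
    Subgroup.eq_of_le_of_card_ge hP (by rw [h2]; exact h1)
  rw [← h3, Subgroup.zpowers_le]
  exact x.2

/-- over the prime field, a proper subgroup of order divisible by `p` containing a non-cyclic
`p'`-subgroup does not exist -/
theorem not_dvd_of_le (hF : Fintype.card F = p) (H M : Subgroup PSL2) (hHM : H ≤ M)
    (hH : ¬ p ∣ Nat.card H) (hcyc : ¬ IsCyclic H) (hM : M ≠ ⊤) : ¬ p ∣ Nat.card M := by
  intro hp
  obtain ⟨P, hP⟩ := exists_sylow_le_of_dvd p hF M hp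
  rcases le_normalizer_or_eq_top p P M hP with h | h
  · exact hcyc (isCyclic_of_le_normalizer p P H (hHM.trans h) hH)
  · exact hM h

end finite

end Cfsg.Agent.Lib.H5.PSL2Borel
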