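import Mathlib
import Cfsg.Agent.Lib.H5.SylowIn

/-!
# Covering a Sylow subgroup by the other Sylow subgroups (generic lemmas)

`SylCover p G`: there is a Sylow `p`-subgroup `Q` such that every `p`-element lies in a Sylow
`p`-subgroup different from `Q`.
-/

set_option autoImplicit false

namespace Cfsg.Agent.Lib.H5.SylCov

open Subgroup

variable {G : Type*} [Group G]

/-- the covering property -/
def SylCover (p : ℕ) (G : Type*) [Group G] : Prop :=
  ∃ Q : Sylow p G, ∀ x : G, (∃ k : ℕ, orderOf x = p ^ k) → ∃ P : Sylow p G, P ≠ Q ∧ x ∈ P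

/-- the trivial intersection property -/
def SylTI (p : ℕ) (G : Type*) [Group G] : Prop :=
  ∀ P P' : Sylow p G, ∀ x : G, x ∈ P → x ∈ P' → x ≠ 1 → P = P'

theorem isPGroup_zpowers_of_orderOf {p : ℕ} {x : G} (h : ∃ k : ℕ, orderOf x = p ^ k) :
    IsPGroup p (zpowers x) := by
  obtain ⟨k, hk⟩ := h
  intro g
  obtain ⟨n, hn⟩ := mem_zpowers_iff.mp g.2
  refine ⟨k, ?_⟩
  apply Subtype.ext
  rw [SubmonoidClass.coe_pow, ← hn, Subgroup.coe_one, ← zpow_natCast, ← zpow_mul, mul_comm, zpow_mul,
    zpow_natCast, ← hk, pow_orderOf_eq_one, one_zpow]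

theorem exists_orderOf_of_mem {p : ℕ} [Fact p.Prime] {P : Subgroup G} (hP : IsPGroup p P) {x : G}
    (hx : x ∈ P) : ∃ k : ℕ, orderOf x = p ^ k := by
  obtain ⟨k, hk⟩ := hP ⟨x, hx⟩
  have h1 : x ^ p ^ k = 1 := by
    have := congrArg Subtype.val hk
    simpa using this
  obtain ⟨j, -, hj⟩ := (Nat.dvd_prime_pow Fact.out).mp (orderOf_dvd_of_pow_eq_one h1)
  exact ⟨j, hj⟩

/-- **Two Sylow subgroups through `x`.**  If `w` (a `p`-element) inverts both `x` (a `p`-element)
and `t`, `t` commutes with `x`, and `t * t` is not a `p`-element, then `x` lies in a Sylow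
`p`-subgroup different from any given one. -/
theorem exists_sylow_ne_of_inverting {p : ℕ} [Fact p.Prime] (Q : Sylow p G) {x w t : G}
    (hx : ∃ k : ℕ, orderOf x = p ^ k) (hw : ∃ k : ℕ, orderOf w = p ^ k)
    (hwx : w * x * w⁻¹ = x⁻¹) (hwt : w * t * w⁻¹ = t⁻¹) (htx : t * x = x * t)
    (ht : ∀ k : ℕ, (t * t) ^ p ^ k ≠ 1) : ∃ P : Sylow p G, P ≠ Q ∧ x ∈ P := by
  have hX := isPGroup_zpowers_of_orderOf hx
  have hW := isPGroup_zpowers_of_orderOf hw
  have hwx' : w⁻¹ * x * w⁻¹⁻¹ = x⁻¹ := by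
    rw [inv_inv]
    have h1 : x = w⁻¹ * x⁻¹ * w := by rw [← hwx]; group
    have h2 : x⁻¹ = (w⁻¹ * x⁻¹ * w)⁻¹ := congrArg (·⁻¹) h1
    rw [h2]; group
  have hnorm : zpowers w ≤ normalizer (zpowers x : Set G) := by
    rw [zpowers_le]
    rw [mem_normalizer_iff]
    intro h
    have key : ∀ h : G, h ∈ zpowers x → w * h * w⁻¹ ∈ zpowers x := by
      intro h hh
      obtain ⟨n, rfl⟩ := mem_zpowers_iff.mp hh
      rw [← conj_zpow, hwx]
      exact zpow_mem (inv_mem (mem_zpowers x)) n
    have key' : ∀ h : G, h ∈ zpowers x → w⁻¹ * h * w⁻¹⁻¹ ∈ zpowers x := by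
      intro h hh
      obtain ⟨n, rfl⟩ := mem_zpowers_iff.mp hh
      rw [← conj_zpow, hwx']
      exact zpow_mem (inv_mem (mem_zpowers x)) n
    constructor
    · exact key h
    · intro hh
      have := key' _ hh
      have e : w⁻¹ * (w * h * w⁻¹) * w⁻¹⁻¹ = h := by group
      rwa [e] at this
  have hD : IsPGroup p (zpowers x ⊔ zpowers w : Subgroup G) :=
    IsPGroup.to_sup_of_normal_left' hX hW hnorm
  obtain ⟨P₁, hP₁⟩ := hD.exists_le_sylow
  have hxP : x ∈ P₁ := hP₁ (mem_sup_left (mem_zpowers x))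
  have hwP : w ∈ P₁ := hP₁ (mem_sup_right (mem_zpowers w))
  have hxP₂ : x ∈ (t • P₁ : Sylow p G) := by
    rw [sylow_mem_smul_iff]
    have : t⁻¹ * x * t = x := by
      rw [mul_assoc, ← htx]; group
    rw [this]; exact hxP
  have hne : (t • P₁ : Sylow p G) ≠ P₁ := by
    intro heq
    have h1 : t * w * t⁻¹ ∈ (t • P₁ : Sylow p G) := by
      rw [sylow_mem_smul_iff]
      have : t⁻¹ * (t * w * t⁻¹) * t = w := by group
      rw [this]; exact hwP
    rw [heq] at h1
    have h2 : t * w * t⁻¹ * w⁻¹ ∈ P₁ := mul_mem h1 (inv_mem hwP)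
    have h3 : t * w * t⁻¹ * w⁻¹ = t * t := by
      have : w * t⁻¹ * w⁻¹ = t := by
        have : w * t⁻¹ * w⁻¹ = (w * t * w⁻¹)⁻¹ := by group
        rw [this, hwt, inv_inv]
      calc t * w * t⁻¹ * w⁻¹ = t * (w * t⁻¹ * w⁻¹) := by group
        _ = t * t := by rw [this]
    rw [h3] at h2
    obtain ⟨k, hk⟩ := P₁.isPGroup' ⟨t * t, h2⟩
    apply ht k
    have := congrArg Subtype.val hk
    simpa using this
  by_cases h : P₁ = Q
  · exact ⟨t • P₁, by rw [← h]; exact hne, hxP₂⟩
  · exact ⟨P₁, h, hxP⟩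

/-- the trivial intersection property rules out the covering property -/
theorem not_sylCover_of_TI {p : ℕ} [Fact p.Prime] [Finite G] (hTI : SylTI p G) :
    ¬ SylCover p G := by
  rintro ⟨Q, hQ⟩
  by_cases h : ∃ x : G, x ∈ Q ∧ x ≠ 1
  · obtain ⟨x, hxQ, hx1⟩ := h
    obtain ⟨P, hPQ, hxP⟩ := hQ x (exists_orderOf_of_mem Q.isPGroup' hxQ)
    exact hPQ (hTI P Q x hxP hxQ hx1)
  · push Not at h
    obtain ⟨P, hPQ, -⟩ := hQ 1 ⟨0, by simp⟩
    apply hPQ
    have hQbot : (Q : Subgroup G) = ⊥ := by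
      rw [eq_bot_iff]
      intro x hx
      rw [mem_bot]
      exact h x hx
    have hcard : Nat.card (P : Subgroup G) = Nat.card (Q : Subgroup G) :=
      Nat.card_congr (Sylow.equiv P Q).toEquiv
    have hPbot : (P : Subgroup G) = ⊥ := by
      rw [hQbot, Subgroup.card_bot] at hcard
      exact (Subgroup.card_eq_one).mp hcard
    exact Sylow.ext (by rw [hPbot, hQbot])

/-- commutative centralizers of the nontrivial `p`-elements give the trivial intersection
property -/
theorem sylTI_of_comm_centralizer {p : ℕ} [Fact p.Prime] [Finite G]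
    (hcomm : ∀ x : G, x ≠ 1 → (∃ k : ℕ, orderOf x = p ^ k) →
      ∀ a b : G, a ∈ centralizer ({x} : Set G) → b ∈ centralizer ({x} : Set G) → a * b = b * a) :
    SylTI p G := by
  -- Sylow subgroups are commutative
  have hab : ∀ P : Sylow p G, ∀ a b : G, a ∈ P → b ∈ P → a * b = b * a := by
    intro P a b ha hb
    by_cases hbot : (P : Subgroup G) = ⊥
    · have ha' : a ∈ (P : Subgroup G) := ha
      have hb' : b ∈ (P : Subgroup G) := hb
      rw [hbot, mem_bot] at ha' hb'
      rw [ha', hb']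
    · have : Nontrivial (P : Subgroup G) := (Subgroup.nontrivial_iff_ne_bot _).mpr hbot
      have hc : (Subgroup.center (P : Subgroup G)) ≠ ⊥ := by
        have : Nontrivial (Subgroup.center (P : Subgroup G)) :=
          IsPGroup.center_nontrivial P.isPGroup'
        exact (Subgroup.nontrivial_iff_ne_bot _).mp inferInstance
      obtain ⟨z, hz1⟩ := (Subgroup.ne_bot_iff_exists_ne_one).mp hc
      have hz1' : (z : G) ≠ 1 := by
        intro h
        apply hz1
        apply Subtype.ext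
        apply Subtype.ext
        simpa using h
      have hzP : ((z : (P : Subgroup G)) : G) ∈ P := (z : (P : Subgroup G)).2
      have hcz : ∀ g : G, g ∈ P → g ∈ centralizer ({((z : (P : Subgroup G)) : G)} : Set G) := by
        intro g hg
        rw [mem_centralizer_singleton_iff]
        have := (Subgroup.mem_center_iff.mp z.2) ⟨g, hg⟩
        have := congrArg Subtype.val this
        simpa using this
      exact hcomm _ hz1' (exists_orderOf_of_mem P.isPGroup' hzP) a b (hcz a ha) (hcz b hb)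
  intro P P' x hxP hxP' hx1
  have hxo := exists_orderOf_of_mem P.isPGroup' hxP
  have hPc : ∀ g : G, g ∈ P → g ∈ centralizer ({x} : Set G) := by
    intro g hg
    rw [mem_centralizer_singleton_iff]
    exact hab P g x hg hxP
  have hP'c : ∀ g : G, g ∈ P' → g ∈ centralizer ({x} : Set G) := by
    intro g hg
    rw [mem_centralizer_singleton_iff]
    exact hab P' g x hg hxP'
  -- `P'` normalizes (indeed centralizes) `P`, so `P ⊔ P'` is a `p`-group
  have hnorm : (P' : Subgroup G) ≤ normalizer ((P : Subgroup G) : Set G) := by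
    intro g hg
    rw [mem_normalizer_iff]
    intro h
    have hcg : ∀ h : G, h ∈ P → g * h * g⁻¹ = h := by
      intro h hh
      have := hcomm x hx1 hxo g h (hP'c g hg) (hPc h hh)
      rw [this]; group
    constructor
    · intro hh
      rw [hcg h hh]; exact hh
    · intro hh
      have h1 := hcg _ hh
      have h2 : g * h * g⁻¹ = h := by
        have e : h = g⁻¹ * (g * h * g⁻¹) * g := by group
        have := hcomm x hx1 hxo g (g * h * g⁻¹) (hP'c g hg) (hPc _ hh)
        have e2 : g * h = h * g := by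
          have : g * (g * h * g⁻¹) * g⁻¹ = g * h * g⁻¹ := h1
          have e3 : g * h * g⁻¹ = g⁻¹ * (g * (g * h * g⁻¹) * g⁻¹) * g := by group
          rw [this] at e3
          have e4 : g⁻¹ * (g * h * g⁻¹) * g = h := by group
          rw [e4] at e3
          -- e3 : g * h * g⁻¹ = h
          calc g * h = (g * h * g⁻¹) * g := by group
            _ = h * g := by rw [e3]
        rw [e2]; group
      rw [h2] at hh
      exact hh
  have hsup : IsPGroup p ((P : Subgroup G) ⊔ (P' : Subgroup G) : Subgroup G) :=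
    IsPGroup.to_sup_of_normal_left' P.isPGroup' P'.isPGroup' hnorm
  have h1 : ((P : Subgroup G) ⊔ (P' : Subgroup G) : Subgroup G) = P := P.is_maximal' hsup le_sup_left
  have h2 : ((P : Subgroup G) ⊔ (P' : Subgroup G) : Subgroup G) = P' :=
    P'.is_maximal' hsup le_sup_right
  exact Sylow.ext (h1.symm.trans h2)

variable {H : Type*} [Group H]

/-- the trivial intersection property passes to the quotient by a central `p'`-subgroup -/
theorem sylTI_of_surjective {p : ℕ} [Fact p.Prime] [Finite G] (f : G →* H)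
    (hf : Function.Surjective f) (hker : ∀ z : G, f z = 1 → (∀ g : G, z * g = g * z) ∧
      (orderOf z).Coprime p) (hTI : SylTI p G) : SylTI p H := by
  intro Pb Pb' xb hx hx' hx1
  obtain ⟨P, rfl⟩ := Sylow.mapSurjective_surjective hf p Pb
  obtain ⟨P', rfl⟩ := Sylow.mapSurjective_surjective hf p Pb'
  obtain ⟨a, haP, rfl⟩ : ∃ a ∈ (P : Subgroup G), f a = xb := hx
  obtain ⟨a', haP', ha'⟩ : ∃ a' ∈ (P' : Subgroup G), f a' = f a := hx'
  obtain ⟨z, hz⟩ : ∃ z : G, a' = a * z := ⟨a⁻¹ * a', by group⟩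
  have hfz : f z = 1 := by
    have : f a' = f a * f z := by rw [hz, map_mul]
    rw [ha'] at this
    exact (mul_eq_left.mp this.symm)
  obtain ⟨hzc, hzo⟩ := hker z hfz
  have hz1 : z = 1 := by
    obtain ⟨k, hk⟩ := exists_orderOf_of_mem P.isPGroup' haP
    obtain ⟨k', hk'⟩ := exists_orderOf_of_mem P'.isPGroup' haP'
    have hcomm : Commute a z := (hzc a).symm
    have hcop : (orderOf a).Coprime (orderOf z) := by
      rw [hk]
      exact (Nat.Coprime.pow_left k hzo.symm)
    have := hcomm.orderOf_mul_eq_mul_orderOf_of_coprime hcop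
    rw [← hz, hk', hk] at this
    have hdvd : orderOf z ∣ p ^ k' := ⟨p ^ k, by rw [this]; ring⟩
    have h1 : orderOf z = 1 := by
      have := Nat.Coprime.eq_one_of_dvd (Nat.Coprime.pow_right k' hzo) hdvd
      exact this
    exact orderOf_eq_one_iff.mp h1
  rw [hz1, mul_one] at hz
  rw [hz] at haP'
  have ha1 : a ≠ 1 := by
    intro h
    apply hx1
    rw [h, map_one]
  have := hTI P P' a haP haP' ha1
  rw [this]

/-- transfer of the covering property along a surjection with `p`-group kernel -/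
theorem sylCover_iff_of_surjective {p : ℕ} [Fact p.Prime] [Finite G] (f : G →* H)
    (hf : Function.Surjective f) (hker : IsPGroup p f.ker) : SylCover p G ↔ SylCover p H := by
  have : f.ker.Normal := MonoidHom.normal_ker f
  have hle : ∀ P : Sylow p G, f.ker ≤ (P : Subgroup G) := fun P => hker.le_sylow_of_normal P
  have hmem : ∀ (P : Sylow p G) (x : G), f x ∈ (P.mapSurjective hf : Sylow p H) → x ∈ P := by
    intro P x hx
    obtain ⟨y, hy, hxy⟩ : ∃ y ∈ (P : Subgroup G), f y = f x := hx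
    have : y⁻¹ * x ∈ f.ker := by
      rw [MonoidHom.mem_ker, map_mul, map_inv, hxy, inv_mul_cancel]
    have h2 := hle P this
    have : x = y * (y⁻¹ * x) := by group
    rw [this]
    exact mul_mem hy h2
  have hinj : ∀ P P' : Sylow p G, P.mapSurjective hf = P'.mapSurjective hf → P = P' := by
    intro P P' h
    apply Sylow.ext
    apply le_antisymm
    · intro x hx
      apply hmem P' x
      rw [← h]
      exact ⟨x, hx, rfl⟩
    · intro x hx
      apply hmem P x
      rw [h]
      exact ⟨x, hx, rfl⟩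
  constructor
  · rintro ⟨Q, hQ⟩
    refine ⟨Q.mapSurjective hf, ?_⟩
    intro xb hxb
    obtain ⟨x, rfl⟩ := hf xb
    obtain ⟨k, hk⟩ := hxb
    -- `x` is a `p`-element
    have hxk : (x ^ p ^ k) ∈ f.ker := by
      rw [MonoidHom.mem_ker, map_pow, ← hk, pow_orderOf_eq_one]
    obtain ⟨j, hj⟩ := hker ⟨_, hxk⟩
    have hx1 : x ^ p ^ (k + j) = 1 := by
      have := congrArg Subtype.val hj
      simp only [SubmonoidClass.mk_pow, Subgroup.coe_one] at this
      rw [pow_add, pow_mul]
      exact this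
    obtain ⟨i, -, hi⟩ := (Nat.dvd_prime_pow Fact.out).mp (orderOf_dvd_of_pow_eq_one hx1)
    obtain ⟨P, hPQ, hxP⟩ := hQ x ⟨i, hi⟩
    refine ⟨P.mapSurjective hf, ?_, ⟨x, hxP, rfl⟩⟩
    intro h
    exact hPQ (hinj P Q h)
  · rintro ⟨Qb, hQ⟩
    obtain ⟨Q, rfl⟩ := Sylow.mapSurjective_surjective hf p Qb
    refine ⟨Q, ?_⟩
    intro x hx
    obtain ⟨k, hk⟩ := hx
    have hfx : (f x) ^ p ^ k = 1 := by rw [← map_pow, ← hk, pow_orderOf_eq_one, map_one]
    obtain ⟨i, -, hi⟩ := (Nat.dvd_prime_pow Fact.out).mp (orderOf_dvd_of_pow_eq_one hfx)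
    obtain ⟨Pb, hPQ, hxP⟩ := hQ (f x) ⟨i, hi⟩
    obtain ⟨P, rfl⟩ := Sylow.mapSurjective_surjective hf p Pb
    refine ⟨P, ?_, hmem P x hxP⟩
    intro h
    apply hPQ
    rw [h]

end Cfsg.Agent.Lib.H5.SylCov
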