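import Mathlib
import Cfsg.Agent.Lib.H5.SylowCover
import Cfsg.Agent.Lib.H5.SL2Four
import Cfsg.Agent.Lib.H5.SL2Char2
import Cfsg.Agent.Lib.H5.SubgroupCard
import Cfsg.Agent.Lib.H12.SL2RegCard

/-!
# When is a Sylow `p`-subgroup of `SL₂(q)` covered by the other Sylow `p`-subgroups?

Exactly when `p = 2`, `q` is odd and neither `q - 1` nor `q + 1` is a power of two.
-/

set_option autoImplicit false

namespace Cfsg.Agent.Lib.H5.SL2Cov

open Matrix Cfsg.Agent.Lib.H12 Cfsg.Agent.Lib.H5.SylCov Cfsg.Agent.Lib.H5.SL2Four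

variable {F : Type*} [Field F]

local notation "SL2" => Matrix.SpecialLinearGroup (Fin 2) F
local notation "M2" => Matrix (Fin 2) (Fin 2) F

theorem neg_one_mul_neg_one : (-1 : SL2) * (-1) = 1 := by
  apply Subtype.ext
  simp

/-- nontrivial `p`-elements are non-scalar when `p` is odd or the characteristic is two -/
theorem nonScalar_of_pElement {p : ℕ} [Fact p.Prime] (hp : p ≠ 2 ∨ (2 : F) = 0) {x : SL2}
    (hx1 : x ≠ 1) (hx : ∃ k : ℕ, orderOf x = p ^ k) : Cfsg.Agent.Lib.H12.NonScalar (x : M2) := by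
  by_contra h
  have hc := sl2_mem_center_of_not_nonScalar x h
  rcases sl2_center_cases x hc with h1 | h1
  · exact hx1 h1
  · rcases hp with hp | h2
    · have hxx : x ^ 2 = 1 := by rw [h1, sq]; exact neg_one_mul_neg_one
      have hd : orderOf x ∣ 2 := orderOf_dvd_of_pow_eq_one hxx
      obtain ⟨k, hk⟩ := hx
      rw [hk] at hd
      have hk0 : k = 0 := by
        by_contra hk0
        have h3 : p ∣ 2 := (dvd_pow_self p hk0).trans hd
        exact hp ((Nat.prime_dvd_prime_iff_eq Fact.out Nat.prime_two).mp h3)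
      rw [hk0, pow_zero, orderOf_eq_one_iff] at hk
      exact hx1 hk
    · apply hx1
      rw [h1]
      exact Cfsg.Agent.Lib.H5.SL2Char2.sl2_neg_one_eq_one h2

theorem sl2_sylTI [Fintype F] {p : ℕ} [Fact p.Prime] (hp : p ≠ 2 ∨ (2 : F) = 0) : SylTI p SL2 :=
  sylTI_of_comm_centralizer (fun _ hx1 hx _ _ ha hb =>
    centralizer_comm (nonScalar_of_pElement hp hx1 hx) ha hb)

/-- an element of square `-1` -/
theorem exists_mul_self_neg_one : ∃ y : SL2, y * y = -1 := by
  have hdet : (!![0, 1; -1, 0] : M2).det = 1 := by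
    rw [Matrix.det_fin_two_of]; ring
  obtain ⟨y, hy⟩ : ∃ y : SL2, (y : M2) = !![0, 1; -1, 0] := ⟨⟨_, hdet⟩, rfl⟩
  refine ⟨y, ?_⟩
  apply Subtype.ext
  rw [Matrix.SpecialLinearGroup.coe_mul, hy, Matrix.SpecialLinearGroup.coe_neg,
    Matrix.SpecialLinearGroup.coe_one, Matrix.mul_fin_two, Matrix.one_fin_two]
  ext i j
  fin_cases i <;> fin_cases j <;> simp

/-- a `2`-element commutes with an element of square `-1` -/
theorem exists_comm_mul_self_neg_one (h2 : (2 : F) ≠ 0) {x : SL2}
    (hx : ∃ k : ℕ, orderOf x = 2 ^ k) :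
    ∃ y : SL2, y * y = -1 ∧ x ∈ Subgroup.centralizer ({y} : Set SL2) := by
  by_cases hxx : x * x = 1
  · obtain ⟨y, hy⟩ := exists_mul_self_neg_one (F := F)
    refine ⟨y, hy, ?_⟩
    rw [Subgroup.mem_centralizer_singleton_iff]
    rcases (sl2_mul_self_eq_one_iff h2 x).mp hxx with h | h
    · rw [h, one_mul, mul_one]
    · rw [h, neg_mul, mul_neg, one_mul, mul_one]
  · obtain ⟨k, hk⟩ := hx
    obtain ⟨j, rfl⟩ : ∃ j, k = j + 2 := by
      rcases k with _ | _ | j
      · exfalso
        rw [pow_zero, orderOf_eq_one_iff] at hk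
        apply hxx
        rw [hk, one_mul]
      · exfalso
        apply hxx
        rw [← sq]
        have := pow_orderOf_eq_one x
        rwa [hk, pow_one] at this
      · exact ⟨j, rfl⟩
    have hyy4 : (x ^ 2 ^ j * x ^ 2 ^ j) * (x ^ 2 ^ j * x ^ 2 ^ j) = 1 := by
      have := pow_orderOf_eq_one x
      rw [hk] at this
      rw [← pow_add, ← pow_add, ← this]
      congr 1
      ring
    refine ⟨x ^ 2 ^ j, ?_, ?_⟩
    · rcases (sl2_mul_self_eq_one_iff h2 _).mp hyy4 with h | h
      · exfalso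
        rw [← pow_add] at h
        have hd := orderOf_dvd_of_pow_eq_one h
        rw [hk] at hd
        have h3 : 2 ^ j + 2 ^ j = 2 ^ (j + 1) := by ring
        rw [h3] at hd
        have := Nat.pow_dvd_pow_iff_le_right (x := 2) (by norm_num : 1 < 2) |>.mp hd
        omega
      · exact h
    · rw [Subgroup.mem_centralizer_singleton_iff]
      exact ((Commute.refl x).pow_right _).eq

variable [Fintype F]

/-- **covering**: `q` odd, `q ± 1` not powers of two -/
theorem sl2_cover (hodd : Odd (Fintype.card F)) (h1 : ¬ ∃ k : ℕ, Fintype.card F + 1 = 2 ^ k)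
    (h1' : ¬ ∃ k : ℕ, Fintype.card F = 2 ^ k + 1) (Q : Sylow 2 SL2) (x : SL2)
    (hx : ∃ k : ℕ, orderOf x = 2 ^ k) : ∃ P : Sylow 2 SL2, P ≠ Q ∧ x ∈ P := by
  have h2 : (2 : F) ≠ 0 := two_ne_zero_of_odd hodd
  obtain ⟨y, hyy, hxy⟩ := exists_comm_mul_self_neg_one h2 hx
  have ht := trace_sq_ne_of_mul_self h2 y hyy
  have hd : Cfsg.Agent.Lib.H12.NonScalar (y : M2) := nonScalar_of_trace_sq_ne y ht
  obtain ⟨-, hsq, hnsq⟩ := regular_centralizer hodd y ht
  have hc : ¬ ∃ k : ℕ, Nat.card (Subgroup.centralizer ({y} : Set SL2)) = 2 ^ k := by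
    by_cases hs : IsSquare ((y : M2).trace ^ 2 - 4)
    · rw [hsq hs]
      rintro ⟨k, hk⟩
      apply h1'
      refine ⟨k, ?_⟩
      have := Fintype.one_lt_card (α := F)
      omega
    · rw [hnsq hs]
      exact h1
  rcases Nat.eq_two_pow_or_exists_odd_prime_and_dvd
      (Nat.card (Subgroup.centralizer ({y} : Set SL2))) with h | ⟨r, hr, hrd, hro⟩
  · exact absurd h hc
  · have : Fact r.Prime := ⟨hr⟩
    obtain ⟨t, hto⟩ := exists_prime_orderOf_dvd_card' r hrd
    have hto' : orderOf (t : SL2) = r := by rw [Subgroup.orderOf_coe, hto]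
    obtain ⟨w, hw⟩ := exists_inverting hodd ht
    have hww : w * w = -1 := by
      apply Subtype.ext
      rw [sq_eq_neg_one_of_inverts hd hw]
      simp
    have hwo : ∃ k : ℕ, orderOf w = 2 ^ k := by
      have h4 : w ^ 2 ^ 2 = 1 := by
        have : w ^ 2 ^ 2 = (w * w) * (w * w) := by
          rw [show (2 : ℕ) ^ 2 = 2 + 2 from rfl, pow_add, pow_two]
        rw [this, hww]
        exact neg_one_mul_neg_one
      obtain ⟨i, -, hi⟩ := (Nat.dvd_prime_pow Nat.prime_two).mp (orderOf_dvd_of_pow_eq_one h4)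
      exact ⟨i, hi⟩
    apply exists_sylow_ne_of_inverting Q hx hwo (inverts_centralizer hd hw hxy)
      (inverts_centralizer hd hw t.2) (centralizer_comm hd t.2 hxy)
    intro k hk
    have h3 : (t : SL2) ^ (2 * 2 ^ k) = 1 := by
      rw [← hk, ← pow_two, ← pow_mul]
    have hd' := orderOf_dvd_of_pow_eq_one h3
    rw [hto'] at hd'
    have h5 : r ∣ 2 ^ (k + 1) := by
      have : 2 * 2 ^ k = 2 ^ (k + 1) := by ring
      rwa [this] at hd'
    have h6 := (Nat.prime_dvd_prime_iff_eq hr Nat.prime_two).mp (hr.dvd_of_dvd_pow h5)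
    rw [h6] at hro
    exact absurd hro (by decide)

/-- **no covering** when `q + 1` or `q - 1` is a power of two -/
theorem sl2_not_cover (hodd : Odd (Fintype.card F))
    (h : (∃ k : ℕ, Fintype.card F + 1 = 2 ^ k) ∨ ∃ k : ℕ, Fintype.card F = 2 ^ k + 1) :
    ¬ SylCover 2 SL2 := by
  have h2 : (2 : F) ≠ 0 := two_ne_zero_of_odd hodd
  rintro ⟨Q, hQ⟩
  obtain ⟨y, s₀, hD⟩ := exists_syl2Data hodd Q
  have hyy := hD.xx
  have ht := trace_sq_ne_of_mul_self h2 y hyy
  have hd : Cfsg.Agent.Lib.H12.NonScalar (y : M2) := nonScalar_of_trace_sq_ne y ht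
  obtain ⟨hcyc, hsq, hnsq⟩ := regular_centralizer hodd y ht
  have htr := trace_eq_zero_of_mul_self y hyy
  rw [htr, isSquare_neg_four_iff h2, FiniteField.isSquare_neg_one_iff] at hsq hnsq
  have hq1 := Fintype.one_lt_card (α := F)
  -- the centralizer has 2-power order
  obtain ⟨j, hj⟩ : ∃ j : ℕ, Nat.card (Subgroup.centralizer ({y} : Set SL2)) = 2 ^ j := by
    rcases h with ⟨k, hk⟩ | ⟨k, hk⟩
    · have hk2 : 2 ≤ k := by
        by_contra hlt
        push Not at hlt
        interval_cases k <;> omega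
      obtain ⟨i, rfl⟩ : ∃ i, k = i + 2 := ⟨k - 2, by omega⟩
      have h4 : Fintype.card F % 4 = 3 := by
        have : 2 ^ (i + 2) = 4 * 2 ^ i := by ring
        omega
      refine ⟨i + 2, ?_⟩
      rw [hnsq (by omega), hk]
    · rcases k with _ | _ | i
      · exfalso
        rw [pow_zero] at hk
        rw [hk] at hodd
        exact absurd hodd (by decide)
      · refine ⟨2, ?_⟩
        rw [hnsq (by omega), hk]
        norm_num
      · have h4 : Fintype.card F % 4 = 1 := by
          have : 2 ^ (i + 1 + 1) = 4 * 2 ^ i := by ring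
          omega
        refine ⟨i + 1 + 1, ?_⟩
        rw [hsq (by omega), hk]
        simp
  have hN := (classes_normalizer hodd ht).1
  rw [← normalizer_zpowers_eq h2 hyy] at hN
  -- `Q` is the normalizer of `⟨y⟩`
  have hQN : (Q : Subgroup SL2) ≤ Subgroup.normalizer (Subgroup.zpowers y : Set SL2) := by
    intro s hs
    exact mem_normalizer_zpowers (hD.norm s hs)
  have hNp : IsPGroup 2 (Subgroup.normalizer (Subgroup.zpowers y : Set SL2)) := by
    apply IsPGroup.of_card (n := j + 1)
    rw [hN, hj]; ring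
  have hNQ : Subgroup.normalizer (Subgroup.zpowers y : Set SL2) = Q := Q.is_maximal' hNp hQN
  have hCQ : Subgroup.centralizer ({y} : Set SL2) ≤ Q := by
    rw [← hNQ, normalizer_zpowers_eq h2 hyy]
    exact Subgroup.le_normalizer
  -- a generator of the centralizer
  obtain ⟨g₀, hg₀⟩ := hcyc.exists_generator
  have hg₀Q : (g₀ : SL2) ∈ Q := hCQ g₀.2
  obtain ⟨P, hPQ, hgP⟩ := hQ g₀ (exists_orderOf_of_mem Q.isPGroup' hg₀Q)
  apply hPQ
  have hCP : Subgroup.centralizer ({y} : Set SL2) ≤ P := by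
    intro c hc
    obtain ⟨n, hn⟩ := Subgroup.mem_zpowers_iff.mp (hg₀ ⟨c, hc⟩)
    have : c = (g₀ : SL2) ^ n := by
      have := congrArg Subtype.val hn
      simpa using this.symm
    rw [this]
    exact zpow_mem hgP n
  have hcard : Nat.card (P : Subgroup SL2) = Nat.card (Q : Subgroup SL2) :=
    Nat.card_congr (Sylow.equiv P Q).toEquiv
  have hPN : (P : Subgroup SL2) ≤
      Subgroup.normalizer (Subgroup.centralizer ({y} : Set SL2) : Set SL2) := by
    apply Cfsg.Agent.Lib.H5.le_normalizer_of_card_eq_two_mul hCP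
    rw [hcard, ← hNQ, hN]
  rw [← normalizer_zpowers_eq h2 hyy, hNQ] at hPN
  apply Sylow.ext
  exact Subgroup.eq_of_le_of_card_ge hPN (le_of_eq hcard.symm)

theorem odd_card_of_two_ne_zero (h2 : (2 : F) ≠ 0) : Odd (Fintype.card F) := by
  rw [Nat.odd_iff]
  apply FiniteField.odd_card_of_char_ne_two
  intro h
  apply h2
  have := (ringChar.spec F 2).mpr (by rw [h])
  simpa using this

theorem card_eq_two_pow_of_two_eq_zero (h2 : (2 : F) = 0) : ∃ k : ℕ, Fintype.card F = 2 ^ k := by
  have hd : ringChar F ∣ 2 := (ringChar.spec F 2).mp (by simpa using h2)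
  have h1 : ringChar F ≠ 1 := CharP.ringChar_ne_one
  have h3 : ringChar F = 2 := by
    rcases (Nat.dvd_prime Nat.prime_two).mp hd with h | h
    · exact absurd h h1
    · exact h
  haveI : CharP F 2 := by rw [← h3]; exact ringChar.charP F
  obtain ⟨n, -, hn⟩ := FiniteField.card F 2
  exact ⟨n, hn⟩

/-- the right-hand side of S4356 / S4357 -/
def CovCond (p q : ℕ) : Prop :=
  p = 2 ∧ (¬ ∃ k : ℕ, q + 1 = 2 ^ k) ∧ (¬ ∃ k : ℕ, q = 2 ^ k) ∧ ¬ ∃ k : ℕ, q = 2 ^ k + 1

theorem sl2_sylCover_iff (p : ℕ) [Fact p.Prime] :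
    SylCover p SL2 ↔ CovCond p (Fintype.card F) := by
  constructor
  · intro hL
    by_cases hp : p = 2
    · subst hp
      by_cases h2 : (2 : F) = 0
      · exact absurd hL (not_sylCover_of_TI (sl2_sylTI (Or.inr h2)))
      · have hodd := odd_card_of_two_ne_zero h2
        refine ⟨rfl, ?_, ?_, ?_⟩
        · intro h; exact sl2_not_cover hodd (Or.inl h) hL
        · rintro ⟨k, hk⟩
          rcases k with _ | k
          · have := Fintype.one_lt_card (α := F)
            rw [hk] at this
            simp at this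
          · rw [hk] at hodd
            rw [Nat.odd_iff] at hodd
            have : 2 ^ (k + 1) = 2 * 2 ^ k := by ring
            omega
        · intro h; exact sl2_not_cover hodd (Or.inr h) hL
    · exact absurd hL (not_sylCover_of_TI (sl2_sylTI (Or.inl hp)))
  · rintro ⟨rfl, h1, h2', h3⟩
    have h2 : (2 : F) ≠ 0 := fun h => h2' (card_eq_two_pow_of_two_eq_zero h)
    have hodd := odd_card_of_two_ne_zero h2
    obtain ⟨Q⟩ : Nonempty (Sylow 2 SL2) := inferInstance
    exact ⟨Q, fun x hx => sl2_cover hodd h1 h3 Q x hx⟩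

local notation "PSL2" => Matrix.ProjectiveSpecialLinearGroup (Fin 2) F

theorem psl2_sylCover_iff (p : ℕ) [Fact p.Prime] :
    SylCover p PSL2 ↔ CovCond p (Fintype.card F) := by
  have hsurj : Function.Surjective (QuotientGroup.mk' (Subgroup.center SL2)) :=
    QuotientGroup.mk'_surjective _
  have hsq : ∀ z : SL2, QuotientGroup.mk' (Subgroup.center SL2) z = 1 → z * z = 1 := by
    intro z hz
    have hz' : z ∈ Subgroup.center SL2 := by
      rw [← QuotientGroup.ker_mk' (Subgroup.center SL2)]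
      exact hz
    rcases sl2_center_cases z hz' with h | h
    · rw [h, one_mul]
    · rw [h]; exact neg_one_mul_neg_one
  by_cases hp : p = 2
  · subst hp
    rw [← sl2_sylCover_iff]
    symm
    apply sylCover_iff_of_surjective _ hsurj
    intro z
    refine ⟨1, ?_⟩
    apply Subtype.ext
    rw [pow_one, sq]
    simp only [Subgroup.coe_one]
    exact hsq z z.2
  · constructor
    · intro hL
      exfalso
      have hTI : SylTI p PSL2 := by
        apply sylTI_of_surjective _ hsurj _ (sl2_sylTI (Or.inl hp))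
        intro z hz
        have hz' : z ∈ Subgroup.center SL2 := by
          rw [← QuotientGroup.ker_mk' (Subgroup.center SL2)]
          exact hz
        refine ⟨fun g => ((Subgroup.mem_center_iff.mp hz') g).symm, ?_⟩
        have hd : orderOf z ∣ 2 := orderOf_dvd_of_pow_eq_one (by rw [sq]; exact hsq z hz)
        have hc : Nat.Coprime 2 p := (Nat.coprime_primes Nat.prime_two Fact.out).mpr (Ne.symm hp)
        exact Nat.Coprime.coprime_dvd_left hd hc
      exact not_sylCover_of_TI hTI hL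
    · rintro ⟨h, -⟩
      exact absurd h hp

end Cfsg.Agent.Lib.H5.SL2Cov
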