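import Mathlib
import Cfsg.Agent.Lib.H5.PSL2Borel
import Cfsg.Agent.Lib.H5.SL2SylowCover

/-!
# Subgroups of `PSL₂(F)` with a normal Sylow `p`-subgroup lie in a Borel subgroup
-/

set_option autoImplicit false

namespace Cfsg.Agent.Lib.H5.PSL2Borel

open Matrix Cfsg.Agent.Lib.H12 Cfsg.Agent.Lib.H5.PSL2Torus Cfsg.Agent.Lib.H2.SL2
  Cfsg.Agent.Lib.H5.SylCov Cfsg.Agent.Lib.H5.SL2Cov

variable {F : Type*} [Field F] [Fintype F]

local notation "SL2" => Matrix.SpecialLinearGroup (Fin 2) F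
local notation "M2" => Matrix (Fin 2) (Fin 2) F
local notation "PSL2" => Matrix.ProjectiveSpecialLinearGroup (Fin 2) F

/-- Sylow `p`-subgroups of `PSL₂(F)` intersect trivially, `p` odd or the characteristic two -/
theorem psl2_sylTI {p : ℕ} [Fact p.Prime] (hp : p ≠ 2 ∨ (2 : F) = 0) : SylTI p PSL2 := by
  have hsurj : Function.Surjective (pr (F := F)) := pr_surjective
  apply sylTI_of_surjective _ hsurj _ (sl2_sylTI hp)
  intro z hz
  have hz' : z ∈ Subgroup.center SL2 := (pr_eq_one_iff z).mp hz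
  refine ⟨fun g => ((Subgroup.mem_center_iff.mp hz') g).symm, ?_⟩
  rcases sl2_center_cases z hz' with h | h
  · rw [h, orderOf_one]; exact Nat.coprime_one_left p
  · rcases hp with hp | h2
    · have hd : orderOf z ∣ 2 := by
        apply orderOf_dvd_of_pow_eq_one
        rw [h, sq]; exact neg_one_mul_neg_one
      have hc : Nat.Coprime 2 p := (Nat.coprime_primes Nat.prime_two Fact.out).mpr (Ne.symm hp)
      exact Nat.Coprime.coprime_dvd_left hd hc
    · rw [h, Cfsg.Agent.Lib.H5.SL2Char2.sl2_neg_one_eq_one h2, orderOf_one]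
      exact Nat.coprime_one_left p

variable (p : ℕ) [Fact p.Prime] [CharP F p]

/-- `p` is odd or the characteristic is two -/
theorem char_cases : p ≠ 2 ∨ (2 : F) = 0 := by
  by_cases hp : p = 2
  · right
    subst hp
    have := CharP.cast_eq_zero F 2
    exact_mod_cast this
  · exact Or.inl hp

/-- a subgroup normalizing a nontrivial `p`-subgroup lies in the normalizer of a Sylow
`p`-subgroup -/
theorem le_normalizer_of_normalizes (M Q : Subgroup PSL2) (hQ : IsPGroup p Q) (hQ1 : Q ≠ ⊥)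
    (hn : ∀ m ∈ M, ∀ x ∈ Q, m * x * m⁻¹ ∈ Q) :
    ∃ P : Sylow p PSL2, Q ≤ (P : Subgroup PSL2) ∧
      M ≤ Subgroup.normalizer ((P : Subgroup PSL2) : Set PSL2) := by
  obtain ⟨P, hP⟩ := hQ.exists_le_sylow
  refine ⟨P, hP, ?_⟩
  obtain ⟨x, hxQ, hx1⟩ := (Subgroup.ne_bot_iff_exists_ne_one.mp hQ1 : ∃ x : Q, x ≠ 1)
    |> fun ⟨x, hx⟩ => (⟨(x : PSL2), x.2, fun h' => hx (Subtype.ext h')⟩ : ∃ x : PSL2, x ∈ Q ∧ x ≠ 1)
  intro m hm
  have h1 : m * x * m⁻¹ ∈ (P : Subgroup PSL2) := hP (hn m hm x hxQ)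
  have h2 : m * x * m⁻¹ ∈ ((m • P : Sylow p PSL2) : Subgroup PSL2) := by
    rw [Sylow.coe_subgroup_smul, Subgroup.mem_smul_pointwise_iff_exists]
    exact ⟨x, hP hxQ, by simp [MulAut.smul_def]⟩
  have h3 : m * x * m⁻¹ ≠ 1 := by
    intro h
    apply hx1
    have : x = m⁻¹ * (m * x * m⁻¹) * m := by group
    rw [this, h]; group
  have h4 := psl2_sylTI (char_cases (F := F) p) P (m • P) _ h1 h2 h3
  exact Sylow.smul_eq_iff_mem_normalizer.mp h4.symm

/-- a subgroup with a unique nontrivial Sylow `p`-subgroup lies in the normalizer of a Sylow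
`p`-subgroup of `PSL₂(F)` -/
theorem le_normalizer_of_card_sylow_eq_one (M : Subgroup PSL2) (hp : p ∣ Nat.card M)
    (h1 : Nat.card (Sylow p M) = 1) :
    ∃ P : Sylow p PSL2, M ≤ Subgroup.normalizer ((P : Subgroup PSL2) : Set PSL2) := by
  obtain ⟨Q⟩ : Nonempty (Sylow p M) := inferInstance
  have hQn : (Q : Subgroup M).Normal := by
    haveI : Subsingleton (Sylow p M) := (Nat.card_eq_one_iff_unique.mp h1).1
    exact Sylow.normal_of_subsingleton Q
  have hQ1 : (Q : Subgroup M) ≠ ⊥ := by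
    intro hb
    have := Q.card_eq_multiplicity
    rw [hb, Subgroup.card_bot] at this
    have hpp : p.Prime := Fact.out
    have h0 : (Nat.card M).factorization p = 0 := by
      by_contra hne
      have : 1 < p ^ (Nat.card M).factorization p := Nat.one_lt_pow hne hpp.one_lt
      omega
    have hM0 : Nat.card M ≠ 0 := Nat.card_pos.ne'
    rcases (Nat.factorization_eq_zero_iff _ _).mp h0 with h | h | h
    · exact h hpp
    · exact h hp
    · exact hM0 h
  obtain ⟨P, -, hP⟩ := le_normalizer_of_normalizes p M ((Q : Subgroup M).map M.subtype)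
    (Q.isPGroup'.map _) (by
      intro h
      apply hQ1
      rw [← Subgroup.map_bot M.subtype] at h
      exact Subgroup.map_injective M.subtype_injective h)
    (by
      rintro m hm _ ⟨y, hy, rfl⟩
      refine ⟨⟨m, hm⟩ * y * ⟨m, hm⟩⁻¹, hQn.conj_mem y hy ⟨m, hm⟩, by simp⟩)
  exact ⟨P, hP⟩

/-- a subgroup of the normalizer of a Sylow `p`-subgroup meeting it trivially is cyclic -/
theorem isCyclic_of_le_normalizer' (P : Sylow p PSL2) (M : Subgroup PSL2)
    (hM : M ≤ Subgroup.normalizer ((P : Subgroup PSL2) : Set PSL2))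
    (hMP : M ⊓ (P : Subgroup PSL2) = ⊥) : IsCyclic M := by
  apply isCyclic_of_le_normalizer p P M hM
  intro hp
  obtain ⟨x, hx⟩ := exists_prime_orderOf_dvd_card' p hp
  have hZ : IsPGroup p (Subgroup.zpowers (x : PSL2)) := by
    apply IsPGroup.of_card (n := 1)
    rw [Nat.card_zpowers, pow_one, Subgroup.orderOf_coe, hx]
  have hx1 : (x : PSL2) ≠ 1 := by
    intro h
    have : x = 1 := Subtype.ext h
    rw [this, orderOf_one] at hx
    exact (Fact.out : p.Prime).one_lt.ne hx
  -- `⟨x⟩` normalizes... use the TI property: `x` lies in a Sylow subgroup `P'`, and normalizes `P`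
  obtain ⟨P', hP'⟩ := hZ.exists_le_sylow
  have hxP' : (x : PSL2) ∈ (P' : Subgroup PSL2) := hP' (Subgroup.mem_zpowers _)
  have hxN : (x : PSL2) ∈ Subgroup.normalizer ((P : Subgroup PSL2) : Set PSL2) := hM x.2
  -- a `p`-element normalizing `P` lies in `P`
  have hxP : (x : PSL2) ∈ (P : Subgroup PSL2) := by
    have hsup : IsPGroup p ↥((P : Subgroup PSL2) ⊔ Subgroup.zpowers (x : PSL2)) := by
      have hle : Subgroup.zpowers (x : PSL2) ≤
          Subgroup.normalizer ((P : Subgroup PSL2) : Set PSL2) := by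
        rw [Subgroup.zpowers_le]; exact hxN
      exact IsPGroup.to_sup_of_normal_left' P.isPGroup' hZ hle
    have := P.is_maximal' hsup le_sup_left
    rw [← this]
    exact Subgroup.mem_sup_right (Subgroup.mem_zpowers _)
  have : (x : PSL2) ∈ M ⊓ (P : Subgroup PSL2) := ⟨x.2, hxP⟩
  rw [hMP, Subgroup.mem_bot] at this
  exact hx1 this

end Cfsg.Agent.Lib.H5.PSL2Borel
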