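import Mathlib
import Cfsg.Agent.Lib.H5.SylowIn

/-!
# Recognition of `A₄` and `S₄` by the action on the Sylow `3`-subgroups

* `nonempty_mulEquiv_alt_four`: `|G| = 12` and a self-normalizing subgroup of order three.
* `nonempty_mulEquiv_perm_four'`: `|G| = 24`, a subgroup `P` of order three with `|N(P)| = 6`
  such that the elements of `N(P) \ P` are involutions inverting `P`.
-/

set_option autoImplicit false

namespace Cfsg.Agent.Lib.H5.SmallRecog

open Subgroup

variable {G : Type*} [Group G]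

/-- an injective homomorphism into a symmetric group whose image has index two -/
theorem equiv_alternating_of_injective {α : Type*} [Fintype α] [DecidableEq α] [Finite G]
    (f : G →* Equiv.Perm α) (hf : Function.Injective f)
    (hcard : 2 * Nat.card G = Nat.card (Equiv.Perm α)) : Nonempty (G ≃* alternatingGroup α) := by
  have h1 : Nat.card f.range = Nat.card G :=
    (Nat.card_congr (MonoidHom.ofInjective hf).toEquiv).symm
  have h2 : f.range.index = 2 := by
    have := f.range.card_mul_index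
    rw [h1, ← hcard] at this
    have hpos : 0 < Nat.card G := Nat.card_pos
    nlinarith
  have h3 := Equiv.Perm.eq_alternatingGroup_of_index_eq_two h2
  exact ⟨(MonoidHom.ofInjective hf).trans (MulEquiv.subgroupCongr h3)⟩

theorem equiv_perm_of_injective {α : Type*} [Fintype α] [DecidableEq α] [Finite G]
    (f : G →* Equiv.Perm α) (hf : Function.Injective f)
    (hcard : Nat.card G = Nat.card (Equiv.Perm α)) : Nonempty (G ≃* Equiv.Perm α) := by
  have hbij : Function.Bijective f :=
    (Nat.bijective_iff_injective_and_card f).mpr ⟨hf, hcard⟩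
  exact ⟨MulEquiv.ofBijective f hbij⟩

section Sylow

variable [Finite G] {p : ℕ} [Fact p.Prime]

/-- the kernel of the action on the Sylow subgroups -/
theorem toPermHom_sylow_injective (h : ∀ g : G, (∀ Q : Sylow p G, g ∈ normalizer (Q : Set G)) → g = 1) :
    Function.Injective (MulAction.toPermHom G (Sylow p G)) := by
  rw [injective_iff_map_eq_one]
  intro g hg
  apply h
  intro Q
  rw [← Sylow.smul_eq_iff_mem_normalizer]
  have := congrArg (fun σ : Equiv.Perm (Sylow p G) => σ Q) hg
  simpa using this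

end Sylow

theorem card_perm_of_card_eq {α : Type*} [Fintype α] [DecidableEq α] {n : ℕ}
    (h : Nat.card α = n) : Nat.card (Equiv.Perm α) = n.factorial := by
  rw [Nat.card_eq_fintype_card, Fintype.card_perm, ← Nat.card_eq_fintype_card, h]

theorem factorization_twelve : (12 : ℕ).factorization 3 = 1 := by
  have : (12 : ℕ) = 3 ^ 1 * 4 := by norm_num
  rw [this, Nat.factorization_mul (by norm_num) (by norm_num), Nat.factorization_pow]
  simp [Nat.Prime.factorization_self Nat.prime_three,
    Nat.factorization_eq_zero_of_not_dvd (show ¬ 3 ∣ 4 by norm_num)]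

theorem factorization_twentyfour : (24 : ℕ).factorization 3 = 1 := by
  have : (24 : ℕ) = 3 ^ 1 * 8 := by norm_num
  rw [this, Nat.factorization_mul (by norm_num) (by norm_num), Nat.factorization_pow]
  simp [Nat.Prime.factorization_self Nat.prime_three,
    Nat.factorization_eq_zero_of_not_dvd (show ¬ 3 ∣ 8 by norm_num)]

/-- two distinct subgroups of order three meet trivially -/
theorem eq_one_of_mem_of_mem {Q₁ Q₂ : Subgroup G} (h₁ : Nat.card Q₁ = 3) (h₂ : Nat.card Q₂ = 3)
    (hne : Q₁ ≠ Q₂) {g : G} (hg₁ : g ∈ Q₁) (hg₂ : g ∈ Q₂) : g = 1 := by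
  by_contra hg
  apply hne
  have : Finite Q₁ := Nat.finite_of_card_ne_zero (by rw [h₁]; norm_num)
  have : Finite Q₂ := Nat.finite_of_card_ne_zero (by rw [h₂]; norm_num)
  have ho : orderOf g = 3 := by
    have hd : orderOf g ∣ 3 := by
      have := Subgroup.orderOf_dvd_natCard Q₁ hg₁
      rwa [h₁] at this
    rcases (Nat.dvd_prime Nat.prime_three).mp hd with h | h
    · exact absurd (orderOf_eq_one_iff.mp h) hg
    · exact h
  have hz : Nat.card (zpowers g) = 3 := by rw [Nat.card_zpowers, ho]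
  have e₁ : zpowers g = Q₁ :=
    Subgroup.eq_of_le_of_card_ge (by rw [zpowers_le]; exact hg₁) (by rw [hz, h₁])
  have e₂ : zpowers g = Q₂ :=
    Subgroup.eq_of_le_of_card_ge (by rw [zpowers_le]; exact hg₂) (by rw [hz, h₂])
  rw [← e₁, e₂]

/-- **Recognition of `A₄`.** -/
theorem nonempty_mulEquiv_alt_four [Finite G] (hG : Nat.card G = 12) (P : Subgroup G)
    (hP : Nat.card P = 3) (hN : Nat.card (normalizer (P : Set G)) = 3) :
    Nonempty (G ≃* alternatingGroup (Fin 4)) := by
  classical
  have : Fact (Nat.Prime 3) := ⟨Nat.prime_three⟩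
  have hP' : Nat.card P = 3 ^ (Nat.card G).factorization 3 := by
    rw [hG, factorization_twelve, hP, pow_one]
  let P₀ : Sylow 3 G := Sylow.ofCard P hP'
  have hcardQ : ∀ Q : Sylow 3 G, Nat.card (Q : Subgroup G) = 3 := by
    intro Q
    rw [Sylow.card_eq_multiplicity, hG, factorization_twelve, pow_one]
  have hn3 : Nat.card (Sylow 3 G) = 4 := by
    rw [Sylow.card_eq_index_normalizer P₀]
    have := (normalizer (P : Set G)).card_mul_index
    rw [hN, hG] at this
    change (normalizer (P : Set G)).index = 4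
    omega
  have hNQ : ∀ Q : Sylow 3 G, normalizer (Q : Set G) = (Q : Subgroup G) := by
    intro Q
    have h1 := Sylow.card_eq_index_normalizer Q
    rw [hn3] at h1
    have h2 := (normalizer (Q : Set G)).card_mul_index
    rw [← h1, hG] at h2
    have h2' : Nat.card (normalizer ((Q : Subgroup G) : Set G)) * 4 = 12 := h2
    symm
    apply Subgroup.eq_of_le_of_card_ge (le_normalizer (H := (Q : Subgroup G)))
    rw [hcardQ Q]
    omega
  have : Fintype (Sylow 3 G) := Fintype.ofFinite _
  have hinj : Function.Injective (MulAction.toPermHom G (Sylow 3 G)) := by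
    apply toPermHom_sylow_injective
    intro g hg
    obtain ⟨Q₂, hQ₂⟩ : ∃ Q₂ : Sylow 3 G, Q₂ ≠ P₀ := by
      by_contra h
      push Not at h
      have : Nat.card (Sylow 3 G) ≤ 1 := by
        rw [Nat.card_eq_fintype_card, Fintype.card_le_one_iff]
        intro a b
        rw [h a, h b]
      omega
    have h1 : g ∈ (P₀ : Subgroup G) := by
      have := hg P₀
      rwa [hNQ P₀] at this
    have h2 : g ∈ (Q₂ : Subgroup G) := by
      have := hg Q₂
      rwa [hNQ Q₂] at this
    refine eq_one_of_mem_of_mem (hcardQ P₀) (hcardQ Q₂) ?_ h1 h2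
    intro h
    exact hQ₂ (Sylow.ext h.symm)
  obtain ⟨e⟩ := equiv_alternating_of_injective (MulAction.toPermHom G (Sylow 3 G)) hinj
    (by rw [card_perm_of_card_eq hn3, hG]; decide)
  have e4 : Sylow 3 G ≃ Fin 4 := Finite.equivFinOfCardEq hn3
  exact ⟨e.trans (Equiv.altCongrHom e4)⟩

/-- **Recognition of `S₄`.** -/
theorem nonempty_mulEquiv_perm_four' [Finite G] (hG : Nat.card G = 24) (P : Subgroup G)
    (hP : Nat.card P = 3) (hN : Nat.card (normalizer (P : Set G)) = 6)
    (hinv : ∀ g ∈ normalizer (P : Set G), g ∉ P → g * g = 1 ∧ ∀ y ∈ P, g * y * g⁻¹ = y⁻¹) :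
    Nonempty (G ≃* Equiv.Perm (Fin 4)) := by
  classical
  have : Fact (Nat.Prime 3) := ⟨Nat.prime_three⟩
  have hP' : Nat.card P = 3 ^ (Nat.card G).factorization 3 := by
    rw [hG, factorization_twentyfour, hP, pow_one]
  let P₀ : Sylow 3 G := Sylow.ofCard P hP'
  have hP₀ : (P₀ : Subgroup G) = P := Sylow.coe_ofCard P hP'
  have hcardQ : ∀ Q : Sylow 3 G, Nat.card (Q : Subgroup G) = 3 := by
    intro Q
    rw [Sylow.card_eq_multiplicity, hG, factorization_twentyfour, pow_one]
  have hn3 : Nat.card (Sylow 3 G) = 4 := by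
    rw [Sylow.card_eq_index_normalizer P₀]
    have := (normalizer (P : Set G)).card_mul_index
    rw [hN, hG] at this
    change (normalizer (P : Set G)).index = 4
    omega
  -- the inversion property for every Sylow 3-subgroup
  have hinvQ : ∀ Q : Sylow 3 G, ∀ g ∈ normalizer (Q : Set G), g ∉ Q →
      g * g = 1 ∧ ∀ y ∈ Q, g * y * g⁻¹ = y⁻¹ := by
    intro Q g hgN hgQ
    obtain ⟨k, rfl⟩ := MulAction.exists_smul_eq G P₀ Q
    have hmem : ∀ z : G, z ∈ (k • P₀ : Sylow 3 G) ↔ k⁻¹ * z * k ∈ P := by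
      intro z
      rw [Cfsg.Agent.Lib.H5.sylow_mem_smul_iff]
      change _ ∈ (P₀ : Subgroup G) ↔ _
      rw [hP₀]
    have hgN' : k⁻¹ * g * k ∈ normalizer (P : Set G) := by
      rw [mem_normalizer_iff]
      intro z
      have h1 := (mem_normalizer_iff.mp hgN) (k * z * k⁻¹)
      have e1 : (k * z * k⁻¹ ∈ ((k • P₀ : Sylow 3 G) : Subgroup G)) ↔ z ∈ P := by
        have := hmem (k * z * k⁻¹)
        have e : k⁻¹ * (k * z * k⁻¹) * k = z := by group
        rw [e] at this
        exact this
      have e2 : (g * (k * z * k⁻¹) * g⁻¹ ∈ ((k • P₀ : Sylow 3 G) : Subgroup G)) ↔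
          k⁻¹ * g * k * z * (k⁻¹ * g * k)⁻¹ ∈ P := by
        have := hmem (g * (k * z * k⁻¹) * g⁻¹)
        have e : k⁻¹ * (g * (k * z * k⁻¹) * g⁻¹) * k = k⁻¹ * g * k * z * (k⁻¹ * g * k)⁻¹ := by group
        rw [e] at this
        exact this
      rw [← e1, ← e2]
      exact h1
    have hgP' : k⁻¹ * g * k ∉ P := by
      intro h
      exact hgQ ((hmem g).mpr h)
    obtain ⟨h1, h2⟩ := hinv _ hgN' hgP'
    constructor
    · have e : g * g = k * (k⁻¹ * g * k * (k⁻¹ * g * k)) * k⁻¹ := by group
      rw [e, h1]; group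
    · intro y hy
      have := h2 _ ((hmem y).mp hy)
      have e : g * y * g⁻¹ = k * (k⁻¹ * g * k * (k⁻¹ * y * k) * (k⁻¹ * g * k)⁻¹) * k⁻¹ := by group
      rw [e, this]; group
  have : Fintype (Sylow 3 G) := Fintype.ofFinite _
  have hex : ∀ Q : Sylow 3 G, ∃ Q₂ : Sylow 3 G, Q₂ ≠ Q := by
    intro Q
    by_contra h
    push Not at h
    have : Nat.card (Sylow 3 G) ≤ 1 := by
      rw [Nat.card_eq_fintype_card, Fintype.card_le_one_iff]
      intro a b
      rw [h a, h b]
    omega
  -- Lemma A
  have hA : ∀ g : G, (∀ Q : Sylow 3 G, g ∈ normalizer (Q : Set G)) →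
      ∀ Q : Sylow 3 G, g ∈ Q → g = 1 := by
    intro g hg Q hgQ
    by_contra hg1
    obtain ⟨Q₂, hQ₂⟩ := hex Q
    have hgQ₂ : g ∉ Q₂ := by
      intro h
      apply hg1
      refine eq_one_of_mem_of_mem (hcardQ Q) (hcardQ Q₂) ?_ hgQ h
      intro h'
      exact hQ₂ (Sylow.ext h'.symm)
    obtain ⟨h1, -⟩ := hinvQ Q₂ g (hg Q₂) hgQ₂
    -- `g` has order dividing 2 and 3
    have hd3 : orderOf g ∣ 3 := by
      have := Subgroup.orderOf_dvd_natCard (Q : Subgroup G) hgQ
      rwa [hcardQ Q] at this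
    have hd2 : orderOf g ∣ 2 := orderOf_dvd_of_pow_eq_one (by rw [sq]; exact h1)
    have : orderOf g ∣ 1 := by
      have := Nat.dvd_sub hd3 hd2
      simpa using this
    exact hg1 (orderOf_eq_one_iff.mp (Nat.dvd_one.mp this))
  -- Lemma B
  have hB : ∀ g : G, (∀ Q : Sylow 3 G, g ∈ normalizer (Q : Set G)) → g ≠ 1 →
      ∀ Q : Sylow 3 G, ∀ y ∈ Q, g * y * g⁻¹ = y⁻¹ := by
    intro g hg hg1 Q y hy
    have hgQ : g ∉ Q := fun h => hg1 (hA g hg Q h)
    exact (hinvQ Q g (hg Q) hgQ).2 y hy
  -- Lemma C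
  have hC : ∀ g k : G, (∀ Q : Sylow 3 G, g ∈ normalizer (Q : Set G)) →
      ∀ Q : Sylow 3 G, k * g * k⁻¹ ∈ normalizer (Q : Set G) := by
    intro g k hg Q
    have h1 := hg (k⁻¹ • Q)
    have h1' : g • (k⁻¹ • Q) = k⁻¹ • Q := Sylow.smul_eq_iff_mem_normalizer.mpr h1
    apply Sylow.smul_eq_iff_mem_normalizer.mp
    rw [mul_smul, mul_smul, h1', smul_inv_smul]
  have hinj : Function.Injective (MulAction.toPermHom G (Sylow 3 G)) := by
    apply toPermHom_sylow_injective
    intro g hg
    by_contra hg1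
    -- an element `y` of order three
    obtain ⟨y, hyP, hy1⟩ : ∃ y : G, y ∈ P₀ ∧ y ≠ 1 := by
      have : Nontrivial (P₀ : Subgroup G) := by
        rw [← Finite.one_lt_card_iff_nontrivial, hcardQ P₀]
        norm_num
      obtain ⟨z, hz⟩ := exists_ne (1 : (P₀ : Subgroup G))
      exact ⟨z.1, z.2, fun h => hz (Subtype.ext h)⟩
    have hyy : y ≠ y⁻¹ := by
      intro h
      have h2 : y ^ 2 = 1 := by
        rw [sq]
        nth_rewrite 2 [h]
        exact mul_inv_cancel y
      have hd2 : orderOf y ∣ 2 := orderOf_dvd_of_pow_eq_one h2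
      have hd3 : orderOf y ∣ 3 := by
        have := Subgroup.orderOf_dvd_natCard (P₀ : Subgroup G) hyP
        rwa [hcardQ P₀] at this
      have : orderOf y ∣ 1 := by
        have := Nat.dvd_sub hd3 hd2
        simpa using this
      exact hy1 (orderOf_eq_one_iff.mp (Nat.dvd_one.mp this))
    have hg' := hC g y hg
    have hg'1 : y * g * y⁻¹ ≠ 1 := by
      intro h
      apply hg1
      have : g = y⁻¹ * (y * g * y⁻¹) * y := by group
      rw [this, h]; group
    have i1 := hB g hg hg1 P₀ y hyP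
    have i2 := hB _ hg' hg'1 P₀ y hyP
    -- the product centralizes `y`
    have hprod : ∀ Q : Sylow 3 G, g * (y * g * y⁻¹) ∈ normalizer (Q : Set G) :=
      fun Q => mul_mem (hg Q) (hg' Q)
    have hcen : g * (y * g * y⁻¹) * y * (g * (y * g * y⁻¹))⁻¹ = y := by
      have e : g * (y * g * y⁻¹) * y * (g * (y * g * y⁻¹))⁻¹ =
          g * ((y * g * y⁻¹) * y * (y * g * y⁻¹)⁻¹) * g⁻¹ := by group
      rw [e, i2]
      have : g * y⁻¹ * g⁻¹ = (g * y * g⁻¹)⁻¹ := by group
      rw [this, i1, inv_inv]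
    by_cases hp1 : g * (y * g * y⁻¹) = 1
    · -- then `y g y⁻¹ = g⁻¹ = g`
      have hgg : g * g = 1 := by
        have hgP : g ∉ P₀ := fun h => hg1 (hA g hg P₀ h)
        exact (hinvQ P₀ g (hg P₀) hgP).1
      have h3 : y * g * y⁻¹ = g := by
        have : y * g * y⁻¹ = g⁻¹ := by
          rw [eq_comm, inv_eq_iff_mul_eq_one]
          exact hp1
        rw [this, inv_eq_iff_mul_eq_one]
        exact hgg
      have h4 : g * y * g⁻¹ = y := by
        have : g * y = y * g := by
          have := congrArg (· * y) h3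
          simp only [inv_mul_cancel_right] at this
          exact this.symm
        rw [this]; group
      rw [i1] at h4
      exact hyy h4.symm
    · have := hB _ hprod hp1 P₀ y hyP
      rw [hcen] at this
      exact hyy this
  obtain ⟨e⟩ := equiv_perm_of_injective (MulAction.toPermHom G (Sylow 3 G)) hinj
    (by rw [card_perm_of_card_eq hn3, hG]; decide)
  have e4 : Sylow 3 G ≃ Fin 4 := Finite.equivFinOfCardEq hn3
  exact ⟨e.trans (Equiv.permCongrHom e4)⟩

end Cfsg.Agent.Lib.H5.SmallRecog
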