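import Mathlib
import Cfsg.Agent.Lib.H5.Fusion

set_option autoImplicit false

/-!
# The number of conjugates of a subgroup

`|G| = #conjugates of V * |N_G(V)|`.
-/

namespace Cfsg.Agent.Lib.H5.ConjSubgroupCount

open Cfsg.Agent.Lib.H5

variable {G : Type*} [Group G]

theorem map_conj_eq_map_conj_iff (V : Subgroup G) (g g₀ : G) :
    V.map (MulAut.conj g).toMonoidHom = V.map (MulAut.conj g₀).toMonoidHom ↔
      g₀⁻¹ * g ∈ Subgroup.normalizer (V : Set G) := by
  rw [Subgroup.mem_normalizer_iff_map_conj_eq]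
  change _ ↔ V.map (MulAut.conj (g₀⁻¹ * g)).toMonoidHom = V
  have h1 : V.map (MulAut.conj (1 : G)).toMonoidHom = V := by
    ext x
    rw [mem_map_conj_iff]
    simp
  constructor
  · intro h
    rw [← map_conj_map_conj, h, map_conj_map_conj, inv_mul_cancel, h1]
  · intro h
    have h2 := map_conj_map_conj V (g₀⁻¹ * g) g₀
    rw [h, mul_inv_cancel_left] at h2
    exact h2.symm

theorem card_eq_card_conj_mul_card_normalizer [Finite G] (V : Subgroup G) :
    Nat.card G = Nat.card {W : Subgroup G // ∃ g : G, W = V.map (MulAut.conj g).toMonoidHom} *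
      Nat.card (Subgroup.normalizer (V : Set G)) := by
  classical
  haveI : Finite {W : Subgroup G // ∃ g : G, W = V.map (MulAut.conj g).toMonoidHom} := Subtype.finite
  haveI : Fintype {W : Subgroup G // ∃ g : G, W = V.map (MulAut.conj g).toMonoidHom} :=
    Fintype.ofFinite _
  obtain ⟨f, hf⟩ : ∃ f : G → {W : Subgroup G // ∃ g : G, W = V.map (MulAut.conj g).toMonoidHom},
      ∀ g, (f g).1 = V.map (MulAut.conj g).toMonoidHom := ⟨fun g => ⟨_, g, rfl⟩, fun g => rfl⟩
  rw [← Nat.card_congr (Equiv.sigmaFiberEquiv f), Nat.card_sigma]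
  have h : ∀ W : {W : Subgroup G // ∃ g : G, W = V.map (MulAut.conj g).toMonoidHom},
      Nat.card {g : G // f g = W} = Nat.card (Subgroup.normalizer (V : Set G)) := by
    rintro ⟨W, g₀, rfl⟩
    apply Nat.card_congr
    have key : ∀ g : G, f g = ⟨V.map (MulAut.conj g₀).toMonoidHom, g₀, rfl⟩ ↔
        g₀⁻¹ * g ∈ Subgroup.normalizer (V : Set G) := by
      intro g
      rw [← map_conj_eq_map_conj_iff, ← hf g]
      exact Subtype.ext_iff
    exact
      { toFun := fun g => ⟨g₀⁻¹ * g.1, (key g.1).mp g.2⟩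
        invFun := fun n => ⟨g₀ * n.1, (key _).mpr (by rw [inv_mul_cancel_left]; exact n.2)⟩
        left_inv := fun g => by apply Subtype.ext; simp
        right_inv := fun n => by apply Subtype.ext; simp }
  simp only [h, Finset.sum_const, Finset.card_univ, smul_eq_mul, Nat.card_eq_fintype_card]

end Cfsg.Agent.Lib.H5.ConjSubgroupCount
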