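import Mathlib
import Cfsg.Agent.Lib.H5.ConjSubgroupCount
import Cfsg.Agent.Lib.H5.SubgroupCard

/-!
# Torus partitions (abstract form of the structure of `p'`-subgroups of `PSL₂(q)`)

A *torus partition* of a group `G`: every non-identity element `x` lies in a unique cyclic
"torus" `T x`; the tori are permuted by conjugation; an element normalizing but not lying in a
torus is an involution inverting it, and the product of two such elements lies in the torus.

This file: basic facts and the class equation.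
-/

set_option autoImplicit false

namespace Cfsg.Agent.Lib.H5.TP

open Subgroup Cfsg.Agent.Lib.H5

structure TorusPartition (G : Type*) [Group G] where
  T : G → Subgroup G
  mem : ∀ x, x ≠ 1 → x ∈ T x
  eq_of_mem : ∀ x y, x ≠ 1 → y ≠ 1 → y ∈ T x → T y = T x
  conj : ∀ x g, x ≠ 1 → T (g * x * g⁻¹) = (T x).map (MulAut.conj g).toMonoidHom
  cyclic : ∀ x, x ≠ 1 → IsCyclic (T x)
  inv : ∀ x g, x ≠ 1 → g ∈ normalizer (T x : Set G) → g ∉ T x →
    g * g = 1 ∧ ∀ y ∈ T x, g * y * g⁻¹ = y⁻¹
  idx : ∀ x g g', x ≠ 1 → g ∈ normalizer (T x : Set G) → g ∉ T x →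
    g' ∈ normalizer (T x : Set G) → g' ∉ T x → g * g' ∈ T x

variable {G : Type*} [Group G] (D : TorusPartition G)

theorem conj_ne_one {x g : G} (hx : x ≠ 1) : g * x * g⁻¹ ≠ 1 := by
  intro h
  apply hx
  have : x = g⁻¹ * (g * x * g⁻¹) * g := by group
  rw [this, h]; group

/-- the relation "the tori are conjugate" -/
def Rel (x y : G) : Prop := ∃ g : G, D.T y = (D.T x).map (MulAut.conj g).toMonoidHom

theorem rel_refl (x : G) : Rel D x x := ⟨1, by
  ext y
  rw [mem_map_conj_iff]
  simp⟩

theorem rel_symm {x y : G} (h : Rel D x y) : Rel D y x := by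
  obtain ⟨g, hg⟩ := h
  refine ⟨g⁻¹, ?_⟩
  rw [hg, map_conj_map_conj, inv_mul_cancel]
  ext y
  rw [mem_map_conj_iff]
  simp

theorem rel_trans {x y z : G} (h1 : Rel D x y) (h2 : Rel D y z) : Rel D x z := by
  obtain ⟨g, hg⟩ := h1
  obtain ⟨k, hk⟩ := h2
  exact ⟨k * g, by rw [hk, hg, map_conj_map_conj]⟩

/-- a conjugate of a torus is a torus -/
theorem map_conj_eq (x g : G) (hx : x ≠ 1) :
    (D.T x).map (MulAut.conj g).toMonoidHom = D.T (g * x * g⁻¹) := (D.conj x g hx).symm

/-- if `y ≠ 1` lies in a conjugate of `T x` then `T y` is that conjugate -/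
theorem T_eq_of_mem_conj {x y g : G} (hx : x ≠ 1) (hy : y ≠ 1)
    (h : y ∈ (D.T x).map (MulAut.conj g).toMonoidHom) :
    D.T y = (D.T x).map (MulAut.conj g).toMonoidHom := by
  rw [map_conj_eq D x g hx] at h ⊢
  exact D.eq_of_mem _ _ (conj_ne_one hx) hy h

variable [Finite G]

theorem two_le_card (x : G) (hx : x ≠ 1) : 2 ≤ Nat.card (D.T x) := by
  have h1 : Nat.card (D.T x) ≠ 0 := Nat.card_pos.ne'
  have h2 : Nat.card (D.T x) ≠ 1 := by
    intro h
    rw [Subgroup.card_eq_one] at h
    have := D.mem x hx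
    rw [h, mem_bot] at this
    exact hx this
  omega

/-- the normalizer of a torus is the torus or twice as big -/
theorem card_normalizer (x : G) (hx : x ≠ 1) :
    Nat.card (normalizer (D.T x : Set G)) = Nat.card (D.T x) ∨
      Nat.card (normalizer (D.T x : Set G)) = 2 * Nat.card (D.T x) := by
  by_cases h : ∃ g, g ∈ normalizer (D.T x : Set G) ∧ g ∉ D.T x
  · right
    obtain ⟨g, hgN, hgT⟩ := h
    have hle : D.T x ≤ normalizer (D.T x : Set G) := le_normalizer
    have hrel : (D.T x).relIndex (normalizer (D.T x : Set G)) = 2 := by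
      rw [relIndex, index_eq_two_iff]
      refine ⟨⟨g, hgN⟩, ?_⟩
      intro b
      simp only [mem_subgroupOf, coe_mul]
      by_cases hb : (b : G) ∈ D.T x
      · right
        refine ⟨hb, ?_⟩
        intro h
        apply hgT
        have e : g = (b : G)⁻¹ * ((b : G) * g) := by group
        rw [e]
        exact mul_mem (inv_mem hb) h
      · left
        exact ⟨D.idx x (b : G) g hx b.2 hb hgN hgT, hb⟩
    have := card_mul_relIndex_of_le hle
    rw [hrel] at this
    omega
  · left
    push Not at h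
    have : normalizer (D.T x : Set G) = D.T x := le_antisymm (fun g hg => h g hg) le_normalizer
    rw [this]

/-- the non-identity elements whose torus is conjugate to `T x` -/
def U (x : G) : Set G := {y | y ≠ 1 ∧ Rel D x y}

/-- the set of conjugates of `T x` -/
abbrev Conj (x : G) : Type _ :=
  {W : Subgroup G // ∃ g : G, W = (D.T x).map (MulAut.conj g).toMonoidHom}

theorem card_conj_subgroup (K : Subgroup G) (g : G) :
    Nat.card (K.map (MulAut.conj g).toMonoidHom) = Nat.card K :=
  (Nat.card_congr (K.equivMapOfInjective _ (MulAut.conj g).injective).toEquiv).symm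

theorem card_mul_card_normalizer (x : G) :
    Nat.card G = Nat.card (Conj D x) * Nat.card (normalizer (D.T x : Set G)) :=
  ConjSubgroupCount.card_eq_card_conj_mul_card_normalizer (D.T x)

theorem ncard_U (x : G) (hx : x ≠ 1) :
    (U D x).ncard = Nat.card (Conj D x) * (Nat.card (D.T x) - 1) := by
  classical
  haveI : Finite (Conj D x) := Subtype.finite
  haveI : Fintype (Conj D x) := Fintype.ofFinite _
  rw [← Nat.card_coe_set_eq]
  obtain ⟨f, hf⟩ : ∃ f : ↥(U D x) → Conj D x, ∀ y, (f y).1 = D.T y.1 :=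
    ⟨fun y => ⟨D.T y.1, y.2.2⟩, fun y => rfl⟩
  rw [← Nat.card_congr (Equiv.sigmaFiberEquiv f), Nat.card_sigma]
  have h : ∀ W : Conj D x, Nat.card {y : ↥(U D x) // f y = W} = Nat.card (D.T x) - 1 := by
    rintro ⟨W, g₀, rfl⟩
    have hcard : Nat.card ((D.T x).map (MulAut.conj g₀).toMonoidHom) = Nat.card (D.T x) :=
      card_conj_subgroup _ _
    have e : {y : ↥(U D x) // f y = ⟨(D.T x).map (MulAut.conj g₀).toMonoidHom, g₀, rfl⟩} ≃
        ↥((((D.T x).map (MulAut.conj g₀).toMonoidHom : Subgroup G) : Set G) \ {1}) :=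
      { toFun := fun y => ⟨y.1.1, by
          have h1 : D.T y.1.1 = (D.T x).map (MulAut.conj g₀).toMonoidHom := by
            rw [← hf y.1, y.2]
          refine ⟨?_, y.1.2.1⟩
          have h2 := D.mem _ y.1.2.1
          rw [h1] at h2
          exact h2⟩
        invFun := fun y => ⟨⟨y.1, y.2.2, g₀, T_eq_of_mem_conj D hx y.2.2 y.2.1⟩, by
          apply Subtype.ext
          rw [hf]
          exact T_eq_of_mem_conj D hx y.2.2 y.2.1⟩
        left_inv := fun y => by apply Subtype.ext; apply Subtype.ext; rfl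
        right_inv := fun y => by apply Subtype.ext; rfl }
    rw [Nat.card_congr e, Nat.card_coe_set_eq, Set.ncard_sdiff_singleton_of_mem (one_mem _),
      ← hcard]
    congr 1
  simp only [h, Finset.sum_const, Finset.card_univ, smul_eq_mul, Nat.card_eq_fintype_card]

theorem U_subset (x : G) : U D x ⊆ {y | y ≠ 1} := fun _ hy => hy.1

theorem mem_U_self (x : G) (hx : x ≠ 1) : x ∈ U D x := ⟨hx, rel_refl D x⟩

theorem U_eq_of_rel {x y : G} (h : Rel D x y) : U D x = U D y := by
  ext z
  constructor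
  · rintro ⟨hz, hr⟩
    exact ⟨hz, rel_trans D (rel_symm D h) hr⟩
  · rintro ⟨hz, hr⟩
    exact ⟨hz, rel_trans D h hr⟩

theorem disjoint_U {x y : G} (h : ¬ Rel D x y) : Disjoint (U D x) (U D y) := by
  rw [Set.disjoint_left]
  rintro z ⟨-, h1⟩ ⟨-, h2⟩
  exact h (rel_trans D h1 (rel_symm D h2))

theorem ncard_ne_one : ({y : G | y ≠ 1} : Set G).ncard = Nat.card G - 1 := by
  have : ({y : G | y ≠ 1} : Set G) = Set.univ \ {1} := by
    ext y; simp
  rw [this, Set.ncard_sdiff_singleton_of_mem (Set.mem_univ _), Set.ncard_univ]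

end Cfsg.Agent.Lib.H5.TP
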