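import Mathlib
import Cfsg.Agent.Lib.H5.TorusPart
import Cfsg.Agent.Lib.H5.SylowIn

/-!
# Torus partitions: the numerical analysis of the class equation
-/

set_option autoImplicit false

namespace Cfsg.Agent.Lib.H5.TP

open Subgroup Cfsg.Agent.Lib.H5

/-! ### Arithmetic -/


/-- lower bounds for the contribution of one class -/
theorem arith_lower {m ε c h u : ℕ} (hε : ε = 1 ∨ ε = 2) (hh : h = m * (ε * c)) (hu : u = m * (c - 1))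
    (hc : 2 ≤ c) : h ≤ 4 * u ∧ (ε = 1 → h ≤ 2 * u) := by
  obtain ⟨d, rfl⟩ : ∃ d, c = d + 2 := ⟨c - 2, by omega⟩
  have hu' : u = m * (d + 1) := by rw [hu]; congr 1
  rcases hε with rfl | rfl
  · subst hh hu'
    constructor
    · nlinarith
    · intro _; nlinarith
  · subst hh hu'
    constructor
    · nlinarith
    · intro h; omega

theorem arith_one {m ε c h u : ℕ} (hε : ε = 1 ∨ ε = 2) (hh : h = m * (ε * c)) (hu : u = m * (c - 1))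
    (hc : 2 ≤ c) (h0 : h ≠ 0) (tot : u = h - 1) : ε = 1 ∧ m = 1 := by
  obtain ⟨d, rfl⟩ : ∃ d, c = d + 2 := ⟨c - 2, by omega⟩
  have hu' : u = m * (d + 1) := by rw [hu]; congr 1
  have hm : m ≠ 0 := by rintro rfl; simp at hh; exact h0 hh
  rcases hε with rfl | rfl
  · refine ⟨rfl, ?_⟩
    have : u + 1 = h := by omega
    subst hh hu'
    nlinarith
  · exfalso
    have : u + 1 = h := by omega
    subst hh hu'
    have hm1 : 1 ≤ m := Nat.one_le_iff_ne_zero.mpr hm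
    nlinarith



theorem arith_two {m₁ ε₁ c₁ u₁ m₂ ε₂ c₂ u₂ h : ℕ} (hε₁ : ε₁ = 1 ∨ ε₁ = 2) (hε₂ : ε₂ = 1 ∨ ε₂ = 2)
    (hh₁ : h = m₁ * (ε₁ * c₁)) (hh₂ : h = m₂ * (ε₂ * c₂))
    (hu₁ : u₁ = m₁ * (c₁ - 1)) (hu₂ : u₂ = m₂ * (c₂ - 1)) (hc₁ : 2 ≤ c₁) (hc₂ : 2 ≤ c₂)
    (h0 : h ≠ 0) (tot : u₁ + u₂ = h - 1) :
    (ε₁ = 1 ∧ c₁ = 2 ∧ ε₂ = 2 ∧ m₂ = 1) ∨ (ε₁ = 1 ∧ c₁ = 3 ∧ ε₂ = 2 ∧ c₂ = 2 ∧ h = 12) ∨
    (ε₂ = 1 ∧ c₂ = 2 ∧ ε₁ = 2 ∧ m₁ = 1) ∨ (ε₂ = 1 ∧ c₂ = 3 ∧ ε₁ = 2 ∧ c₁ = 2 ∧ h = 12) := by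
  obtain ⟨d₁, rfl⟩ : ∃ d, c₁ = d + 2 := ⟨c₁ - 2, by omega⟩
  obtain ⟨d₂, rfl⟩ : ∃ d, c₂ = d + 2 := ⟨c₂ - 2, by omega⟩
  have hu₁' : u₁ = m₁ * (d₁ + 1) := by rw [hu₁]; congr 1
  have hu₂' : u₂ = m₂ * (d₂ + 1) := by rw [hu₂]; congr 1
  have hm₁ : 1 ≤ m₁ := by
    rcases Nat.eq_zero_or_pos m₁ with h | h
    · subst h; simp at hh₁; exact absurd hh₁ h0
    · exact h
  have hm₂ : 1 ≤ m₂ := by
    rcases Nat.eq_zero_or_pos m₂ with h | h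
    · subst h; simp at hh₂; exact absurd hh₂ h0
    · exact h
  have tot' : u₁ + u₂ + 1 = h := by omega
  rcases hε₁ with rfl | rfl <;> rcases hε₂ with rfl | rfl
  · -- (1,1)
    exfalso
    subst hu₁' hu₂'
    nlinarith
  · -- (1,2)
    subst hu₁' hu₂'
    have e1 : m₁ * (d₁ + 2) = 2 * m₂ * (d₂ + 2) := by rw [← mul_assoc] at hh₂; linarith
    -- m₁ = m₂ d₂ + m₂ + 1   (from tot')
    have e2 : m₁ = m₂ * (d₂ + 2) + 1 - m₂ := by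
      have : m₁ * (d₁ + 1) + m₂ * (d₂ + 1) + 1 = m₁ * (d₁ + 2) := by rw [tot']; linarith
      have : m₂ * (d₂ + 1) + 1 = m₁ := by nlinarith
      rw [← this]
      have : m₂ * (d₂ + 2) = m₂ * (d₂ + 1) + m₂ := by ring
      omega
    have e3 : m₁ = m₂ * (d₂ + 1) + 1 := by
      have : m₂ * (d₂ + 2) = m₂ * (d₂ + 1) + m₂ := by ring
      omega
    rcases d₁ with _ | _ | d₁
    · left
      refine ⟨rfl, rfl, rfl, ?_⟩
      subst e3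
      nlinarith
    · right; left
      subst e3
      have h3 : m₂ * (d₂ + 1) + 3 = 2 * m₂ := by nlinarith
      have hd : d₂ = 0 := by
        by_contra hd
        have : 1 ≤ d₂ := Nat.one_le_iff_ne_zero.mpr hd
        nlinarith
      subst hd
      have hm : m₂ = 3 := by omega
      subst hm
      refine ⟨rfl, rfl, rfl, rfl, ?_⟩
      rw [hh₂]
    · exfalso
      subst e3
      nlinarith
  · -- (2,1)
    subst hu₁' hu₂'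
    have e1 : m₂ * (d₂ + 2) = 2 * m₁ * (d₁ + 2) := by rw [← mul_assoc] at hh₁; linarith
    have e3 : m₂ = m₁ * (d₁ + 1) + 1 := by
      have : m₁ * (d₁ + 1) + m₂ * (d₂ + 1) + 1 = m₂ * (d₂ + 2) := by rw [tot']; linarith
      nlinarith
    rcases d₂ with _ | _ | d₂
    · right; right; left
      refine ⟨rfl, rfl, rfl, ?_⟩
      subst e3
      nlinarith
    · right; right; right
      subst e3
      have h3 : m₁ * (d₁ + 1) + 3 = 2 * m₁ := by nlinarith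
      have hd : d₁ = 0 := by
        by_contra hd
        have : 1 ≤ d₁ := Nat.one_le_iff_ne_zero.mpr hd
        nlinarith
      subst hd
      have hm : m₁ = 3 := by omega
      subst hm
      refine ⟨rfl, rfl, rfl, rfl, ?_⟩
      rw [hh₁]
    · exfalso
      subst e3
      nlinarith
  · -- (2,2)
    exfalso
    subst hu₁' hu₂'
    nlinarith



theorem aux_le (m a b : ℕ) (h : a ≤ b) : a * m ≤ m * b := by
  rw [mul_comm]; exact Nat.mul_le_mul_left m h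

theorem arith_three {m₁ ε₁ c₁ u₁ m₂ ε₂ c₂ u₂ m₃ ε₃ c₃ u₃ h : ℕ}
    (hε₁ : ε₁ = 1 ∨ ε₁ = 2) (hε₂ : ε₂ = 1 ∨ ε₂ = 2) (hε₃ : ε₃ = 1 ∨ ε₃ = 2)
    (hh₁ : h = m₁ * (ε₁ * c₁)) (hh₂ : h = m₂ * (ε₂ * c₂)) (hh₃ : h = m₃ * (ε₃ * c₃))
    (hu₁ : u₁ = m₁ * (c₁ - 1)) (hu₂ : u₂ = m₂ * (c₂ - 1)) (hu₃ : u₃ = m₃ * (c₃ - 1))
    (hc₁ : 2 ≤ c₁) (h12 : c₁ ≤ c₂) (h23 : c₂ ≤ c₃)
    (h0 : h ≠ 0) (tot : u₁ + u₂ + u₃ = h - 1) :
    ε₁ = 2 ∧ ε₂ = 2 ∧ ε₃ = 2 ∧ c₁ = 2 ∧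
      ((c₂ = 2 ∧ m₃ = 1) ∨ (c₂ = 3 ∧ c₃ = 3 ∧ h = 12) ∨ (c₂ = 3 ∧ c₃ = 4 ∧ h = 24) ∨
        (c₂ = 3 ∧ c₃ = 5 ∧ h = 60)) := by
  have hc₂ : 2 ≤ c₂ := by omega
  have hc₃ : 2 ≤ c₃ := by omega
  have l₁ := arith_lower hε₁ hh₁ hu₁ hc₁
  have l₂ := arith_lower hε₂ hh₂ hu₂ hc₂
  have l₃ := arith_lower hε₃ hh₃ hu₃ hc₃
  have hpos : 0 < h := Nat.pos_of_ne_zero h0
  have e₁ : ε₁ = 2 := by
    rcases hε₁ with h | h
    · have := l₁.2 h; omega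
    · exact h
  have e₂ : ε₂ = 2 := by
    rcases hε₂ with h | h
    · have := l₂.2 h; omega
    · exact h
  have e₃ : ε₃ = 2 := by
    rcases hε₃ with h | h
    · have := l₃.2 h; omega
    · exact h
  subst e₁ e₂ e₃
  refine ⟨rfl, rfl, rfl, ?_⟩
  obtain ⟨d₁, rfl⟩ : ∃ d, c₁ = d + 2 := ⟨c₁ - 2, by omega⟩
  obtain ⟨d₂, rfl⟩ : ∃ d, c₂ = d + 2 := ⟨c₂ - 2, by omega⟩
  obtain ⟨d₃, rfl⟩ : ∃ d, c₃ = d + 2 := ⟨c₃ - 2, by omega⟩
  have hu₁' : u₁ = m₁ * (d₁ + 1) := by rw [hu₁]; congr 1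
  have hu₂' : u₂ = m₂ * (d₂ + 1) := by rw [hu₂]; congr 1
  have hu₃' : u₃ = m₃ * (d₃ + 1) := by rw [hu₃]; congr 1
  have hm₁ : 1 ≤ m₁ := by
    rcases Nat.eq_zero_or_pos m₁ with h | h
    · subst h; simp at hh₁; exact absurd hh₁ h0
    · exact h
  have hm₂ : 1 ≤ m₂ := by
    rcases Nat.eq_zero_or_pos m₂ with h | h
    · subst h; simp at hh₂; exact absurd hh₂ h0
    · exact h
  have hm₃ : 1 ≤ m₃ := by
    rcases Nat.eq_zero_or_pos m₃ with h | h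
    · subst h; simp at hh₃; exact absurd hh₃ h0
    · exact h
  have tot' : u₁ + u₂ + u₃ + 1 = h := by omega
  -- `H = h / 2`
  obtain ⟨H, rfl⟩ : ∃ H, h = 2 * H := ⟨m₁ * (d₁ + 2), by rw [hh₁]; ring⟩
  have k₁ : H = m₁ * (d₁ + 2) := by
    have : 2 * H = 2 * (m₁ * (d₁ + 2)) := by rw [hh₁]; ring
    omega
  have k₂ : H = m₂ * (d₂ + 2) := by
    have : 2 * H = 2 * (m₂ * (d₂ + 2)) := by rw [hh₂]; ring
    omega
  have k₃ : H = m₃ * (d₃ + 2) := by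
    have : 2 * H = 2 * (m₃ * (d₃ + 2)) := by rw [hh₃]; ring
    omega
  have s : m₁ + m₂ + m₃ = H + 1 := by
    have a₁ : u₁ + m₁ = H := by rw [hu₁', k₁]; ring
    have a₂ : u₂ + m₂ = H := by rw [hu₂', k₂]; ring
    have a₃ : u₃ + m₃ = H := by rw [hu₃', k₃]; ring
    omega
  -- `c₁ = 2`
  have hd₁ : d₁ = 0 := by
    by_contra hd
    have q1 : 1 ≤ d₁ := Nat.one_le_iff_ne_zero.mpr hd
    have q2 : 1 ≤ d₂ := by omega
    have q3 : 1 ≤ d₃ := by omega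
    have b₁ : 3 * m₁ ≤ H := by rw [k₁]; exact aux_le _ _ _ (by omega)
    have b₂ : 3 * m₂ ≤ H := by rw [k₂]; exact aux_le _ _ _ (by omega)
    have b₃ : 3 * m₃ ≤ H := by rw [k₃]; exact aux_le _ _ _ (by omega)
    omega
  subst hd₁
  refine ⟨rfl, ?_⟩
  have k₁' : H = 2 * m₁ := by rw [k₁]; ring
  -- `c₂ ≤ 3`
  have hd₂ : d₂ ≤ 1 := by
    by_contra hd
    have q2 : 2 ≤ d₂ := by omega
    have q3 : 2 ≤ d₃ := by omega
    have b₂ : 4 * m₂ ≤ H := by rw [k₂]; exact aux_le _ _ _ (by omega)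
    have b₃ : 4 * m₃ ≤ H := by rw [k₃]; exact aux_le _ _ _ (by omega)
    omega
  rcases d₂ with _ | _ | d₂
  · left
    refine ⟨rfl, ?_⟩
    have : H = 2 * m₂ := by rw [k₂]; ring
    omega
  · right
    have k₂' : H = 3 * m₂ := by rw [k₂]; ring
    -- m₁ = 3k, m₂ = 2k
    obtain ⟨k, rfl⟩ : ∃ k, m₂ = 2 * k := ⟨m₂ - m₁ / 1 + (m₁ - m₂), by omega⟩
    have hm₁' : m₁ = 3 * k := by omega
    have hm₃' : m₃ = k + 1 := by omega
    have hH : H = 6 * k := by omega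
    subst hm₁' hm₃'
    have q3 : 1 ≤ d₃ := by omega
    have hk : 1 ≤ k := by omega
    have e : (k + 1) * (d₃ + 2) = 6 * k := by rw [← k₃, hH]
    have hd₃ : d₃ ≤ 3 := by
      by_contra hd
      have h4 : 4 ≤ d₃ := by omega
      have : 6 * (k + 1) ≤ (k + 1) * (d₃ + 2) := aux_le _ _ _ (by omega)
      omega
    interval_cases d₃
    · left
      have : k = 1 := by omega
      subst this
      exact ⟨rfl, rfl, by omega⟩
    · right; left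
      have : k = 2 := by omega
      subst this
      exact ⟨rfl, rfl, by omega⟩
    · right; right
      have : k = 5 := by omega
      subst this
      exact ⟨rfl, rfl, by omega⟩
  · omega


/-! ### Group theory -/

variable {G : Type*} [Group G]

theorem exists_conj_of_card_eq_sylow [Finite G] {p : ℕ} [Fact p.Prime] (P Q : Subgroup G)
    (hP : Nat.card P = p ^ (Nat.card G).factorization p)
    (hQ : Nat.card Q = p ^ (Nat.card G).factorization p) :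
    ∃ g : G, Q = P.map (MulAut.conj g).toMonoidHom := by
  obtain ⟨g, hg⟩ := MulAction.exists_smul_eq G (Sylow.ofCard P hP) (Sylow.ofCard Q hQ)
  refine ⟨g, ?_⟩
  ext y
  have h1 : y ∈ (g • Sylow.ofCard P hP : Sylow p G) ↔ y ∈ Sylow.ofCard Q hQ := by rw [hg]
  rw [sylow_mem_smul_iff] at h1
  rw [mem_map_conj_iff]
  exact h1.symm

variable (D : TorusPartition G) [Finite G]

/-- class data -/
theorem classData (x : G) (hx : x ≠ 1) :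
    ∃ m ε : ℕ, (ε = 1 ∨ ε = 2) ∧ Nat.card G = m * (ε * Nat.card (D.T x)) ∧
      (U D x).ncard = m * (Nat.card (D.T x) - 1) ∧
      Nat.card (normalizer (D.T x : Set G)) = ε * Nat.card (D.T x) := by
  refine ⟨Nat.card (Conj D x), ?_⟩
  rcases card_normalizer D x hx with h | h
  · refine ⟨1, Or.inl rfl, ?_, ncard_U D x hx, by rw [h, one_mul]⟩
    rw [card_mul_card_normalizer D x, h, one_mul]
  · refine ⟨2, Or.inr rfl, ?_, ncard_U D x hx, h⟩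
    rw [card_mul_card_normalizer D x, h]

/-- the outcome of the numerical analysis -/
theorem numeric [Nontrivial G] :
    (∃ x, x ≠ 1 ∧ D.T x = ⊤) ∨
    (∃ x, x ≠ 1 ∧ normalizer (D.T x : Set G) = ⊤ ∧ Nat.card G = 2 * Nat.card (D.T x)) ∨
    (Nat.card G = 12 ∧ ∃ x, x ≠ 1 ∧ Nat.card (D.T x) = 3 ∧
      Nat.card (normalizer (D.T x : Set G)) = 3) ∨
    (Nat.card G = 24 ∧ ∃ x, x ≠ 1 ∧ Nat.card (D.T x) = 3 ∧
      Nat.card (normalizer (D.T x : Set G)) = 6) ∨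
    (Nat.card G = 60 ∧ ∃ x₁ x₂ x₃, x₁ ≠ 1 ∧ x₂ ≠ 1 ∧ x₃ ≠ 1 ∧ Nat.card (D.T x₁) = 2 ∧
      Nat.card (D.T x₂) = 3 ∧ Nat.card (D.T x₃) = 5 ∧
      (∀ y, y ≠ 1 → Rel D x₁ y ∨ Rel D x₂ y ∨ Rel D x₃ y) ∧
      (U D x₁).ncard = 15 ∧ (U D x₂).ncard = 20 ∧ (U D x₃).ncard = 24) := by
  have h0 : Nat.card G ≠ 0 := Nat.card_pos.ne'
  have hS : ({y : G | y ≠ 1} : Set G).ncard = Nat.card G - 1 := ncard_ne_one
  obtain ⟨x₀, hx₀⟩ := exists_ne (1 : G)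
  -- first class
  obtain ⟨x₁, hx₁, hmin₁⟩ := Set.exists_min_image {y : G | y ≠ 1} (fun y => Nat.card (D.T y))
    (Set.toFinite _) ⟨x₀, hx₀⟩
  have hx₁ : x₁ ≠ 1 := hx₁
  obtain ⟨m₁, ε₁, hε₁, hh₁, hu₁, hn₁⟩ := classData D x₁ hx₁
  have hc₁ := two_le_card D x₁ hx₁
  by_cases h1 : ∀ y, y ≠ 1 → Rel D x₁ y
  · left
    have hU : U D x₁ = {y : G | y ≠ 1} := by
      ext y
      exact ⟨fun h => h.1, fun h => ⟨h, h1 y h⟩⟩
    rw [hU, hS] at hu₁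
    obtain ⟨rfl, rfl⟩ := arith_one hε₁ hh₁ hu₁ hc₁ h0 rfl
    refine ⟨x₁, hx₁, ?_⟩
    apply Subgroup.eq_top_of_card_eq
    rw [hh₁]; ring
  push Not at h1
  obtain ⟨y₂, hy₂, hy₂'⟩ := h1
  -- second class
  obtain ⟨x₂, hx₂, hmin₂⟩ := Set.exists_min_image {y : G | y ≠ 1 ∧ ¬ Rel D x₁ y}
    (fun y => Nat.card (D.T y)) (Set.toFinite _) ⟨y₂, hy₂, hy₂'⟩
  obtain ⟨hx₂, hr₁₂⟩ : x₂ ≠ 1 ∧ ¬ Rel D x₁ x₂ := hx₂
  obtain ⟨m₂, ε₂, hε₂, hh₂, hu₂, hn₂⟩ := classData D x₂ hx₂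
  have hc₂ := two_le_card D x₂ hx₂
  have h12 : Nat.card (D.T x₁) ≤ Nat.card (D.T x₂) := hmin₁ x₂ hx₂
  have hd₁₂ := disjoint_U D hr₁₂
  by_cases h2 : ∀ y, y ≠ 1 → Rel D x₁ y ∨ Rel D x₂ y
  · have hU : U D x₁ ∪ U D x₂ = {y : G | y ≠ 1} := by
      ext y
      constructor
      · rintro (h | h) <;> exact h.1
      · intro h
        rcases h2 y h with h' | h'
        · exact Or.inl ⟨h, h'⟩
        · exact Or.inr ⟨h, h'⟩
    have htot : (U D x₁).ncard + (U D x₂).ncard = Nat.card G - 1 := by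
      rw [← Set.ncard_union_eq hd₁₂ (Set.toFinite _) (Set.toFinite _), hU, hS]
    rcases arith_two hε₁ hε₂ hh₁ hh₂ hu₁ hu₂ hc₁ hc₂ h0 htot with
      ⟨-, -, rfl, rfl⟩ | ⟨-, h3, -, h2', -⟩ | ⟨-, -, rfl, rfl⟩ | ⟨rfl, h3, -, -, h12'⟩
    · right; left
      refine ⟨x₂, hx₂, ?_, by rw [hh₂]; ring⟩
      apply Subgroup.eq_top_of_card_eq
      rw [hn₂, hh₂]; ring
    · omega
    · right; left
      refine ⟨x₁, hx₁, ?_, by rw [hh₁]; ring⟩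
      apply Subgroup.eq_top_of_card_eq
      rw [hn₁, hh₁]; ring
    · right; right; left
      exact ⟨h12', x₂, hx₂, h3, by rw [hn₂, h3]⟩
  push Not at h2
  obtain ⟨y₃, hy₃, hy₃', hy₃''⟩ := h2
  -- third class
  obtain ⟨x₃, hx₃, hmin₃⟩ := Set.exists_min_image
    {y : G | y ≠ 1 ∧ ¬ Rel D x₁ y ∧ ¬ Rel D x₂ y}
    (fun y => Nat.card (D.T y)) (Set.toFinite _) ⟨y₃, hy₃, hy₃', hy₃''⟩
  obtain ⟨hx₃, hr₁₃, hr₂₃⟩ : x₃ ≠ 1 ∧ ¬ Rel D x₁ x₃ ∧ ¬ Rel D x₂ x₃ := hx₃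
  obtain ⟨m₃, ε₃, hε₃, hh₃, hu₃, hn₃⟩ := classData D x₃ hx₃
  have hc₃ := two_le_card D x₃ hx₃
  have h23 : Nat.card (D.T x₂) ≤ Nat.card (D.T x₃) := hmin₂ x₃ ⟨hx₃, hr₁₃⟩
  have hd₁₃ := disjoint_U D hr₁₃
  have hd₂₃ := disjoint_U D hr₂₃
  have hd₁₂₃ : Disjoint (U D x₁ ∪ U D x₂) (U D x₃) := Set.disjoint_union_left.mpr ⟨hd₁₃, hd₂₃⟩
  have hsum3 : (U D x₁ ∪ U D x₂ ∪ U D x₃).ncard =
      (U D x₁).ncard + (U D x₂).ncard + (U D x₃).ncard := by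
    rw [Set.ncard_union_eq hd₁₂₃ (Set.toFinite _) (Set.toFinite _),
      Set.ncard_union_eq hd₁₂ (Set.toFinite _) (Set.toFinite _)]
  by_cases h3 : ∀ y, y ≠ 1 → Rel D x₁ y ∨ Rel D x₂ y ∨ Rel D x₃ y
  · have hU : U D x₁ ∪ U D x₂ ∪ U D x₃ = {y : G | y ≠ 1} := by
      ext y
      constructor
      · rintro ((h | h) | h) <;> exact h.1
      · intro h
        rcases h3 y h with h' | h' | h'
        · exact Or.inl (Or.inl ⟨h, h'⟩)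
        · exact Or.inl (Or.inr ⟨h, h'⟩)
        · exact Or.inr ⟨h, h'⟩
    have htot : (U D x₁).ncard + (U D x₂).ncard + (U D x₃).ncard = Nat.card G - 1 := by
      rw [← hsum3, hU, hS]
    obtain ⟨rfl, rfl, rfl, hc1, hcase⟩ :=
      arith_three hε₁ hε₂ hε₃ hh₁ hh₂ hh₃ hu₁ hu₂ hu₃ hc₁ h12 h23 h0 htot
    rcases hcase with ⟨-, rfl⟩ | ⟨hc2, hc3, hG⟩ | ⟨hc2, hc3, hG⟩ | ⟨hc2, hc3, hG⟩
    · right; left
      refine ⟨x₃, hx₃, ?_, by rw [hh₃]; ring⟩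
      apply Subgroup.eq_top_of_card_eq
      rw [hn₃, hh₃]; ring
    · -- two classes of Sylow 3-subgroups: impossible
      exfalso
      have : Fact (Nat.Prime 3) := ⟨Nat.prime_three⟩
      have hf : (Nat.card G).factorization 3 = 1 := by
        rw [hG]
        have : (12 : ℕ) = 3 ^ 1 * 4 := by norm_num
        rw [this, Nat.factorization_mul (by norm_num) (by norm_num), Nat.factorization_pow]
        simp [Nat.Prime.factorization_self Nat.prime_three,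
          Nat.factorization_eq_zero_of_not_dvd (show ¬ 3 ∣ 4 by norm_num)]
      obtain ⟨g, hg⟩ := exists_conj_of_card_eq_sylow (p := 3) (D.T x₂) (D.T x₃)
        (by rw [hc2, hf, pow_one]) (by rw [hc3, hf, pow_one])
      exact hr₂₃ ⟨g, hg⟩
    · right; right; right; left
      exact ⟨hG, x₂, hx₂, hc2, by rw [hn₂, hc2]⟩
    · right; right; right; right
      refine ⟨hG, x₁, x₂, x₃, hx₁, hx₂, hx₃, hc1, hc2, hc3, h3, ?_, ?_, ?_⟩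
      · rw [hu₁, hc1]
        rw [hc1, hG] at hh₁
        omega
      · rw [hu₂, hc2]
        rw [hc2, hG] at hh₂
        omega
      · rw [hu₃, hc3]
        rw [hc3, hG] at hh₃
        omega
  -- a fourth class: impossible
  exfalso
  push Not at h3
  obtain ⟨x₄, hx₄, hr₁₄, hr₂₄, hr₃₄⟩ := h3
  obtain ⟨m₄, ε₄, hε₄, hh₄, hu₄, hn₄⟩ := classData D x₄ hx₄
  have hc₄ := two_le_card D x₄ hx₄
  have hd₄ : Disjoint (U D x₁ ∪ U D x₂ ∪ U D x₃) (U D x₄) :=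
    Set.disjoint_union_left.mpr ⟨Set.disjoint_union_left.mpr
      ⟨disjoint_U D hr₁₄, disjoint_U D hr₂₄⟩, disjoint_U D hr₃₄⟩
  have hsum4 : (U D x₁ ∪ U D x₂ ∪ U D x₃ ∪ U D x₄).ncard =
      (U D x₁).ncard + (U D x₂).ncard + (U D x₃).ncard + (U D x₄).ncard := by
    rw [Set.ncard_union_eq hd₄ (Set.toFinite _) (Set.toFinite _), hsum3]
  have hsub : U D x₁ ∪ U D x₂ ∪ U D x₃ ∪ U D x₄ ⊆ {y : G | y ≠ 1} := by
    rintro y (((h | h) | h) | h) <;> exact h.1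
  have hle := Set.ncard_le_ncard hsub (Set.toFinite _)
  rw [hsum4, hS] at hle
  have l₁ := (arith_lower hε₁ hh₁ hu₁ hc₁).1
  have l₂ := (arith_lower hε₂ hh₂ hu₂ hc₂).1
  have l₃ := (arith_lower hε₃ hh₃ hu₃ hc₃).1
  have l₄ := (arith_lower hε₄ hh₄ hu₄ hc₄).1
  omega

end Cfsg.Agent.Lib.H5.TP
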