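import Mathlib
import Cfsg.Agent.Lib.H5.TorusPartNum
import Cfsg.Agent.Lib.H5.SmallRecog
import Cfsg.Agent.Lib.H2.Simple60
import Cfsg.Agent.Lib.H22.DihQuatRecog

/-!
# Torus partitions: the classification

A finite group with a torus partition is cyclic, dihedral, `A₄`, `S₄` or `A₅`.
-/

set_option autoImplicit false

namespace Cfsg.Agent.Lib.H5.TP

open Subgroup Cfsg.Agent.Lib.H5

variable {G : Type*} [Group G] (D : TorusPartition G) [Finite G]

/-- the dihedral case -/
theorem dihedral_of_normal (x : G) (hx : x ≠ 1) (hN : normalizer (D.T x : Set G) = ⊤)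
    (hG : Nat.card G = 2 * Nat.card (D.T x)) :
    Nonempty (G ≃* DihedralGroup (Nat.card (D.T x))) := by
  have hc := two_le_card D x hx
  haveI : NeZero (Nat.card (D.T x)) := ⟨by omega⟩
  haveI := D.cyclic x hx
  obtain ⟨r, hr⟩ := IsCyclic.exists_generator (α := D.T x)
  have hr_ord : orderOf (r : G) = Nat.card (D.T x) := by
    rw [Subgroup.orderOf_coe, orderOf_eq_card_of_forall_mem_zpowers hr]
  -- an element outside the torus
  obtain ⟨s, hs⟩ : ∃ s : G, s ∉ D.T x := by
    by_contra h
    push Not at h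
    have : D.T x = ⊤ := by
      rw [eq_top_iff]
      intro g _
      exact h g
    rw [this, Subgroup.card_top] at hG
    have : 0 < Nat.card G := Nat.card_pos
    omega
  have hsN : s ∈ normalizer (D.T x : Set G) := by rw [hN]; exact mem_top s
  obtain ⟨hss, hinv⟩ := D.inv x s hx hsN hs
  apply Cfsg.Agent.Lib.H22.dihedral_equiv_of_gens (Nat.card (D.T x)) (r : G) s
  · rw [← hr_ord]; exact pow_orderOf_eq_one _
  · exact hss
  · exact hinv _ r.2
  · -- generation
    have hT : D.T x ≤ closure ({(r : G), s} : Set G) := by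
      intro y hy
      obtain ⟨n, hn⟩ := Subgroup.mem_zpowers_iff.mp (hr ⟨y, hy⟩)
      have : y = (r : G) ^ n := by
        have := congrArg Subtype.val hn
        simpa using this.symm
      rw [this]
      exact zpow_mem (subset_closure (by simp)) n
    have hsC : s ∈ closure ({(r : G), s} : Set G) := subset_closure (by simp)
    -- cardinality
    have h1 : Nat.card (D.T x) ∣ Nat.card (closure ({(r : G), s} : Set G)) :=
      Subgroup.card_dvd_of_le hT
    have h2 : Nat.card (closure ({(r : G), s} : Set G)) ∣ Nat.card G := Subgroup.card_subgroup_dvd_card _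
    have h3 : Nat.card (D.T x) < Nat.card (closure ({(r : G), s} : Set G)) := by
      have hlt : (D.T x : Set G) ⊂ (closure ({(r : G), s} : Set G) : Set G) := by
        rw [Set.ssubset_iff_of_subset (fun y hy => hT hy)]
        exact ⟨s, hsC, hs⟩
      exact Set.ncard_lt_ncard hlt (Set.toFinite _)
    apply Subgroup.eq_top_of_card_eq
    rw [hG] at h2 ⊢
    obtain ⟨a, ha⟩ := h1
    obtain ⟨b, hb⟩ := h2
    rw [ha] at hb h3 ⊢
    have hcpos : 0 < Nat.card (D.T x) := by omega
    have ha2 : 2 ≤ a := by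
      by_contra h
      push Not at h
      interval_cases a
      · omega
      · omega
    have hb1 : 1 ≤ b := by
      rcases Nat.eq_zero_or_pos b with h | h
      · subst h
        simp at hb
        omega
      · exact h
    have : 2 = a * b := by
      have : Nat.card (D.T x) * 2 = Nat.card (D.T x) * (a * b) := by
        rw [mul_comm, hb]; ring
      exact Nat.eq_of_mul_eq_mul_left hcpos this
    have hab : a = 2 := by nlinarith
    rw [hab]; ring
  · exact hG

/-- the `A₅` case -/
theorem alt_five_of_data (hG : Nat.card G = 60) (x₁ x₂ x₃ : G) (hx₁ : x₁ ≠ 1) (hx₂ : x₂ ≠ 1)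
    (hx₃ : x₃ ≠ 1) (hc₁ : Nat.card (D.T x₁) = 2) (hc₂ : Nat.card (D.T x₂) = 3)
    (hc₃ : Nat.card (D.T x₃) = 5)
    (hcov : ∀ y, y ≠ 1 → Rel D x₁ y ∨ Rel D x₂ y ∨ Rel D x₃ y)
    (hu₁ : (U D x₁).ncard = 15) (hu₂ : (U D x₂).ncard = 20) (hu₃ : (U D x₃).ncard = 24) :
    Nonempty (G ≃* alternatingGroup (Fin 5)) := by
  classical
  have hnt : Nontrivial G := by
    rw [← Finite.one_lt_card_iff_nontrivial, hG]; norm_num
  -- tori of prime order are generated by any non-identity element
  have hprime : ∀ (x : G) (q : ℕ), q.Prime → x ≠ 1 → Nat.card (D.T x) = q → ∀ y, y ≠ 1 →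
      Rel D x y → D.T y = zpowers y := by
    intro x q hq hx hc y hy ⟨g, hg⟩
    have hcy : Nat.card (D.T y) = q := by rw [hg, card_conj_subgroup, hc]
    symm
    apply Subgroup.eq_of_le_of_card_ge
    · rw [zpowers_le]; exact D.mem y hy
    · rw [hcy, Nat.card_zpowers]
      have hd : orderOf y ∣ q := by
        have := Subgroup.orderOf_dvd_natCard (D.T y) (D.mem y hy)
        rwa [hcy] at this
      rcases (Nat.dvd_prime hq).mp hd with h | h
      · exact absurd (orderOf_eq_one_iff.mp h) hy
      · rw [h]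
  -- a normal subgroup containing a non-identity element of a class contains the class
  have hclass : ∀ (N : Subgroup G), N.Normal → ∀ (x : G) (q : ℕ), q.Prime → x ≠ 1 →
      Nat.card (D.T x) = q → ∀ y ∈ N, y ≠ 1 → Rel D x y → U D x ⊆ N := by
    intro N hN x q hq hx hc y hyN hy hr z hz
    obtain ⟨hz1, hrz⟩ := hz
    have hyz : Rel D y z := rel_trans D (rel_symm D hr) hrz
    obtain ⟨g, hg⟩ := hyz
    have hTy := hprime x q hq hx hc y hy hr
    have hzT : z ∈ D.T z := D.mem z hz1
    rw [hg, hTy] at hzT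
    obtain ⟨w, hw, rfl⟩ := hzT
    obtain ⟨n, rfl⟩ := Subgroup.mem_zpowers_iff.mp hw
    simp only [MulEquiv.coe_toMonoidHom, MulAut.conj_apply, SetLike.mem_coe]
    exact hN.conj_mem _ (zpow_mem hyN n) g
  have hsimple : IsSimpleGroup G := by
    refine ⟨fun N hN => ?_⟩
    by_cases hbot : N = ⊥
    · exact Or.inl hbot
    right
    -- `N \\ {1}` is a union of classes
    have key : ∀ (x : G) (q : ℕ), q.Prime → x ≠ 1 → Nat.card (D.T x) = q →
        ((N : Set G) ∩ U D x).ncard = 0 ∨ ((N : Set G) ∩ U D x).ncard = (U D x).ncard := by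
      intro x q hq hx hc
      by_cases h : ∃ y ∈ N, y ≠ 1 ∧ Rel D x y
      · right
        obtain ⟨y, hyN, hy, hr⟩ := h
        have := hclass N hN x q hq hx hc y hyN hy hr
        rw [Set.inter_eq_right.mpr this]
      · left
        push Not at h
        rw [Set.ncard_eq_zero (Set.toFinite _)]
        ext z
        simp only [Set.mem_inter_iff, SetLike.mem_coe, Set.mem_empty_iff_false, iff_false, not_and]
        intro hzN hz
        exact h z hzN hz.1 hz.2
    have h12 : ¬ Rel D x₁ x₂ := by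
      rintro ⟨g, hg⟩
      have := card_conj_subgroup (D.T x₁) g
      rw [← hg, hc₁, hc₂] at this
      omega
    have h13 : ¬ Rel D x₁ x₃ := by
      rintro ⟨g, hg⟩
      have := card_conj_subgroup (D.T x₁) g
      rw [← hg, hc₁, hc₃] at this
      omega
    have h23 : ¬ Rel D x₂ x₃ := by
      rintro ⟨g, hg⟩
      have := card_conj_subgroup (D.T x₂) g
      rw [← hg, hc₂, hc₃] at this
      omega
    have hdec : (N : Set G) \ {1} = ((N : Set G) ∩ U D x₁) ∪ ((N : Set G) ∩ U D x₂) ∪
        ((N : Set G) ∩ U D x₃) := by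
      ext z
      simp only [Set.mem_sdiff, SetLike.mem_coe, Set.mem_singleton_iff, Set.mem_union,
        Set.mem_inter_iff]
      constructor
      · rintro ⟨hzN, hz⟩
        rcases hcov z hz with h | h | h
        · exact Or.inl (Or.inl ⟨hzN, hz, h⟩)
        · exact Or.inl (Or.inr ⟨hzN, hz, h⟩)
        · exact Or.inr ⟨hzN, hz, h⟩
      · rintro ((⟨hzN, hz⟩ | ⟨hzN, hz⟩) | ⟨hzN, hz⟩) <;> exact ⟨hzN, hz.1⟩
    have hd12 : Disjoint ((N : Set G) ∩ U D x₁) ((N : Set G) ∩ U D x₂) :=
      (disjoint_U D h12).mono Set.inter_subset_right Set.inter_subset_right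
    have hd3 : Disjoint (((N : Set G) ∩ U D x₁) ∪ ((N : Set G) ∩ U D x₂))
        ((N : Set G) ∩ U D x₃) := by
      rw [Set.disjoint_union_left]
      exact ⟨(disjoint_U D h13).mono Set.inter_subset_right Set.inter_subset_right,
        (disjoint_U D h23).mono Set.inter_subset_right Set.inter_subset_right⟩
    have hcardN : Nat.card N - 1 = ((N : Set G) ∩ U D x₁).ncard + ((N : Set G) ∩ U D x₂).ncard +
        ((N : Set G) ∩ U D x₃).ncard := by
      have h1 : ((N : Set G) \ {1}).ncard = Nat.card N - 1 := by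
        rw [Set.ncard_sdiff_singleton_of_mem (one_mem N)]
        rfl
      rw [← h1, hdec, Set.ncard_union_eq hd3 (Set.toFinite _) (Set.toFinite _),
        Set.ncard_union_eq hd12 (Set.toFinite _) (Set.toFinite _)]
    have hdvd : Nat.card N ∣ 60 := by
      rw [← hG]; exact Subgroup.card_subgroup_dvd_card N
    have hNpos : 0 < Nat.card N := Nat.card_pos
    have hN1 : Nat.card N ≠ 1 := by
      intro h
      exact hbot (Subgroup.card_eq_one.mp h)
    apply Subgroup.eq_top_of_card_eq
    rw [hG]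
    rcases key x₁ 2 Nat.prime_two hx₁ hc₁ with k1 | k1 <;>
    rcases key x₂ 3 Nat.prime_three hx₂ hc₂ with k2 | k2 <;>
    rcases key x₃ 5 (by norm_num) hx₃ hc₃ with k3 | k3 <;>
    rw [k1, k2, k3] at hcardN
    · omega
    · rw [hu₃] at hcardN
      have : Nat.card N = 25 := by omega
      rw [this] at hdvd; norm_num at hdvd
    · rw [hu₂] at hcardN
      have : Nat.card N = 21 := by omega
      rw [this] at hdvd; norm_num at hdvd
    · rw [hu₂, hu₃] at hcardN
      have : Nat.card N = 45 := by omega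
      rw [this] at hdvd; norm_num at hdvd
    · rw [hu₁] at hcardN
      have : Nat.card N = 16 := by omega
      rw [this] at hdvd; norm_num at hdvd
    · rw [hu₁, hu₃] at hcardN
      have : Nat.card N = 40 := by omega
      rw [this] at hdvd; norm_num at hdvd
    · rw [hu₁, hu₂] at hcardN
      have : Nat.card N = 36 := by omega
      rw [this] at hdvd; norm_num at hdvd
    · rw [hu₁, hu₂, hu₃] at hcardN
      omega
  exact Cfsg.Agent.Lib.H2.simple60_iso_A5 hG

/-- **Classification of the finite groups with a torus partition.** -/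
theorem classify :
    (IsCyclic G ∧ (Subsingleton G ∨ ∃ x, x ≠ 1 ∧ D.T x = ⊤)) ∨
    (∃ x, x ≠ 1 ∧ Nonempty (G ≃* DihedralGroup (Nat.card (D.T x)))) ∨
    Nonempty (G ≃* alternatingGroup (Fin 4)) ∨ Nonempty (G ≃* Equiv.Perm (Fin 4)) ∨
    Nonempty (G ≃* alternatingGroup (Fin 5)) := by
  rcases subsingleton_or_nontrivial G with hs | hnt
  · left
    exact ⟨inferInstance, Or.inl hs⟩
  rcases numeric D with ⟨x, hx, hT⟩ | ⟨x, hx, hN, hG⟩ | ⟨hG, x, hx, hc, hn⟩ | ⟨hG, x, hx, hc, hn⟩ |
    ⟨hG, x₁, x₂, x₃, hx₁, hx₂, hx₃, hc₁, hc₂, hc₃, hcov, hu₁, hu₂, hu₃⟩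
  · left
    refine ⟨?_, Or.inr ⟨x, hx, hT⟩⟩
    haveI := D.cyclic x hx
    apply isCyclic_of_surjective (D.T x).subtype
    intro g
    exact ⟨⟨g, by rw [hT]; exact mem_top g⟩, rfl⟩
  · right; left
    exact ⟨x, hx, dihedral_of_normal D x hx hN hG⟩
  · right; right; left
    exact SmallRecog.nonempty_mulEquiv_alt_four hG (D.T x) hc hn
  · right; right; right; left
    exact SmallRecog.nonempty_mulEquiv_perm_four' hG (D.T x) hc hn (fun g hg hgT => D.inv x g hx hg hgT)
  · right; right; right; right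
    exact alt_five_of_data D hG x₁ x₂ x₃ hx₁ hx₂ hx₃ hc₁ hc₂ hc₃ hcov hu₁ hu₂ hu₃

end Cfsg.Agent.Lib.H5.TP
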