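import Mathlib
import Cfsg.Agent.Lib.H5.PSL2Torus
import Cfsg.Agent.Lib.H5.TorusPartId
import Cfsg.Agent.Lib.H12.SL2OddUnip

/-!
# Subgroups of `PSL₂(q)`, `q` odd, of order prime to the characteristic

They are cyclic, dihedral, `A₄`, `S₄` or `A₅` (Dickson).
-/

set_option autoImplicit false

namespace Cfsg.Agent.Lib.H5.PSL2PPrime

open Matrix Cfsg.Agent.Lib.H12 Cfsg.Agent.Lib.H5.PSL2Klein Cfsg.Agent.Lib.H5.PSL2Torus
  Cfsg.Agent.Lib.H5

variable {F : Type*} [Field F] [Fintype F]

local notation "SL2" => Matrix.SpecialLinearGroup (Fin 2) F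
local notation "M2" => Matrix (Fin 2) (Fin 2) F
local notation "PSL2" => Matrix.ProjectiveSpecialLinearGroup (Fin 2) F

/-- the torus partition of a subgroup all of whose non-identity elements are regular
semisimple -/
noncomputable def torusPartition (hodd : Odd (Fintype.card F)) (H : Subgroup PSL2)
    (hss : ∀ x ∈ H, x ≠ 1 → IsRegSS x) : TP.TorusPartition ↥H where
  T x := (tb (x : PSL2)).subgroupOf H
  mem x _ := Subgroup.mem_subgroupOf.mpr (self_mem_tb _)
  eq_of_mem x y hx hy h := by
    have hx' : (x : PSL2) ≠ 1 := fun h => hx (Subtype.ext h)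
    have hy' : (y : PSL2) ≠ 1 := fun h => hy (Subtype.ext h)
    rw [tb_eq_of_mem hx' hy' (Subgroup.mem_subgroupOf.mp h)]
  conj x g _ := by
    ext y
    rw [mem_map_conj_iff, Subgroup.mem_subgroupOf, Subgroup.mem_subgroupOf]
    have : ((g * x * g⁻¹ : ↥H) : PSL2) = (g : PSL2) * x * (g : PSL2)⁻¹ := by simp
    rw [this, tb_conj, mem_map_conj_iff]
    simp
  cyclic x hx := by
    have hx' : (x : PSL2) ≠ 1 := fun h => hx (Subtype.ext h)
    haveI := isCyclic_tb hodd (hss x x.2 hx')
    let f : ↥((tb (x : PSL2)).subgroupOf H) →* ↥(tb (x : PSL2)) :=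
      { toFun := fun y => ⟨(y : ↥H), Subgroup.mem_subgroupOf.mp y.2⟩
        map_one' := rfl
        map_mul' := fun _ _ => rfl }
    apply isCyclic_of_injective f
    intro a b hab
    apply Subtype.ext
    apply Subtype.ext
    exact congrArg (fun z : ↥(tb (x : PSL2)) => (z : PSL2)) hab
  inv x g hx hgN hgT := by
    have hx' : (x : PSL2) ≠ 1 := fun h => hx (Subtype.ext h)
    have h1 : g * x * g⁻¹ ∈ (tb (x : PSL2)).subgroupOf H :=
      (Subgroup.mem_normalizer_iff.mp hgN x).mp (Subgroup.mem_subgroupOf.mpr (self_mem_tb _))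
    have h2 : (g : PSL2) * x * (g : PSL2)⁻¹ ∈ tb (x : PSL2) := by
      have := Subgroup.mem_subgroupOf.mp h1
      simpa using this
    have hgT' : (g : PSL2) ∉ tb (x : PSL2) := fun h => hgT (Subgroup.mem_subgroupOf.mpr h)
    obtain ⟨h3, h4⟩ := (conj_mem_cases hodd (hss x x.2 hx') h2).resolve_left hgT'
    constructor
    · apply Subtype.ext
      simpa using h3
    · intro y hy
      apply Subtype.ext
      have := h4 y (Subgroup.mem_subgroupOf.mp hy)
      simpa using this
  idx x g g' hx hgN hgT hgN' hgT' := by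
    have hx' : (x : PSL2) ≠ 1 := fun h => hx (Subtype.ext h)
    have hmem : ∀ k : ↥H, k ∈ Subgroup.normalizer (((tb (x : PSL2)).subgroupOf H : Subgroup ↥H) : Set ↥H) →
        (k : PSL2) * x * (k : PSL2)⁻¹ ∈ tb (x : PSL2) := by
      intro k hk
      have h1 : k * x * k⁻¹ ∈ (tb (x : PSL2)).subgroupOf H :=
        (Subgroup.mem_normalizer_iff.mp hk x).mp (Subgroup.mem_subgroupOf.mpr (self_mem_tb _))
      have := Subgroup.mem_subgroupOf.mp h1
      simpa using this
    have h := mul_mem_of_inverting hodd (hss x x.2 hx') (hmem g hgN)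
      (fun h => hgT (Subgroup.mem_subgroupOf.mpr h)) (hmem g' hgN')
      (fun h => hgT' (Subgroup.mem_subgroupOf.mpr h))
    rw [Subgroup.mem_subgroupOf]
    simpa using h

theorem torusPartition_T (hodd : Odd (Fintype.card F)) (H : Subgroup PSL2)
    (hss : ∀ x ∈ H, x ≠ 1 → IsRegSS x) (x : ↥H) :
    (torusPartition hodd H hss).T x = (tb (x : PSL2)).subgroupOf H := rfl

/-- the order of a torus -/
theorem card_torus (hodd : Odd (Fintype.card F)) {g : SL2} (ht : (g : M2).trace ^ 2 ≠ 4) :
    2 * Nat.card (torus g) = Fintype.card F - 1 ∨ 2 * Nat.card (torus g) = Fintype.card F + 1 := by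
  have h2 : (2 : F) ≠ 0 := two_ne_zero_of_odd hodd
  obtain ⟨-, hsq, hnsq⟩ := regular_centralizer hodd g ht
  have key : 2 * Nat.card (torus g) = Nat.card (Subgroup.centralizer ({g} : Set SL2)) := by
    let f := (pr (F := F)).subgroupMap (Subgroup.centralizer ({g} : Set SL2))
    have hf : Function.Surjective f := MonoidHom.subgroupMap_surjective _ _
    have h1 := Subgroup.index_ker f
    rw [MonoidHom.range_eq_top.mpr hf, Subgroup.card_top] at h1
    have h3 := f.ker.card_mul_index
    have hker : Nat.card f.ker = 2 := by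
      refine (Nat.card_congr ?_).trans (card_center h2)
      refine
        { toFun := fun k => ⟨(k : ↥(Subgroup.centralizer ({g} : Set SL2))), ?_⟩
          invFun := fun z => ⟨⟨z.1, ?_⟩, ?_⟩
          left_inv := fun k => rfl
          right_inv := fun z => rfl }
      · have := k.2
        rw [MonoidHom.mem_ker] at this
        have h4 : pr ((k : ↥(Subgroup.centralizer ({g} : Set SL2))) : SL2) = 1 := by
          have := congrArg Subtype.val this
          simpa [f] using this
        exact (pr_eq_one_iff _).mp h4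
      · rw [Subgroup.mem_centralizer_singleton_iff]
        exact (Subgroup.mem_center_iff.mp z.2 g).symm
      · rw [MonoidHom.mem_ker]
        apply Subtype.ext
        simp only [f, MonoidHom.subgroupMap_apply_coe, Subgroup.coe_one]
        exact (pr_eq_one_iff _).mpr z.2
    rw [hker, h1] at h3
    exact h3
  by_cases hs : IsSquare ((g : M2).trace ^ 2 - 4)
  · left; rw [key, hsq hs]
  · right; rw [key, hnsq hs]

theorem card_tb (hodd : Odd (Fintype.card F)) {x : PSL2} (hx : IsRegSS x) :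
    2 * Nat.card (tb x) = Fintype.card F - 1 ∨ 2 * Nat.card (tb x) = Fintype.card F + 1 := by
  obtain ⟨g, rfl⟩ := pr_surjective x
  rw [tb_pr]
  exact card_torus hodd (hx g rfl)

/-- the order of a subgroup of a torus -/
theorem card_dvd_of_le_tb (hodd : Odd (Fintype.card F)) {x : PSL2} (hx : IsRegSS x)
    (K : Subgroup PSL2) (hK : K ≤ tb x) :
    2 * Nat.card K ∣ Fintype.card F - 1 ∨ 2 * Nat.card K ∣ Fintype.card F + 1 := by
  have hd : Nat.card K ∣ Nat.card (tb x) := Subgroup.card_dvd_of_le hK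
  rcases card_tb hodd hx with h | h
  · left; rw [← h]; exact Nat.mul_dvd_mul_left 2 hd
  · right; rw [← h]; exact Nat.mul_dvd_mul_left 2 hd

/-- **Dickson, the `p'`-part.**  A subgroup of `PSL₂(q)`, `q` odd, all of whose non-identity
elements are regular semisimple is cyclic, dihedral, `A₄`, `S₄` or `A₅`. -/
theorem classify (hodd : Odd (Fintype.card F)) (H : Subgroup PSL2)
    (hss : ∀ x ∈ H, x ≠ 1 → IsRegSS x) :
    (IsCyclic H ∧ (2 * Nat.card H ∣ Fintype.card F - 1 ∨ 2 * Nat.card H ∣ Fintype.card F + 1)) ∨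
    (∃ k : ℕ, (2 * k ∣ Fintype.card F - 1 ∨ 2 * k ∣ Fintype.card F + 1) ∧
      Nonempty (H ≃* DihedralGroup k)) ∨
    Nonempty (H ≃* alternatingGroup (Fin 4)) ∨ Nonempty (H ≃* Equiv.Perm (Fin 4)) ∨
    Nonempty (H ≃* alternatingGroup (Fin 5)) := by
  have hcardT : ∀ x : ↥H, x ≠ 1 → (2 * Nat.card ((torusPartition hodd H hss).T x) ∣ Fintype.card F - 1 ∨
      2 * Nat.card ((torusPartition hodd H hss).T x) ∣ Fintype.card F + 1) := by
    intro x hx
    have hx' : (x : PSL2) ≠ 1 := fun h => hx (Subtype.ext h)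
    rw [torusPartition_T]
    have e : Nat.card ((tb (x : PSL2)).subgroupOf H) = Nat.card ((tb (x : PSL2)) ⊓ H : Subgroup PSL2) := by
      rw [← Subgroup.inf_subgroupOf_right]
      exact Nat.card_congr (Subgroup.subgroupOfEquivOfLe inf_le_right).toEquiv
    rw [e]
    exact card_dvd_of_le_tb hodd (hss x x.2 hx') _ inf_le_left
  rcases TP.classify (torusPartition hodd H hss) with ⟨hc, hs | ⟨x, hx, hT⟩⟩ | ⟨x, hx, hD⟩ | h | h | h
  · left
    refine ⟨hc, Or.inl ?_⟩
    have : Nat.card H = 1 := Nat.card_eq_one_iff_unique.mpr ⟨hs, ⟨1⟩⟩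
    rw [this]
    obtain ⟨k, hk⟩ := hodd
    exact ⟨k, by omega⟩
  · left
    refine ⟨hc, ?_⟩
    have := hcardT x hx
    rw [hT, Subgroup.card_top] at this
    exact this
  · right; left
    exact ⟨_, hcardT x hx, hD⟩
  · exact Or.inr (Or.inr (Or.inl h))
  · exact Or.inr (Or.inr (Or.inr (Or.inl h)))
  · exact Or.inr (Or.inr (Or.inr (Or.inr h)))

/-- elements of order prime to the characteristic are regular semisimple -/
theorem isRegSS_of_not_dvd (p : ℕ) [Fact p.Prime] [CharP F p] {x : PSL2} (hx : x ≠ 1)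
    (hp : ¬ p ∣ orderOf x) : IsRegSS x := by
  intro g hg ht
  have key : ∀ k : SL2, pr k = x → (k : M2).trace = 2 → False := by
    intro k hk htr
    have hns : NonScalar (k : M2) := nonScalar_of_pr_ne_one (hk ▸ hx)
    have ho := (sl2_orderOf_eq_char_iff p k).mpr ⟨hns, htr⟩
    have hxp : x ^ p = 1 := by
      rw [← hk, ← map_pow, ← ho, pow_orderOf_eq_one, map_one]
    have hd := orderOf_dvd_of_pow_eq_one hxp
    rcases (Nat.dvd_prime (Fact.out : p.Prime)).mp hd with h | h
    · exact hx (orderOf_eq_one_iff.mp h)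
    · exact hp (h ▸ dvd_rfl)
  have h4 : ((g : M2).trace - 2) * ((g : M2).trace + 2) = 0 := by linear_combination ht
  rcases mul_eq_zero.mp h4 with h | h
  · exact key g hg (by linear_combination h)
  · refine key (-g) ?_ ?_
    · rw [← hg]
      exact ((pr_eq_pr_iff g (-g)).mpr (Or.inr rfl)).symm
    · rw [Matrix.SpecialLinearGroup.coe_neg, Matrix.trace_neg]
      linear_combination -h

/-- **Dickson, the `p'`-part**, stated with the order. -/
theorem classify_of_coprime (p : ℕ) [Fact p.Prime] [CharP F p] (hodd : Odd (Fintype.card F))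
    (H : Subgroup PSL2) (hH : ¬ p ∣ Nat.card H) :
    (IsCyclic H ∧ (2 * Nat.card H ∣ Fintype.card F - 1 ∨ 2 * Nat.card H ∣ Fintype.card F + 1)) ∨
    (∃ k : ℕ, (2 * k ∣ Fintype.card F - 1 ∨ 2 * k ∣ Fintype.card F + 1) ∧
      Nonempty (H ≃* DihedralGroup k)) ∨
    Nonempty (H ≃* alternatingGroup (Fin 4)) ∨ Nonempty (H ≃* Equiv.Perm (Fin 4)) ∨
    Nonempty (H ≃* alternatingGroup (Fin 5)) := by
  apply classify hodd H
  intro x hx hx1
  apply isRegSS_of_not_dvd p hx1
  intro hd
  apply hH
  have : orderOf (⟨x, hx⟩ : ↥H) = orderOf x := Subgroup.orderOf_mk x hx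
  exact hd.trans (this ▸ orderOf_dvd_natCard _)

end Cfsg.Agent.Lib.H5.PSL2PPrime
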