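import Mathlib

/-!
# `A₄`, `S₄`, `A₅` do not embed in cyclic or dihedral groups
-/

set_option autoImplicit false

namespace Cfsg.Agent.Lib.H5.SmallNonEmbed

open Equiv Equiv.Perm

/-- two non-commuting elements of order dividing three -/
def HasNC3 (G : Type*) [Group G] : Prop := ∃ a b : G, a ^ 3 = 1 ∧ b ^ 3 = 1 ∧ a * b ≠ b * a

theorem HasNC3.of_injective {G H : Type*} [Group G] [Group H] (h : HasNC3 G) (f : G →* H)
    (hf : Function.Injective f) : HasNC3 H := by
  obtain ⟨a, b, ha, hb, hab⟩ := h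
  refine ⟨f a, f b, by rw [← map_pow, ha, map_one], by rw [← map_pow, hb, map_one], ?_⟩
  intro h
  apply hab
  apply hf
  rw [map_mul, map_mul, h]

theorem HasNC3.of_equiv {G H : Type*} [Group G] [Group H] (h : HasNC3 G) (e : G ≃* H) : HasNC3 H :=
  h.of_injective e.toMonoidHom e.injective

theorem HasNC3.of_le {G : Type*} [Group G] {H M : Subgroup G} (h : HasNC3 H) (hle : H ≤ M) :
    HasNC3 M :=
  h.of_injective (Subgroup.inclusion hle) (Subgroup.inclusion_injective hle)

theorem hasNC3_perm_four : HasNC3 (Equiv.Perm (Fin 4)) :=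
  ⟨c[0, 1, 2], c[0, 1, 3], by decide, by decide, by decide⟩

theorem hasNC3_alt (n : ℕ) (σ τ : Equiv.Perm (Fin n)) (hσ : σ ∈ alternatingGroup (Fin n))
    (hτ : τ ∈ alternatingGroup (Fin n)) (h1 : σ ^ 3 = 1) (h2 : τ ^ 3 = 1) (h3 : σ * τ ≠ τ * σ) :
    HasNC3 (alternatingGroup (Fin n)) :=
  ⟨⟨σ, hσ⟩, ⟨τ, hτ⟩, Subtype.ext h1, Subtype.ext h2, fun h => h3 (congrArg Subtype.val h)⟩

theorem hasNC3_alt_four : HasNC3 (alternatingGroup (Fin 4)) :=
  hasNC3_alt 4 c[0, 1, 2] c[0, 1, 3] (Equiv.Perm.mem_alternatingGroup.mpr (by decide))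
    (Equiv.Perm.mem_alternatingGroup.mpr (by decide)) (by decide) (by decide) (by decide)

theorem hasNC3_alt_five : HasNC3 (alternatingGroup (Fin 5)) :=
  hasNC3_alt 5 c[0, 1, 2] c[0, 1, 3] (Equiv.Perm.mem_alternatingGroup.mpr (by decide))
    (Equiv.Perm.mem_alternatingGroup.mpr (by decide)) (by decide) (by decide) (by decide)

theorem HasNC3.not_isCyclic {G : Type*} [Group G] (h : HasNC3 G) : ¬ IsCyclic G := by
  intro hc
  obtain ⟨a, b, -, -, hab⟩ := h
  exact hab (hc.commutative.is_comm.comm a b)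

/-- elements of order dividing three in a dihedral group are rotations -/
theorem dihedral_eq_r_of_pow_three {k : ℕ} (x : DihedralGroup k) (hx : x ^ 3 = 1) :
    ∃ i, x = DihedralGroup.r i := by
  rcases x with i | i
  · exact ⟨i, rfl⟩
  · exfalso
    have h2 : (DihedralGroup.sr i : DihedralGroup k) * DihedralGroup.sr i = 1 :=
      DihedralGroup.sr_mul_self i
    have h3 : (DihedralGroup.sr i : DihedralGroup k) = 1 := by
      calc (DihedralGroup.sr i : DihedralGroup k)
          = (DihedralGroup.sr i) ^ 3 * ((DihedralGroup.sr i) * (DihedralGroup.sr i))⁻¹ := by group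
        _ = 1 := by rw [hx, h2]; group
    rw [DihedralGroup.one_def] at h3
    cases h3

theorem not_hasNC3_dihedral (k : ℕ) : ¬ HasNC3 (DihedralGroup k) := by
  rintro ⟨a, b, ha, hb, hab⟩
  obtain ⟨i, rfl⟩ := dihedral_eq_r_of_pow_three a ha
  obtain ⟨j, rfl⟩ := dihedral_eq_r_of_pow_three b hb
  apply hab
  rw [DihedralGroup.r_mul_r, DihedralGroup.r_mul_r, add_comm]

end Cfsg.Agent.Lib.H5.SmallNonEmbed
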