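import Mathlib
import Cfsg.Agent.Lib.H5.PSL2Borel
import Cfsg.Agent.Lib.H5.PSL2PPrime
import Cfsg.Agent.Lib.H5.SmallNonEmbed
import Cfsg.Agent.Lib.H2.PSLCard

/-!
# Maximal subgroups `A₄`, `S₄`, `A₅` of `PSL₂(p)`, `p` prime
-/

set_option autoImplicit false

namespace Cfsg.Agent.Lib.H5.PSL2PrimeMax

open Matrix Cfsg.Agent.Lib.H5.PSL2Torus Cfsg.Agent.Lib.H5.SmallNonEmbed

variable {F : Type*} [Field F] [Fintype F]

local notation "SL2" => Matrix.SpecialLinearGroup (Fin 2) F
local notation "PSL2" => Matrix.ProjectiveSpecialLinearGroup (Fin 2) F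

theorem card_perm_four : Nat.card (Equiv.Perm (Fin 4)) = 24 := by
  rw [Nat.card_eq_fintype_card, Fintype.card_perm, Fintype.card_fin]; rfl

theorem card_alt_four : Nat.card (alternatingGroup (Fin 4)) = 12 := by
  have := (alternatingGroup (Fin 4)).card_mul_index
  rw [alternatingGroup.index_eq_two, card_perm_four] at this
  omega

theorem card_alt_five : Nat.card (alternatingGroup (Fin 5)) = 60 := by
  have h5 : Nat.card (Equiv.Perm (Fin 5)) = 120 := by
    rw [Nat.card_eq_fintype_card, Fintype.card_perm, Fintype.card_fin]; rfl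
  have := (alternatingGroup (Fin 5)).card_mul_index
  rw [alternatingGroup.index_eq_two, h5] at this
  omega

/-- `2 |PSL₂(p)| = p (p² - 1)` for odd `p` -/
theorem two_mul_card (hodd : Odd (Fintype.card F)) :
    2 * Nat.card PSL2 = Fintype.card F * (Fintype.card F ^ 2 - 1) := by
  have h := Cfsg.Agent.Lib.H2.card_PSL2_mul (F := F)
  have hg : Nat.gcd 2 (Fintype.card F - 1) = 2 := by
    obtain ⟨k, hk⟩ := hodd
    rw [hk]
    have : 2 * k + 1 - 1 = 2 * k := by omega
    rw [this]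
    exact Nat.gcd_eq_left ⟨k, rfl⟩
  rw [hg] at h
  exact h

variable (p : ℕ) [Fact p.Prime]

/-- proper overgroups of a non-cyclic, non-dihedral `p'`-subgroup of `PSL₂(p)` -/
theorem overgroup_cases (hF : Fintype.card F = p) (hp2 : p ≠ 2) (H M : Subgroup PSL2)
    (hHM : H ≤ M) (hM : M ≠ ⊤) (hH : ¬ p ∣ Nat.card H) (hnc : HasNC3 H) :
    Nonempty (M ≃* alternatingGroup (Fin 4)) ∨ Nonempty (M ≃* Equiv.Perm (Fin 4)) ∨
      Nonempty (M ≃* alternatingGroup (Fin 5)) := by
  haveI : CharP F p := charP_of_card_eq_prime hF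
  have hodd : Odd (Fintype.card F) := by
    rw [hF]; exact (Fact.out : p.Prime).odd_of_ne_two hp2
  have hpM : ¬ p ∣ Nat.card M :=
    PSL2Borel.not_dvd_of_le p hF H M hHM hH hnc.not_isCyclic hM
  have hncM : HasNC3 M := hnc.of_le hHM
  rcases PSL2PPrime.classify_of_coprime p hodd M hpM with ⟨hc, -⟩ | ⟨k, -, ⟨e⟩⟩ | h
  · exact absurd hc hncM.not_isCyclic
  · exact absurd (hncM.of_equiv e) (not_hasNC3_dihedral k)
  · exact h

theorem ne_top_of_card_lt (H : Subgroup PSL2) (h : Nat.card H < Nat.card PSL2) : H ≠ ⊤ := by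
  rintro rfl
  rw [Subgroup.card_top] at h
  exact lt_irrefl _ h

theorem eq_of_le_of_card_eq {H M : Subgroup PSL2} (hHM : H ≤ M) (h : Nat.card M = Nat.card H) :
    H = M :=
  Subgroup.eq_of_le_of_card_ge hHM h.le

/-- `S₄` is maximal in `PSL₂(p)` for `p ≡ ±1 (mod 8)` -/
theorem isCoatom_S4 (hF : Fintype.card F = p) (hp : p % 8 = 1 ∨ p % 8 = 7) (H : Subgroup PSL2)
    (e : H ≃* Equiv.Perm (Fin 4)) : IsCoatom H := by
  have hpp : p.Prime := Fact.out
  have hp2 : p ≠ 2 := by rintro rfl; omega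
  have hodd : Odd (Fintype.card F) := by
    rw [hF]; exact hpp.odd_of_ne_two hp2
  have hp7 : 7 ≤ p := by
    by_contra hlt
    push Not at hlt
    interval_cases p <;> first | omega | (exfalso; revert hpp; decide)
  have hcH : Nat.card H = 24 := by rw [Nat.card_congr e.toEquiv, card_perm_four]
  have hcG := two_mul_card hodd
  rw [hF] at hcG
  have hG : 168 ≤ Nat.card PSL2 := by
    have h1 : 7 * (7 ^ 2 - 1) ≤ p * (p ^ 2 - 1) := by
      apply Nat.mul_le_mul hp7
      apply Nat.sub_le_sub_right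
      exact Nat.pow_le_pow_left hp7 2
    omega
  have hpH : ¬ p ∣ Nat.card H := by
    rw [hcH]
    intro hd
    have h24 : p ∣ 2 ^ 3 * 3 := by norm_num; exact hd
    rcases (Nat.Prime.dvd_mul hpp).mp h24 with h | h
    · have := (Nat.prime_dvd_prime_iff_eq hpp Nat.prime_two).mp (hpp.dvd_of_dvd_pow h)
      omega
    · have := (Nat.prime_dvd_prime_iff_eq hpp Nat.prime_three).mp h
      omega
  have hnc : HasNC3 H := hasNC3_perm_four.of_equiv e.symm
  refine ⟨ne_top_of_card_lt H (by omega), ?_⟩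
  intro M hHM
  by_contra hM
  rcases overgroup_cases p hF hp2 H M hHM.le hM hpH hnc with h' | h' | h'
  · obtain ⟨e'⟩ := h'
    have h1 : Nat.card M = 12 := by rw [Nat.card_congr e'.toEquiv, card_alt_four]
    have := Subgroup.card_le_of_le hHM.le
    omega
  · obtain ⟨e'⟩ := h'
    have h1 : Nat.card M = 24 := by rw [Nat.card_congr e'.toEquiv, card_perm_four]
    exact hHM.ne (eq_of_le_of_card_eq hHM.le (by rw [h1, hcH]))
  · obtain ⟨e'⟩ := h'
    have h1 : Nat.card M = 60 := by rw [Nat.card_congr e'.toEquiv, card_alt_five]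
    have := Subgroup.card_dvd_of_le hHM.le
    rw [hcH, h1] at this
    norm_num at this

theorem sq_sub_one_mod_five (p : ℕ) (h : 5 ∣ p ^ 2 - 1) (hp : 1 ≤ p) : p % 5 = 1 ∨ p % 5 = 4 := by
  have h1 : 1 ≤ p ^ 2 := Nat.one_le_pow _ _ hp
  have h2 : p ^ 2 % 5 = 1 := by omega
  rw [Nat.pow_mod] at h2
  have h3 : p % 5 < 5 := Nat.mod_lt _ (by norm_num)
  generalize p % 5 = r at h2 h3 ⊢
  interval_cases r <;> simp_all

/-- `A₄` is maximal in `PSL₂(p)` for `p ≡ ±3 (mod 8)`, `p ≢ ±1 (mod 10)` -/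
theorem isCoatom_A4 (hF : Fintype.card F = p) (h5 : 5 ≤ p) (h8 : p % 8 = 3 ∨ p % 8 = 5)
    (h10 : p % 10 ≠ 1 ∧ p % 10 ≠ 9) (H : Subgroup PSL2)
    (e : H ≃* alternatingGroup (Fin 4)) : IsCoatom H := by
  have hpp : p.Prime := Fact.out
  have hp2 : p ≠ 2 := by rintro rfl; omega
  have hodd : Odd (Fintype.card F) := by
    rw [hF]; exact hpp.odd_of_ne_two hp2
  have hcH : Nat.card H = 12 := by rw [Nat.card_congr e.toEquiv, card_alt_four]
  have hcG := two_mul_card hodd
  rw [hF] at hcG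
  have hG : 60 ≤ Nat.card PSL2 := by
    have h1 : 5 * (5 ^ 2 - 1) ≤ p * (p ^ 2 - 1) := by
      apply Nat.mul_le_mul h5
      apply Nat.sub_le_sub_right
      exact Nat.pow_le_pow_left h5 2
    omega
  have hpH : ¬ p ∣ Nat.card H := by
    rw [hcH]
    intro hd
    have h12 : p ∣ 2 ^ 2 * 3 := by norm_num; exact hd
    rcases (Nat.Prime.dvd_mul hpp).mp h12 with h | h
    · have := (Nat.prime_dvd_prime_iff_eq hpp Nat.prime_two).mp (hpp.dvd_of_dvd_pow h)
      omega
    · have := (Nat.prime_dvd_prime_iff_eq hpp Nat.prime_three).mp h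
      omega
  have hnc : HasNC3 H := hasNC3_alt_four.of_equiv e.symm
  refine ⟨ne_top_of_card_lt H (by omega), ?_⟩
  intro M hHM
  by_contra hM
  rcases overgroup_cases p hF hp2 H M hHM.le hM hpH hnc with h' | h' | h'
  · obtain ⟨e'⟩ := h'
    have h1 : Nat.card M = 12 := by rw [Nat.card_congr e'.toEquiv, card_alt_four]
    exact hHM.ne (eq_of_le_of_card_eq hHM.le (by rw [h1, hcH]))
  · obtain ⟨e'⟩ := h'
    have h1 : Nat.card M = 24 := by rw [Nat.card_congr e'.toEquiv, card_perm_four]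
    have hd : 24 ∣ Nat.card PSL2 := h1 ▸ Subgroup.card_subgroup_dvd_card M
    obtain ⟨t, ht⟩ := hd
    rw [ht] at hcG
    -- `p (p² - 1) = 48 t` contradicts `p ≡ ±3 (mod 8)`
    obtain ⟨j, hj⟩ : ∃ j, p = 8 * j + 3 ∨ p = 8 * j + 5 := ⟨p / 8, by omega⟩
    rcases hj with rfl | rfl
    · have e1 : (8 * j + 3) ^ 2 = 64 * j ^ 2 + 48 * j + 9 := by ring
      have e2 : (8 * j + 3) ^ 2 - 1 = 64 * j ^ 2 + 48 * j + 8 := by rw [e1]; omega
      rw [e2] at hcG
      have e3 : (8 * j + 3) * (64 * j ^ 2 + 48 * j + 8) =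
          8 * (64 * j ^ 3 + 72 * j ^ 2 + 26 * j + 3) := by ring
      rw [e3] at hcG
      omega
    · have e1 : (8 * j + 5) ^ 2 = 64 * j ^ 2 + 80 * j + 25 := by ring
      have e2 : (8 * j + 5) ^ 2 - 1 = 64 * j ^ 2 + 80 * j + 24 := by rw [e1]; omega
      rw [e2] at hcG
      have e3 : (8 * j + 5) * (64 * j ^ 2 + 80 * j + 24) =
          8 * (64 * j ^ 3 + 120 * j ^ 2 + 74 * j + 15) := by ring
      rw [e3] at hcG
      omega
  · obtain ⟨e'⟩ := h'
    have h1 : Nat.card M = 60 := by rw [Nat.card_congr e'.toEquiv, card_alt_five]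
    have hd : 60 ∣ Nat.card PSL2 := h1 ▸ Subgroup.card_subgroup_dvd_card M
    by_cases hp5 : p = 5
    · subst hp5
      have : Nat.card PSL2 = 60 := by norm_num at hcG; omega
      apply hM
      apply Subgroup.eq_top_of_card_eq
      rw [h1, this]
    · obtain ⟨t, ht⟩ := hd
      rw [ht] at hcG
      have h5d : 5 ∣ p * (p ^ 2 - 1) := ⟨24 * t, by rw [← hcG]; ring⟩
      rcases (Nat.Prime.dvd_mul Nat.prime_five).mp h5d with h | h
      · exact hp5 ((Nat.prime_dvd_prime_iff_eq Nat.prime_five hpp).mp h).symm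
      · have := sq_sub_one_mod_five p h (by omega)
        have hodd' : p % 2 = 1 := by
          rcases hpp.eq_two_or_odd with h | h
          · omega
          · exact h
        omega

/-- `A₅` is maximal in `PSL₂(p)` for `p ≡ ±1 (mod 10)` -/
theorem isCoatom_A5 (hF : Fintype.card F = p) (hp : p % 10 = 1 ∨ p % 10 = 9) (H : Subgroup PSL2)
    (e : H ≃* alternatingGroup (Fin 5)) : IsCoatom H := by
  have hpp : p.Prime := Fact.out
  have hp2 : p ≠ 2 := by rintro rfl; omega
  have hodd : Odd (Fintype.card F) := by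
    rw [hF]; exact hpp.odd_of_ne_two hp2
  have hp11 : 11 ≤ p := by
    by_contra hlt
    push Not at hlt
    interval_cases p <;> first | omega | (exfalso; revert hpp; decide)
  have hcH : Nat.card H = 60 := by rw [Nat.card_congr e.toEquiv, card_alt_five]
  have hcG := two_mul_card hodd
  rw [hF] at hcG
  have hG : 660 ≤ Nat.card PSL2 := by
    have h1 : 11 * (11 ^ 2 - 1) ≤ p * (p ^ 2 - 1) := by
      apply Nat.mul_le_mul hp11
      apply Nat.sub_le_sub_right
      exact Nat.pow_le_pow_left hp11 2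
    omega
  have hpH : ¬ p ∣ Nat.card H := by
    rw [hcH]
    intro hd
    have h60 : p ∣ 2 ^ 2 * (3 * 5) := by norm_num; exact hd
    rcases (Nat.Prime.dvd_mul hpp).mp h60 with h | h
    · have := (Nat.prime_dvd_prime_iff_eq hpp Nat.prime_two).mp (hpp.dvd_of_dvd_pow h)
      omega
    · rcases (Nat.Prime.dvd_mul hpp).mp h with h | h
      · have := (Nat.prime_dvd_prime_iff_eq hpp Nat.prime_three).mp h
        omega
      · have := (Nat.prime_dvd_prime_iff_eq hpp Nat.prime_five).mp h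
        omega
  have hnc : HasNC3 H := hasNC3_alt_five.of_equiv e.symm
  refine ⟨ne_top_of_card_lt H (by omega), ?_⟩
  intro M hHM
  by_contra hM
  rcases overgroup_cases p hF hp2 H M hHM.le hM hpH hnc with h' | h' | h'
  · obtain ⟨e'⟩ := h'
    have h1 : Nat.card M = 12 := by rw [Nat.card_congr e'.toEquiv, card_alt_four]
    have := Subgroup.card_le_of_le hHM.le
    omega
  · obtain ⟨e'⟩ := h'
    have h1 : Nat.card M = 24 := by rw [Nat.card_congr e'.toEquiv, card_perm_four]
    have := Subgroup.card_le_of_le hHM.le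
    omega
  · obtain ⟨e'⟩ := h'
    have h1 : Nat.card M = 60 := by rw [Nat.card_congr e'.toEquiv, card_alt_five]
    exact hHM.ne (eq_of_le_of_card_eq hHM.le (by rw [h1, hcH]))

end Cfsg.Agent.Lib.H5.PSL2PrimeMax
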