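import Mathlib
import Cfsg.Agent.Lib.H12.SL2Syl2
import Cfsg.Agent.Lib.H12.CardSL

set_option autoImplicit false

/-!
# Subfield subgroups of `PSL₂(q)`
-/

namespace Cfsg.Agent.Lib.H5.PSL2Subfield

open Matrix Cfsg.Agent.Lib.H12

/-- a finite field of order `k` embeds in a finite field of order `k ^ m` -/
theorem exists_ringHom {F K : Type*} [Field F] [Fintype F] [Field K] [Fintype K] (m : ℕ)
    (hK : Fintype.card K ^ m = Fintype.card F) : Nonempty (K →+* F) := by
  obtain ⟨n, hp, hk⟩ := FiniteField.card K (ringChar K)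
  obtain ⟨n', hp', hq⟩ := FiniteField.card F (ringChar F)
  obtain ⟨p, hpdef⟩ : ∃ p, p = ringChar K := ⟨_, rfl⟩
  rw [← hpdef] at hp hk
  have hm0 : m ≠ 0 := by
    rintro rfl
    rw [pow_zero] at hK
    have := Fintype.one_lt_card (α := F)
    omega
  have hpp : ringChar F = p := by
    have h1 : ringChar F ∣ p ^ ((n : ℕ) * m) := by
      rw [pow_mul, ← hk, hK, hq]
      exact dvd_pow_self _ n'.ne_zero
    exact (Nat.prime_dvd_prime_iff_eq hp' hp).mp (hp'.dvd_of_dvd_pow h1)
  haveI : Fact p.Prime := ⟨hp⟩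
  haveI : CharP K p := by rw [hpdef]; exact ringChar.charP K
  haveI : CharP F p := by rw [← hpp]; exact ringChar.charP F
  letI := ZMod.algebra K p
  letI := ZMod.algebra F p
  have h1 : Fintype.card K = p ^ Module.finrank (ZMod p) K := by
    rw [Module.card_eq_pow_finrank (K := ZMod p) (V := K), ZMod.card]
  have h3 : Fintype.card F = p ^ Module.finrank (ZMod p) F := by
    rw [Module.card_eq_pow_finrank (K := ZMod p) (V := F), ZMod.card]
  have h4 : Module.finrank (ZMod p) F = Module.finrank (ZMod p) K * m := by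
    apply Nat.pow_right_injective hp.two_le
    show p ^ Module.finrank (ZMod p) F = p ^ (Module.finrank (ZMod p) K * m)
    rw [← h3, ← hK, h1, pow_mul]
  obtain ⟨f⟩ := FiniteField.nonempty_algHom_of_finrank_dvd (F := ZMod p) (K := K) (L := F)
    (h4 ▸ dvd_mul_right _ _)
  exact ⟨f.toRingHom⟩

section

variable {F K : Type*} [Field F] [Field K] (ι : K →+* F)

/-- the map `SL₂(K) → PSL₂(F)` -/
noncomputable def slToPSL : Matrix.SpecialLinearGroup (Fin 2) K →* Matrix.ProjectiveSpecialLinearGroup (Fin 2) F :=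
  (QuotientGroup.mk' (Subgroup.center (Matrix.SpecialLinearGroup (Fin 2) F))).comp
    (Matrix.SpecialLinearGroup.map ι)

theorem map_eq_one_iff (g : Matrix.SpecialLinearGroup (Fin 2) K) :
    Matrix.SpecialLinearGroup.map ι g = 1 ↔ g = 1 := by
  constructor
  · intro h
    apply Subtype.ext
    ext i j
    have := congrArg (fun x : Matrix.SpecialLinearGroup (Fin 2) F => (x : Matrix (Fin 2) (Fin 2) F) i j) h
    simp only [Matrix.SpecialLinearGroup.map_apply_coe, RingHom.mapMatrix_apply, Matrix.map_apply,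
      Matrix.SpecialLinearGroup.coe_one] at this
    apply ι.injective
    rw [this, Matrix.SpecialLinearGroup.coe_one]
    by_cases hij : i = j
    · rw [hij, Matrix.one_apply_eq, Matrix.one_apply_eq, map_one]
    · rw [Matrix.one_apply_ne hij, Matrix.one_apply_ne hij, map_zero]
  · rintro rfl
    exact map_one _

theorem map_neg_one :
    Matrix.SpecialLinearGroup.map ι (-1 : Matrix.SpecialLinearGroup (Fin 2) K) = -1 := by
  apply Subtype.ext
  ext i j
  simp only [Matrix.SpecialLinearGroup.map_apply_coe, RingHom.mapMatrix_apply, Matrix.map_apply,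
    Matrix.SpecialLinearGroup.coe_neg, Matrix.SpecialLinearGroup.coe_one, Matrix.neg_apply]
  by_cases hij : i = j
  · rw [hij, Matrix.one_apply_eq, Matrix.one_apply_eq, map_neg, map_one]
  · rw [Matrix.one_apply_ne hij, Matrix.one_apply_ne hij, neg_zero, map_zero, neg_zero]

theorem ker_slToPSL : (slToPSL ι).ker = Subgroup.center (Matrix.SpecialLinearGroup (Fin 2) K) := by
  ext g
  rw [MonoidHom.mem_ker]
  unfold slToPSL
  rw [MonoidHom.comp_apply, QuotientGroup.mk'_apply, QuotientGroup.eq_one_iff]
  constructor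
  · intro h
    rcases sl2_center_cases _ h with h1 | h1
    · rw [(map_eq_one_iff ι g).mp h1]; exact Subgroup.one_mem _
    · have : Matrix.SpecialLinearGroup.map ι (g * (-1)) = 1 := by
        rw [map_mul, h1, map_neg_one, neg_mul_neg, mul_one]
      have h3 := (map_eq_one_iff ι _).mp this
      have : g = -1 := by
        have h4 : g * (-1) * (-1) = 1 * (-1) := by rw [h3]
        rw [mul_assoc, neg_mul_neg, mul_one, mul_one, one_mul] at h4
        exact h4
      rw [this]; exact sl2_neg_one_mem_center
  · intro h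
    rcases sl2_center_cases _ h with h1 | h1
    · rw [h1, map_one]; exact Subgroup.one_mem _
    · rw [h1, map_neg_one]; exact sl2_neg_one_mem_center

/-- `PSL₂(K)` embeds in `PSL₂(F)` -/
theorem exists_PSL (ι : K →+* F) :
    ∃ H : Subgroup (Matrix.ProjectiveSpecialLinearGroup (Fin 2) F),
      Nonempty (H ≃* Matrix.ProjectiveSpecialLinearGroup (Fin 2) K) := by
  refine ⟨(slToPSL ι).range, ⟨?_⟩⟩
  exact ((QuotientGroup.quotientMulEquivOfEq (ker_slToPSL ι).symm).trans
    (QuotientGroup.quotientKerEquivRange (slToPSL ι))).symm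

end

end Cfsg.Agent.Lib.H5.PSL2Subfield
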