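import Mathlib
import Cfsg.Agent.Lib.H5.DicksonOdd
import Cfsg.Agent.Lib.H5.PSL2Subfield
import Cfsg.Agent.Lib.H5.PSL2Torus
import Cfsg.Agent.Lib.H5.PSL2Klein
import Cfsg.Agent.Lib.H2.PSLCard

/-!
# Subfield subgroups `PSL₂(q)` of `PSL₂(q^r)`, `r` an odd prime, `q` odd, are maximal
-/

set_option autoImplicit false

namespace Cfsg.Agent.Lib.H5.PSL2SubfieldMax

open Matrix Cfsg.Agent.Lib.H12 Cfsg.Agent.Lib.H4.Dickson Cfsg.Agent.Lib.H5.PSL2Torus
  Cfsg.Agent.Lib.H5.PSL2Subfield Cfsg.Agent.Lib.H5.DicksonOdd Cfsg.Agent.Lib.H5.PSL2Klein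

section maps

variable {F K : Type*} [Field F] [Field K] (ι : K →+* F)

theorem map_entry (g : Matrix.SpecialLinearGroup (Fin 2) K) (i j : Fin 2) :
    ((Matrix.SpecialLinearGroup.map ι g : Matrix.SpecialLinearGroup (Fin 2) F) :
      Matrix (Fin 2) (Fin 2) F) i j = ι ((g : Matrix (Fin 2) (Fin 2) K) i j) := by
  simp [Matrix.SpecialLinearGroup.map_apply_coe]

theorem map_uu (a : K) : Matrix.SpecialLinearGroup.map ι (uu a) = uu (ι a) := by
  apply sl2_ext <;> rw [map_entry] <;> simp

theorem map_ll (a : K) : Matrix.SpecialLinearGroup.map ι (ll a) = ll (ι a) := by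
  apply sl2_ext <;> rw [map_entry] <;> simp

theorem slToPSL_eq (g : Matrix.SpecialLinearGroup (Fin 2) K) :
    slToPSL ι g = pr (Matrix.SpecialLinearGroup.map ι g) := rfl

/-- a matrix with entries in the range of `ι` is in the range of `map ι` -/
theorem exists_map_eq (g : Matrix.SpecialLinearGroup (Fin 2) F)
    (hg : ∀ i j, ∃ k : K, ι k = (g : Matrix (Fin 2) (Fin 2) F) i j) :
    ∃ g₀ : Matrix.SpecialLinearGroup (Fin 2) K, Matrix.SpecialLinearGroup.map ι g₀ = g := by
  choose k hk using hg
  have hdet : (!![k 0 0, k 0 1; k 1 0, k 1 1] : Matrix (Fin 2) (Fin 2) K).det = 1 := by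
    apply ι.injective
    rw [Matrix.det_fin_two_of, map_sub, map_mul, map_mul, hk, hk, hk, hk, map_one]
    exact det_eq g
  obtain ⟨g₀, hg₀⟩ : ∃ g₀ : Matrix.SpecialLinearGroup (Fin 2) K,
      (g₀ : Matrix (Fin 2) (Fin 2) K) = !![k 0 0, k 0 1; k 1 0, k 1 1] := ⟨⟨_, hdet⟩, rfl⟩
  refine ⟨g₀, ?_⟩
  apply sl2_ext <;> rw [map_entry, hg₀] <;> simp [hk]

end maps

section finite

variable {F K : Type*} [Field F] [Field K] [Fintype F] [Fintype K] (ι : K →+* F)

/-- square roots of elements of the subfield in an extension of odd degree lie in the subfield -/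
theorem frob_sqrt_mem (q r : ℕ) (hK : Fintype.card K = q) (hF : Fintype.card F = q ^ r)
    (hr : Odd r) (hq : Odd q) (d : F) (hd : ∃ k : K, ι k = d ^ 2) : ∃ k : K, ι k = d := by
  letI := ι.toAlgebra
  have halg : ∀ k : K, algebraMap K F k = ι k := fun _ => rfl
  have hq2 : 2 ≤ q := by rw [← hK]; exact Fintype.one_lt_card
  have hfr : Module.finrank K F = r := by
    have h1 := Module.card_eq_pow_finrank (K := K) (V := F)
    rw [hF, hK] at h1
    exact (Nat.pow_right_injective hq2 h1).symm
  have h2 : (2 : F) ≠ 0 := by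
    have hodd : Odd (Fintype.card F) := by rw [hF]; exact hq.pow
    exact two_ne_zero_of_odd hodd
  obtain ⟨σ, hσ⟩ : ∃ σ : Gal(F/K), σ = FiniteField.frobeniusAlgEquivOfAlgebraic K F := ⟨_, rfl⟩
  have hgen : ∀ f : Gal(F/K), ∃ n : ℕ, σ ^ n = f := by
    intro f
    obtain ⟨n, hn⟩ := (FiniteField.bijective_frobeniusAlgEquivOfAlgebraic_pow K F).2 f
    exact ⟨n.1, by rw [hσ]; exact hn⟩
  have hord : σ ^ r = 1 := by
    rw [← hfr, hσ, ← FiniteField.orderOf_frobeniusAlgEquivOfAlgebraic K F]
    exact pow_orderOf_eq_one _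
  obtain ⟨k, hk⟩ := hd
  have hsq : σ d ^ 2 = d ^ 2 := by
    rw [← map_pow, ← hk, ← halg, σ.commutes]
  have hcases : (σ d - d) * (σ d + d) = 0 := by linear_combination hsq
  rcases mul_eq_zero.mp hcases with h | h
  · have hfix : σ d = d := sub_eq_zero.mp h
    have hpow : ∀ n : ℕ, (σ ^ n) d = d := by
      intro n
      induction n with
      | zero => simp
      | succ n ih => rw [pow_succ, AlgEquiv.mul_apply, hfix, ih]
    have hall : ∀ f : Gal(F/K), f d = d := by
      intro f
      obtain ⟨n, rfl⟩ := hgen f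
      exact hpow n
    obtain ⟨k', hk'⟩ := (IsGalois.mem_range_algebraMap_iff_fixed (F := K) (E := F) d).mpr hall
    exact ⟨k', hk'⟩
  · have hneg : σ d = -d := by linear_combination h
    have hpow : ∀ n : ℕ, (σ ^ n) d = (-1) ^ n * d := by
      intro n
      induction n with
      | zero => simp
      | succ n ih =>
        rw [pow_succ, AlgEquiv.mul_apply, hneg, map_neg, ih]
        ring
    have h3 := hpow r
    rw [hord, hr.neg_one_pow] at h3
    have h4 : 2 * d = 0 := by
      have : d = -1 * d := h3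
      linear_combination this
    have hd0 : d = 0 := (mul_eq_zero.mp h4).resolve_left h2
    exact ⟨0, by rw [hd0, map_zero]⟩

theorem not_five_dvd (r : ℕ) (hr : Odd r) : ¬ 5 ∣ 3 ^ r * ((3 ^ r) ^ 2 - 1) := by
  obtain ⟨j, rfl⟩ := hr
  intro h
  have hA2 : ((3 : ℕ) ^ (2 * j + 1)) ^ 2 % 5 = 4 := by
    have : ((3 : ℕ) ^ (2 * j + 1)) ^ 2 = 9 * 81 ^ j := by
      rw [← pow_mul, show (2 * j + 1) * 2 = 2 + 4 * j by ring, pow_add, pow_mul]
      norm_num
    rw [this, Nat.mul_mod, Nat.pow_mod]
    norm_num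
  have hpos : 1 ≤ ((3 : ℕ) ^ (2 * j + 1)) ^ 2 := Nat.one_le_pow _ _ (pow_pos (by norm_num) _)
  rcases (Nat.Prime.dvd_mul Nat.prime_five).mp h with h1 | h1
  · have := Nat.Prime.dvd_of_dvd_pow Nat.prime_five h1
    norm_num at this
  · omega

/-- the lift of a subgroup of `PSL₂` to `SL₂` has twice the order -/
theorem card_comap_pr (hodd : Odd (Fintype.card F))
    (M : Subgroup (Matrix.ProjectiveSpecialLinearGroup (Fin 2) F)) :
    Nat.card (M.comap pr) = 2 * Nat.card M := by
  have h2 : (2 : F) ≠ 0 := two_ne_zero_of_odd hodd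
  have h1 : (M.comap pr).index = M.index := Subgroup.index_comap_of_surjective M pr_surjective
  have h3 := (M.comap (pr (F := F))).card_mul_index
  have h4 := M.card_mul_index
  rw [h1, card_sl2_eq_two_mul h2, ← h4] at h3
  have hpos : 0 < M.index := Nat.pos_of_ne_zero Subgroup.index_ne_zero_of_finite
  apply Nat.eq_of_mul_eq_mul_right hpos
  rw [h3]; ring

theorem pr_neg_one : pr (-1 : Matrix.SpecialLinearGroup (Fin 2) F) = 1 := by
  rw [pr_eq_one_iff]
  exact sl2_neg_one_mem_center

/-- **the subfield subgroup `PSL₂(q)` of `PSL₂(q^r)` is maximal**, `q` odd, `r` an odd prime -/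
theorem isCoatom_range (q r : ℕ) (hK : Fintype.card K = q) (hF : Fintype.card F = q ^ r)
    (hq : Odd q) (hr : r.Prime) (hr2 : r ≠ 2) : IsCoatom (slToPSL ι).range := by
  have hodd : Odd (Fintype.card F) := by rw [hF]; exact hq.pow
  have hrodd : Odd r := hr.odd_of_ne_two hr2
  have hq2 : 2 ≤ q := by rw [← hK]; exact Fintype.one_lt_card
  have hq3 : 3 ≤ q := by
    obtain ⟨j, hj⟩ := hq
    omega
  obtain ⟨p, hpc⟩ : ∃ p : ℕ, CharP F p := ⟨ringChar F, inferInstance⟩
  haveI := hpc
  have hpp : p.Prime := CharP.char_is_prime F p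
  haveI : Fact p.Prime := ⟨hpp⟩
  have h2 : (2 : F) ≠ 0 := two_ne_zero_of_odd hodd
  have hp2 : p ≠ 2 := by
    rintro rfl
    apply h2
    have := CharP.cast_eq_zero F 2
    exact_mod_cast this
  constructor
  · -- the subgroup is proper
    intro htop
    have hsurj : Function.Surjective ι := by
      intro x
      have hx : pr (uu x) ∈ (slToPSL ι).range := by rw [htop]; exact Subgroup.mem_top _
      obtain ⟨g₀, hg₀⟩ := hx
      rw [slToPSL_eq] at hg₀
      rcases (pr_eq_pr_iff _ _).mp hg₀ with h | h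
      · refine ⟨(g₀ : Matrix (Fin 2) (Fin 2) K) 0 1, ?_⟩
        rw [← map_entry, ← h]; simp
      · refine ⟨-(g₀ : Matrix (Fin 2) (Fin 2) K) 0 1, ?_⟩
        rw [map_neg, ← map_entry]
        have := congrArg (fun m : Matrix.SpecialLinearGroup (Fin 2) F =>
          (m : Matrix (Fin 2) (Fin 2) F) 0 1) h
        simp only [uu_01, Matrix.SpecialLinearGroup.coe_neg, Matrix.neg_apply] at this
        exact this.symm
    have hle := Fintype.card_le_of_surjective ι hsurj
    rw [hF, hK] at hle
    have h3 : q ^ 2 ≤ q ^ r := Nat.pow_le_pow_right (by omega) hr.two_le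
    nlinarith
  · intro M hHM
    have hHM' := hHM.le
    have hneg : (-1 : Matrix.SpecialLinearGroup (Fin 2) F) ∈ M.comap pr := by
      rw [Subgroup.mem_comap, pr_neg_one]; exact M.one_mem
    have hmemA : ∀ k : K, uu (ι k) ∈ M.comap pr := by
      intro k
      rw [Subgroup.mem_comap, ← map_uu, ← slToPSL_eq]
      exact hHM' ⟨_, rfl⟩
    have hmemB : ∀ k : K, ll (ι k) ∈ M.comap pr := by
      intro k
      rw [Subgroup.mem_comap, ← map_ll, ← slToPSL_eq]
      exact hHM' ⟨_, rfl⟩
    have hu : uu (1 : F) ∈ M.comap pr := by simpa using hmemA 1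
    have hl : ll (1 : F) ∈ M.comap pr := by simpa using hmemB 1
    rcases structure_of_lift p hp2 hneg hu hl with ⟨S, hSA, hSB, hshape⟩ | ⟨hp3, hA3, hL120⟩
    · letI := ι.toAlgebra
      have halg : ∀ k : K, algebraMap K F k = ι k := fun _ => rfl
      have hmem : ∀ k : K, algebraMap K F k ∈ S := fun k => (hSA _).mpr (hmemA k)
      have hfr : Module.finrank K F = r := by
        have h1 := Module.card_eq_pow_finrank (K := K) (V := F)
        rw [hF, hK] at h1
        exact (Nat.pow_right_injective hq2 h1).symm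
      haveI := IntermediateField.isSimpleOrder_of_finrank_prime K F (hfr ▸ hr)
      rcases eq_bot_or_eq_top (S.toIntermediateField hmem) with hb | ht
      · -- `S` is the image of `K`: `M ≤ H`
        exfalso
        have hSK : ∀ a, a ∈ S → ∃ k : K, ι k = a := by
          intro a ha
          have : a ∈ S.toIntermediateField hmem := ha
          rw [hb, IntermediateField.mem_bot] at this
          exact this
        have hsq : ∀ d : F, d ^ 2 ∈ S → d ∈ S := by
          intro d hd
          obtain ⟨k, hk⟩ := frob_sqrt_mem ι q r hK hF hrodd hq d (hSK _ hd)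
          rw [← hk]; exact hmem k
        apply hHM.not_ge
        intro x hx
        obtain ⟨g, rfl⟩ := pr_surjective x
        have hent := (hshape g hx).entries hsq
        obtain ⟨g₀, hg₀⟩ := exists_map_eq ι g (fun i j => hSK _ (hent i j))
        exact ⟨g₀, by rw [slToPSL_eq, hg₀]⟩
      · -- `S = F`: `M = ⊤`
        have hall : ∀ a : F, a ∈ S := by
          intro a
          have : a ∈ S.toIntermediateField hmem := by rw [ht]; exact IntermediateField.mem_top
          exact this
        have hLtop : M.comap pr = ⊤ :=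
          eq_top_of_all (fun a => (hSA a).mp (hall a)) (fun b => (hSB b).mp (hall b))
        rw [eq_top_iff]
        intro x _
        obtain ⟨g, rfl⟩ := pr_surjective x
        have : g ∈ M.comap pr := by rw [hLtop]; exact Subgroup.mem_top _
        exact this
    · -- the exceptional case is impossible
      exfalso
      have hinj : Function.Injective (fun k : K => (⟨ι k, hmemA k⟩ : ↥(AA (M.comap pr)))) := by
        intro a b h
        exact ι.injective (congrArg Subtype.val h)
      have hle := Nat.card_le_card_of_injective _ hinj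
      rw [hA3, Nat.card_eq_fintype_card, hK] at hle
      have hq3' : q = 3 := by omega
      have hM60 : Nat.card M = 60 := by
        have := card_comap_pr hodd M
        rw [hL120] at this
        omega
      have hdvd : 60 ∣ Nat.card (Matrix.ProjectiveSpecialLinearGroup (Fin 2) F) :=
        hM60 ▸ Subgroup.card_subgroup_dvd_card M
      have hG := Cfsg.Agent.Lib.H2.card_PSL2_mul (F := F)
      rw [hF, hq3'] at hG
      apply not_five_dvd r hrodd
      rw [← hG]
      exact Dvd.dvd.mul_left ((by norm_num : 5 ∣ 60).trans hdvd) _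

end finite

end Cfsg.Agent.Lib.H5.PSL2SubfieldMax
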