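import Mathlib
import Cfsg.Agent.Lib.H5.DicksonOddGen
import Cfsg.Agent.Lib.H5.PSL2PClosed
import Cfsg.Agent.Lib.H5.PSL2PrimeMax
import Cfsg.Agent.Lib.H5.PSL2SubfieldMax

/-!
# `A₅` is maximal in `PSL₂(p²)` for `p ≡ ±3 (mod 10)`
-/

set_option autoImplicit false

namespace Cfsg.Agent.Lib.H5.PSL2A5SqMax

open Matrix Cfsg.Agent.Lib.H12 Cfsg.Agent.Lib.H5.PSL2Torus Cfsg.Agent.Lib.H5.SmallNonEmbed
  Cfsg.Agent.Lib.H5.PSL2PrimeMax Cfsg.Agent.Lib.H5.PSL2SubfieldMax

variable {F : Type*} [Field F] [Fintype F]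

local notation "SL2" => Matrix.SpecialLinearGroup (Fin 2) F
local notation "M2" => Matrix (Fin 2) (Fin 2) F
local notation "PSL2" => Matrix.ProjectiveSpecialLinearGroup (Fin 2) F

variable (p : ℕ) [Fact p.Prime] [CharP F p]

/-- the order of a subfield of a field with `p²` elements -/
theorem card_subfield_sq (hF : Fintype.card F = p ^ 2) (S : Subfield F) :
    Nat.card S = p ∨ Nat.card S = p ^ 2 := by
  classical
  have hpp : p.Prime := Fact.out
  haveI : Fintype S := Fintype.ofFinite S
  haveI : CharP S p := Subfield.charP S p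
  obtain ⟨n, hn⟩ := FiniteField.card S p
  have h1 := Module.card_eq_pow_finrank (K := S) (V := F)
  rw [hF, hn.2, ← pow_mul] at h1
  have h2 : 2 = (n : ℕ) * Module.finrank S F := Nat.pow_right_injective hpp.two_le h1
  rw [Nat.card_eq_fintype_card, hn.2]
  have hn1 : (n : ℕ) ∣ 2 := ⟨_, h2⟩
  have := (Nat.dvd_prime Nat.prime_two).mp hn1
  rcases this with h | h
  · left; rw [h, pow_one]
  · right; rw [h]

/-- a subgroup isomorphic to `A₅` is not contained in the normalizer of a Sylow `p`-subgroup -/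
theorem not_le_normalizer_A5 (H : Subgroup PSL2) (e : H ≃* alternatingGroup (Fin 5))
    (P : Sylow p PSL2) : ¬ H ≤ Subgroup.normalizer ((P : Subgroup PSL2) : Set PSL2) := by
  intro hle
  have hpp : p.Prime := Fact.out
  have hcH : Nat.card H = 60 := by rw [Nat.card_congr e.toEquiv, card_alt_five]
  have hnc : HasNC3 H := hasNC3_alt_five.of_equiv e.symm
  haveI : ((P : Subgroup PSL2).subgroupOf H).Normal :=
    Subgroup.normal_subgroupOf_of_le_normalizer hle
  haveI : IsSimpleGroup H := by
    haveI := alternatingGroup.isSimpleGroup_five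
    exact e.isSimpleGroup
  rcases (inferInstance : ((P : Subgroup PSL2).subgroupOf H).Normal).eq_bot_or_eq_top with hb | ht
  · apply hnc.not_isCyclic
    apply PSL2Borel.isCyclic_of_le_normalizer' p P H hle
    rw [Subgroup.subgroupOf_eq_bot] at hb
    rw [inf_comm]
    exact disjoint_iff.mp hb
  · rw [Subgroup.subgroupOf_eq_top] at ht
    have hd := Subgroup.card_dvd_of_le ht
    obtain ⟨k, hk⟩ := P.isPGroup'.exists_card_eq
    rw [hcH, hk] at hd
    have h2 : 2 ∣ p ^ k := dvd_trans (by norm_num) hd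
    have h3 : 3 ∣ p ^ k := dvd_trans (by norm_num) hd
    have e2 := (Nat.prime_dvd_prime_iff_eq Nat.prime_two hpp).mp (Nat.prime_two.dvd_of_dvd_pow h2)
    have e3 := (Nat.prime_dvd_prime_iff_eq Nat.prime_three hpp).mp
      (Nat.prime_three.dvd_of_dvd_pow h3)
    omega

/-- the numerical core: `(1 + q) (q (q - 1)) = q (q² - 1)` -/
theorem card_identity (q : ℕ) (hq : 1 ≤ q) : (1 + q) * (q * (q - 1)) = q * (q ^ 2 - 1) := by
  obtain ⟨k, rfl⟩ : ∃ k, q = k + 1 := ⟨q - 1, by omega⟩
  have h1 : (k + 1) ^ 2 - 1 = k * (k + 2) := Nat.sub_eq_of_eq_add (by ring)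
  rw [h1, Nat.add_sub_cancel]
  ring

/-- `5` does not divide `(1 + p) p (p - 1)` for `p ≡ ±3 (mod 10)` -/
theorem not_five_dvd_of_mod (hp : p % 10 = 3 ∨ p % 10 = 7) (c : ℕ) (hc : c = 1 ∨ c = 2) :
    ¬ 5 ∣ (1 + p) * (p * (c * (p - 1))) := by
  intro h
  rcases (Nat.Prime.dvd_mul Nat.prime_five).mp h with h | h
  · omega
  · rcases (Nat.Prime.dvd_mul Nat.prime_five).mp h with h | h
    · omega
    · rcases (Nat.Prime.dvd_mul Nat.prime_five).mp h with h | h
      · rcases hc with rfl | rfl <;> omega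
      · omega

/-- **`A₅` is maximal in `PSL₂(p²)` for `p ≡ ±3 (mod 10)`** -/
theorem isCoatom_A5_sq (hF : Fintype.card F = p ^ 2) (hp : p % 10 = 3 ∨ p % 10 = 7)
    (H : Subgroup PSL2) (e : H ≃* alternatingGroup (Fin 5)) : IsCoatom H := by
  have hpp : p.Prime := Fact.out
  have hp2 : p ≠ 2 := by rintro rfl; omega
  have hp3 : 3 ≤ p := by
    have := hpp.two_le
    omega
  have hodd : Odd (Fintype.card F) := by
    rw [hF]; exact (hpp.odd_of_ne_two hp2).pow
  have hcH : Nat.card H = 60 := by rw [Nat.card_congr e.toEquiv, card_alt_five]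
  have hcG := two_mul_card hodd
  rw [hF] at hcG
  have hq9 : 9 ≤ p ^ 2 := by nlinarith
  have hG : 360 ≤ Nat.card PSL2 := by
    have h1 : 9 * (9 ^ 2 - 1) ≤ p ^ 2 * ((p ^ 2) ^ 2 - 1) := by
      apply Nat.mul_le_mul hq9
      apply Nat.sub_le_sub_right
      exact Nat.pow_le_pow_left hq9 2
    omega
  have hnc : HasNC3 H := hasNC3_alt_five.of_equiv e.symm
  refine ⟨ne_top_of_card_lt H (by omega), ?_⟩
  intro M hHM
  by_contra hM
  have hncM : HasNC3 M := hnc.of_le hHM.le
  have h60 : 60 ∣ Nat.card M := by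
    rw [← hcH]; exact Subgroup.card_dvd_of_le hHM.le
  by_cases hpM : p ∣ Nat.card M
  · have hpos : 0 < Nat.card (Sylow p M) := Nat.card_pos
    rcases Nat.lt_or_ge 1 (Nat.card (Sylow p M)) with h1 | h1
    · -- more than one Sylow `p`-subgroup
      have hneg : (-1 : SL2) ∈ M.comap pr := by
        rw [Subgroup.mem_comap, pr_neg_one]; exact M.one_mem
      have hL2 : 1 < Nat.card (Sylow p (M.comap (pr (F := F)))) := by
        have hs : Function.Surjective ((pr (F := F)).subgroupComap M) :=
          MonoidHom.subgroupComap_surjective_of_surjective pr M pr_surjective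
        have := Nat.card_le_card_of_surjective _ (Sylow.mapSurjective_surjective hs p)
        omega
      have hcL := card_comap_pr hodd M
      rcases DicksonOddGen.card_of_two_sylow p hp2 (M.comap pr) hneg hL2 with ⟨S, hc⟩ | ⟨-, hc⟩
      · rw [hcL] at hc
        rcases card_subfield_sq p hF S with hs | hs
        · rw [hs] at hc
          have h5 : 5 ∣ 2 * Nat.card M := dvd_trans (by norm_num) (Dvd.dvd.mul_left h60 2)
          rcases hc with hc | hc
          · apply not_five_dvd_of_mod p hp 1 (Or.inl rfl)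
            rw [one_mul, ← hc]; exact h5
          · apply not_five_dvd_of_mod p hp 2 (Or.inr rfl)
            rw [← hc]; exact h5
        · rw [hs] at hc
          have hid := card_identity (p ^ 2) (by omega)
          apply hM
          apply Subgroup.eq_top_of_le_card
          rcases hc with hc | hc
          · rw [hid] at hc; omega
          · have : (1 + p ^ 2) * (p ^ 2 * (2 * (p ^ 2 - 1))) =
                2 * ((1 + p ^ 2) * (p ^ 2 * (p ^ 2 - 1))) := by ring
            rw [this, hid] at hc; omega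
      · rw [hcL] at hc
        exact hHM.ne (eq_of_le_of_card_eq hHM.le (by omega))
    · -- a unique Sylow `p`-subgroup
      obtain ⟨P, hP⟩ := PSL2Borel.le_normalizer_of_card_sylow_eq_one p M hpM (by omega)
      exact not_le_normalizer_A5 p H e P (hHM.le.trans hP)
  · rcases PSL2PPrime.classify_of_coprime p hodd M hpM with ⟨hc, -⟩ | ⟨k, -, ⟨e'⟩⟩ | h' | h' | h'
    · exact hncM.not_isCyclic hc
    · exact not_hasNC3_dihedral k (hncM.of_equiv e')
    · obtain ⟨e'⟩ := h'
      have h1 : Nat.card M = 12 := by rw [Nat.card_congr e'.toEquiv, card_alt_four]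
      have := Subgroup.card_le_of_le hHM.le
      omega
    · obtain ⟨e'⟩ := h'
      have h1 : Nat.card M = 24 := by rw [Nat.card_congr e'.toEquiv, card_perm_four]
      have := Subgroup.card_le_of_le hHM.le
      omega
    · obtain ⟨e'⟩ := h'
      have h1 : Nat.card M = 60 := by rw [Nat.card_congr e'.toEquiv, card_alt_five]
      exact hHM.ne (eq_of_le_of_card_eq hHM.le (by rw [h1, hcH]))

end Cfsg.Agent.Lib.H5.PSL2A5SqMax
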