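import Mathlib
import Cfsg.Agent.Lib.H5.DicksonTwo.Generic
import Cfsg.Agent.Lib.H5.PSL2SubfieldMax

/-!
# Subfield subgroups `PSL₂(q)` of `PSL₂(q^r)`, `r` prime, `q > 2` even, are maximal
-/

set_option autoImplicit false
set_option linter.style.haveILetI false

namespace Cfsg.Agent.Lib.H5.PSL2SubfieldMaxTwo

open Matrix Cfsg.Agent.Lib.H12 Cfsg.Agent.Lib.H4.Dickson Cfsg.Agent.Lib.H5.PSL2Torus
  Cfsg.Agent.Lib.H5.PSL2Subfield Cfsg.Agent.Lib.H5.PSL2SubfieldMax Cfsg.Agent.Lib.H5.DicksonTwo

/-- a finite field of even order has characteristic two -/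
theorem two_eq_zero_of_even {F : Type*} [Field F] [Fintype F] (h : Even (Fintype.card F)) :
    (2 : F) = 0 := by
  have h1 : ringChar F = 2 := FiniteField.even_card_iff_char_two.mpr (Nat.even_iff.mp h)
  haveI : CharP F 2 := ringChar.of_eq h1
  exact CharTwo.two_eq_zero

variable {F K : Type*} [Field F] [Field K] [Fintype F] [Fintype K] (ι : K →+* F)

/-- **the subfield subgroup `PSL₂(q)` of `PSL₂(q^r)` is maximal**, `q > 2` even, `r` prime -/
theorem isCoatom_range_two (q r : ℕ) (hK : Fintype.card K = q) (hF : Fintype.card F = q ^ r)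
    (hq : Even q) (hq2 : q ≠ 2) (hr : r.Prime) : IsCoatom (slToPSL ι).range := by
  have heven : Even (Fintype.card F) := by rw [hF]; exact (Nat.even_pow' hr.ne_zero).mpr hq
  have h2 : (2 : F) = 0 := two_eq_zero_of_even heven
  have hq1 : 2 ≤ q := by rw [← hK]; exact Fintype.one_lt_card
  have hq4 : 4 ≤ q := by
    obtain ⟨j, hj⟩ := hq
    omega
  have hneg : ∀ g : Matrix.SpecialLinearGroup (Fin 2) F, -g = g := by
    intro g
    rw [← neg_one_mul, Cfsg.Agent.Lib.H5.SL2Char2.sl2_neg_one_eq_one h2, one_mul]
  constructor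
  · -- the subgroup is proper
    intro htop
    have hsurj : Function.Surjective ι := by
      intro x
      have hx : pr (uu x) ∈ (slToPSL ι).range := by rw [htop]; exact Subgroup.mem_top _
      obtain ⟨g₀, hg₀⟩ := hx
      rw [slToPSL_eq] at hg₀
      have h : Matrix.SpecialLinearGroup.map ι g₀ = uu x := by
        rcases (pr_eq_pr_iff _ _).mp hg₀ with h | h
        · exact h.symm
        · rw [h, hneg]
      refine ⟨(g₀ : Matrix (Fin 2) (Fin 2) K) 0 1, ?_⟩
      rw [← map_entry, h]; simp
    have hle := Fintype.card_le_of_surjective ι hsurj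
    rw [hF, hK] at hle
    have h3 : q ^ 2 ≤ q ^ r := Nat.pow_le_pow_right (by omega) hr.two_le
    nlinarith
  · intro M hHM
    have hHM' := hHM.le
    have hmemA : ∀ k : K, uu (ι k) ∈ M.comap pr := by
      intro k
      rw [Subgroup.mem_comap, ← PSL2SubfieldMax.map_uu, ← slToPSL_eq]
      exact hHM' ⟨_, rfl⟩
    have hmemB : ∀ k : K, ll (ι k) ∈ M.comap pr := by
      intro k
      rw [Subgroup.mem_comap, ← PSL2SubfieldMax.map_ll, ← slToPSL_eq]
      exact hHM' ⟨_, rfl⟩
    have hu : uu (1 : F) ∈ M.comap pr := by simpa using hmemA 1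
    have hl : ll (1 : F) ∈ M.comap pr := by simpa using hmemB 1
    have hAq : q ≤ Nat.card (AA (M.comap (pr (F := F)))) := by
      have hinj : Function.Injective
          (fun k : K => (⟨ι k, hmemA k⟩ : ↥(AA (M.comap (pr (F := F)))))) := by
        intro a b h
        exact ι.injective (congrArg Subtype.val h)
      have hle := Nat.card_le_card_of_injective _ hinj
      rwa [Nat.card_eq_fintype_card, hK] at hle
    rcases dichotomy2 h2 one_ne_zero hu one_ne_zero hl with ⟨hA2, -, -⟩ | ⟨-, hk, hidx⟩
    · exfalso; omega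
    · obtain ⟨S, hSA, hSB, hLS⟩ := generic_structure2 h2 one_ne_zero hu hl hk hidx
      letI := ι.toAlgebra
      have halg : ∀ k : K, algebraMap K F k = ι k := fun _ => rfl
      have hmem : ∀ k : K, algebraMap K F k ∈ S := fun k => (hSA _).mpr (hmemA k)
      have hfr : Module.finrank K F = r := by
        have h1 := Module.card_eq_pow_finrank (K := K) (V := F)
        rw [hF, hK] at h1
        exact (Nat.pow_right_injective hq1 h1).symm
      haveI := IntermediateField.isSimpleOrder_of_finrank_prime K F (hfr ▸ hr)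
      rcases eq_bot_or_eq_top (S.toIntermediateField hmem) with hb | ht
      · -- `S` is the image of `K`: `M ≤ H`
        exfalso
        have hSK : ∀ a, a ∈ S → ∃ k : K, ι k = a := by
          intro a ha
          have : a ∈ S.toIntermediateField hmem := ha
          rw [hb, IntermediateField.mem_bot] at this
          exact this
        apply hHM.not_ge
        intro x hx
        obtain ⟨g, rfl⟩ := pr_surjective x
        have hgL : g ∈ M.comap pr := hx
        rw [hLS] at hgL
        obtain ⟨g', rfl⟩ := hgL
        have hent : ∀ i j, ∃ k : K, ι k =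
            ((Matrix.SpecialLinearGroup.map (n := Fin 2) (S.subtype : ↥S →+* F) g' :
              Matrix.SpecialLinearGroup (Fin 2) F) : Matrix (Fin 2) (Fin 2) F) i j := by
          intro i j
          rw [map_entry]
          exact hSK _ (SetLike.coe_mem _)
        obtain ⟨g₀, hg₀⟩ := exists_map_eq ι _ hent
        exact ⟨g₀, by rw [slToPSL_eq, hg₀]⟩
      · -- `S = F`: `M = ⊤`
        have hall : ∀ a : F, a ∈ S := by
          intro a
          have : a ∈ S.toIntermediateField hmem := by rw [ht]; exact IntermediateField.mem_top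
          exact this
        have hLtop : M.comap pr = ⊤ :=
          eq_top_of_all (fun a => (hSA a).mp (hall a)) (fun b => (hSB b).mp (hall b))
        rw [eq_top_iff]
        intro x _
        obtain ⟨g, rfl⟩ := pr_surjective x
        have : g ∈ M.comap pr := by rw [hLtop]; exact Subgroup.mem_top _
        exact this

end Cfsg.Agent.Lib.H5.PSL2SubfieldMaxTwo
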