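import Mathlib
import Cfsg.Agent.Lib.H5.SylowCover
import Cfsg.Agent.Lib.H5.SL2SylowCover
import Cfsg.Agent.Lib.H5.SL2MaxOver
import Cfsg.Agent.Lib.H12.SL2Ind2

/-!
# Groups with TI Sylow `p`-subgroups: subgroups with a normal Sylow `p`-subgroup; the normalizer
of a Sylow `p`-subgroup of `SL₂(F)`
-/

set_option autoImplicit false
set_option linter.style.haveILetI false

namespace Cfsg.Agent.Lib.H5.SylTITools

open Cfsg.Agent.Lib.H5.SylCov

section general

variable {G : Type*} [Group G] [Finite G] {p : ℕ} [Fact p.Prime]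

/-- a subgroup normalizing a nontrivial `p`-subgroup lies in the normalizer of a Sylow
`p`-subgroup -/
theorem le_normalizer_of_normalizes (hTI : SylTI p G) (M Q : Subgroup G) (hQ : IsPGroup p Q)
    (hQ1 : Q ≠ ⊥) (hn : ∀ m ∈ M, ∀ x ∈ Q, m * x * m⁻¹ ∈ Q) :
    ∃ P : Sylow p G, Q ≤ (P : Subgroup G) ∧
      M ≤ Subgroup.normalizer ((P : Subgroup G) : Set G) := by
  obtain ⟨P, hP⟩ := hQ.exists_le_sylow
  refine ⟨P, hP, ?_⟩
  obtain ⟨x, hxQ, hx1⟩ : ∃ x : G, x ∈ Q ∧ x ≠ 1 := by
    obtain ⟨x, hx⟩ := (Subgroup.ne_bot_iff_exists_ne_one.mp hQ1 : ∃ x : Q, x ≠ 1)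
    exact ⟨(x : G), x.2, fun h' => hx (Subtype.ext h')⟩
  intro m hm
  have h1 : m * x * m⁻¹ ∈ (P : Subgroup G) := hP (hn m hm x hxQ)
  have h2 : m * x * m⁻¹ ∈ ((m • P : Sylow p G) : Subgroup G) := by
    rw [Sylow.coe_subgroup_smul, Subgroup.mem_smul_pointwise_iff_exists]
    exact ⟨x, hP hxQ, by simp [MulAut.smul_def]⟩
  have h3 : m * x * m⁻¹ ≠ 1 := by
    intro h
    apply hx1
    have : x = m⁻¹ * (m * x * m⁻¹) * m := by group
    rw [this, h]; group
  have h4 := hTI P (m • P) _ h1 h2 h3
  exact Sylow.smul_eq_iff_mem_normalizer.mp h4.symm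

/-- a subgroup with a unique nontrivial Sylow `p`-subgroup lies in the normalizer of a Sylow
`p`-subgroup -/
theorem le_normalizer_of_card_sylow_eq_one (hTI : SylTI p G) (M : Subgroup G)
    (hp : p ∣ Nat.card M) (h1 : Nat.card (Sylow p M) = 1) :
    ∃ P : Sylow p G, M ≤ Subgroup.normalizer ((P : Subgroup G) : Set G) := by
  obtain ⟨Q⟩ : Nonempty (Sylow p M) := inferInstance
  have hQn : (Q : Subgroup M).Normal := by
    haveI : Subsingleton (Sylow p M) := (Nat.card_eq_one_iff_unique.mp h1).1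
    exact Sylow.normal_of_subsingleton Q
  have hQ1 : (Q : Subgroup M) ≠ ⊥ := by
    intro hb
    have := Q.card_eq_multiplicity
    rw [hb, Subgroup.card_bot] at this
    have hpp : p.Prime := Fact.out
    have h0 : (Nat.card M).factorization p = 0 := by
      by_contra hne
      have : 1 < p ^ (Nat.card M).factorization p := Nat.one_lt_pow hne hpp.one_lt
      omega
    have hM0 : Nat.card M ≠ 0 := Nat.card_pos.ne'
    rcases (Nat.factorization_eq_zero_iff _ _).mp h0 with h | h | h
    · exact h hpp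
    · exact h hp
    · exact hM0 h
  obtain ⟨P, -, hP⟩ := le_normalizer_of_normalizes hTI M ((Q : Subgroup M).map M.subtype)
    (Q.isPGroup'.map _) (by
      intro h
      apply hQ1
      rw [← Subgroup.map_bot M.subtype] at h
      exact Subgroup.map_injective M.subtype_injective h)
    (by
      rintro m hm _ ⟨y, hy, rfl⟩
      refine ⟨⟨m, hm⟩ * y * ⟨m, hm⟩⁻¹, hQn.conj_mem y hy ⟨m, hm⟩, by simp⟩)
  exact ⟨P, hP⟩

end general

section sltwo

open Matrix Cfsg.Agent.Lib.H12 Cfsg.Agent.Lib.H2.SL2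

variable {F : Type*} [Field F] [Fintype F] (p : ℕ) [Fact p.Prime] [CharP F p]

local notation "SL2" => Matrix.SpecialLinearGroup (Fin 2) F

/-- the normalizer of the upper unitriangular group is the Borel subgroup -/
theorem normalizer_U : Subgroup.normalizer ((U F : Subgroup SL2) : Set SL2) = borelSL F := by
  apply le_antisymm
  · intro g hg
    rw [mem_borelSL]
    have h1 := (Subgroup.mem_normalizer_iff.mp hg (uSL 1)).mp (uSL_mem 1)
    obtain ⟨t, ht⟩ := (mem_U_iff _).mp h1
    have h2 : uSL t * g = g * uSL 1 := by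
      rw [ht, inv_mul_cancel_right]
    have e00 := congrArg (fun g : SL2 => (g : Matrix (Fin 2) (Fin 2) F) 0 0) h2
    have e10 := congrArg (fun g : SL2 => (g : Matrix (Fin 2) (Fin 2) F) 1 0) h2
    have e11 := congrArg (fun g : SL2 => (g : Matrix (Fin 2) (Fin 2) F) 1 1) h2
    simp only [mul_val, uSL_val, Matrix.of_apply, Matrix.cons_val',
      Matrix.cons_val_zero, Matrix.cons_val_one, Matrix.empty_val', Matrix.cons_val_fin_one,
      Matrix.mul_apply, Fin.sum_univ_two] at e00 e10 e11
    simp only [Fin.isValue, Matrix.cons_val_zero, Matrix.cons_val_one, one_mul, zero_mul,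
      mul_one, mul_zero, zero_add, add_zero] at e00 e10 e11
    linear_combination (-1 : F) * e11
  · intro g hg
    rw [mem_borelSL] at hg
    exact mem_normalizer_U_of_upper hg

/-- the order of the normalizer of a Sylow `p`-subgroup of `SL₂(F)` -/
theorem card_normalizer_sylow (P : Sylow p SL2) :
    Nat.card (Subgroup.normalizer ((P : Subgroup SL2) : Set SL2)) =
      (Fintype.card F - 1) * Fintype.card F := by
  obtain ⟨g, hg⟩ := MulAction.exists_smul_eq SL2 (USylow (F := F) p) P
  have h1 : (P : Subgroup SL2) = (U F).map (MulAut.conj g).toMonoidHom := by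
    rw [← hg, Sylow.coe_subgroup_smul, coe_USylow, Subgroup.pointwise_smul_def]
    rfl
  rw [h1, ← Subgroup.map_equiv_normalizer_eq, normalizer_U, ← card_borelSL]
  exact (Nat.card_congr ((borelSL F).equivMapOfInjective (MulAut.conj g).toMonoidHom
    (MulAut.conj g).injective).toEquiv).symm

end sltwo

end Cfsg.Agent.Lib.H5.SylTITools
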