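import Mathlib
import Cfsg.Agent.Lib.H5.DicksonTwo.Main
import Cfsg.Agent.Lib.H5.PSL2PClosed
import Cfsg.Agent.Lib.H5.PSL2SubfieldMaxTwo
import Cfsg.Agent.Lib.H12.SL2Ind2
import Cfsg.Agent.Lib.H5.SylTITools

/-!
# Maximal subgroups of `SL₂(2ⁿ)`
-/

set_option autoImplicit false
set_option linter.style.haveILetI false

namespace Cfsg.Agent.Lib.H5.PSL2MaxTwo

open Matrix Cfsg.Agent.Lib.H12 Cfsg.Agent.Lib.H4.Dickson Cfsg.Agent.Lib.H5.DicksonTwo
  Cfsg.Agent.Lib.H5.PSL2Torus

section general

variable {G : Type*} [Group G]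

/-- an element conjugating `x` to `x` or `x⁻¹` normalizes the centralizer of `x` -/
theorem mem_normalizer_centralizer {x c : G} (h : c * x * c⁻¹ = x ∨ c * x * c⁻¹ = x⁻¹) :
    c ∈ Subgroup.normalizer ((Subgroup.centralizer ({x} : Set G) : Subgroup G) : Set G) := by
  have key : ∀ (c : G), (c * x * c⁻¹ = x ∨ c * x * c⁻¹ = x⁻¹) →
      ∀ z : G, z ∈ Subgroup.centralizer ({x} : Set G) →
        c * z * c⁻¹ ∈ Subgroup.centralizer ({x} : Set G) := by
    intro c h z hz
    rw [Subgroup.mem_centralizer_singleton_iff] at hz ⊢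
    have hc : c * z * c⁻¹ * (c * x * c⁻¹) = (c * x * c⁻¹) * (c * z * c⁻¹) := by
      calc c * z * c⁻¹ * (c * x * c⁻¹) = c * (z * x) * c⁻¹ := by group
        _ = c * (x * z) * c⁻¹ := by rw [hz]
        _ = c * x * c⁻¹ * (c * z * c⁻¹) := by group
    rcases h with h | h
    · rw [h] at hc; exact hc
    · rw [h] at hc
      calc c * z * c⁻¹ * x = x * (x⁻¹ * (c * z * c⁻¹)) * x := by group
        _ = x * ((c * z * c⁻¹) * x⁻¹) * x := by rw [hc]
        _ = x * (c * z * c⁻¹) := by group
  have h' : c⁻¹ * x * c⁻¹⁻¹ = x ∨ c⁻¹ * x * c⁻¹⁻¹ = x⁻¹ := by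
    rcases h with h | h
    · left
      calc c⁻¹ * x * c⁻¹⁻¹ = c⁻¹ * (c * x * c⁻¹) * c := by rw [h]; group
        _ = x := by group
    · right
      have : x = c⁻¹ * x⁻¹ * c := by
        calc x = c⁻¹ * (c * x * c⁻¹) * c := by group
          _ = c⁻¹ * x⁻¹ * c := by rw [h]
      calc c⁻¹ * x * c⁻¹⁻¹ = (c⁻¹ * x⁻¹ * c)⁻¹ := by group
        _ = x⁻¹ := by rw [← this]
  rw [Subgroup.mem_normalizer_iff]
  intro z
  constructor
  · exact key c h z
  · intro hz
    have := key c⁻¹ h' _ hz
    have e : c⁻¹ * (c * z * c⁻¹) * c⁻¹⁻¹ = z := by group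
    rwa [e] at this

end general

variable {F : Type*} [Field F] [Fintype F]

local notation "SL2" => Matrix.SpecialLinearGroup (Fin 2) F
local notation "M2" => Matrix (Fin 2) (Fin 2) F
local notation "PSL2" => Matrix.ProjectiveSpecialLinearGroup (Fin 2) F

/-- in characteristic two `SL₂ ≃* PSL₂` -/
noncomputable def slEquiv (h2 : (2 : F) = 0) : SL2 ≃* PSL2 :=
  MulEquiv.ofBijective (pr (F := F))
    ⟨Cfsg.Agent.Lib.H5.SL2Char2.mk_injective h2, pr_surjective⟩

theorem slEquiv_apply (h2 : (2 : F) = 0) (g : SL2) : slEquiv h2 g = pr g := rfl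

theorem isSimpleGroup_sl2 (h2 : (2 : F) = 0) (h4 : 4 ≤ Fintype.card F) : IsSimpleGroup SL2 := by
  haveI : IsSimpleGroup PSL2 :=
    Matrix.ProjectiveSpecialLinearGroup.rank_two_simple
      (by rw [Nat.card_eq_fintype_card]; exact h4)
  exact (slEquiv h2).isSimpleGroup

/-- the normalizer of the centralizer of a nontrivial element is proper -/
theorem normalizer_centralizer_ne_top (h2 : (2 : F) = 0) (h4 : 4 ≤ Fintype.card F) {x : SL2}
    (hx : x ≠ 1) :
    Subgroup.normalizer ((Subgroup.centralizer ({x} : Set SL2) : Subgroup SL2) : Set SL2) ≠ ⊤ := by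
  intro h
  haveI := isSimpleGroup_sl2 h2 h4
  have hn : (Subgroup.centralizer ({x} : Set SL2)).Normal := Subgroup.normalizer_eq_top_iff.1 h
  rcases hn.eq_bot_or_eq_top with hb | ht
  · apply hx
    have : x ∈ Subgroup.centralizer ({x} : Set SL2) := by
      rw [Subgroup.mem_centralizer_singleton_iff]
    rw [hb, Subgroup.mem_bot] at this
    exact this
  · apply hx
    have hc : x ∈ Subgroup.center SL2 := by
      rw [Subgroup.mem_center_iff]
      intro g
      have : g ∈ Subgroup.centralizer ({x} : Set SL2) := by rw [ht]; exact Subgroup.mem_top g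
      rw [Subgroup.mem_centralizer_singleton_iff] at this
      exact this
    rw [Cfsg.Agent.Lib.H5.SL2Char2.center_eq_bot h2, Subgroup.mem_bot] at hc
    exact hc

/-- the degree of `F` over a subfield `S` without proper intermediate fields is prime -/
theorem finrank_prime_of_simple (S : Subfield F)
    (h : ∀ E : IntermediateField S F, E = ⊥ ∨ E = ⊤) (hne : (⊥ : IntermediateField S F) ≠ ⊤) :
    (Module.finrank S F).Prime := by
  haveI : IsSimpleOrder (IntermediateField S F) :=
    { exists_pair_ne := ⟨⊥, ⊤, hne⟩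
      eq_bot_or_eq_top := h }
  haveI : IsSimpleOrder (Subgroup Gal(F/S))ᵒᵈ :=
    (IsGalois.intermediateFieldEquivSubgroup (F := S) (E := F)).symm.isSimpleOrder
  haveI : IsSimpleOrder (Subgroup Gal(F/S)) := isSimpleOrder_iff_isSimpleOrder_orderDual.2 inferInstance
  letI : CommGroup Gal(F/S) := IsCyclic.commGroup
  haveI : Nontrivial Gal(F/S) := Subgroup.nontrivial_iff.1 inferInstance
  haveI : IsSimpleGroup Gal(F/S) := ⟨fun H _ => eq_bot_or_eq_top H⟩
  have := IsSimpleGroup.prime_card (α := Gal(F/S))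
  rwa [IsGalois.card_aut_eq_finrank] at this

theorem ne_one_of_tor (h2 : (2 : F) = 0) {L : Subgroup SL2} {x : ↥L} (hx : tor L x) : x ≠ 1 := by
  intro h
  apply tor_not_mem_ZL hx
  rw [h]; exact Subgroup.one_mem _

/-- the copy of `SL₂(S)` in `SL₂(F)` -/
def subSL (S : Subfield F) : Subgroup SL2 :=
  (Matrix.SpecialLinearGroup.map (n := Fin 2) (S.subtype : ↥S →+* F)).range

theorem mem_subSL_iff (S : Subfield F) (g : SL2) : g ∈ subSL S ↔ ∀ i j, (g : M2) i j ∈ S := by
  constructor
  · rintro ⟨g₀, rfl⟩ i j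
    rw [PSL2SubfieldMax.map_entry]
    exact SetLike.coe_mem _
  · intro h
    obtain ⟨g₀, hg₀⟩ := PSL2SubfieldMax.exists_map_eq (S.subtype : ↥S →+* F) g
      (fun i j => ⟨⟨_, h i j⟩, rfl⟩)
    exact ⟨g₀, hg₀⟩

theorem subSL_mono {S S' : Subfield F} (h : S ≤ S') : subSL S ≤ subSL S' := by
  intro g hg
  rw [mem_subSL_iff] at hg ⊢
  exact fun i j => h (hg i j)

theorem le_of_subSL_le {S S' : Subfield F} (h : subSL S' ≤ subSL S) : S' ≤ S := by
  intro a ha
  have h1 : uu a ∈ subSL S' := by
    rw [mem_subSL_iff]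
    intro i j
    fin_cases i <;> fin_cases j
    · show (uu a : SL2).1 0 0 ∈ S'
      rw [uu_00]; exact S'.one_mem
    · show (uu a : SL2).1 0 1 ∈ S'
      rw [uu_01]; exact ha
    · show (uu a : SL2).1 1 0 ∈ S'
      rw [uu_10]; exact S'.zero_mem
    · show (uu a : SL2).1 1 1 ∈ S'
      rw [uu_11]; exact S'.one_mem
  have h2 := (mem_subSL_iff S _).1 (h h1) 0 1
  rwa [uu_01] at h2

/-- `subSL S ≃* SL₂(S)` -/
noncomputable def subSLEquiv (S : Subfield F) :
    Matrix.SpecialLinearGroup (Fin 2) S ≃* subSL S := by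
  have hinj : Function.Injective
      (Matrix.SpecialLinearGroup.map (n := Fin 2) (S.subtype : ↥S →+* F)) := by
    intro x y hxy
    apply Subtype.ext
    ext i j
    have := congrArg (fun z : SL2 => (z : M2) i j) hxy
    simp only [Matrix.SpecialLinearGroup.map_apply_coe, RingHom.mapMatrix_apply,
      Matrix.map_apply] at this
    exact this
  exact MonoidHom.ofInjective hinj

/-- **maximal subgroups of `SL₂(2ⁿ)`** -/
theorem coatom_cases_sl2 (h2 : (2 : F) = 0) (h4 : 4 ≤ Fintype.card F) (L : Subgroup SL2)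
    (hL : IsCoatom L) :
    Nat.card L = Fintype.card F * (Fintype.card F - 1) ∨
    Nonempty (L ≃* DihedralGroup (Fintype.card F - 1)) ∨
    Nonempty (L ≃* DihedralGroup (Fintype.card F + 1)) ∨
    ∃ (S : Subfield F) (r : ℕ), r.Prime ∧ 4 ≤ Nat.card S ∧ Fintype.card F = Nat.card S ^ r ∧
      Nonempty (L ≃* Matrix.SpecialLinearGroup (Fin 2) S) := by
  haveI : Fact (Nat.Prime 2) := ⟨Nat.prime_two⟩
  haveI := charP_two h2
  rcases classify2 h2 L with ⟨-, -, -, h1 | ⟨x, hx, hT⟩⟩ | ⟨heven, hsyl⟩ |
    ⟨x, hx, hcL, ⟨e⟩, -, hle⟩ | ⟨Θ, S, hS4, hLS⟩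
  · -- the trivial group is not maximal
    exfalso
    have hbot : L = ⊥ := Subgroup.card_eq_one.1 h1
    have hu1 : uu (1 : F) ≠ 1 := by
      intro h
      have := congrArg (fun z : SL2 => (z : M2) 0 1) h
      simp only [uu_01, Matrix.SpecialLinearGroup.coe_one] at this
      rw [Matrix.one_apply_ne (by decide)] at this
      exact one_ne_zero this
    have hlt : L < Subgroup.zpowers (uu (1 : F)) := by
      rw [hbot]
      exact bot_lt_iff_ne_bot.2 (Subgroup.zpowers_ne_bot.2 hu1)
    have htop := hL.2 _ hlt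
    have hmem : ll (1 : F) ∈ Subgroup.zpowers (uu (1 : F)) := by
      rw [htop]; exact Subgroup.mem_top _
    obtain ⟨n, hn⟩ := Subgroup.mem_zpowers_iff.1 hmem
    have hcomm : ll (1 : F) * uu 1 = uu 1 * ll 1 := by
      rw [← hn]
      exact ((Commute.refl (uu (1 : F))).zpow_left n).eq
    have := ((commute_uu_iff one_ne_zero _).1 hcomm).1
    rw [ll_10] at this
    exact one_ne_zero this
  · -- a torus is not maximal
    exfalso
    have hx1 : x ≠ 1 := ne_one_of_tor h2 hx
    have hx1' : (x : SL2) ≠ 1 := fun h => hx1 (Subtype.ext h)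
    have hLT : L ≤ Subgroup.centralizer ({(x : SL2)} : Set SL2) := by
      intro g hg
      have : (⟨g, hg⟩ : ↥L) ∈ cent x := by rw [hT]; exact Subgroup.mem_top _
      rw [Subgroup.mem_centralizer_singleton_iff]
      exact mem_cent_coe.1 this
    have hLN := hLT.trans (Subgroup.le_normalizer (H := Subgroup.centralizer ({(x : SL2)} : Set SL2)))
    rcases hL.le_iff.1 hLN with h | h
    · exact normalizer_centralizer_ne_top h2 h4 hx1' h
    · obtain ⟨c, hc⟩ := exists_inverting2 h2 (x : SL2) ((tor_iff h2 x).1 hx)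
      have hcN := mem_normalizer_centralizer (Or.inr hc)
      rw [h] at hcN
      have hcT := hLT hcN
      rw [Subgroup.mem_centralizer_singleton_iff] at hcT
      have hxx : (x : SL2) = (x : SL2)⁻¹ := by
        rw [← hc]
        calc (x : SL2) = (x : SL2) * c * c⁻¹ := by group
          _ = c * (x : SL2) * c⁻¹ := by rw [hcT]
      apply (tor_iff_sq h2 x).1 hx
      apply Subtype.ext
      show (x : SL2) * (x : SL2) = 1
      nth_rewrite 2 [hxx]
      exact mul_inv_cancel _
  · -- a unique Sylow `2`-subgroup: the Borel subgroup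
    left
    have hTI : SylCov.SylTI 2 SL2 := SL2Cov.sl2_sylTI (Or.inr h2)
    have h2dvd : 2 ∣ Nat.card L := even_iff_two_dvd.1 heven
    obtain ⟨P, hP⟩ := SylTITools.le_normalizer_of_card_sylow_eq_one hTI L h2dvd hsyl
    rcases hL.le_iff.1 hP with h | h
    · exact absurd h (SLM.normalizer_ne_top 2 P)
    · rw [← h, SylTITools.card_normalizer_sylow 2 P, mul_comm]
  · -- the dihedral case
    have hx1 : x ≠ 1 := ne_one_of_tor h2 hx
    have hx1' : (x : SL2) ≠ 1 := fun h => hx1 (Subtype.ext h)
    rcases hL.le_iff.1 hle with h | h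
    · exact absurd h (normalizer_centralizer_ne_top h2 h4 hx1')
    · have hTL : Subgroup.centralizer ({(x : SL2)} : Set SL2) ≤ L :=
        le_of_le_of_eq Subgroup.le_normalizer h
      have hsurj : Function.Surjective (centToCentralizer x) := by
        rintro ⟨z, hz⟩
        have hzc : (⟨z, hTL hz⟩ : ↥L) ∈ cent x := by
          rw [mem_cent_coe]
          exact Subgroup.mem_centralizer_singleton_iff.1 hz
        exact ⟨⟨⟨z, hTL hz⟩, hzc⟩, rfl⟩
      have hcard : Nat.card (cent x) =
          Nat.card (Subgroup.centralizer ({(x : SL2)} : Set SL2)) :=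
        Nat.card_congr (Equiv.ofBijective _ ⟨centToCentralizer_injective x, hsurj⟩)
      rcases (regular_centralizer2 h2 (x : SL2) ((tor_iff h2 x).1 hx)).2 with h' | h'
      · right; left
        rw [← h', ← hcard]; exact ⟨e⟩
      · right; right; left
        rw [← h', ← hcard]; exact ⟨e⟩
  · -- the subfield case
    right; right; right
    have hL' : IsCoatom (L.map Θ.toMonoidHom) := by
      have := (OrderIso.isCoatom_iff (MulEquiv.mapSubgroup Θ) L).2 hL
      rwa [MulEquiv.coe_mapSubgroup] at this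
    have hLS' : L.map Θ.toMonoidHom = subSL S := hLS
    rw [hLS'] at hL'
    have hE : ∀ E : IntermediateField S F, E = ⊥ ∨ E = ⊤ := by
      intro E
      have hSE : S ≤ E.toSubfield := by
        intro a ha
        exact E.algebraMap_mem ⟨a, ha⟩
      rcases hL'.le_iff.1 (subSL_mono hSE) with h | h
      · right
        rw [eq_top_iff]
        intro a _
        have : (⊤ : Subfield F) ≤ E.toSubfield := by
          apply le_of_subSL_le
          rw [h]
          exact le_top
        exact this (Subfield.mem_top a)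
      · left
        rw [eq_bot_iff]
        intro a ha
        have : a ∈ S := le_of_subSL_le h.le ha
        rw [IntermediateField.mem_bot]
        exact ⟨⟨a, this⟩, rfl⟩
    have hne : (⊥ : IntermediateField S F) ≠ ⊤ := by
      intro h
      apply hL'.1
      rw [eq_top_iff]
      intro g _
      rw [mem_subSL_iff]
      intro i j
      have : (g : M2) i j ∈ (⊥ : IntermediateField S F) := by
        rw [h]; exact IntermediateField.mem_top
      rw [IntermediateField.mem_bot] at this
      obtain ⟨s, hs⟩ := this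
      rw [← hs]
      exact s.2
    have hr := finrank_prime_of_simple S hE hne
    refine ⟨S, Module.finrank S F, hr, hS4, ?_, ⟨?_⟩⟩
    · haveI : Fintype S := Fintype.ofFinite S
      rw [Module.card_eq_pow_finrank (K := S) (V := F), Nat.card_eq_fintype_card]
    · exact ((L.equivMapOfInjective Θ.toMonoidHom Θ.injective).trans
        (MulEquiv.subgroupCongr hLS')).trans (subSLEquiv S).symm

end Cfsg.Agent.Lib.H5.PSL2MaxTwo

namespace Cfsg.Agent.Lib.H5.PSL2MaxTwo

/-- a ring isomorphism induces an isomorphism of special linear groups -/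
def slMapEquiv {R R' : Type*} [CommRing R] [CommRing R'] (f : R ≃+* R') :
    Matrix.SpecialLinearGroup (Fin 2) R ≃* Matrix.SpecialLinearGroup (Fin 2) R' where
  toFun := Matrix.SpecialLinearGroup.map (f : R →+* R')
  invFun := Matrix.SpecialLinearGroup.map (f.symm : R' →+* R)
  left_inv g := by
    apply Subtype.ext
    ext i j
    simp [Matrix.SpecialLinearGroup.map_apply_coe]
  right_inv g := by
    apply Subtype.ext
    ext i j
    simp [Matrix.SpecialLinearGroup.map_apply_coe]
  map_mul' := map_mul _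

/-- a copy in `Type` of a finite field -/
theorem exists_type0_copy (S : Type*) [Field S] [Finite S] :
    ∃ (F₀ : Type) (_ : Field F₀) (_ : Fintype F₀), Fintype.card F₀ = Nat.card S ∧
      Nonempty (S ≃+* F₀) := by
  haveI : Fintype S := Fintype.ofFinite S
  obtain ⟨p, hp⟩ := CharP.exists S
  haveI := hp
  obtain ⟨n, hpp, hn⟩ := FiniteField.card S p
  haveI : Fact p.Prime := ⟨hpp⟩
  haveI : Fintype (GaloisField p n) := Fintype.ofFinite _
  have hc : Fintype.card (GaloisField p n) = Fintype.card S := by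
    rw [hn, ← Nat.card_eq_fintype_card, GaloisField.card p n n.ne_zero]
  refine ⟨GaloisField p n, inferInstance, inferInstance, ?_, ⟨?_⟩⟩
  · rw [hc, Nat.card_eq_fintype_card]
  · exact FiniteField.ringEquivOfCardEq hc.symm

end Cfsg.Agent.Lib.H5.PSL2MaxTwo
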