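import Mathlib
import Cfsg.Agent.Lib.H5.PSL2MaxTwo
import Cfsg.Agent.Lib.H5.PSL2A5SqMax

/-!
# The minimal index of a proper subgroup of `PSL₂(q)` is `q + 1` (`q ∉ {2,3,5,7,9,11}`)
-/

set_option autoImplicit false
set_option linter.style.haveILetI false

namespace Cfsg.Agent.Lib.H5.PSL2MinIndex

open Matrix Cfsg.Agent.Lib.H12 Cfsg.Agent.Lib.H4.Dickson Cfsg.Agent.Lib.H5.DicksonTwo
  Cfsg.Agent.Lib.H5.PSL2Torus Cfsg.Agent.Lib.H5.PSL2Borel Cfsg.Agent.Lib.H5.PSL2MaxTwo

variable {F : Type*} [Field F] [Fintype F]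

local notation "SL2" => Matrix.SpecialLinearGroup (Fin 2) F
local notation "M2" => Matrix (Fin 2) (Fin 2) F
local notation "PSL2" => Matrix.ProjectiveSpecialLinearGroup (Fin 2) F

/-- the Borel subgroup of `SL₂(F)` has index `q + 1` -/
theorem index_borelSL : (borelSL F).index = Fintype.card F + 1 := by
  have h1 := (borelSL F).index_mul_card
  rw [card_borelSL, card_SL2] at h1
  have hq : 1 < Fintype.card F := Fintype.one_lt_card
  have h2 := PSL2A5SqMax.card_identity (Fintype.card F) (by omega)
  rw [← h2] at h1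
  have hpos : 0 < (Fintype.card F - 1) * Fintype.card F := Nat.mul_pos (by omega) (by omega)
  apply Nat.eq_of_mul_eq_mul_right hpos
  rw [h1]; ring

/-- the Borel subgroup of `PSL₂(F)` has index `q + 1` -/
theorem index_prB : (prB F).index = Fintype.card F + 1 := by
  rw [← index_borelSL, ← Subgroup.index_comap_of_surjective (prB F) (pr_surjective (F := F))]
  congr 1
  ext g
  rw [Subgroup.mem_comap, pr_mem_prB_iff]

/-- the normalizer of a Sylow `p`-subgroup of `PSL₂(F)` has index `q + 1` -/
theorem index_normalizer_sylow (p : ℕ) [Fact p.Prime] [CharP F p] (P : Sylow p PSL2) :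
    (Subgroup.normalizer ((P : Subgroup PSL2) : Set PSL2)).index = Fintype.card F + 1 := by
  obtain ⟨g, hg⟩ := MulAction.exists_smul_eq PSL2 (prUSylow (F := F) p) P
  have h1 : (P : Subgroup PSL2) = (prU F).map (MulAut.conj g).toMonoidHom := by
    rw [← hg, Sylow.coe_subgroup_smul, coe_prUSylow, Subgroup.pointwise_smul_def]
    rfl
  rw [h1, ← Subgroup.map_equiv_normalizer_eq, normalizer_prU]
  exact (Subgroup.index_map_equiv (prB F) (MulAut.conj g)).trans index_prB

/-- a bound on the order gives a bound on the index -/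
theorem le_index_of_card_mul_le {G : Type*} [Group G] [Finite G] (H : Subgroup G) (n : ℕ)
    (h : Nat.card H * n ≤ Nat.card G) : n ≤ H.index := by
  have h1 := H.card_mul_index
  rw [← h1] at h
  exact Nat.le_of_mul_le_mul_left h Nat.card_pos

/-- characteristic two -/
theorem le_index_even (h2 : (2 : F) = 0) (h4 : 4 ≤ Fintype.card F) (L : Subgroup SL2)
    (hL : L ≠ ⊤) : Fintype.card F + 1 ≤ L.index := by
  haveI : Fact (Nat.Prime 2) := ⟨Nat.prime_two⟩
  haveI := charP_two h2
  obtain ⟨q, hq⟩ : ∃ q, q = Fintype.card F := ⟨_, rfl⟩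
  rw [← hq] at h4 ⊢
  have hG : Nat.card SL2 = (1 + q) * (q * (q - 1)) := by
    rw [card_SL2, ← hq, PSL2A5SqMax.card_identity q (by omega)]
  have hqq : q + 1 ≤ q * (q - 1) := by
    obtain ⟨k, rfl⟩ : ∃ k, q = k + 4 := ⟨q - 4, by omega⟩
    have : k + 4 - 1 = k + 3 := by omega
    rw [this]; nlinarith
  have hqq2 : 2 * (q + 1) ≤ q * (q - 1) := by
    obtain ⟨k, rfl⟩ : ∃ k, q = k + 4 := ⟨q - 4, by omega⟩
    have : k + 4 - 1 = k + 3 := by omega
    rw [this]; nlinarith
  have key : ∀ n : ℕ, Nat.card L ≤ n → n ≤ q * (q - 1) → q + 1 ≤ L.index := by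
    intro n h1 h3
    apply le_index_of_card_mul_le
    rw [hG]
    calc Nat.card L * (q + 1) ≤ (q * (q - 1)) * (q + 1) :=
          Nat.mul_le_mul_right _ (h1.trans h3)
      _ = (1 + q) * (q * (q - 1)) := by ring
  have hdvd_le : ∀ n : ℕ, (n ∣ q - 1 ∨ n ∣ q + 1) → n ≤ q + 1 := by
    intro n hn
    rcases hn with h | h
    · have := Nat.le_of_dvd (by omega) h
      omega
    · exact Nat.le_of_dvd (by omega) h
  rcases classify2 h2 L with ⟨-, -, hd, -⟩ | ⟨heven, hsyl⟩ | ⟨x, hx, hcL, -, hd, -⟩ |
    ⟨Θ, S, hS4, hLS⟩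
  · rw [← hq] at hd
    exact key _ (hdvd_le _ hd) hqq
  · have hTI : SylCov.SylTI 2 SL2 := SL2Cov.sl2_sylTI (Or.inr h2)
    have h2dvd : 2 ∣ Nat.card L := even_iff_two_dvd.1 heven
    obtain ⟨P, hP⟩ := SylTITools.le_normalizer_of_card_sylow_eq_one hTI L h2dvd hsyl
    have h1 := Subgroup.card_le_of_le hP
    rw [SylTITools.card_normalizer_sylow 2 P, ← hq] at h1
    exact key _ h1 (by rw [mul_comm])
  · rw [← hq] at hd
    have := hdvd_le _ hd
    exact key _ (by rw [hcL]) (le_trans (Nat.mul_le_mul_left 2 this) hqq2)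
  · have hcL : Nat.card L = Nat.card S * (Nat.card S ^ 2 - 1) := by
      haveI : Fintype S := Fintype.ofFinite S
      have e1 : L ≃* subSL S :=
        (L.equivMapOfInjective Θ.toMonoidHom Θ.injective).trans (MulEquiv.subgroupCongr hLS)
      rw [Nat.card_congr e1.toEquiv, ← Nat.card_congr (subSLEquiv S).toEquiv, card_SL2,
        Nat.card_eq_fintype_card]
    obtain ⟨s, hs⟩ : ∃ s, s = Nat.card S := ⟨_, rfl⟩
    rw [← hs] at hcL hS4
    have hFS : q = s ^ Module.finrank S F := by
      haveI : Fintype S := Fintype.ofFinite S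
      rw [hq, hs, Module.card_eq_pow_finrank (K := S) (V := F), Nat.card_eq_fintype_card]
    have hlt : Nat.card L < Nat.card SL2 := by
      apply lt_of_le_of_ne (Subgroup.card_le_card_group L)
      intro h
      exact hL (Subgroup.eq_top_of_card_eq L h)
    rw [hcL, card_SL2, ← hq] at hlt
    have hsq : s < q := by
      by_contra hge
      push Not at hge
      have h1 : q ^ 2 - 1 ≤ s ^ 2 - 1 := Nat.sub_le_sub_right (Nat.pow_le_pow_left hge 2) 1
      have := Nat.mul_le_mul hge h1
      omega
    have hd2 : 2 ≤ Module.finrank S F := by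
      by_contra hlt'
      push Not at hlt'
      have : s ^ Module.finrank S F ≤ s ^ 1 :=
        Nat.pow_le_pow_right (by omega) (by omega)
      rw [← hFS, pow_one] at this
      omega
    have hs2 : s ^ 2 ≤ q := by
      rw [hFS]
      exact Nat.pow_le_pow_right (by omega) hd2
    apply key _ (le_of_eq hcL)
    apply Nat.mul_le_mul (by omega)
    exact Nat.sub_le_sub_right hs2 1

/-- the order of a proper subfield -/
theorem subfield_sq_le (S : Subfield F) (hlt : Nat.card S < Fintype.card F) :
    Nat.card S ^ 2 ≤ Fintype.card F := by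
  haveI : Fintype S := Fintype.ofFinite S
  have hFS : Fintype.card F = Nat.card S ^ Module.finrank S F := by
    rw [Module.card_eq_pow_finrank (K := S) (V := F), Nat.card_eq_fintype_card]
  have hs1 : 1 ≤ Nat.card S := Nat.card_pos
  have hd2 : 2 ≤ Module.finrank S F := by
    by_contra hlt'
    push Not at hlt'
    have : Nat.card S ^ Module.finrank S F ≤ Nat.card S ^ 1 :=
      Nat.pow_le_pow_right hs1 (by omega)
    rw [← hFS, pow_one] at this
    omega
  rw [hFS]
  exact Nat.pow_le_pow_right hs1 hd2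

/-- odd characteristic -/
theorem le_index_odd (p : ℕ) [Fact p.Prime] [CharP F p] (hodd : Odd (Fintype.card F))
    (h13 : 13 ≤ Fintype.card F) (H : Subgroup PSL2) (hH : H ≠ ⊤) :
    Fintype.card F + 1 ≤ H.index := by
  have hpp : p.Prime := Fact.out
  have h2F : (2 : F) ≠ 0 := two_ne_zero_of_odd hodd
  have hp2 : p ≠ 2 := by
    rintro rfl
    apply h2F
    have := CharP.cast_eq_zero F 2
    exact_mod_cast this
  obtain ⟨q, hq⟩ : ∃ q, q = Fintype.card F := ⟨_, rfl⟩
  have hG := PSL2PrimeMax.two_mul_card hodd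
  rw [← hq] at h13 hG ⊢
  have hid := PSL2A5SqMax.card_identity q (by omega)
  rw [← hid] at hG
  have hqq : 120 ≤ q * (q - 1) := by
    obtain ⟨k, rfl⟩ : ∃ k, q = k + 13 := ⟨q - 13, by omega⟩
    have : k + 13 - 1 = k + 12 := by omega
    rw [this]; nlinarith
  have hqq2 : 2 * (q + 1) ≤ q * (q - 1) := by
    obtain ⟨k, rfl⟩ : ∃ k, q = k + 13 := ⟨q - 13, by omega⟩
    have : k + 13 - 1 = k + 12 := by omega
    rw [this]; nlinarith
  -- it suffices to bound `2 |H|` by `q (q - 1)`
  have key : 2 * Nat.card H ≤ q * (q - 1) → q + 1 ≤ H.index := by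
    intro h
    apply le_index_of_card_mul_le
    have : 2 * (Nat.card H * (q + 1)) ≤ 2 * Nat.card PSL2 := by
      rw [hG]
      calc 2 * (Nat.card H * (q + 1)) = (2 * Nat.card H) * (q + 1) := by ring
        _ ≤ (q * (q - 1)) * (q + 1) := Nat.mul_le_mul_right _ h
        _ = (1 + q) * (q * (q - 1)) := by ring
    omega
  have hdvd_le : ∀ n : ℕ, (n ∣ q - 1 ∨ n ∣ q + 1) → n ≤ q + 1 := by
    intro n hn
    rcases hn with h | h
    · have := Nat.le_of_dvd (by omega) h
      omega
    · exact Nat.le_of_dvd (by omega) h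
  by_cases hpH : p ∣ Nat.card H
  · have hpos : 0 < Nat.card (Sylow p H) := Nat.card_pos
    rcases Nat.lt_or_ge 1 (Nat.card (Sylow p H)) with h1 | h1
    · have hneg : (-1 : SL2) ∈ H.comap pr := by
        rw [Subgroup.mem_comap, PSL2SubfieldMax.pr_neg_one]; exact H.one_mem
      have hL2 : 1 < Nat.card (Sylow p (H.comap (pr (F := F)))) := by
        have hs : Function.Surjective ((pr (F := F)).subgroupComap H) :=
          MonoidHom.subgroupComap_surjective_of_surjective pr H pr_surjective
        have := Nat.card_le_card_of_surjective _ (Sylow.mapSurjective_surjective hs p)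
        omega
      have hcL := PSL2SubfieldMax.card_comap_pr hodd H
      have hLtop : H.comap (pr (F := F)) ≠ ⊤ := by
        intro h
        apply hH
        rw [eq_top_iff]
        intro x _
        obtain ⟨g, rfl⟩ := pr_surjective x
        have : g ∈ H.comap pr := by rw [h]; exact Subgroup.mem_top _
        exact this
      have hlt : Nat.card (H.comap (pr (F := F))) < Nat.card SL2 := by
        apply lt_of_le_of_ne (Subgroup.card_le_card_group _)
        intro h
        exact hLtop (Subgroup.eq_top_of_card_eq _ h)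
      rw [card_SL2, ← hq, ← hid] at hlt
      rcases DicksonOddGen.card_of_two_sylow p hp2 (H.comap pr) hneg hL2 with ⟨S, hc⟩ | ⟨-, hc⟩
      · obtain ⟨s, hs⟩ : ∃ s, s = Nat.card S := ⟨_, rfl⟩
        rw [← hs] at hc
        have hs1 : 1 ≤ s := by rw [hs]; exact Nat.card_pos
        have hsq : s < q := by
          by_contra hge
          push Not at hge
          have h1 : q * (q - 1) ≤ s * (s - 1) := Nat.mul_le_mul hge (Nat.sub_le_sub_right hge 1)
          have h2 : (1 + q) * (q * (q - 1)) ≤ (1 + s) * (s * (s - 1)) :=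
            Nat.mul_le_mul (by omega) h1
          rcases hc with hc | hc
          · rw [hc] at hlt; omega
          · rw [hc] at hlt
            have : (1 + s) * (s * (2 * (s - 1))) = 2 * ((1 + s) * (s * (s - 1))) := by ring
            omega
        have hs2 : s ^ 2 ≤ q := by
          rw [hs, hq]
          apply subfield_sq_le
          rw [← hs, ← hq]; exact hsq
        -- `s ≥ 3`
        have hs3 : 2 * s ≤ q := by
          have hS3 : 3 ≤ s := by
            haveI : Fintype S := Fintype.ofFinite S
            haveI : CharP S p := Subfield.charP S p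
            obtain ⟨n, -, hn⟩ := FiniteField.card S p
            rw [hs, Nat.card_eq_fintype_card, hn]
            have hp3 : 3 ≤ p := by
              have := hpp.two_le
              omega
            calc 3 ≤ p := hp3
              _ = p ^ 1 := (pow_one p).symm
              _ ≤ p ^ (n : ℕ) := Nat.pow_le_pow_right hpp.pos n.pos
          nlinarith
        apply key
        rw [hcL] at hc
        have hid_s := PSL2A5SqMax.card_identity s hs1
        have hb : (1 + s) * (s * (s - 1)) ≤ s * (q - 1) := by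
          rw [hid_s]
          exact Nat.mul_le_mul_left _ (Nat.sub_le_sub_right hs2 1)
        have hb2 : 2 * (s * (q - 1)) ≤ q * (q - 1) := by
          calc 2 * (s * (q - 1)) = (2 * s) * (q - 1) := by ring
            _ ≤ q * (q - 1) := Nat.mul_le_mul_right _ hs3
        rcases hc with hc | hc
        · omega
        · have : (1 + s) * (s * (2 * (s - 1))) = 2 * ((1 + s) * (s * (s - 1))) := by ring
          omega
      · apply key
        rw [hcL] at hc
        omega
    · obtain ⟨P, hP⟩ := PSL2Borel.le_normalizer_of_card_sylow_eq_one p H hpH (by omega)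
      have h3 := Subgroup.index_dvd_of_le hP
      rw [index_normalizer_sylow p P, ← hq] at h3
      exact Nat.le_of_dvd (Nat.pos_of_ne_zero Subgroup.index_ne_zero_of_finite) h3
  · apply key
    rcases PSL2PPrime.classify_of_coprime p hodd H hpH with ⟨-, hd⟩ | ⟨k, hd, ⟨e⟩⟩ | ⟨⟨e⟩⟩ |
      ⟨⟨e⟩⟩ | ⟨⟨e⟩⟩
    · rw [← hq] at hd
      have := hdvd_le _ hd
      omega
    · rw [← hq] at hd
      have := hdvd_le _ hd
      rw [Nat.card_congr e.toEquiv, DihedralGroup.nat_card]
      omega
    · rw [Nat.card_congr e.toEquiv, PSL2PrimeMax.card_alt_four]; omega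
    · rw [Nat.card_congr e.toEquiv, PSL2PrimeMax.card_perm_four]; omega
    · rw [Nat.card_congr e.toEquiv, PSL2PrimeMax.card_alt_five]; omega

end Cfsg.Agent.Lib.H5.PSL2MinIndex
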