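import Mathlib
import Cfsg.Agent.Lib.H5.PSL2Subfield
import Cfsg.Agent.Lib.H5.PSL2Klein

set_option autoImplicit false

/-!
# `PGL₂(K)` inside `PSL₂(F)`
-/

namespace Cfsg.Agent.Lib.H5.PSL2Subfield

open Matrix Cfsg.Agent.Lib.H12

section

variable {F K : Type*} [Field F] [Field K] (ι : K →+* F)

theorem pglMap_injective :
    Function.Injective (Matrix.ProjGenLinGroup.map (n := Fin 2) ι) := by
  rw [injective_iff_map_eq_one]
  intro x hx
  induction x using Matrix.ProjGenLinGroup.induction_on with | mk g =>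
  rw [Matrix.ProjGenLinGroup.map_mk, Matrix.ProjGenLinGroup.mk_eq_one,
    Matrix.GeneralLinearGroup.center_eq_range_scalar] at hx
  obtain ⟨u, hu⟩ := hx
  have hent : ∀ i j : Fin 2, ι ((g : Matrix (Fin 2) (Fin 2) K) i j) = if i = j then (u : F) else 0 := by
    intro i j
    have := congrArg (fun M : GL (Fin 2) F => (M : Matrix (Fin 2) (Fin 2) F) i j) hu
    simp only [Matrix.GeneralLinearGroup.coe_scalar, Matrix.scalar_apply, Matrix.diagonal_apply] at this
    exact this.symm
  have h00 : (g : Matrix (Fin 2) (Fin 2) K) 0 0 ≠ 0 := by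
    intro h0
    have := hent 0 0
    rw [h0, map_zero, if_pos rfl] at this
    exact u.ne_zero this.symm
  rw [Matrix.ProjGenLinGroup.mk_eq_one, Matrix.GeneralLinearGroup.center_eq_range_scalar]
  refine ⟨Units.mk0 _ h00, ?_⟩
  apply Units.ext
  ext i j
  simp only [Matrix.GeneralLinearGroup.coe_scalar, Matrix.scalar_apply, Matrix.diagonal_apply,
    Units.val_mk0]
  apply ι.injective
  rw [hent i j]
  by_cases hij : i = j
  · rw [if_pos hij, if_pos hij, hent 0 0, if_pos rfl]
  · rw [if_neg hij, if_neg hij, map_zero]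

theorem pglMap_mem_range_toPGL (hsq : ∀ d : Kˣ, ∃ u : Fˣ, (u : F) ^ 2 = ι d)
    (x : Matrix.ProjGenLinGroup (Fin 2) K) :
    Matrix.ProjGenLinGroup.map ι x ∈
      (Matrix.ProjectiveSpecialLinearGroup.toPGL (n := Fin 2) (R := F)).range := by
  induction x using Matrix.ProjGenLinGroup.induction_on with | mk g =>
  obtain ⟨u, hu⟩ := hsq (Matrix.GeneralLinearGroup.det g)
  have hdet : (((u⁻¹ : Fˣ) : F) • (ι.mapMatrix (g : Matrix (Fin 2) (Fin 2) K))).det = 1 := by
    rw [Matrix.det_smul, Fintype.card_fin, ← RingHom.map_det]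
    have h1 : ι ((g : Matrix (Fin 2) (Fin 2) K).det) = (u : F) ^ 2 := by
      rw [hu]; rfl
    rw [h1, ← mul_pow, Units.inv_mul, one_pow]
  obtain ⟨h, hh⟩ : ∃ h : Matrix.SpecialLinearGroup (Fin 2) F, (h : Matrix (Fin 2) (Fin 2) F) =
      ((u⁻¹ : Fˣ) : F) • (ι.mapMatrix (g : Matrix (Fin 2) (Fin 2) K)) := ⟨⟨_, hdet⟩, rfl⟩
  refine ⟨QuotientGroup.mk h, ?_⟩
  rw [Matrix.ProjectiveSpecialLinearGroup.toPGL_mk, Matrix.ProjGenLinGroup.map_mk,
    Matrix.ProjGenLinGroup.mk_eq_mk_iff]
  refine ⟨u, ?_⟩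
  apply Units.ext
  rw [Units.val_mul, Matrix.GeneralLinearGroup.coe_scalar]
  show (h : Matrix (Fin 2) (Fin 2) F) * Matrix.scalar (Fin 2) (u : F) = _
  rw [hh, Matrix.scalar_apply, ← Matrix.smul_one_eq_diagonal, Matrix.mul_smul, Matrix.mul_one, smul_smul,
    Units.mul_inv, one_smul]
  rfl

/-- if every element of `K` is a square in `F` then `PGL₂(K)` embeds in `PSL₂(F)` -/
theorem exists_PGL (hsq : ∀ d : Kˣ, ∃ u : Fˣ, (u : F) ^ 2 = ι d) :
    ∃ H : Subgroup (Matrix.ProjectiveSpecialLinearGroup (Fin 2) F),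
      Nonempty (H ≃* Matrix.ProjGenLinGroup (Fin 2) K) := by
  obtain ⟨T, hT⟩ : ∃ T : Matrix.ProjectiveSpecialLinearGroup (Fin 2) F →* Matrix.ProjGenLinGroup (Fin 2) F,
    T = Matrix.ProjectiveSpecialLinearGroup.toPGL := ⟨_, rfl⟩
  have hTinj : Function.Injective T := by
    rw [hT]; exact Matrix.ProjectiveSpecialLinearGroup.toPGL_injective
  obtain ⟨φ, hφ⟩ : ∃ φ : Matrix.ProjGenLinGroup (Fin 2) K →* Matrix.ProjGenLinGroup (Fin 2) F,
    φ = Matrix.ProjGenLinGroup.map ι := ⟨_, rfl⟩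
  have hφinj : Function.Injective φ := by rw [hφ]; exact pglMap_injective ι
  have hle : φ.range ≤ T.range := by
    rintro _ ⟨x, rfl⟩
    rw [hφ, hT]
    exact pglMap_mem_range_toPGL ι hsq x
  refine ⟨φ.range.comap T, ⟨?_⟩⟩
  have h1 : (φ.range.comap T).map T = φ.range := by
    rw [Subgroup.map_comap_eq, inf_eq_right.mpr hle]
  exact ((φ.range.comap T).equivMapOfInjective T hTinj).trans
    ((MulEquiv.subgroupCongr h1).trans (MonoidHom.ofInjective hφinj).symm)

end

section Card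

variable {K : Type*} [Field K] [Fintype K]

theorem card_PGL :
    Nat.card (Matrix.ProjGenLinGroup (Fin 2) K) = Fintype.card K * (Fintype.card K ^ 2 - 1) := by
  classical
  have h1 := Subgroup.card_eq_card_quotient_mul_card_subgroup (Subgroup.center (GL (Fin 2) K))
  have h3 : Nat.card (Subgroup.center (GL (Fin 2) K)) = Fintype.card K - 1 := by
    rw [Matrix.GeneralLinearGroup.center_eq_range_scalar]
    have hinj : Function.Injective (Matrix.GeneralLinearGroup.scalar (Fin 2) (R := K)) := by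
      intro u v h
      have := congrArg (fun M : GL (Fin 2) K => (M : Matrix (Fin 2) (Fin 2) K) 0 0) h
      simp only [Matrix.GeneralLinearGroup.coe_scalar, Matrix.scalar_apply, Matrix.diagonal_apply_eq]
        at this
      exact Units.ext this
    rw [← Nat.card_congr (MonoidHom.ofInjective hinj).toEquiv, Nat.card_eq_fintype_card,
      Fintype.card_units]
  have h4 := card_GL_eq_card_SL_mul (n := Fin 2) (F := K)
  rw [card_SL2] at h4
  rw [h3, h4] at h1
  have hpos : 0 < Fintype.card K - 1 := by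
    have := Fintype.one_lt_card (α := K)
    omega
  have : Nat.card (Matrix.ProjGenLinGroup (Fin 2) K) =
      Nat.card (GL (Fin 2) K ⧸ Subgroup.center (GL (Fin 2) K)) := rfl
  rw [this]
  exact (Nat.eq_of_mul_eq_mul_right hpos h1).symm

end Card

section Arith

theorem exists_odd_factor (x : ℕ) (hx : Odd x) (j : ℕ) :
    ∃ S : ℕ, Odd S ∧ x ^ (2 * j + 1) - 1 = (x - 1) * S := by
  induction j with
  | zero => exact ⟨1, odd_one, by simp⟩
  | succ j ih =>
    obtain ⟨S, hS, hj⟩ := ih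
    refine ⟨x ^ 2 * S + x + 1, ?_, ?_⟩
    · have h1 : Odd (x ^ 2 * S) := (hx.pow).mul hS
      have h2 : Even (x ^ 2 * S + x) := h1.add_odd hx
      exact h2.add_one
    · have hx1 : 1 ≤ x := by
        rcases hx with ⟨k, rfl⟩; omega
      have hpow : 1 ≤ x ^ (2 * j + 1) := Nat.one_le_pow _ _ hx1
      have h3 : x ^ (2 * (j + 1) + 1) = x ^ 2 * x ^ (2 * j + 1) := by
        rw [← pow_add]; congr 1; ring
      have h4 : x ^ (2 * j + 1) = (x - 1) * S + 1 := by omega
      rw [h3, h4]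
      obtain ⟨y, rfl⟩ : ∃ y, x = y + 1 := ⟨x - 1, by omega⟩
      simp only [Nat.add_sub_cancel]
      have : (y + 1) ^ 2 * (y * S + 1) = y * ((y + 1) ^ 2 * S + (y + 1) + 1) + 1 := by ring
      rw [this]
      simp

end Arith

end Cfsg.Agent.Lib.H5.PSL2Subfield
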