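import Mathlib
import Cfsg.Agent.Lib.H5.DicksonOddGen
import Cfsg.Agent.Lib.H5.PSL2PPrime

/-!
# Subgroups of `SL₂(F)` with more than one Sylow `p`-subgroup: structural form

and the orders of the `p'`-elements of `SL₂(E)`.
-/

set_option autoImplicit false
set_option linter.style.haveILetI false

namespace Cfsg.Agent.Lib.H5.DicksonOddGen2

open Matrix Cfsg.Agent.Lib.H12 Cfsg.Agent.Lib.H4.Dickson Cfsg.Agent.Lib.H5.DicksonOddGen

section structure_

variable {F : Type*} [Field F] [Finite F]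

local notation "SL2" => Matrix.SpecialLinearGroup (Fin 2) F
local notation "M2" => Matrix (Fin 2) (Fin 2) F

variable (p : ℕ) [Fact p.Prime] [CharP F p]

/-- **Structure of subgroups of `SL₂(F)` with more than one Sylow `p`-subgroup**, `p` odd: up to
an automorphism `L` contains `SL₂(S)` with index one or two, or `p = 3` and `|L| = 120`. -/
theorem structure_of_two_sylow (hp : p ≠ 2) (L : Subgroup SL2) (hneg : (-1 : SL2) ∈ L)
    (h2 : 1 < Nat.card (Sylow p L)) :
    (∃ (Θ : SL2 ≃* SL2) (S : Subfield F),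
      (Matrix.SpecialLinearGroup.map (n := Fin 2) (S.subtype : ↥S →+* F)).range ≤
        L.map Θ.toMonoidHom ∧
      (Nat.card L = (1 + Nat.card S) * (Nat.card S * (Nat.card S - 1)) ∨
      Nat.card L = (1 + Nat.card S) * (Nat.card S * (2 * (Nat.card S - 1))))) ∨
    (p = 3 ∧ Nat.card L = 120) := by
  obtain ⟨x, y, v, w, hx, hy, hx1, hy1, hxv, hyw, hδ⟩ :=
    Cfsg.Agent.Lib.H1.DicksonBridge.exists_unipotent_pair (p := p) L h2
  obtain ⟨Θ, lam, hlam, hΘx, hΘy⟩ :=
    Cfsg.Agent.Lib.H1.DicksonBridge.exists_normal_form x y v w hx1 hy1 hxv hyw hδ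
  rw [ll_eq] at hΘx
  rw [uu_eq] at hΘy
  obtain ⟨L', hL'⟩ : ∃ L' : Subgroup SL2, L' = L.map Θ.toMonoidHom := ⟨_, rfl⟩
  have hcard : Nat.card L' = Nat.card L := by
    rw [hL']
    exact Nat.card_congr (L.equivMapOfInjective Θ.toMonoidHom Θ.injective).symm.toEquiv
  have hl1 : ll (1 : F) ∈ L' := by
    rw [hL', ← hΘx]; exact Subgroup.mem_map_of_mem _ hx
  have hul : uu lam ∈ L' := by
    rw [hL', ← hΘy]; exact Subgroup.mem_map_of_mem _ hy
  have hneg' : (-1 : SL2) ∈ L' := by
    rw [hL', ← equiv_neg_one p hp Θ]; exact Subgroup.mem_map_of_mem _ hneg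
  rw [← hcard]
  rcases dichotomy p hp hlam hul one_ne_zero hl1 with hidx | ⟨hq, hr, hidx⟩
  · left
    obtain ⟨S, -, -, hle, hc⟩ := generic_structure p hp hidx hlam hul hl1
    exact ⟨Θ, S, hL' ▸ hle, hc⟩
  · right
    have hA : IsPGroup p (Multiplicative (AA L')) := by
      intro a
      refine ⟨1, ?_⟩
      rw [pow_one]
      have : (p : ℕ) • (Multiplicative.toAdd a) = 0 := by
        apply Subtype.ext
        rw [AddSubgroup.coe_nsmul, nsmul_eq_mul, CharP.cast_eq_zero F p, zero_mul]
        rfl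
      exact congrArg Multiplicative.ofAdd this
    obtain ⟨k, hk⟩ := hA.exists_card_eq
    rw [Nat.card_congr (Multiplicative.toAdd), hq] at hk
    have hk0 : k ≠ 0 := by rintro rfl; simp at hk
    have hp3 : p = 3 := by
      have : p ∣ 3 := by rw [hk]; exact dvd_pow_self p hk0
      exact (Nat.prime_dvd_prime_iff_eq Fact.out Nat.prime_three).1 this
    subst hp3
    exact ⟨rfl, card_L_exc hq hr hidx hneg'⟩

end structure_

section order_

open Cfsg.Agent.Lib.H5.PSL2Torus Cfsg.Agent.Lib.H5.PSL2PPrime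

variable {E : Type*} [Field E] [Fintype E]

/-- the order of a `p'`-element of `SL₂(E)` divides `|E| - 1` or `|E| + 1` -/
theorem orderOf_dvd_of_not_dvd (p : ℕ) [Fact p.Prime] [CharP E p] (hodd : Odd (Fintype.card E))
    (c : Matrix.SpecialLinearGroup (Fin 2) E) (hc : ¬ p ∣ orderOf c) :
    orderOf c ∣ Fintype.card E - 1 ∨ orderOf c ∣ Fintype.card E + 1 := by
  by_cases hx : pr c = 1
  · left
    have hcen := (pr_eq_one_iff c).mp hx
    have h2 : orderOf c ∣ 2 := by
      apply orderOf_dvd_of_pow_eq_one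
      rcases sl2_center_cases c hcen with h | h
      · rw [h, one_pow]
      · rw [h]
        apply Subtype.ext
        simp
    obtain ⟨k, hk⟩ := hodd
    exact h2.trans ⟨k, by omega⟩
  · have hpx : ¬ p ∣ orderOf (pr c) := fun h => hc (h.trans (orderOf_map_dvd _ c))
    have hreg := isRegSS_of_not_dvd p hx hpx
    have ht := hreg c rfl
    obtain ⟨-, hsq, hnsq⟩ := regular_centralizer hodd c ht
    have hmem : c ∈ Subgroup.centralizer ({c} : Set (Matrix.SpecialLinearGroup (Fin 2) E)) := by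
      rw [Subgroup.mem_centralizer_singleton_iff]
    have hd := Subgroup.orderOf_dvd_natCard _ hmem
    by_cases hs : IsSquare ((c : Matrix (Fin 2) (Fin 2) E).trace ^ 2 - 4)
    · left; rw [← hsq hs]; exact hd
    · right; rw [← hnsq hs]; exact hd

end order_

end Cfsg.Agent.Lib.H5.DicksonOddGen2
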