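import Mathlib
import Cfsg.Agent.Lib.H5.PSL2PPrime
import Cfsg.Agent.Lib.H5.SylowIn
import Cfsg.Agent.Lib.H5.SubgroupCard
import Cfsg.Agent.Lib.H22.DihQuatRecog
import Cfsg.Agent.Lib.H12.SL2Ell
import Cfsg.Agent.Lib.H2.SL2CyclicSylow

/-!
# Normalizers of tori in `PSL₂(q)`, `q` odd

The normalizer of the torus `tb x` of a regular semisimple element `x` is dihedral of order
`2 |tb x|`; tori of both orders `(q - 1) / 2` and `(q + 1) / 2` exist.
-/

set_option autoImplicit false
set_option linter.style.haveILetI false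

namespace Cfsg.Agent.Lib.H5.PSL2DihOdd

open Matrix Cfsg.Agent.Lib.H12 Cfsg.Agent.Lib.H5.PSL2Klein Cfsg.Agent.Lib.H5.PSL2Torus
  Cfsg.Agent.Lib.H5

/-- recognition of a dihedral group from a cyclic subgroup of index two inverted by an
involution -/
theorem dihedral_of_index_two {G : Type*} [Group G] [Finite G] (T : Subgroup G) [IsCyclic T]
    (s : G) (hs : s ∉ T) (hss : s * s = 1) (hinv : ∀ y ∈ T, s * y * s⁻¹ = y⁻¹)
    (hG : Nat.card G = 2 * Nat.card T) :
    Nonempty (G ≃* DihedralGroup (Nat.card T)) := by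
  have hcpos : 0 < Nat.card T := Nat.card_pos
  haveI : NeZero (Nat.card T) := ⟨by omega⟩
  obtain ⟨r, hr⟩ := IsCyclic.exists_generator (α := T)
  have hr_ord : orderOf (r : G) = Nat.card T := by
    rw [Subgroup.orderOf_coe, orderOf_eq_card_of_forall_mem_zpowers hr]
  apply Cfsg.Agent.Lib.H22.dihedral_equiv_of_gens (Nat.card T) (r : G) s
  · rw [← hr_ord]; exact pow_orderOf_eq_one _
  · exact hss
  · exact hinv _ r.2
  · have hT : T ≤ Subgroup.closure ({(r : G), s} : Set G) := by
      intro y hy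
      obtain ⟨n, hn⟩ := Subgroup.mem_zpowers_iff.mp (hr ⟨y, hy⟩)
      have : y = (r : G) ^ n := by
        have := congrArg Subtype.val hn
        simpa using this.symm
      rw [this]
      exact zpow_mem (Subgroup.subset_closure (by simp)) n
    have hsC : s ∈ Subgroup.closure ({(r : G), s} : Set G) := Subgroup.subset_closure (by simp)
    have h1 : Nat.card T ∣ Nat.card (Subgroup.closure ({(r : G), s} : Set G)) :=
      Subgroup.card_dvd_of_le hT
    have h2 : Nat.card (Subgroup.closure ({(r : G), s} : Set G)) ∣ Nat.card G :=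
      Subgroup.card_subgroup_dvd_card _
    have h3 : Nat.card T < Nat.card (Subgroup.closure ({(r : G), s} : Set G)) := by
      have hlt : (T : Set G) ⊂ (Subgroup.closure ({(r : G), s} : Set G) : Set G) := by
        rw [Set.ssubset_iff_of_subset (fun y hy => hT hy)]
        exact ⟨s, hsC, hs⟩
      exact Set.ncard_lt_ncard hlt (Set.toFinite _)
    apply Subgroup.eq_top_of_card_eq
    rw [hG] at h2 ⊢
    obtain ⟨a, ha⟩ := h1
    obtain ⟨b, hb⟩ := h2
    rw [ha] at hb h3 ⊢
    have ha2 : 2 ≤ a := by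
      by_contra h
      push Not at h
      interval_cases a
      · omega
      · omega
    have hb1 : 1 ≤ b := by
      rcases Nat.eq_zero_or_pos b with h | h
      · subst h
        simp at hb
        omega
      · exact h
    have : 2 = a * b := by
      have : Nat.card T * 2 = Nat.card T * (a * b) := by
        rw [mul_comm, hb]; ring
      exact Nat.eq_of_mul_eq_mul_left hcpos this
    have hab : a = 2 := by nlinarith
    rw [hab]; ring
  · exact hG

variable {F : Type*} [Field F] [Fintype F]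

local notation "SL2" => Matrix.SpecialLinearGroup (Fin 2) F
local notation "M2" => Matrix (Fin 2) (Fin 2) F
local notation "PSL2" => Matrix.ProjectiveSpecialLinearGroup (Fin 2) F

theorem isRegSS_ne_one {x : PSL2} (hx : IsRegSS x) : x ≠ 1 := by
  rintro rfl
  apply hx 1 (map_one _)
  rw [Matrix.SpecialLinearGroup.coe_one, Matrix.trace_fin_two]
  simp only [Matrix.one_apply_eq]
  norm_num

/-- twice the order of a torus of `PSL₂` is the order of the centralizer in `SL₂` -/
theorem two_mul_card_torus (hodd : Odd (Fintype.card F)) (g : SL2) :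
    2 * Nat.card (torus g) = Nat.card (Subgroup.centralizer ({g} : Set SL2)) := by
  have h2 : (2 : F) ≠ 0 := two_ne_zero_of_odd hodd
  let f := (pr (F := F)).subgroupMap (Subgroup.centralizer ({g} : Set SL2))
  have hf : Function.Surjective f := MonoidHom.subgroupMap_surjective _ _
  have h1 := Subgroup.index_ker f
  rw [MonoidHom.range_eq_top.mpr hf, Subgroup.card_top] at h1
  have h3 := f.ker.card_mul_index
  have hker : Nat.card f.ker = 2 := by
    refine (Nat.card_congr ?_).trans (card_center h2)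
    refine
      { toFun := fun k => ⟨(k : ↥(Subgroup.centralizer ({g} : Set SL2))), ?_⟩
        invFun := fun z => ⟨⟨z.1, ?_⟩, ?_⟩
        left_inv := fun k => rfl
        right_inv := fun z => rfl }
    · have := k.2
      rw [MonoidHom.mem_ker] at this
      have h4 : pr ((k : ↥(Subgroup.centralizer ({g} : Set SL2))) : SL2) = 1 := by
        have := congrArg Subtype.val this
        simpa [f] using this
      exact (pr_eq_one_iff _).mp h4
    · rw [Subgroup.mem_centralizer_singleton_iff]
      exact (Subgroup.mem_center_iff.mp z.2 g).symm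
    · rw [MonoidHom.mem_ker]
      apply Subtype.ext
      simp only [f, MonoidHom.subgroupMap_apply_coe, Subgroup.coe_one]
      exact (pr_eq_one_iff _).mpr z.2
  rw [hker, h1] at h3
  exact h3

theorem card_torus_split (hodd : Odd (Fintype.card F)) {g : SL2} (ht : (g : M2).trace ^ 2 ≠ 4)
    (hs : IsSquare ((g : M2).trace ^ 2 - 4)) : 2 * Nat.card (torus g) = Fintype.card F - 1 := by
  rw [two_mul_card_torus hodd g]
  exact (regular_centralizer hodd g ht).2.1 hs

theorem card_torus_nonsplit (hodd : Odd (Fintype.card F)) {g : SL2}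
    (ht : (g : M2).trace ^ 2 ≠ 4) (hs : ¬ IsSquare ((g : M2).trace ^ 2 - 4)) :
    2 * Nat.card (torus g) = Fintype.card F + 1 := by
  rw [two_mul_card_torus hodd g]
  exact (regular_centralizer hodd g ht).2.2 hs

/-- membership in the normalizer of a torus -/
theorem mem_normalizer_tb_iff {x : PSL2} (hx1 : x ≠ 1) (a : PSL2) :
    a ∈ Subgroup.normalizer ((tb x : Subgroup PSL2) : Set PSL2) ↔ a * x * a⁻¹ ∈ tb x := by
  constructor
  · intro ha
    exact (Subgroup.mem_normalizer_iff.mp ha x).mp (self_mem_tb x)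
  · intro h
    have hy1 : a * x * a⁻¹ ≠ 1 := TP.conj_ne_one hx1
    have e : (tb x).map (MulAut.conj a).toMonoidHom = tb x := by
      rw [← tb_conj]; exact tb_eq_of_mem hx1 hy1 h
    rw [Subgroup.mem_normalizer_iff]
    intro y
    constructor
    · intro hy
      rw [← e]
      exact ⟨y, hy, rfl⟩
    · intro hy
      rw [← e, mem_map_conj_iff] at hy
      have : a⁻¹ * (a * y * a⁻¹) * a = y := by group
      rwa [this] at hy

theorem trace_inv (g : SL2) : ((g⁻¹ : SL2) : M2).trace = (g : M2).trace := by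
  rw [Matrix.SpecialLinearGroup.coe_inv, Matrix.adjugate_fin_two, Matrix.trace_fin_two,
    Matrix.trace_fin_two]
  simp only [Matrix.of_apply, Matrix.cons_val_zero, Matrix.cons_val_one]
  ring

/-- an involution inverting the torus -/
theorem exists_inverting (hodd : Odd (Fintype.card F)) {x : PSL2} (hx : IsRegSS x) :
    ∃ s : PSL2, s ∉ tb x ∧ s * x * s⁻¹ ∈ tb x ∧ s * s = 1 ∧ ∀ y ∈ tb x, s * y * s⁻¹ = y⁻¹ := by
  have h2 : (2 : F) ≠ 0 := two_ne_zero_of_odd hodd
  obtain ⟨g, rfl⟩ := pr_surjective x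
  have ht := hx g rfl
  have hti : ((g⁻¹ : SL2) : M2).trace ^ 2 ≠ 4 := by rw [trace_inv]; exact ht
  have hc : IsConj g g⁻¹ :=
    sl2_isConj_of_trace_regular hodd g g⁻¹ (nonScalar_of_trace_sq_ne _ hti) (trace_inv g).symm ht
  obtain ⟨α, hα⟩ := isConj_iff.mp hc
  have hmem : pr α * pr g * (pr α)⁻¹ ∈ tb (pr g) := by
    have e : pr α * pr g * (pr α)⁻¹ = pr (α * g * α⁻¹) := by simp
    rw [e, hα, map_inv]
    exact inv_mem (self_mem_tb _)
  have hnot : pr α ∉ tb (pr g) := by
    intro h
    rw [tb_pr, pr_mem_torus_iff, Subgroup.mem_centralizer_singleton_iff] at h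
    have hgg : g = g⁻¹ := by
      rw [← hα]
      calc g = g * α * α⁻¹ := by group
        _ = α * g * α⁻¹ := by rw [h]
    -- then `g` is `±1`
    have hM : (g : M2) = ((g⁻¹ : SL2) : M2) := congrArg _ hgg
    rw [Matrix.SpecialLinearGroup.coe_inv, Matrix.adjugate_fin_two] at hM
    have h00 := congrFun (congrFun hM 0) 0
    have h01 := congrFun (congrFun hM 0) 1
    have h10 := congrFun (congrFun hM 1) 0
    simp only [Matrix.of_apply, Matrix.cons_val_zero, Matrix.cons_val_one] at h00 h01 h10
    have hb : (g : M2) 0 1 = 0 := by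
      have : (2 : F) * (g : M2) 0 1 = 0 := by linear_combination h01
      exact (mul_eq_zero.mp this).resolve_left h2
    have hc' : (g : M2) 1 0 = 0 := by
      have : (2 : F) * (g : M2) 1 0 = 0 := by linear_combination h10
      exact (mul_eq_zero.mp this).resolve_left h2
    apply nonScalar_of_trace_sq_ne g ht
    exact ⟨hb, hc', h00⟩
  rcases conj_mem_cases hodd hx hmem with h | ⟨h1, h3⟩
  · exact absurd h hnot
  · exact ⟨pr α, hnot, hmem, h1, h3⟩

/-- the normalizer of a torus has twice its order -/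
theorem card_normalizer_tb (hodd : Odd (Fintype.card F)) {x : PSL2} (hx : IsRegSS x) :
    Nat.card (Subgroup.normalizer ((tb x : Subgroup PSL2) : Set PSL2)) = 2 * Nat.card (tb x) := by
  have hx1 := isRegSS_ne_one hx
  obtain ⟨s, hsT, hsx, -, -⟩ := exists_inverting hodd hx
  have hsN : s ∈ Subgroup.normalizer ((tb x : Subgroup PSL2) : Set PSL2) :=
    (mem_normalizer_tb_iff hx1 s).mpr hsx
  have hle : tb x ≤ Subgroup.normalizer ((tb x : Subgroup PSL2) : Set PSL2) :=
    Subgroup.le_normalizer
  have hrel : (tb x).relIndex (Subgroup.normalizer ((tb x : Subgroup PSL2) : Set PSL2)) = 2 := by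
    rw [Subgroup.relIndex, Subgroup.index_eq_two_iff]
    refine ⟨⟨s, hsN⟩, ?_⟩
    intro b
    simp only [Subgroup.mem_subgroupOf, Subgroup.coe_mul]
    by_cases hb : (b : PSL2) ∈ tb x
    · right
      refine ⟨hb, ?_⟩
      intro h
      apply hsT
      have e : s = (b : PSL2)⁻¹ * ((b : PSL2) * s) := by group
      rw [e]
      exact mul_mem (inv_mem hb) h
    · left
      refine ⟨?_, hb⟩
      exact mul_mem_of_inverting hodd hx ((mem_normalizer_tb_iff hx1 _).mp b.2) hb hsx hsT
  have := Cfsg.Agent.Lib.H5.card_mul_relIndex_of_le hle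
  rw [hrel] at this
  omega

/-- **the normalizer of a torus is dihedral** -/
theorem normalizer_tb_dihedral (hodd : Odd (Fintype.card F)) {x : PSL2} (hx : IsRegSS x) :
    Nonempty (↥(Subgroup.normalizer ((tb x : Subgroup PSL2) : Set PSL2)) ≃*
      DihedralGroup (Nat.card (tb x))) := by
  have hx1 := isRegSS_ne_one hx
  obtain ⟨s, hsT, hsx, hss, hinv⟩ := exists_inverting hodd hx
  have hsN : s ∈ Subgroup.normalizer ((tb x : Subgroup PSL2) : Set PSL2) :=
    (mem_normalizer_tb_iff hx1 s).mpr hsx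
  have hle : tb x ≤ Subgroup.normalizer ((tb x : Subgroup PSL2) : Set PSL2) :=
    Subgroup.le_normalizer
  haveI := isCyclic_tb hodd hx
  let e := Subgroup.subgroupOfEquivOfLe hle
  haveI : IsCyclic ↥((tb x).subgroupOf
      (Subgroup.normalizer ((tb x : Subgroup PSL2) : Set PSL2))) :=
    isCyclic_of_surjective e.symm e.symm.surjective
  have hcard : Nat.card ↥((tb x).subgroupOf
      (Subgroup.normalizer ((tb x : Subgroup PSL2) : Set PSL2))) = Nat.card (tb x) :=
    Nat.card_congr e.toEquiv
  rw [← hcard]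
  apply dihedral_of_index_two _ (⟨s, hsN⟩ : ↥(Subgroup.normalizer
    ((tb x : Subgroup PSL2) : Set PSL2)))
  · intro h
    exact hsT (Subgroup.mem_subgroupOf.mp h)
  · apply Subtype.ext
    exact hss
  · intro y hy
    apply Subtype.ext
    have := hinv (y : PSL2) (Subgroup.mem_subgroupOf.mp hy)
    simpa using this
  · rw [hcard]
    exact card_normalizer_tb hodd hx

/-- a split regular semisimple element of order `q - 1` -/
theorem exists_split (h4 : 4 ≤ Fintype.card F) :
    ∃ g : SL2, (g : M2).trace ^ 2 ≠ 4 ∧ IsSquare ((g : M2).trace ^ 2 - 4) ∧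
      orderOf g = Fintype.card F - 1 := by
  obtain ⟨a, ha⟩ := IsCyclic.exists_generator (α := Fˣ)
  have hoa : orderOf a = Fintype.card F - 1 := by
    rw [orderOf_eq_card_of_forall_mem_zpowers ha, Nat.card_units, Nat.card_eq_fintype_card]
  have hog : orderOf (Cfsg.Agent.Lib.H2.SL2Cyc.dHom F a) = Fintype.card F - 1 := by
    rw [orderOf_injective _ Cfsg.Agent.Lib.H2.SL2Cyc.dHom_injective, hoa]
  have ha2 : (a : F) ^ 2 ≠ 1 := by
    intro h
    have h1 : a ^ 2 = 1 := by
      apply Units.ext
      rw [Units.val_pow_eq_pow_val, h, Units.val_one]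
    have := orderOf_dvd_of_pow_eq_one h1
    rw [hoa] at this
    have := Nat.le_of_dvd (by norm_num) this
    omega
  have hinv : ((a⁻¹ : Fˣ) : F) = (a : F)⁻¹ := Units.val_inv_eq_inv_val a
  have ha0 : (a : F) ≠ 0 := a.ne_zero
  have htr : ((Cfsg.Agent.Lib.H2.SL2Cyc.dHom F a : SL2) : M2).trace = (a : F) + (a : F)⁻¹ := by
    show ((Cfsg.Agent.Lib.H2.SL2Cyc.dSL a : SL2) : M2).trace = _
    rw [Cfsg.Agent.Lib.H2.SL2Cyc.dSL_val, Matrix.trace_fin_two, hinv]
    simp
  refine ⟨Cfsg.Agent.Lib.H2.SL2Cyc.dHom F a, ?_, ?_, hog⟩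
  · rw [htr]
    intro h
    apply ha2
    have h1 : ((a : F) ^ 2 - 1) ^ 2 = 0 := by
      have : ((a : F) + (a : F)⁻¹) ^ 2 * (a : F) ^ 2 = 4 * (a : F) ^ 2 := by rw [h]
      have h3 : ((a : F) + (a : F)⁻¹) * (a : F) = (a : F) ^ 2 + 1 := by field_simp
      have h4 : ((a : F) + (a : F)⁻¹) ^ 2 * (a : F) ^ 2 = ((a : F) ^ 2 + 1) ^ 2 := by
        rw [← h3]; ring
      rw [h4] at this
      linear_combination this
    have := pow_eq_zero_iff (two_ne_zero) |>.mp h1
    linear_combination this
  · rw [htr]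
    refine ⟨(a : F) - (a : F)⁻¹, ?_⟩
    field_simp
    ring

/-- a non-split regular semisimple element -/
theorem exists_nonsplit (hodd : Odd (Fintype.card F)) :
    ∃ g : SL2, (g : M2).trace ^ 2 ≠ 4 ∧ ¬ IsSquare ((g : M2).trace ^ 2 - 4) := by
  have h2 : (2 : F) ≠ 0 := two_ne_zero_of_odd hodd
  obtain ⟨t, ht⟩ := exists_noRoot (F := F)
  have htr : ((sl2Comp t : SL2) : M2).trace = t := by
    rw [sl2Comp_val, compMat, Matrix.trace_fin_two]
    simp
  have hns : ¬ IsSquare (t ^ 2 - 4) := by
    rintro ⟨c, hc⟩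
    apply ht ((t + c) / 2)
    field_simp
    linear_combination -hc
  refine ⟨sl2Comp t, ?_, ?_⟩
  · rw [htr]
    intro h
    apply hns
    rw [h, sub_self]
    exact ⟨0, by ring⟩
  · rw [htr]; exact hns

end Cfsg.Agent.Lib.H5.PSL2DihOdd
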