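import Mathlib
import Cfsg.Agent.Lib.H5.PSL2DihOdd
import Cfsg.Agent.Lib.H5.DicksonOddGen2
import Cfsg.Agent.Lib.H5.PSL2MinIndex
import Cfsg.Agent.Lib.H5.PSL2MaxTwo

/-!
# The normalizers of the tori of `PSL₂(q)`, `q` odd, are maximal

(with the classical exceptions `q = 7, 9` for the non-split torus and `q ≤ 11` for the split one)
-/

set_option autoImplicit false
set_option linter.style.haveILetI false

namespace Cfsg.Agent.Lib.H5.PSL2DihOddMax

open Matrix Cfsg.Agent.Lib.H12 Cfsg.Agent.Lib.H5.PSL2Klein Cfsg.Agent.Lib.H5.PSL2Torus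
  Cfsg.Agent.Lib.H5 Cfsg.Agent.Lib.H5.PSL2DihOdd

section small

set_option maxRecDepth 100000 in
theorem perm4_pow : ∀ g : Equiv.Perm (Fin 4), g ^ 4 = 1 ∨ g ^ 3 = 1 := by decide

set_option maxRecDepth 100000 in
theorem alt5_pow : ∀ g : Equiv.Perm (Fin 5), Equiv.Perm.sign g = 1 →
    (g ^ 2 = 1 ∨ g ^ 3 = 1 ∨ g ^ 5 = 1) := by decide

set_option maxRecDepth 100000 in
theorem alt4_inv : ∀ a b : Equiv.Perm (Fin 4), Equiv.Perm.sign a = 1 → Equiv.Perm.sign b = 1 →
    a * b * a⁻¹ = b⁻¹ → b * b = 1 := by decide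

theorem orderOf_perm4_le (g : Equiv.Perm (Fin 4)) : orderOf g ≤ 4 := by
  rcases perm4_pow g with h | h
  · exact Nat.le_of_dvd (by norm_num) (orderOf_dvd_of_pow_eq_one h)
  · have := Nat.le_of_dvd (by norm_num) (orderOf_dvd_of_pow_eq_one h)
    omega

theorem orderOf_alt5_le (g : alternatingGroup (Fin 5)) : orderOf g ≤ 5 := by
  rw [← Subgroup.orderOf_coe]
  rcases alt5_pow (g : Equiv.Perm (Fin 5)) (Equiv.Perm.mem_alternatingGroup.mp g.2) with h | h | h
  · have := Nat.le_of_dvd (by norm_num) (orderOf_dvd_of_pow_eq_one h)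
    omega
  · have := Nat.le_of_dvd (by norm_num) (orderOf_dvd_of_pow_eq_one h)
    omega
  · exact Nat.le_of_dvd (by norm_num) (orderOf_dvd_of_pow_eq_one h)

/-- elements of `A₄`, `S₄`, `A₅` have order at most `5` -/
theorem orderOf_le_five {M : Type*} [Group M]
    (h : Nonempty (M ≃* alternatingGroup (Fin 4)) ∨ Nonempty (M ≃* Equiv.Perm (Fin 4)) ∨
      Nonempty (M ≃* alternatingGroup (Fin 5))) (y : M) : orderOf y ≤ 5 := by
  rcases h with ⟨⟨e⟩⟩ | ⟨⟨e⟩⟩ | ⟨⟨e⟩⟩
  · rw [← e.orderOf_eq y, ← Subgroup.orderOf_coe]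
    have := orderOf_perm4_le ((e y : alternatingGroup (Fin 4)) : Equiv.Perm (Fin 4))
    omega
  · rw [← e.orderOf_eq y]
    have := orderOf_perm4_le (e y)
    omega
  · rw [← e.orderOf_eq y]
    exact orderOf_alt5_le _

end small

variable {F : Type*} [Field F] [Fintype F]

local notation "SL2" => Matrix.SpecialLinearGroup (Fin 2) F
local notation "M2" => Matrix (Fin 2) (Fin 2) F
local notation "PSL2" => Matrix.ProjectiveSpecialLinearGroup (Fin 2) F

theorem isRegSS_pr {g : SL2} (ht : (g : M2).trace ^ 2 ≠ 4) : IsRegSS (pr g) := by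
  intro g' hg'
  rcases (pr_eq_pr_iff g' g).mp hg' with h | h
  · rw [← h]; exact ht
  · have : g' = -g := by rw [h, neg_neg]
    rw [this, Matrix.SpecialLinearGroup.coe_neg, Matrix.trace_neg, neg_sq]
    exact ht

variable (p : ℕ) [Fact p.Prime] [CharP F p]

theorem char_dvd_card : p ∣ Fintype.card F := by
  obtain ⟨n, -, hn⟩ := FiniteField.card F p
  rw [hn]
  exact dvd_pow_self p n.ne_zero

theorem char_eq_of_card_prime {r : ℕ} (hr : r.Prime) (hF : Fintype.card F = r) : p = r := by
  have := char_dvd_card (F := F) p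
  rw [hF] at this
  exact (Nat.prime_dvd_prime_iff_eq Fact.out hr).mp this

/-- overgroups of order prime to `p` -/
theorem coprime_overgroup (hodd : Odd (Fintype.card F)) {x : PSL2} (hx : IsRegSS x)
    (M : Subgroup PSL2)
    (hNM : Subgroup.normalizer ((tb x : Subgroup PSL2) : Set PSL2) ≤ M)
    (hlt : 2 * Nat.card (tb x) < Nat.card M) (hpM : ¬ p ∣ Nat.card M)
    (hq : (2 * Nat.card (tb x) = Fintype.card F + 1 ∧ Fintype.card F ≠ 7 ∧ Fintype.card F ≠ 9) ∨
      (2 * Nat.card (tb x) = Fintype.card F - 1 ∧ 13 ≤ Fintype.card F)) : False := by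
  have hx1 := isRegSS_ne_one hx
  have hq2 : 2 ≤ Fintype.card F := Fintype.one_lt_card
  obtain ⟨q, hqdef⟩ : ∃ q, q = Fintype.card F := ⟨_, rfl⟩
  obtain ⟨n, hndef⟩ : ∃ n, n = Nat.card (tb x) := ⟨_, rfl⟩
  rw [← hqdef] at hq hq2
  rw [← hndef] at hq hlt
  have hoddq : Odd q := hqdef ▸ hodd
  have hcN := card_normalizer_tb hodd hx
  rw [← hndef] at hcN
  have hdvd : 2 * n ∣ Nat.card M := by
    rw [← hcN]; exact Subgroup.card_dvd_of_le hNM
  have h4n : 4 * n ≤ Nat.card M := by
    obtain ⟨c, hc⟩ := hdvd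
    rw [hc] at hlt ⊢
    have : 2 ≤ c := by
      by_contra h
      push Not at h
      interval_cases c <;> omega
    nlinarith
  have hTM : tb x ≤ M := le_trans Subgroup.le_normalizer hNM
  rcases PSL2PPrime.classify_of_coprime p hodd M hpM with ⟨-, hd⟩ | ⟨k, hd, ⟨e⟩⟩ | h3
  · rw [← hqdef] at hd
    have : 2 * Nat.card M ≤ q + 1 := by
      rcases hd with h | h
      · have := Nat.le_of_dvd (by obtain ⟨k, hk⟩ := hoddq; omega) h
        omega
      · exact Nat.le_of_dvd (by omega) h
    obtain ⟨k, hk⟩ := hoddq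
    omega
  · rw [← hqdef] at hd
    have hcM : Nat.card M = 2 * k := by
      rw [Nat.card_congr e.toEquiv, DihedralGroup.nat_card]
    have : 2 * k ≤ q + 1 := by
      rcases hd with h | h
      · have := Nat.le_of_dvd (by obtain ⟨k, hk⟩ := hoddq; omega) h
        omega
      · exact Nat.le_of_dvd (by omega) h
    obtain ⟨j, hj⟩ := hoddq
    omega
  · -- `A₄`, `S₄`, `A₅`
    haveI := isCyclic_tb hodd hx
    obtain ⟨r, hr⟩ := IsCyclic.exists_generator (α := tb x)
    have hr_ord : orderOf (r : PSL2) = n := by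
      rw [Subgroup.orderOf_coe, orderOf_eq_card_of_forall_mem_zpowers hr, hndef]
    have hrM : (r : PSL2) ∈ M := hTM r.2
    have hn5 : n ≤ 5 := by
      have := orderOf_le_five h3 (⟨(r : PSL2), hrM⟩ : ↥M)
      rw [Subgroup.orderOf_mk, hr_ord] at this
      exact this
    rcases hq with ⟨hq, h7, h9⟩ | ⟨hq, h13⟩
    swap
    · omega
    have hq35 : q = 3 ∨ q = 5 := by
      obtain ⟨j, hj⟩ := hoddq
      omega
    have hG := PSL2PrimeMax.two_mul_card hodd
    rw [← hqdef] at hG
    have hMG : Nat.card M ∣ Nat.card PSL2 := Subgroup.card_subgroup_dvd_card M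
    rcases hq35 with h | h
    · have hp3 : p = 3 := char_eq_of_card_prime p Nat.prime_three (hqdef ▸ h)
      apply hpM
      rw [hp3]
      rcases h3 with ⟨⟨e⟩⟩ | ⟨⟨e⟩⟩ | ⟨⟨e⟩⟩
      · rw [Nat.card_congr e.toEquiv, PSL2PrimeMax.card_alt_four]; norm_num
      · rw [Nat.card_congr e.toEquiv, PSL2PrimeMax.card_perm_four]; norm_num
      · rw [Nat.card_congr e.toEquiv, PSL2PrimeMax.card_alt_five]; norm_num
    · have hp5 : p = 5 := char_eq_of_card_prime p (by norm_num) (hqdef ▸ h)
      have hG60 : Nat.card PSL2 = 60 := by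
        rw [h] at hG
        norm_num at hG
        omega
      rcases h3 with ⟨⟨e⟩⟩ | ⟨⟨e⟩⟩ | ⟨⟨e⟩⟩
      · -- `A₄` contains no `S₃`
        obtain ⟨s, hsT, hsx, hss, hinv⟩ := exists_inverting hodd hx
        have hsN : s ∈ Subgroup.normalizer ((tb x : Subgroup PSL2) : Set PSL2) :=
          (mem_normalizer_tb_iff hx1 s).mpr hsx
        have hsM : s ∈ M := hNM hsN
        have hrel : (⟨s, hsM⟩ : ↥M) * ⟨(r : PSL2), hrM⟩ * (⟨s, hsM⟩ : ↥M)⁻¹ =
            (⟨(r : PSL2), hrM⟩ : ↥M)⁻¹ := by
          apply Subtype.ext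
          exact hinv _ r.2
        have hrel' := congrArg e hrel
        rw [map_mul, map_mul, map_inv, map_inv] at hrel'
        have hrel'' := congrArg (Subtype.val) hrel'
        simp only [Subgroup.coe_mul, Subgroup.coe_inv] at hrel''
        have hbb := alt4_inv _ _ (Equiv.Perm.mem_alternatingGroup.mp (e ⟨s, hsM⟩).2)
          (Equiv.Perm.mem_alternatingGroup.mp (e ⟨(r : PSL2), hrM⟩).2) hrel''
        have hbb' : e ⟨(r : PSL2), hrM⟩ * e ⟨(r : PSL2), hrM⟩ = 1 := Subtype.ext hbb
        rw [← map_mul] at hbb'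
        have hrr : (⟨(r : PSL2), hrM⟩ : ↥M) * ⟨(r : PSL2), hrM⟩ = 1 :=
          e.injective (by rw [hbb', map_one])
        have hrr' : (r : PSL2) ^ 2 = 1 := by
          rw [sq]
          exact congrArg Subtype.val hrr
        have := orderOf_dvd_of_pow_eq_one hrr'
        rw [hr_ord] at this
        have := Nat.le_of_dvd (by norm_num) this
        omega
      · rw [Nat.card_congr e.toEquiv, PSL2PrimeMax.card_perm_four, hG60] at hMG
        norm_num at hMG
      · apply hpM
        rw [hp5, Nat.card_congr e.toEquiv, PSL2PrimeMax.card_alt_five]; norm_num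

/-- overgroups with a unique Sylow `p`-subgroup -/
theorem pclosed_overgroup (hodd : Odd (Fintype.card F)) (M : Subgroup PSL2)
    (hpM : p ∣ Nat.card M) (h1 : Nat.card (Sylow p M) = 1) (n : ℕ) (hn : 2 * n ∣ Nat.card M)
    (hq : 2 * n = Fintype.card F + 1 ∨ 2 * n = Fintype.card F - 1) : False := by
  have hq2 : 2 ≤ Fintype.card F := Fintype.one_lt_card
  obtain ⟨P, hP⟩ := PSL2Borel.le_normalizer_of_card_sylow_eq_one p M hpM h1
  have hidx := PSL2MinIndex.index_normalizer_sylow p P
  have hG := PSL2PrimeMax.two_mul_card hodd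
  obtain ⟨q, hqdef⟩ : ∃ q, q = Fintype.card F := ⟨_, rfl⟩
  rw [← hqdef] at hq hq2 hG hidx
  have hoddq : Odd q := hqdef ▸ hodd
  have hid := PSL2A5SqMax.card_identity q (by omega)
  rw [← hid] at hG
  have hmul := Subgroup.card_mul_index
    (Subgroup.normalizer ((P : Subgroup PSL2) : Set PSL2))
  rw [hidx] at hmul
  obtain ⟨B, hB⟩ : ∃ B, B = Nat.card (Subgroup.normalizer ((P : Subgroup PSL2) : Set PSL2)) :=
    ⟨_, rfl⟩
  rw [← hB] at hmul
  have hB2 : 2 * B = q * (q - 1) := by
    have : (q + 1) * (2 * B) = (q + 1) * (q * (q - 1)) := by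
      rw [← hmul] at hG
      rw [← add_comm 1 q] at hG ⊢
      linarith
    exact Nat.eq_of_mul_eq_mul_left (by omega) this
  have hMB : Nat.card M ∣ B := hB ▸ Subgroup.card_dvd_of_le hP
  obtain ⟨c, hc⟩ := hn.trans hMB
  rw [hc] at hB2
  obtain ⟨m, rfl⟩ : ∃ m, q = m + 2 := ⟨q - 2, by omega⟩
  have e1 : m + 2 - 1 = m + 1 := by omega
  rw [e1] at hB2 hq
  rcases hq with h | h
  · rw [h] at hB2
    have hd : (m + 2 + 1) ∣ 2 := by
      have h1 : (m + 2 + 1) ∣ (m + 2) * (m + 1) := ⟨2 * c, by rw [← hB2]; ring⟩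
      have h2 : (m + 2 + 1) ∣ (m + 2 + 1) * m := dvd_mul_right _ _
      have h3 : (m + 2) * (m + 1) - (m + 2 + 1) * m = 2 := by
        have : (m + 2) * (m + 1) = (m + 2 + 1) * m + 2 := by ring
        omega
      have h4 := Nat.dvd_sub h1 h2
      rwa [h3] at h4
    have := Nat.le_of_dvd (by norm_num) hd
    omega
  · rw [h] at hB2
    have : 2 * c = m + 2 := by
      have : (m + 1) * (2 * c) = (m + 1) * (m + 2) := by
        rw [← mul_comm (m + 2)]; rw [← hB2]; ring
      exact Nat.eq_of_mul_eq_mul_left (by omega) this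
    obtain ⟨j, hj⟩ := hoddq
    omega

theorem map_subtype_injective (S : Subfield F) : Function.Injective
    (Matrix.SpecialLinearGroup.map (n := Fin 2) (S.subtype : ↥S →+* F)) := by
  intro x y hxy
  apply Subtype.ext
  ext i j
  have := congrArg (fun z : SL2 => (z : M2) i j) hxy
  simp only [Matrix.SpecialLinearGroup.map_apply_coe, RingHom.mapMatrix_apply,
    Matrix.map_apply] at this
  exact this

/-- overgroups with more than one Sylow `p`-subgroup -/
theorem generic_overgroup (hodd : Odd (Fintype.card F)) (M : Subgroup PSL2) (hM : M ≠ ⊤)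
    (h2 : 1 < Nat.card (Sylow p (M.comap (pr (F := F))))) {g : SL2} (hgM : pr g ∈ M)
    (n : ℕ) (hn : 2 * n ∣ Nat.card M)
    (hq : (2 * n = Fintype.card F + 1 ∧ Fintype.card F ≠ 9) ∨
      (2 * n = Fintype.card F - 1 ∧ 13 ≤ Fintype.card F ∧ orderOf g = Fintype.card F - 1)) :
    False := by
  have hpp : p.Prime := Fact.out
  have h2F : (2 : F) ≠ 0 := two_ne_zero_of_odd hodd
  have hp2 : p ≠ 2 := by
    rintro rfl
    apply h2F
    have := CharP.cast_eq_zero F 2
    exact_mod_cast this
  have hq2 : 2 ≤ Fintype.card F := Fintype.one_lt_card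
  obtain ⟨q, hqdef⟩ : ∃ q, q = Fintype.card F := ⟨_, rfl⟩
  have hG := PSL2PrimeMax.two_mul_card hodd
  rw [← hqdef] at hq hq2 hG
  have hoddq : Odd q := hqdef ▸ hodd
  have hid := PSL2A5SqMax.card_identity q (by omega)
  rw [← hid] at hG
  have hpq : p ∣ q := hqdef ▸ char_dvd_card p
  have hneg : (-1 : SL2) ∈ M.comap pr := by
    rw [Subgroup.mem_comap, PSL2SubfieldMax.pr_neg_one]; exact M.one_mem
  have hcL := PSL2SubfieldMax.card_comap_pr hodd M
  have hMle : Nat.card M ≤ Nat.card PSL2 := Subgroup.card_le_card_group M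
  have hMlt : Nat.card M < Nat.card PSL2 := by
    apply lt_of_le_of_ne hMle
    intro h
    exact hM (Subgroup.eq_top_of_card_eq _ h)
  have hcop1 : Nat.Coprime p (q + 1) := by
    rw [Nat.Prime.coprime_iff_not_dvd hpp]
    intro h
    have : p ∣ 1 := (Nat.dvd_add_right hpq).mp h
    exact hpp.one_lt.ne' (Nat.dvd_one.mp this)
  have hnd2 : ¬ p ∣ q - 1 := by
    intro h
    have h' : p ∣ (q - 1) + 1 := by rw [Nat.sub_add_cancel (by omega)]; exact hpq
    have : p ∣ 1 := (Nat.dvd_add_right h).mp h'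
    exact hpp.one_lt.ne' (Nat.dvd_one.mp this)
  have hcop2 : Nat.Coprime p (q - 1) := (Nat.Prime.coprime_iff_not_dvd hpp).mpr hnd2
  rcases DicksonOddGen2.structure_of_two_sylow p hp2 (M.comap pr) hneg h2 with
    ⟨Θ, S, hle, hc⟩ | ⟨h3, hc⟩
  · haveI : Fintype S := Fintype.ofFinite S
    haveI : CharP S p := Subfield.charP S p
    obtain ⟨m, -, hm⟩ := FiniteField.card S p
    obtain ⟨s, hs⟩ : ∃ s, s = Nat.card S := ⟨_, rfl⟩
    have hsp : s = p ^ (m : ℕ) := by rw [hs, Nat.card_eq_fintype_card, hm]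
    have hodds : Odd s := by
      rw [hsp]; exact (hpp.odd_of_ne_two hp2).pow
    have hs3 : 3 ≤ s := by
      rw [hsp]
      have hp3 : 3 ≤ p := by have := hpp.two_le; omega
      calc 3 ≤ p := hp3
        _ = p ^ 1 := (pow_one p).symm
        _ ≤ p ^ (m : ℕ) := Nat.pow_le_pow_right hpp.pos m.pos
    have hcs1 : Nat.Coprime (q + 1) s := by
      rw [hsp]; exact (Nat.Coprime.pow_left _ hcop1).symm
    have hcs2 : Nat.Coprime (q - 1) s := by
      rw [hsp]; exact (Nat.Coprime.pow_left _ hcop2).symm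
    have hsle : s ≤ q := by
      rw [hs, hqdef, ← Nat.card_eq_fintype_card (α := F)]
      exact Nat.card_le_card_of_injective _ Subtype.val_injective
    rw [← hs] at hc
    have hid_s := PSL2A5SqMax.card_identity s (by omega)
    rcases Nat.lt_or_ge s q with hslt | hsge
    swap
    · have hsq : s = q := le_antisymm hsle hsge
      rw [hsq, hcL] at hc
      rcases hc with hc | hc
      · omega
      · have : (1 + q) * (q * (2 * (q - 1))) = 2 * ((1 + q) * (q * (q - 1))) := by ring
        omega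
    have hs2 : s ^ 2 ≤ q := by
      rw [hs, hqdef]
      apply PSL2MinIndex.subfield_sq_le
      rw [← hs, ← hqdef]; exact hslt
    obtain ⟨W, hW⟩ : ∃ W, W = s ^ 2 - 1 := ⟨_, rfl⟩
    have hs9 : 9 ≤ s ^ 2 := by nlinarith
    have hWpos : 0 < W := by rw [hW]; omega
    have hWle : W ≤ q - 1 := by rw [hW]; omega
    have hid_s1 : (1 + s) * (s * (s - 1)) = s * W := by rw [hid_s, hW]
    have hid_s2 : (1 + s) * (s * (2 * (s - 1))) = 2 * (s * W) := by
      rw [← hid_s1]; ring
    rw [hid_s2, hid_s1] at hc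
    have hdvd : 2 * n ∣ W * s := by
      rw [mul_comm W s]
      rcases hc with hc | hc
      · have : 2 * Nat.card M = s * W := by rw [← hcL, hc]
        rw [← this]
        exact dvd_mul_of_dvd_right hn 2
      · have : Nat.card M = s * W := by omega
        rw [← this]; exact hn
    rcases hq with ⟨hq, h9⟩ | ⟨hq, h13, hord⟩
    · rw [hq] at hdvd
      have := Nat.le_of_dvd hWpos (hcs1.dvd_of_dvd_mul_right hdvd)
      omega
    · rw [hq] at hdvd
      have hWq : W = q - 1 :=
        le_antisymm hWle (Nat.le_of_dvd hWpos (hcs2.dvd_of_dvd_mul_right hdvd))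
      have hsq : s ^ 2 = q := by omega
      rcases hc with hc | hc
      · exfalso
        obtain ⟨c, hc'⟩ := hn
        have h1 : 2 * Nat.card M = s * W := by rw [← hcL, hc]
        rw [hc', hq, hWq] at h1
        have : 2 * c = s := by
          have : (q - 1) * (2 * c) = (q - 1) * s := by rw [mul_comm (q - 1) s, ← h1]; ring
          exact Nat.eq_of_mul_eq_mul_left (by omega) this
        obtain ⟨j, hj⟩ := hodds
        omega
      · -- the structural argument
        have hgL : g ∈ M.comap pr := hgM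
        obtain ⟨L', hL'⟩ : ∃ L' : Subgroup SL2, L' = (M.comap pr).map Θ.toMonoidHom := ⟨_, rfl⟩
        rw [← hL'] at hle
        have hΘg : Θ g ∈ L' := by rw [hL']; exact Subgroup.mem_map_of_mem _ hgL
        have hcL' : Nat.card L' = Nat.card (M.comap (pr (F := F))) := by
          rw [hL']
          exact (Nat.card_congr
            ((M.comap pr).equivMapOfInjective Θ.toMonoidHom Θ.injective).toEquiv).symm
        have hR : Nat.card (Matrix.SpecialLinearGroup.map (n := Fin 2)
            (S.subtype : ↥S →+* F)).range = s * W := by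
          rw [← Nat.card_congr (MonoidHom.ofInjective (map_subtype_injective S)).toEquiv, card_SL2,
            ← Nat.card_eq_fintype_card, ← hs, hW]
        have hrel : (Matrix.SpecialLinearGroup.map (n := Fin 2)
            (S.subtype : ↥S →+* F)).range.relIndex L' = 2 := by
          have := Cfsg.Agent.Lib.H5.card_mul_relIndex_of_le hle
          rw [hR, hcL', hc] at this
          have hpos : 0 < s * W := Nat.mul_pos (by omega) hWpos
          have h' : s * W * (Matrix.SpecialLinearGroup.map (n := Fin 2)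
              (S.subtype : ↥S →+* F)).range.relIndex L' = s * W * 2 := by rw [this]; ring
          exact Nat.eq_of_mul_eq_mul_left hpos h'
        have hsq_mem : (Θ g) ^ 2 ∈ (Matrix.SpecialLinearGroup.map (n := Fin 2)
            (S.subtype : ↥S →+* F)).range := by
          have h := Subgroup.sq_mem_of_index_two (H := (Matrix.SpecialLinearGroup.map (n := Fin 2)
            (S.subtype : ↥S →+* F)).range.subgroupOf L') hrel ⟨Θ g, hΘg⟩
          exact Subgroup.mem_subgroupOf.mp h
        obtain ⟨c₀, hc₀⟩ := hsq_mem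
        have heven : 2 ∣ q - 1 := by
          obtain ⟨j, hj⟩ := hoddq
          exact ⟨j, by omega⟩
        have hord2 : orderOf ((Θ g) ^ 2) = (q - 1) / 2 := by
          rw [← map_pow, MulEquiv.orderOf_eq, orderOf_pow' _ two_ne_zero, hord,
            Nat.gcd_eq_right heven]
        have hordc : orderOf c₀ = (q - 1) / 2 := by
          rw [← hord2, ← hc₀]
          exact (orderOf_injective _ (map_subtype_injective S) c₀).symm
        have hnd : ¬ p ∣ orderOf c₀ := by
          rw [hordc]
          intro h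
          exact hnd2 (h.trans (Nat.div_dvd_of_dvd heven))
        have hoddS : Odd (Fintype.card S) := by
          rw [← Nat.card_eq_fintype_card, ← hs]; exact hodds
        have hle' : (q - 1) / 2 ≤ s + 1 := by
          rcases DicksonOddGen2.orderOf_dvd_of_not_dvd p hoddS c₀ hnd with h | h
          · rw [hordc, ← Nat.card_eq_fintype_card, ← hs] at h
            have := Nat.le_of_dvd (by omega) h
            omega
          · rw [hordc, ← Nat.card_eq_fintype_card, ← hs] at h
            exact Nat.le_of_dvd (by omega) h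
        have hs4 : 4 ≤ s := by
          by_contra h
          push Not at h
          have : s ^ 2 ≤ 9 := by nlinarith
          omega
        have : q ≤ 2 * s + 4 := by omega
        nlinarith
  · subst h3
    rw [hcL] at hc
    have hM60 : Nat.card M = 60 := by omega
    rw [hM60] at hn hMlt
    have hn60 : 2 * n ≤ 60 := Nat.le_of_dvd (by norm_num) hn
    obtain ⟨b, -, hb⟩ := FiniteField.card F 3
    rw [← hqdef] at hb
    obtain ⟨b', hb'⟩ : ∃ b' : ℕ, b' = (b : ℕ) := ⟨_, rfl⟩
    rw [← hb'] at hb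
    have hb4 : b' < 4 := by
      by_contra h
      push Not at h
      have : 3 ^ 4 ≤ 3 ^ b' := Nat.pow_le_pow_right (by norm_num) h
      rw [← hb] at this
      rcases hq with ⟨hq, -⟩ | ⟨hq, -, -⟩ <;> omega
    have hb1 : 1 ≤ b' := by rw [hb']; exact b.pos
    interval_cases b'
    · norm_num at hb
      subst hb
      rcases hq with ⟨hq, -⟩ | ⟨hq, h13, -⟩
      · norm_num at hG; omega
      · omega
    · norm_num at hb
      subst hb
      rcases hq with ⟨hq, h9⟩ | ⟨hq, h13, -⟩
      · exact h9 rfl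
      · omega
    · norm_num at hb
      subst hb
      rcases hq with ⟨hq, h9⟩ | ⟨hq, h13, -⟩
      · rw [hq] at hn; norm_num at hn
      · rw [hq] at hn; norm_num at hn

omit p in
/-- **the normalizer of a torus of `PSL₂(q)`, `q` odd, is a maximal subgroup** -/
theorem isCoatom_normalizer (hodd : Odd (Fintype.card F)) {g : SL2}
    (ht : (g : M2).trace ^ 2 ≠ 4)
    (hq : (2 * Nat.card (torus g) = Fintype.card F + 1 ∧ Fintype.card F ≠ 7 ∧
        Fintype.card F ≠ 9) ∨
      (2 * Nat.card (torus g) = Fintype.card F - 1 ∧ 13 ≤ Fintype.card F ∧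
        orderOf g = Fintype.card F - 1)) :
    IsCoatom (Subgroup.normalizer ((torus g : Subgroup PSL2) : Set PSL2)) := by
  have hx : IsRegSS (pr g) := isRegSS_pr ht
  rw [← tb_pr] at hq ⊢
  have hcN := card_normalizer_tb hodd hx
  have hq2 : 2 ≤ Fintype.card F := Fintype.one_lt_card
  have hG := PSL2PrimeMax.two_mul_card hodd
  have hid := PSL2A5SqMax.card_identity (Fintype.card F) (by omega)
  rw [← hid] at hG
  have hq3 : 3 ≤ Fintype.card F := by
    obtain ⟨j, hj⟩ := hodd
    omega
  constructor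
  · intro htop
    rw [htop, Subgroup.card_top] at hcN
    rw [hcN] at hG
    have h6 : 6 ≤ Fintype.card F * (Fintype.card F - 1) := by
      have : 2 ≤ Fintype.card F - 1 := by omega
      nlinarith
    rcases hq with ⟨hq, -, -⟩ | ⟨hq, -, -⟩
    · rw [hq] at hG
      have : (1 + Fintype.card F) * 2 = (1 + Fintype.card F) *
          (Fintype.card F * (Fintype.card F - 1)) := by rw [← hG]; ring
      have := Nat.eq_of_mul_eq_mul_left (by omega) this
      omega
    · rw [hq] at hG
      have h1 : (1 + Fintype.card F) * (Fintype.card F * (Fintype.card F - 1)) =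
          (Fintype.card F - 1) * ((1 + Fintype.card F) * Fintype.card F) := by ring
      rw [h1] at hG
      have : (Fintype.card F - 1) * 2 =
          (Fintype.card F - 1) * ((1 + Fintype.card F) * Fintype.card F) := by rw [← hG]; ring
      have := Nat.eq_of_mul_eq_mul_left (by omega) this
      nlinarith
  · intro M hlt
    by_contra hM
    obtain ⟨p, hp⟩ := CharP.exists F
    haveI := hp
    haveI : Fact p.Prime := ⟨CharP.char_is_prime F p⟩
    have hNM : Subgroup.normalizer ((tb (pr g) : Subgroup PSL2) : Set PSL2) ≤ M := hlt.le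
    have hdvd : 2 * Nat.card (tb (pr g)) ∣ Nat.card M := by
      rw [← hcN]; exact Subgroup.card_dvd_of_le hNM
    have hlt' : 2 * Nat.card (tb (pr g)) < Nat.card M := by
      rw [← hcN]
      apply lt_of_le_of_ne (Subgroup.card_le_of_le hNM)
      intro h
      exact hlt.ne (Subgroup.eq_of_le_of_card_ge hNM h.ge)
    have hgM : pr g ∈ M := hNM (Subgroup.le_normalizer (self_mem_tb _))
    by_cases hpM : p ∣ Nat.card M
    · have hpos : 0 < Nat.card (Sylow p (M.comap (pr (F := F)))) := Nat.card_pos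
      rcases Nat.lt_or_ge 1 (Nat.card (Sylow p (M.comap (pr (F := F))))) with h1 | h1
      · refine generic_overgroup p hodd M hM h1 hgM (Nat.card (tb (pr g))) hdvd ?_
        rcases hq with ⟨hq, -, h9⟩ | hq
        · exact Or.inl ⟨hq, h9⟩
        · exact Or.inr hq
      · have hs : Function.Surjective ((pr (F := F)).subgroupComap M) :=
          MonoidHom.subgroupComap_surjective_of_surjective pr M pr_surjective
        have hle := Nat.card_le_card_of_surjective _ (Sylow.mapSurjective_surjective hs p)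
        have hposM : 0 < Nat.card (Sylow p M) := Nat.card_pos
        refine pclosed_overgroup p hodd M hpM (by omega) (Nat.card (tb (pr g))) hdvd ?_
        rcases hq with ⟨hq, -, -⟩ | ⟨hq, -, -⟩
        · exact Or.inl hq
        · exact Or.inr hq
    · refine coprime_overgroup p hodd hx M hNM hlt' hpM ?_
      rcases hq with hq | ⟨hq, h13, -⟩
      · exact Or.inl hq
      · exact Or.inr ⟨hq, h13⟩

end Cfsg.Agent.Lib.H5.PSL2DihOddMax
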