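import Cfsg.Agent.Lib.Lead.AschDefs2
import Cfsg.Agent.Lib.H28.GLBasic
import Cfsg.Agent.Lib.H11.Sing2

/-!
# P2-B3 / P2-F2: `SL_n(F)` normalises no field subalgebra of prime degree; `r ∣ n` (helper5)
-/

set_option autoImplicit false

namespace Cfsg.Agent.Lib.H5.AschP2

open Cfsg Cfsg.Geo Cfsg.Agent.Lib.Lead.Asch
open scoped MatrixGroups Matrix

variable {F : Type*} [Field F] [Fintype F] {n : ℕ}

/-- **P2-F2**. -/
theorem dvd_of_isFieldSubalgebra (hn : 0 < n) (r : ℕ) (K : Subalgebra F (Matrix (Fin n) (Fin n) F))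
    (hK : IsFieldSubalgebra r K) : r ∣ n := by
  letI : Field ↥K := (Cfsg.Agent.Lib.H11.Sing.isField_of hK hn).toField
  let φ : ↥K →+* Module.End F (Fin n → F) :=
    ((Matrix.toLinAlgEquiv' (R := F) (n := Fin n)).toAlgHom.comp K.val).toRingHom
  letI : Module ↥K (Fin n → F) := Module.compHom (Fin n → F) φ
  have hsmul : ∀ (k : ↥K) (v : Fin n → F), k • v = (k : Matrix (Fin n) (Fin n) F) *ᵥ v := by
    intro k v
    rfl
  have hst : IsScalarTower F ↥K (Fin n → F) := ⟨fun c k v => by
    rw [hsmul, hsmul, Subalgebra.coe_smul, Matrix.smul_mulVec]⟩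
  have := @Module.finrank_mul_finrank F ↥K (Fin n → F) _ _ _ _ _ _ hst _ _ _ _
  rw [hK.finrank_eq, Module.finrank_fin_fun] at this
  exact ⟨_, this.symm⟩

/-- a matrix whose entries outside row `i` and column `j` vanish has no right inverse, `n ≥ 3` -/
theorem no_right_inverse (hn : 3 ≤ n) (y z : Matrix (Fin n) (Fin n) F) (i j : Fin n)
    (hy : ∀ a b : Fin n, a ≠ i → b ≠ j → y a b = 0) : y * z ≠ 1 := by
  intro hyz
  -- two distinct rows a, a' different from i
  obtain ⟨a, a', hai, ha'i, haa'⟩ : ∃ a a' : Fin n, a ≠ i ∧ a' ≠ i ∧ a ≠ a' := by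
    have hcard : 2 ≤ (Finset.univ.erase i).card := by
      rw [Finset.card_erase_of_mem (Finset.mem_univ i), Finset.card_univ, Fintype.card_fin]
      omega
    obtain ⟨a, ha, a', ha', hne⟩ := Finset.one_lt_card.mp hcard
    exact ⟨a, a', Finset.ne_of_mem_erase ha, Finset.ne_of_mem_erase ha', hne⟩
  have hrow : ∀ c : Fin n, c ≠ i → ∀ b : Fin n, (y * z) c b = y c j * z j b := by
    intro c hc b
    rw [Matrix.mul_apply]
    apply Finset.sum_eq_single j
    · intro k _ hk
      rw [hy c k hc hk, zero_mul]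
    · intro h
      exact absurd (Finset.mem_univ j) h
  have h1 := hrow a hai a
  have h2 := hrow a hai a'
  have h3 := hrow a' ha'i a'
  rw [hyz] at h1 h2 h3
  rw [Matrix.one_apply_eq] at h1 h3
  rw [Matrix.one_apply_ne haa'] at h2
  have hyaj : y a j ≠ 0 := by
    intro h0
    rw [h0, zero_mul] at h1
    exact one_ne_zero h1
  have hz : z j a' = 0 := by
    rcases mul_eq_zero.mp h2.symm with h | h
    · exact absurd h hyaj
    · exact h
  rw [hz, mul_zero] at h3
  exact one_ne_zero h3

/-- **P2-B3**. -/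
theorem not_sl_le_subalgebraNormalizer (hn : 3 ≤ n) (r : ℕ)
    (K : Subalgebra F (Matrix (Fin n) (Fin n) F)) (hr : r.Prime) (hK : IsFieldSubalgebra r K) :
    ¬ specialLinear (Fin n) F ≤ subalgebraNormalizer K := by
  intro hle
  -- Step 1: every x ∈ K commutes with the transvections 1 + E_ij
  have hcomm : ∀ x ∈ K, ∀ i j : Fin n, i ≠ j →
      Matrix.transvection i j (1 : F) * x = x * Matrix.transvection i j (1 : F) := by
    intro x hx i j hij
    have hdet : (Matrix.transvection i j (1 : F)).det = 1 := Matrix.det_transvection_of_ne i j hij 1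
    set τ : GL (Fin n) F := Matrix.GeneralLinearGroup.mkOfDetNeZero (Matrix.transvection i j (1 : F))
      (by rw [hdet]; exact one_ne_zero) with hτ
    have hτv : (τ : Matrix (Fin n) (Fin n) F) = Matrix.transvection i j (1 : F) := rfl
    have hτinv : ((τ⁻¹ : GL (Fin n) F) : Matrix (Fin n) (Fin n) F) = Matrix.transvection i j (-1 : F) := by
      apply Units.inv_eq_of_mul_eq_one_right
      rw [hτv, Matrix.transvection_mul_transvection_same (i := i) (j := j) hij, add_neg_cancel,
        Matrix.transvection_zero]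
    have hτS : τ ∈ specialLinear (Fin n) F := by
      rw [Cfsg.Agent.Lib.H28.mem_specialLinear_iff, hτv, hdet]
    have hτN : τ ∈ subalgebraNormalizer K := hle hτS
    have hmem : (τ : Matrix (Fin n) (Fin n) F) * x * ((τ⁻¹ : GL (Fin n) F) : Matrix (Fin n) (Fin n) F) ∈ K :=
      (hτN x).mp hx
    set y := (τ : Matrix (Fin n) (Fin n) F) * x * ((τ⁻¹ : GL (Fin n) F) : Matrix (Fin n) (Fin n) F) - x
      with hy
    have hyK : y ∈ K := K.sub_mem hmem hx
    have hy0 : y = 0 := by
      by_contra hne
      obtain ⟨z, -, hz⟩ := hK.inv y hyK hne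
      refine no_right_inverse hn y z i j ?_ hz
      intro a b hai hbj
      rw [hy, hτv, hτinv, Matrix.sub_apply]
      simp only [Matrix.transvection, Matrix.add_mul, Matrix.mul_add, Matrix.one_mul, Matrix.mul_one,
        Matrix.add_apply, Matrix.single_mul_apply_of_ne _ _ _ _ _ hai,
        Matrix.mul_single_apply_of_ne _ _ _ _ _ hbj]
      ring
    have h1 : (τ : Matrix (Fin n) (Fin n) F) * x * ((τ⁻¹ : GL (Fin n) F) : Matrix (Fin n) (Fin n) F) = x :=
      sub_eq_zero.mp hy0
    have h2 : (τ : Matrix (Fin n) (Fin n) F) * x = x * (τ : Matrix (Fin n) (Fin n) F) := by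
      have h3 : (τ : Matrix (Fin n) (Fin n) F) * x * ((τ⁻¹ : GL (Fin n) F) : Matrix (Fin n) (Fin n) F) *
          (τ : Matrix (Fin n) (Fin n) F) = x * (τ : Matrix (Fin n) (Fin n) F) := by rw [h1]
      rw [Matrix.mul_assoc, ← Units.val_mul, inv_mul_cancel, Units.val_one, Matrix.mul_one] at h3
      exact h3
    rw [hτv] at h2
    exact h2
  -- Step 2: every x ∈ K is scalar
  have h0n : 0 < n := by omega
  set i0 : Fin n := ⟨0, h0n⟩ with hi0
  have hscal : ∀ x ∈ K, x = (x i0 i0) • (1 : Matrix (Fin n) (Fin n) F) := by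
    intro x hx
    have hE : ∀ i j : Fin n, i ≠ j → Matrix.single i j (1 : F) * x = x * Matrix.single i j (1 : F) := by
      intro i j hij
      have := hcomm x hx i j hij
      simpa [Matrix.transvection, Matrix.add_mul, Matrix.mul_add] using this
    have hoff : ∀ a i : Fin n, a ≠ i → x a i = 0 := by
      intro a i hai
      -- pick j ≠ i
      obtain ⟨j, hj⟩ : ∃ j : Fin n, j ≠ i := by
        by_contra hcon
        push Not at hcon
        have : Fintype.card (Fin n) ≤ 1 := Fintype.card_le_one_iff.mpr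
          (fun u v => (hcon u).trans (hcon v).symm)
        rw [Fintype.card_fin] at this
        omega
      have h := congrFun (congrFun (hE i j (Ne.symm hj)) a) j
      rw [Matrix.single_mul_apply_of_ne _ _ _ _ _ hai, Matrix.mul_single_apply_same, mul_one] at h
      exact h.symm
    have hdiag : ∀ i j : Fin n, i ≠ j → x i i = x j j := by
      intro i j hij
      have h := congrFun (congrFun (hE i j hij) i) j
      rw [Matrix.single_mul_apply_same, Matrix.mul_single_apply_same, mul_one, one_mul] at h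
      exact h.symm
    ext a b
    rw [Matrix.smul_apply, smul_eq_mul]
    by_cases hab : a = b
    · subst hab
      rw [Matrix.one_apply_eq, mul_one]
      by_cases ha0 : a = i0
      · rw [ha0]
      · exact hdiag a i0 ha0
    · rw [Matrix.one_apply_ne hab, mul_zero]
      exact hoff a b hab
  -- Step 3: K has dimension at most 1
  have hle1 : K.toSubmodule ≤ Submodule.span F {(1 : Matrix (Fin n) (Fin n) F)} := by
    intro x hx
    rw [Submodule.mem_span_singleton]
    exact ⟨x i0 i0, (hscal x hx).symm⟩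
  have hfin : Module.finrank F K.toSubmodule ≤ 1 :=
    (Submodule.finrank_mono hle1).trans
      ((finrank_span_le_card ({(1 : Matrix (Fin n) (Fin n) F)} : Set _)).trans (by simp))
  have hr2 := hr.two_le
  have hKr : Module.finrank F K.toSubmodule = r := hK.finrank_eq
  omega

end Cfsg.Agent.Lib.H5.AschP2
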