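import Cfsg.Agent.Lib.Lead.AschUDefs
import Cfsg.Agent.Lib.H28.GLBasic
import Cfsg.Agent.Lib.H15.UP2Base

/-!
# UP2-B3: `SU_n(q)` normalises no field subalgebra (helper5): generic part

A transvection-like element `τ : x ↦ x + φ x • v` (`φ v = 0`) normalising a field subalgebra `K` of
`M_n(F)`, `n ≥ 3`, centralises `K`.
-/

set_option autoImplicit false

namespace Cfsg.Agent.Lib.H5.UP2

open Cfsg Cfsg.Geo Cfsg.Agent.Lib.Lead.Asch
open scoped MatrixGroups Matrix

variable {F : Type*} [Field F] {n : ℕ}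

/-- the inverse of `x ↦ x + φ x • v` -/
theorem tv_inv_mulVec (τ : GL (Fin n) F) (φ : Module.Dual F (Fin n → F)) (v : Fin n → F)
    (hφv : φ v = 0) (hτ : ∀ x, (τ : Matrix (Fin n) (Fin n) F) *ᵥ x = x + φ x • v) (y : Fin n → F) :
    ((τ⁻¹ : GL (Fin n) F) : Matrix (Fin n) (Fin n) F) *ᵥ y = y - φ y • v := by
  have h1 : (τ : Matrix (Fin n) (Fin n) F) *ᵥ (y - φ y • v) = y := by
    rw [hτ, map_sub, map_smul, hφv, smul_zero, sub_zero]
    abel
  have h2 : ((τ⁻¹ : GL (Fin n) F) : Matrix (Fin n) (Fin n) F) *ᵥ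
      ((τ : Matrix (Fin n) (Fin n) F) *ᵥ (y - φ y • v)) = y - φ y • v := by
    rw [Matrix.mulVec_mulVec, ← Units.val_mul, inv_mul_cancel, Units.val_one, Matrix.one_mulVec]
  rw [h1] at h2
  exact h2

/-- A transvection-like element normalising a field subalgebra (`n ≥ 3`) centralises it. -/
theorem commute_of_mem_normalizer (hn : 3 ≤ n) (r : ℕ) (K : Subalgebra F (Matrix (Fin n) (Fin n) F))
    (hK : IsFieldSubalgebra r K) (τ : GL (Fin n) F) (φ : Module.Dual F (Fin n → F)) (v : Fin n → F)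
    (hφv : φ v = 0) (hτ : ∀ x, (τ : Matrix (Fin n) (Fin n) F) *ᵥ x = x + φ x • v)
    (hτN : τ ∈ subalgebraNormalizer K) (X : Matrix (Fin n) (Fin n) F) (hX : X ∈ K) :
    (τ : Matrix (Fin n) (Fin n) F) * X = X * (τ : Matrix (Fin n) (Fin n) F) := by
  have hmem : (τ : Matrix (Fin n) (Fin n) F) * X * ((τ⁻¹ : GL (Fin n) F) : Matrix (Fin n) (Fin n) F) ∈ K :=
    (hτN X).mp hX
  set y := (τ : Matrix (Fin n) (Fin n) F) * X * ((τ⁻¹ : GL (Fin n) F) : Matrix (Fin n) (Fin n) F) - X
    with hy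
  have hyK : y ∈ K := K.sub_mem hmem hX
  -- the image of y lies in span {v, X v}
  have himg : ∀ w : Fin n → F, y *ᵥ w ∈ Submodule.span F ({v, X *ᵥ v} : Set (Fin n → F)) := by
    intro w
    have hv : v ∈ Submodule.span F ({v, X *ᵥ v} : Set (Fin n → F)) :=
      Submodule.subset_span (Set.mem_insert _ _)
    have hXv : X *ᵥ v ∈ Submodule.span F ({v, X *ᵥ v} : Set (Fin n → F)) :=
      Submodule.subset_span (Set.mem_insert_of_mem _ (Set.mem_singleton _))
    have hcalc : y *ᵥ w = (-(φ w)) • (X *ᵥ v) + φ (X *ᵥ w - φ w • X *ᵥ v) • v := by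
      rw [hy, Matrix.sub_mulVec, ← Matrix.mulVec_mulVec, ← Matrix.mulVec_mulVec,
        tv_inv_mulVec τ φ v hφv hτ w, Matrix.mulVec_sub, Matrix.mulVec_smul, hτ]
      rw [neg_smul]
      abel
    rw [hcalc]
    exact Submodule.add_mem _ (Submodule.smul_mem _ _ hXv) (Submodule.smul_mem _ _ hv)
  have hy0 : y = 0 := by
    by_contra hne
    obtain ⟨z, -, hz⟩ := hK.inv y hyK hne
    have htop : (⊤ : Submodule F (Fin n → F)) ≤ Submodule.span F ({v, X *ᵥ v} : Set (Fin n → F)) := by
      intro w _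
      have : w = y *ᵥ (z *ᵥ w) := by
        rw [Matrix.mulVec_mulVec, hz, Matrix.one_mulVec]
      rw [this]
      exact himg _
    have h1 := Submodule.finrank_mono htop
    rw [finrank_top, Module.finrank_fin_fun] at h1
    have h2 : Module.finrank F (Submodule.span F ({v, X *ᵥ v} : Set (Fin n → F))) ≤ 2 := by
      classical
      refine (finrank_span_le_card ({v, X *ᵥ v} : Set (Fin n → F))).trans ?_
      rw [Set.toFinset_insert, Set.toFinset_singleton]
      exact Finset.card_insert_le _ _ |>.trans (by simp)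
    omega
  have h1 : (τ : Matrix (Fin n) (Fin n) F) * X * ((τ⁻¹ : GL (Fin n) F) : Matrix (Fin n) (Fin n) F) = X :=
    sub_eq_zero.mp hy0
  have h3 : (τ : Matrix (Fin n) (Fin n) F) * X * ((τ⁻¹ : GL (Fin n) F) : Matrix (Fin n) (Fin n) F) *
      (τ : Matrix (Fin n) (Fin n) F) = X * (τ : Matrix (Fin n) (Fin n) F) := by rw [h1]
  rw [Matrix.mul_assoc, ← Units.val_mul, inv_mul_cancel, Units.val_one, Matrix.mul_one] at h3
  exact h3

/-- a field subalgebra of dimension `r ≥ 2` contains a non-scalar matrix -/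
theorem exists_not_scalar (hn : 0 < n) (r : ℕ) (K : Subalgebra F (Matrix (Fin n) (Fin n) F))
    (hr : 2 ≤ r) (hK : IsFieldSubalgebra r K) :
    ∃ X ∈ K, ¬ ∃ c : F, X = c • (1 : Matrix (Fin n) (Fin n) F) := by
  by_contra hcon
  push Not at hcon
  have hle1 : K.toSubmodule ≤ Submodule.span F {(1 : Matrix (Fin n) (Fin n) F)} := by
    intro x hx
    rw [Submodule.mem_span_singleton]
    obtain ⟨c, hc⟩ := hcon x hx
    exact ⟨c, hc.symm⟩
  have hfin : Module.finrank F K.toSubmodule ≤ 1 :=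
    (Submodule.finrank_mono hle1).trans
      ((finrank_span_le_card ({(1 : Matrix (Fin n) (Fin n) F)} : Set _)).trans (by simp))
  have hKr : Module.finrank F K.toSubmodule = r := hK.finrank_eq
  omega

section final

variable [Fintype F] {q : ℕ}

/-- the linear form `x ↦ a * f(x, v)` -/
noncomputable def hermDual (a : F) (v : Fin n → F) : Module.Dual F (Fin n → F) where
  toFun x := a * hermForm n F q x v
  map_add' x y := by
    unfold hermForm
    rw [← mul_add, ← Finset.sum_add_distrib]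
    congr 1
    refine Finset.sum_congr rfl fun i _ => ?_
    rw [Pi.add_apply, add_mul]
  map_smul' c x := by
    unfold hermForm
    rw [RingHom.id_apply, smul_eq_mul, Finset.mul_sum, Finset.mul_sum, Finset.mul_sum]
    refine Finset.sum_congr rfl fun i _ => ?_
    rw [Pi.smul_apply, smul_eq_mul]
    ring

/-- **UP2-B3**. -/
theorem not_su_le_subalgebraNormalizer (hF : Fintype.card F = q ^ 2) (hn : 3 ≤ n) (r : ℕ)
    (K : Subalgebra F (Matrix (Fin n) (Fin n) F)) (hr : 2 ≤ r) (hK : IsFieldSubalgebra r K) :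
    ¬ GU n F q ⊓ specialLinear (Fin n) F ≤ subalgebraNormalizer K := by
  intro hle
  obtain ⟨X, hXK, hXns⟩ := exists_not_scalar (by omega) r K hr hK
  apply hXns
  apply Cfsg.Agent.Lib.H15.UP2.scalar_of_comm_utv hF (by omega) X
  intro a v ha hv
  have hφv : (hermDual (q := q) a v) v = 0 := by
    show a * hermForm n F q v v = 0
    rw [hv, mul_zero]
  have := commute_of_mem_normalizer hn r K hK (Cfsg.Agent.Lib.H15.UP2.utv hF a v)
    (hermDual (q := q) a v) v hφv
    (fun x => Cfsg.Agent.Lib.H15.UP2.utv_mulVec hF ha hv x)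
    (hle (Cfsg.Agent.Lib.H15.UP2.utv_mem hF a v)) X hXK
  exact this.symm

end final

end Cfsg.Agent.Lib.H5.UP2
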