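import Cfsg.Agent.Lib.Lead.AschUDefs
import Cfsg.Agent.Lib.H28.GLBasic
import Cfsg.Agent.Lib.H15.UP2Base

/-!
# UP2-B5: `SU_n(q)`, `n ≥ 7`, lies in no subfield group (helper5)

Generic part: if a diagonal matrix `diagonal a` is conjugate (over `F`) to a matrix with entries in the subfield `F₀`, then
the multiset of its diagonal entries is invariant under every ring endomorphism of `F` fixing `F₀` pointwise.
-/

set_option autoImplicit false

namespace Cfsg.Agent.Lib.H5.UP2

open Cfsg Cfsg.Geo Cfsg.Agent.Lib.Lead.Asch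
open scoped MatrixGroups Matrix

section generic

variable {F : Type*} [Field F] {n : ℕ}

/-- the characteristic polynomial of a diagonal matrix conjugate to a matrix over `F₀` is invariant under `Φ` -/
theorem diag_multiset_invariant (F₀ : Subfield F) (Φ : F →+* F) (hΦ : ∀ x ∈ F₀, Φ x = x) (P : GL (Fin n) F)
    (a : Fin n → F) (g0 : Matrix (Fin n) (Fin n) F₀)
    (h : Matrix.diagonal a = (P : Matrix (Fin n) (Fin n) F) * g0.map (F₀.subtype) *
      ((P⁻¹ : GL (Fin n) F) : Matrix (Fin n) (Fin n) F)) :
    Multiset.map (fun i => Φ (a i)) (Finset.univ : Finset (Fin n)).val =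
      Multiset.map a (Finset.univ : Finset (Fin n)).val := by
  have h1 : (Matrix.diagonal a).charpoly = (g0.charpoly).map (F₀.subtype) := by
    rw [h, Matrix.coe_units_inv, Matrix.charpoly_units_conj, Matrix.charpoly_map]
  rw [Matrix.charpoly_diagonal] at h1
  have h2 : (∏ i, (Polynomial.X - Polynomial.C (a i))).map Φ = ∏ i, (Polynomial.X - Polynomial.C (a i)) := by
    rw [h1, Polynomial.map_map]
    congr 1
    ext x
    exact hΦ x x.2
  rw [Polynomial.map_prod] at h2
  simp only [Polynomial.map_sub, Polynomial.map_X, Polynomial.map_C] at h2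
  have key : ∀ b : Fin n → F, (∏ i, (Polynomial.X - Polynomial.C (b i))).roots =
      Multiset.map b (Finset.univ : Finset (Fin n)).val := by
    intro b
    have : (∏ i, (Polynomial.X - Polynomial.C (b i))) =
        ((Multiset.map b (Finset.univ : Finset (Fin n)).val).map fun x => Polynomial.X - Polynomial.C x).prod := by
      rw [Multiset.map_map]
      rfl
    rw [this, Polynomial.roots_multiset_prod_X_sub_C]
  rw [← key, ← key a, h2]

/-- counting entries, lower bound -/
theorem le_count_of_forall [DecidableEq F] (a : Fin n → F) (c : F) (S : Finset (Fin n)) (hS : ∀ i ∈ S, a i = c) :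
    S.card ≤ Multiset.count c (Multiset.map a (Finset.univ : Finset (Fin n)).val) := by
  rw [Multiset.count_map]
  have : (Multiset.filter (fun i => c = a i) (Finset.univ : Finset (Fin n)).val) =
      ((Finset.univ : Finset (Fin n)).filter (fun i => c = a i)).val := by
    rw [Finset.filter_val]
  rw [this]
  show S.card ≤ ((Finset.univ : Finset (Fin n)).filter (fun i => c = a i)).card
  apply Finset.card_le_card
  intro i hi
  rw [Finset.mem_filter]
  exact ⟨Finset.mem_univ _, (hS i hi).symm⟩

/-- counting entries, upper bound -/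
theorem count_le_of_forall [DecidableEq F] (a : Fin n → F) (c : F) (S : Finset (Fin n)) (hS : ∀ i, i ∉ S → a i ≠ c) :
    Multiset.count c (Multiset.map a (Finset.univ : Finset (Fin n)).val) ≤ S.card := by
  rw [Multiset.count_map]
  have : (Multiset.filter (fun i => c = a i) (Finset.univ : Finset (Fin n)).val) =
      ((Finset.univ : Finset (Fin n)).filter (fun i => c = a i)).val := by
    rw [Finset.filter_val]
  rw [this]
  show ((Finset.univ : Finset (Fin n)).filter (fun i => c = a i)).card ≤ S.card
  apply Finset.card_le_card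
  intro i hi
  rw [Finset.mem_filter] at hi
  by_contra hni
  exact hS i hni hi.2.symm

/-- the entries of a diagonal matrix whose multiset of entries is `Φ`-invariant: transfer of counts -/
theorem count_frob [DecidableEq F] (Φ : F →+* F) (a : Fin n → F)
    (hA : Multiset.map (fun i => Φ (a i)) (Finset.univ : Finset (Fin n)).val =
      Multiset.map a (Finset.univ : Finset (Fin n)).val) (c : F) :
    Multiset.count (Φ c) (Multiset.map a (Finset.univ : Finset (Fin n)).val) =
      Multiset.count c (Multiset.map a (Finset.univ : Finset (Fin n)).val) := by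
  have h1 : Multiset.map (fun i => Φ (a i)) (Finset.univ : Finset (Fin n)).val =
      Multiset.map Φ (Multiset.map a (Finset.univ : Finset (Fin n)).val) := by
    rw [Multiset.map_map]
    rfl
  conv_lhs => rw [← hA, h1]
  exact Multiset.count_map_eq_count' Φ _ Φ.injective c

end generic

section final

variable {F : Type*} [Field F] [Fintype F] {n q : ℕ}

/-- **UP2-B5**. -/
theorem not_su_le_subfieldSubgroup (hF : Fintype.card F = q ^ 2) (hn : 7 ≤ n) (F₀ : Subfield F) (r : ℕ)
    (P : GL (Fin n) F) (hr : 2 ≤ r) (hcard : Fintype.card F = Nat.card F₀ ^ r) :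
    ¬ GU n F q ⊓ specialLinear (Fin n) F ≤ subfieldSubgroup F₀ P := by
  classical
  intro hle
  have hcF : 2 ≤ Fintype.card F := Fintype.one_lt_card
  have hq2 : 2 ≤ q := by
    by_contra h
    have : q = 0 ∨ q = 1 := by omega
    rcases this with rfl | rfl <;> simp at hF <;> omega
  set q0 := Nat.card F₀ with hq0
  have hq0_2 : 2 ≤ q0 := Finite.one_lt_card
  have hq0q : q0 ≤ q := by
    have h1 : q0 ^ 2 ≤ q0 ^ r := Nat.pow_le_pow_right (by omega) hr
    rw [← hcard, hF] at h1
    exact (Nat.pow_le_pow_iff_left (by norm_num)).1 h1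
  -- the Frobenius of `F / F₀`
  obtain ⟨p, hp⟩ := CharP.exists F
  obtain ⟨m, hpm, hm⟩ := FiniteField.card F p
  haveI : Fact p.Prime := ⟨hpm⟩
  have hdvd : q0 ∣ p ^ (m : ℕ) := by
    rw [← hm, hcard]
    exact dvd_pow_self _ (by omega)
  obtain ⟨k, hk, hq0k⟩ := (Nat.dvd_prime_pow hpm).1 hdvd
  set Φ : F →+* F := iterateFrobenius F p k with hΦ
  have hΦx : ∀ x, Φ x = x ^ q0 := by
    intro x
    rw [hΦ, iterateFrobenius_def, hq0k]
  have hΦF₀ : ∀ x ∈ F₀, Φ x = x := by
    intro x hx
    rw [hΦx]
    haveI : Fintype F₀ := Fintype.ofFinite F₀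
    have h1 := FiniteField.pow_card (⟨x, hx⟩ : F₀)
    rw [← Nat.card_eq_fintype_card, ← hq0] at h1
    have h2 := congrArg (fun y : F₀ => (y : F)) h1
    simp only [SubmonoidClass.coe_pow] at h2
    exact h2
  -- `λ` of order `q + 1`
  obtain ⟨g, hg⟩ := Cfsg.Agent.Lib.H15.SUGen.exists_gen hF
  have hqq : q ^ 2 - 1 = (q - 1) * (q + 1) := by
    obtain ⟨t, rfl⟩ : ∃ t, q = t + 1 := ⟨q - 1, by omega⟩
    have : (t + 1) ^ 2 = t * (t + 2) + 1 := by ring
    rw [this]
    simp
  set lam : Fˣ := g ^ (q - 1) with hlam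
  have hord : orderOf lam = q + 1 := by
    rw [hlam, orderOf_pow_of_dvd (by omega) (by rw [hg, hqq]; exact dvd_mul_right _ _), hg, hqq,
      Nat.mul_div_cancel_left _ (by omega)]
  have hlam1 : lam ^ (q + 1) = 1 := by rw [← hord]; exact pow_orderOf_eq_one lam
  have hlamF1 : (lam : F) ^ (q + 1) = 1 := by
    rw [← Units.val_pow_eq_pow_val, hlam1, Units.val_one]
  have hlamne : (lam : F) ≠ 1 := by
    intro h
    have : lam = 1 := Units.ext h
    rw [this, orderOf_one] at hord
    omega
  have hlam0 : (lam : F) ≠ 0 := lam.ne_zero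
  -- the diagonal element
  obtain ⟨t, rfl⟩ : ∃ t, n = t + 3 := ⟨n - 3, by omega⟩
  set d : Fin (t + 3) → F := fun i => if i.val < 2 then (lam : F) else if i.val = 2 then ((lam : F)⁻¹) ^ 2 else 1
    with hd_def
  have hd : ∀ i, d i * d i ^ q = 1 := by
    intro i
    rw [← pow_succ']
    simp only [hd_def]
    split_ifs
    · exact hlamF1
    · rw [← pow_mul, mul_comm, pow_mul, inv_pow, hlamF1, inv_one, one_pow]
    · exact one_pow _
  have hdet : ∏ i, d i = 1 := by
    rw [Fin.prod_univ_succ, Fin.prod_univ_succ, Fin.prod_univ_succ]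
    have h0 : d 0 = (lam : F) := by
      have hv : ((0 : Fin (t + 3)) : ℕ) = 0 := rfl
      simp only [hd_def]
      rw [if_pos (by omega)]
    have h1 : d (Fin.succ 0) = (lam : F) := by
      have hv : ((Fin.succ (0 : Fin (t + 2)) : Fin (t + 3)) : ℕ) = 1 := rfl
      simp only [hd_def]
      rw [if_pos (by omega)]
    have h2 : d (Fin.succ (Fin.succ 0)) = ((lam : F)⁻¹) ^ 2 := by
      have hv : ((Fin.succ (Fin.succ (0 : Fin (t + 1))) : Fin (t + 3)) : ℕ) = 2 := rfl
      simp only [hd_def]
      rw [if_neg (by omega), if_pos hv]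
    have h3 : ∀ i : Fin t, d (Fin.succ (Fin.succ (Fin.succ i))) = 1 := by
      intro i
      have hv : ((Fin.succ (Fin.succ (Fin.succ i)) : Fin (t + 3)) : ℕ) = i.val + 3 := rfl
      simp only [hd_def]
      rw [if_neg (by omega), if_neg (by omega)]
    rw [h0, h1, h2, Finset.prod_congr rfl (fun i _ => h3 i), Finset.prod_const_one]
    field_simp
  set D := Cfsg.Agent.Lib.H15.UP2.udg (q := q) d hd hdet with hD
  have hDv : (D : Matrix (Fin (t + 3)) (Fin (t + 3)) F) = Matrix.diagonal d :=
    Cfsg.Agent.Lib.H15.UP2.udg_val d hd hdet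
  have hmem := hle (Cfsg.Agent.Lib.H15.UP2.udg_mem (q := q) d hd hdet)
  unfold subfieldSubgroup at hmem
  obtain ⟨x, hx, hxe⟩ := Subgroup.mem_map.mp hmem
  obtain ⟨y, hy, z, hz, hyz⟩ := Subgroup.mem_sup_of_normal_right.mp hx
  obtain ⟨g0, rfl⟩ := hy
  obtain ⟨l, hl⟩ := (mem_scalars_iff z).mp hz
  have hl0 : (l : F) ≠ 0 := l.ne_zero
  have hxe' : P * x * P⁻¹ = D := hxe
  -- the matrix identity
  have hmat : Matrix.diagonal (fun i => (l : F)⁻¹ * d i) =
      (P : Matrix (Fin (t + 3)) (Fin (t + 3)) F) *
        (g0 : Matrix (Fin (t + 3)) (Fin (t + 3)) F₀).map (F₀.subtype) *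
        ((P⁻¹ : GL (Fin (t + 3)) F) : Matrix (Fin (t + 3)) (Fin (t + 3)) F) := by
    have h1 : Matrix.diagonal d = (P : Matrix (Fin (t + 3)) (Fin (t + 3)) F) *
        ((g0 : Matrix (Fin (t + 3)) (Fin (t + 3)) F₀).map (F₀.subtype) *
          ((l : F) • (1 : Matrix (Fin (t + 3)) (Fin (t + 3)) F))) *
        ((P⁻¹ : GL (Fin (t + 3)) F) : Matrix (Fin (t + 3)) (Fin (t + 3)) F) := by
      rw [← hDv, ← hxe', ← hyz, Units.val_mul, Units.val_mul, Units.val_mul, hl]
      rfl
    have h2 : Matrix.diagonal (fun i => (l : F)⁻¹ * d i) = (l : F)⁻¹ • Matrix.diagonal d := by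
      ext i j
      by_cases hij : i = j
      · subst hij
        simp
      · simp [Matrix.diagonal_apply_ne _ hij]
    rw [h2, h1, Matrix.mul_smul, Matrix.mul_one, Matrix.mul_smul, Matrix.smul_mul, smul_smul,
      inv_mul_cancel₀ hl0, one_smul]
  have hA := diag_multiset_invariant F₀ Φ hΦF₀ P (fun i => (l : F)⁻¹ * d i) _ hmat
  have hcnt := count_frob Φ (fun i => (l : F)⁻¹ * d i) hA
  -- Step 1: `Φ l⁻¹ = l⁻¹`
  have hn3 : (3 : ℕ) < t + 3 := by omega
  have hstep1 : Φ ((l : F)⁻¹) = (l : F)⁻¹ := by
    by_contra hne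
    have h1 : (Finset.Ici (⟨3, hn3⟩ : Fin (t + 3))).card ≤ Multiset.count ((l : F)⁻¹)
        (Multiset.map (fun i => (l : F)⁻¹ * d i) (Finset.univ : Finset (Fin (t + 3))).val) := by
      apply le_count_of_forall
      intro i hi
      rw [Finset.mem_Ici, Fin.le_def] at hi
      have hi' : 3 ≤ i.val := hi
      simp only [hd_def]
      rw [if_neg (by omega), if_neg (by omega), mul_one]
    have h2 : Multiset.count (Φ ((l : F)⁻¹))
        (Multiset.map (fun i => (l : F)⁻¹ * d i) (Finset.univ : Finset (Fin (t + 3))).val) ≤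
        (Finset.Iio (⟨3, hn3⟩ : Fin (t + 3))).card := by
      apply count_le_of_forall
      intro i hi
      rw [Finset.mem_Iio, Fin.lt_def] at hi
      have hi' : ¬ i.val < 3 := hi
      simp only [hd_def]
      rw [if_neg (by omega), if_neg (by omega), mul_one]
      exact fun h => hne h.symm
    rw [hcnt] at h2
    rw [Fin.card_Ici] at h1
    rw [Fin.card_Iio] at h2
    simp only at h1 h2
    omega
  -- Step 2: the multiset of the `d i` is `Φ`-invariant
  have hB : Multiset.map (fun i => Φ (d i)) (Finset.univ : Finset (Fin (t + 3))).val =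
      Multiset.map d (Finset.univ : Finset (Fin (t + 3))).val := by
    have := congrArg (Multiset.map (fun x => (l : F) * x)) hA
    rw [Multiset.map_map, Multiset.map_map] at this
    have e1 : ((fun x => (l : F) * x) ∘ fun i => Φ ((l : F)⁻¹ * d i)) = fun i => Φ (d i) := by
      funext i
      simp only [Function.comp_apply]
      rw [map_mul, hstep1, ← mul_assoc, mul_inv_cancel₀ hl0, one_mul]
    have e2 : ((fun x => (l : F) * x) ∘ fun i => (l : F)⁻¹ * d i) = d := by
      funext i
      simp only [Function.comp_apply]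
      rw [← mul_assoc, mul_inv_cancel₀ hl0, one_mul]
    rw [e1, e2] at this
    exact this
  have hcntB := count_frob Φ d hB
  -- Step 3: `Φ λ = λ`
  have hn2 : (2 : ℕ) < t + 3 := by omega
  have hstep3 : Φ (lam : F) = (lam : F) := by
    by_contra hne
    have hne1 : Φ (lam : F) ≠ 1 := by
      intro h
      apply hlamne
      apply Φ.injective
      rw [h, map_one]
    have h1 : (Finset.Iio (⟨2, hn2⟩ : Fin (t + 3))).card ≤ Multiset.count (lam : F)
        (Multiset.map d (Finset.univ : Finset (Fin (t + 3))).val) := by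
      apply le_count_of_forall
      intro i hi
      rw [Finset.mem_Iio, Fin.lt_def] at hi
      have hi' : i.val < 2 := hi
      simp only [hd_def]
      rw [if_pos hi']
    have h2 : Multiset.count (Φ (lam : F))
        (Multiset.map d (Finset.univ : Finset (Fin (t + 3))).val) ≤
        ({(⟨2, hn2⟩ : Fin (t + 3))} : Finset (Fin (t + 3))).card := by
      apply count_le_of_forall
      intro i hi
      rw [Finset.mem_singleton, Fin.ext_iff] at hi
      have hi' : ¬ i.val = 2 := hi
      simp only [hd_def]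
      by_cases h2 : i.val < 2
      · rw [if_pos h2]
        exact fun h => hne h.symm
      · rw [if_neg h2, if_neg hi']
        exact fun h => hne1 h.symm
    rw [hcntB] at h2
    rw [Fin.card_Iio] at h1
    rw [Finset.card_singleton] at h2
    simp only at h1
    omega
  -- Step 4: arithmetic
  rw [hΦx] at hstep3
  have h5 : lam ^ (q0 - 1) = 1 := by
    apply Units.ext
    rw [Units.val_pow_eq_pow_val, Units.val_one]
    have h6 : (lam : F) ^ (q0 - 1) * (lam : F) = (lam : F) := by
      rw [← pow_succ, Nat.sub_add_cancel (by omega)]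
      exact hstep3
    have h7 : ((lam : F) ^ (q0 - 1) - 1) * (lam : F) = 0 := by
      rw [sub_mul, h6, one_mul, sub_self]
    rcases mul_eq_zero.1 h7 with h | h
    · exact sub_eq_zero.1 h
    · exact absurd h hlam0
  have h8 : q + 1 ∣ q0 - 1 := by
    rw [← hord]
    exact orderOf_dvd_of_pow_eq_one h5
  have h9 := Nat.le_of_dvd (by omega) h8
  omega

end final

end Cfsg.Agent.Lib.H5.UP2
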