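import Mathlib
import Cfsg.Agent.Lib.H5.PSL2Klein
import Cfsg.Agent.Lib.H5.ConjSubgroupCount
import Cfsg.Agent.Lib.H5.Orbits

set_option autoImplicit false

/-!
# Conjugacy of Klein four-subgroups of `PSL₂(q)`, `q` odd

`SL₂(q)` acts on the pairs `(a, b)` with `a² = -1` and `b` inverting `a` with stabilizers the centre,
and there are `|SL₂(q)|` such pairs: there are two orbits.  Every Klein four-subgroup of `PSL₂(q)` is the
image of such a pair, so there are at most two classes of Klein four-subgroups.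
-/

namespace Cfsg.Agent.Lib.H5.PSL2KleinConj

open Matrix Cfsg.Agent.Lib.H12 Cfsg.Agent.Lib.H5 Cfsg.Agent.Lib.H5.SL2Four
  Cfsg.Agent.Lib.H5.KleinCount Cfsg.Agent.Lib.H5.PSL2Klein

variable {F : Type*} [Field F]

local notation "SL2" => Matrix.SpecialLinearGroup (Fin 2) F
local notation "M2" => Matrix (Fin 2) (Fin 2) F
local notation "PSL2" => Matrix.ProjectiveSpecialLinearGroup (Fin 2) F

/-- pairs `(a, b)` with `a² = -1` and `b` inverting `a` -/
def QPair (F : Type*) [Field F] : Type _ :=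
  {y : Matrix.SpecialLinearGroup (Fin 2) F × Matrix.SpecialLinearGroup (Fin 2) F //
    y.1 * y.1 = -1 ∧ y.2 * y.1 * y.2⁻¹ = y.1⁻¹}

theorem conj_inverts {G : Type*} [Group G] {a b : G} (h : b * a * b⁻¹ = a⁻¹) (g : G) :
    (g * b * g⁻¹) * (g * a * g⁻¹) * (g * b * g⁻¹)⁻¹ = (g * a * g⁻¹)⁻¹ := by
  calc (g * b * g⁻¹) * (g * a * g⁻¹) * (g * b * g⁻¹)⁻¹ = g * (b * a * b⁻¹) * g⁻¹ := by group
    _ = g * a⁻¹ * g⁻¹ := by rw [h]
    _ = (g * a * g⁻¹)⁻¹ := by group

theorem conj_neg_one (g : SL2) : g * (-1) * g⁻¹ = -1 := by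
  rw [mul_neg, mul_one, neg_mul, mul_inv_cancel]

/-- conjugation of pairs -/
def QPair.conj (g : SL2) (y : QPair F) : QPair F :=
  ⟨(g * y.1.1 * g⁻¹, g * y.1.2 * g⁻¹), by
    refine ⟨?_, conj_inverts y.2.2 g⟩
    show (g * y.1.1 * g⁻¹) * (g * y.1.1 * g⁻¹) = -1
    rw [conj_mul_self, y.2.1, conj_neg_one]⟩

theorem conj_one' {G : Type*} [Group G] (a : G) : (1 : G) * a * (1 : G)⁻¹ = a := by group

theorem conj_mul' {G : Type*} [Group G] (g h a : G) :
    (g * h) * a * (g * h)⁻¹ = g * (h * a * h⁻¹) * g⁻¹ := by group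

instance : MulAction SL2 (QPair F) where
  smul g y := y.conj g
  one_smul y := Subtype.ext (Prod.ext (conj_one' _) (conj_one' _))
  mul_smul g h y := Subtype.ext (Prod.ext (conj_mul' _ _ _) (conj_mul' _ _ _))

theorem smul_fst (g : SL2) (y : QPair F) : (g • y).1.1 = g * y.1.1 * g⁻¹ := rfl

theorem smul_snd (g : SL2) (y : QPair F) : (g • y).1.2 = g * y.1.2 * g⁻¹ := rfl

theorem stabilizer_eq (h2 : (2 : F) ≠ 0) (y : QPair F) :
    MulAction.stabilizer SL2 y = Subgroup.center SL2 := by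
  obtain ⟨a, haeq⟩ : ∃ a : SL2, a = y.1.1 := ⟨_, rfl⟩
  obtain ⟨b, hbeq⟩ : ∃ b : SL2, b = y.1.2 := ⟨_, rfl⟩
  have ha : a * a = -1 := by rw [haeq]; exact y.2.1
  have hb : b * a * b⁻¹ = a⁻¹ := by rw [haeq, hbeq]; exact y.2.2
  ext g
  rw [MulAction.mem_stabilizer_iff]
  constructor
  · intro h
    have h1 : g * a * g⁻¹ = a := by
      rw [haeq]; exact congrArg (fun z : QPair F => z.1.1) h
    have h3 : g * b * g⁻¹ = b := by
      rw [hbeq]; exact congrArg (fun z : QPair F => z.1.2) h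
    have hd : NonScalar (a : M2) :=
      nonScalar_of_trace_sq_ne a (trace_sq_ne_of_mul_self h2 a ha)
    have hga : g ∈ Subgroup.centralizer ({a} : Set SL2) := by
      rw [Subgroup.mem_centralizer_singleton_iff]
      calc g * a = (g * a * g⁻¹) * g := by rw [mul_assoc, mul_assoc, inv_mul_cancel, mul_one]
        _ = a * g := by rw [h1]
    obtain ⟨α, β, hg⟩ := (mem_centralizer_iff_span hd g).mp hga
    have hgb : g * b = b * g := by
      calc g * b = (g * b * g⁻¹) * g := by rw [mul_assoc, mul_assoc, inv_mul_cancel, mul_one]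
        _ = b * g := by rw [h3]
    have hgb' : (g : M2) * (b : M2) = (b : M2) * (g : M2) := by
      rw [← Matrix.SpecialLinearGroup.coe_mul, ← Matrix.SpecialLinearGroup.coe_mul, hgb]
    have hba : b * a = -(a * b) := by
      calc b * a = (b * a * b⁻¹) * b := by rw [mul_assoc, mul_assoc, inv_mul_cancel, mul_one]
        _ = a⁻¹ * b := by rw [hb]
        _ = -(a * b) := by rw [inv_eq_neg_of_mul_self a ha, neg_mul]
    have hba' : (b : M2) * (a : M2) = -((a : M2) * (b : M2)) := by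
      rw [← Matrix.SpecialLinearGroup.coe_mul, ← Matrix.SpecialLinearGroup.coe_mul, hba]
      simp
    have hβ : (2 * β) • ((a : M2) * (b : M2)) = 0 := by
      rw [hg] at hgb'
      simp only [add_mul, mul_add, smul_mul_assoc, mul_smul_comm, one_mul, mul_one] at hgb'
      have h4 : β • ((a : M2) * (b : M2)) = β • ((b : M2) * (a : M2)) := add_left_cancel hgb'
      rw [hba', smul_neg] at h4
      rw [mul_smul, two_smul]
      nth_rewrite 2 [h4]
      exact add_neg_cancel _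
    have hβ0 : β = 0 := by
      by_contra hne
      have h5 : (2 * β) ≠ 0 := mul_ne_zero h2 hne
      have h6 : ((a : M2) * (b : M2)) = 0 := by
        have := congrArg (fun M : M2 => (2 * β)⁻¹ • M) hβ
        simp only [smul_smul, inv_mul_cancel₀ h5, one_smul, smul_zero] at this
        exact this
      have h7 : ((a * b : SL2) : M2).det = 1 := (a * b).det_coe
      rw [Matrix.SpecialLinearGroup.coe_mul, h6] at h7
      simp at h7
    apply sl2_mem_center_of_not_nonScalar
    unfold Cfsg.Agent.Lib.H12.NonScalar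
    rw [not_not, hg, hβ0]
    simp
  · intro h
    rw [Subgroup.mem_center_iff] at h
    apply Subtype.ext
    apply Prod.ext
    · show g * y.1.1 * g⁻¹ = y.1.1
      rw [← h y.1.1, mul_assoc, mul_inv_cancel, mul_one]
    · show g * y.1.2 * g⁻¹ = y.1.2
      rw [← h y.1.2, mul_assoc, mul_inv_cancel, mul_one]

theorem card_orbit (h2 : (2 : F) ≠ 0) (y : QPair F) :
    Nat.card (MulAction.orbit SL2 y) * 2 = Nat.card SL2 := by
  have h := card_orbit_mul_card_stabilizer (P := SL2) y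
  rw [stabilizer_eq h2 y, card_center h2] at h
  exact h

/-- the pairs as a sigma type -/
def qPairSigma (F : Type*) [Field F] :
    QPair F ≃ Σ a : {a : Matrix.SpecialLinearGroup (Fin 2) F // a * a = -1},
      {b : Matrix.SpecialLinearGroup (Fin 2) F // b * a.1 * b⁻¹ = a.1⁻¹} where
  toFun y := ⟨⟨y.1.1, y.2.1⟩, ⟨y.1.2, y.2.2⟩⟩
  invFun s := ⟨(s.1.1, s.2.1), s.1.2, s.2.2⟩
  left_inv _ := rfl
  right_inv _ := rfl

theorem card_qPair [Fintype F] (hodd : Odd (Fintype.card F)) : Nat.card (QPair F) = Nat.card SL2 := by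
  classical
  have h2 : (2 : F) ≠ 0 := two_ne_zero_of_odd hodd
  haveI : Finite {a : SL2 // a * a = -1} := Subtype.finite
  haveI : Fintype {a : SL2 // a * a = -1} := Fintype.ofFinite _
  have hW : ∀ a : {a : SL2 // a * a = -1}, Nat.card {b : SL2 // b * a.1 * b⁻¹ = a.1⁻¹} =
      Nat.card (Subgroup.centralizer ({(j0 : SL2)} : Set SL2)) := by
    rintro ⟨a, ha⟩
    rw [card_inverting hodd ha]
    exact card_centralizer_of_isConj (isConj_of_mul_self hodd j0_mul_self ha)
  have hX : Nat.card {a : SL2 // a * a = -1} *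
      Nat.card (Subgroup.centralizer ({(j0 : SL2)} : Set SL2)) = Nat.card SL2 := by
    rw [← card_conj_mul_card_centralizer (j0 : SL2)]
    congr 1
    apply Nat.card_congr
    apply Equiv.subtypeEquivRight
    intro g
    constructor
    · intro hg
      exact isConj_of_mul_self hodd j0_mul_self hg
    · intro hg
      obtain ⟨d, rfl⟩ := isConj_iff.mp hg
      rw [conj_mul_self, j0_mul_self, conj_neg_one]
  rw [Nat.card_congr (qPairSigma F), Nat.card_sigma, Finset.sum_congr rfl (fun a _ => hW a),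
    Finset.sum_const, Finset.card_univ, smul_eq_mul, ← Nat.card_eq_fintype_card, hX]

/-- there are exactly two orbits on pairs -/
theorem exists_two_orbits [Fintype F] (hodd : Odd (Fintype.card F)) :
    ∃ y₁ y₂ : QPair F, ∀ y : QPair F, y ∈ MulAction.orbit SL2 y₁ ∨ y ∈ MulAction.orbit SL2 y₂ := by
  classical
  have h2 : (2 : F) ≠ 0 := two_ne_zero_of_odd hodd
  haveI : Finite (QPair F) := Subtype.finite
  obtain ⟨w, hw⟩ := exists_inverting hodd (trace_sq_ne_of_mul_self h2 (j0 : SL2) j0_mul_self)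
  obtain ⟨y₁, -⟩ : ∃ y₁ : QPair F, y₁ = ⟨(j0, w), j0_mul_self, hw⟩ := ⟨_, rfl⟩
  have hpos : 0 < Nat.card SL2 := Nat.card_pos
  have hcard := card_qPair hodd
  have ho₁ := card_orbit h2 y₁
  have hex : ∃ y₂ : QPair F, y₂ ∉ MulAction.orbit SL2 y₁ := by
    by_contra hall
    push Not at hall
    have huniv : MulAction.orbit SL2 y₁ = Set.univ := Set.eq_univ_of_forall hall
    have : Nat.card (MulAction.orbit SL2 y₁) = Nat.card (QPair F) := by
      rw [huniv]
      exact Nat.card_congr (Equiv.Set.univ _)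
    omega
  obtain ⟨y₂, hy₂⟩ := hex
  have ho₂ := card_orbit h2 y₂
  refine ⟨y₁, y₂, ?_⟩
  have hdisj : Disjoint (MulAction.orbit SL2 y₁) (MulAction.orbit SL2 y₂) := by
    rcases MulAction.orbit.eq_or_disjoint (G := SL2) y₁ y₂ with h | h
    · exfalso
      apply hy₂
      rw [h]
      exact MulAction.mem_orbit_self y₂
    · exact h
  have hunion : MulAction.orbit SL2 y₁ ∪ MulAction.orbit SL2 y₂ = Set.univ := by
    apply Set.eq_of_subset_of_ncard_le (Set.subset_univ _) _ (Set.toFinite _)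
    rw [Set.ncard_union_eq hdisj (Set.toFinite _) (Set.toFinite _), Set.ncard_univ,
      ← Nat.card_coe_set_eq, ← Nat.card_coe_set_eq]
    omega
  intro y
  have : y ∈ MulAction.orbit SL2 y₁ ∪ MulAction.orbit SL2 y₂ := by rw [hunion]; trivial
  exact this

/-- the pair of commuting involutions of `PSL₂` attached to a pair -/
def QPair.toInvPair (h2 : (2 : F) ≠ 0) (y : QPair F) : InvPair PSL2 :=
  ⟨(QuotientGroup.mk y.1.1, QuotientGroup.mk y.1.2), orderOf_mk_of_mul_self h2 y.2.1,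
    ((inverts_iff h2 y.2.1 y.1.2).mp y.2.2).1, ((inverts_iff h2 y.2.1 y.1.2).mp y.2.2).2.1,
    ((inverts_iff h2 y.2.1 y.1.2).mp y.2.2).2.2⟩

theorem isKleinFour_map_conj' {G : Type*} [Group G] {U : Subgroup G} (hU : IsKleinFour U) (g : G) :
    IsKleinFour ↥(U.map (MulAut.conj g).toMonoidHom) := by
  have e : U ≃* U.map (MulAut.conj g).toMonoidHom :=
    U.equivMapOfInjective _ (MulAut.conj g).injective
  exact ⟨by rw [← Nat.card_congr e.toEquiv]; exact hU.card_four,
    by rw [← Monoid.exponent_eq_of_mulEquiv e]; exact hU.exponent_two⟩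

theorem InvPair.klein_eq_of_mem {H : Type*} [Group H] (p : InvPair H) (V : Subgroup H)
    (hV : Nat.card V = 4) (h1 : p.1.1 ∈ V) (h3 : p.1.2 ∈ V) : p.klein.1 = V :=
  kleinSub_eq_of_mem hV p.2.2.2.2 (mul_self_of_orderOf p.2.1) (mul_self_of_orderOf p.2.2.1)
    (ne_one_of_orderOf p.2.1) (ne_one_of_orderOf p.2.2.1) p.2.2.2.1 h1 h3

/-- equivariance of the Klein four-subgroup attached to a pair -/
theorem klein_smul (h2 : (2 : F) ≠ 0) (g : SL2) (y : QPair F) :
    ((g • y).toInvPair h2).klein.1 =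
      ((y.toInvPair h2).klein.1).map (MulAut.conj (QuotientGroup.mk g : PSL2)).toMonoidHom := by
  have hK := isKleinFour_map_conj' (y.toInvPair h2).klein.2 (QuotientGroup.mk g : PSL2)
  apply InvPair.klein_eq_of_mem _ _ hK.card_four
  · refine ⟨_, (y.toInvPair h2).fst_mem, ?_⟩
    show (QuotientGroup.mk g : PSL2) * QuotientGroup.mk y.1.1 * (QuotientGroup.mk g : PSL2)⁻¹ =
      QuotientGroup.mk (g * y.1.1 * g⁻¹)
    rfl
  · refine ⟨_, (y.toInvPair h2).snd_mem, ?_⟩
    show (QuotientGroup.mk g : PSL2) * QuotientGroup.mk y.1.2 * (QuotientGroup.mk g : PSL2)⁻¹ =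
      QuotientGroup.mk (g * y.1.2 * g⁻¹)
    rfl

/-- every Klein four-subgroup comes from a pair -/
theorem exists_qPair_klein (h2 : (2 : F) ≠ 0) [Finite F] (W : Subgroup PSL2) (hW : IsKleinFour W) :
    ∃ y : QPair F, (y.toInvPair h2).klein.1 = W := by
  have h6 := card_pairs_of_card_four W hW.card_four
  have hne : Nonempty {q : W × W // q.1 ≠ 1 ∧ q.2 ≠ 1 ∧ q.2 ≠ q.1} := by
    by_contra hemp
    rw [not_nonempty_iff] at hemp
    rw [Nat.card_of_isEmpty] at h6
    omega
  obtain ⟨q⟩ := hne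
  obtain ⟨⟨⟨u, v⟩, hu, hv, hne', hc⟩, hp⟩ := (fiberEquiv ⟨W, hW⟩).symm q
  obtain ⟨a, ha, rfl⟩ := exists_lift_of_orderOf_two h2 u hu
  obtain ⟨b, hb, rfl⟩ := exists_lift_of_orderOf_two h2 v hv
  have hinv : b * a * b⁻¹ = a⁻¹ := (inverts_iff h2 ha b).mpr ⟨hv, hne', hc⟩
  refine ⟨⟨(a, b), ha, hinv⟩, ?_⟩
  exact congrArg Subtype.val hp

/-- there are at most two classes of Klein four-subgroups -/
theorem exists_two_klein [Fintype F] (hodd : Odd (Fintype.card F)) :
    ∃ V₁ V₂ : Subgroup PSL2, IsKleinFour V₁ ∧ IsKleinFour V₂ ∧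
      ∀ W : Subgroup PSL2, IsKleinFour W →
        (∃ g : PSL2, W = V₁.map (MulAut.conj g).toMonoidHom) ∨
        (∃ g : PSL2, W = V₂.map (MulAut.conj g).toMonoidHom) := by
  have h2 : (2 : F) ≠ 0 := two_ne_zero_of_odd hodd
  obtain ⟨y₁, y₂, hy⟩ := exists_two_orbits hodd
  refine ⟨(y₁.toInvPair h2).klein.1, (y₂.toInvPair h2).klein.1, (y₁.toInvPair h2).klein.2,
    (y₂.toInvPair h2).klein.2, ?_⟩
  intro W hW
  obtain ⟨y, rfl⟩ := exists_qPair_klein h2 W hW
  rcases hy y with h | h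
  · left
    obtain ⟨g, rfl⟩ := h
    exact ⟨QuotientGroup.mk g, klein_smul h2 g y₁⟩
  · right
    obtain ⟨g, rfl⟩ := h
    exact ⟨QuotientGroup.mk g, klein_smul h2 g y₂⟩

end Cfsg.Agent.Lib.H5.PSL2KleinConj
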