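import Mathlib
import Cfsg.Agent.Lib.H5.PSL2KleinConj
import Cfsg.Agent.Lib.H5.S4Recog
import Cfsg.Agent.S0228

set_option autoImplicit false

/-!
# Normalizers of Klein four-subgroups of `PSL₂(q)`, `q` odd

A Klein four-subgroup `V` is self-centralizing and `|N(V)| ∈ {12, 24}`; `N(V)` is `A₄` or `S₄`.
-/

namespace Cfsg.Agent.Lib.H5.PSL2KleinNorm

open Matrix Cfsg.Agent.Lib.H12 Cfsg.Agent.Lib.H5 Cfsg.Agent.Lib.H5.SL2Four
  Cfsg.Agent.Lib.H5.KleinCount Cfsg.Agent.Lib.H5.PSL2Klein Cfsg.Agent.Lib.H5.PSL2KleinConj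
  Cfsg.Agent.Lib.H5.S4Recog

section Generic

/-- automorphisms of a group of order four embed in the symmetric group on three letters -/
def restrictHom (V : Type*) [Group V] : MulAut V →* Equiv.Perm {v : V // v ≠ 1} where
  toFun φ := Equiv.Perm.subtypePerm (φ.toEquiv : Equiv.Perm V) (fun x => by
    show φ x ≠ 1 ↔ x ≠ 1
    exact EmbeddingLike.map_ne_one_iff)
  map_one' := by
    apply Equiv.ext
    intro x
    rfl
  map_mul' φ ψ := by
    apply Equiv.ext
    intro x
    rfl

theorem restrictHom_injective (V : Type*) [Group V] : Function.Injective (restrictHom V) := by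
  intro φ ψ h
  ext v
  by_cases hv : v = 1
  · rw [hv, map_one, map_one]
  · have := congrArg (fun σ : Equiv.Perm {v : V // v ≠ 1} => ((σ ⟨v, hv⟩ : {v : V // v ≠ 1}) : V)) h
    exact this

theorem card_mulAut_dvd_six (V : Type*) [Group V] (hV : Nat.card V = 4) :
    Nat.card (MulAut V) ∣ 6 := by
  classical
  haveI : Finite V := Nat.finite_of_card_ne_zero (by omega)
  haveI : Fintype V := Fintype.ofFinite V
  have h1 := Subgroup.card_dvd_of_injective (restrictHom V) (restrictHom_injective V)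
  have h3 : Nat.card (Equiv.Perm {v : V // v ≠ 1}) = 6 := by
    rw [Nat.card_eq_fintype_card, Fintype.card_perm]
    have : Fintype.card {v : V // v ≠ 1} = 3 := by
      have h4 : Fintype.card {v : V // ¬ v = 1} = Fintype.card V - Fintype.card {v : V // v = 1} :=
        Fintype.card_subtype_compl _
      have h5 : Fintype.card V = 4 := by rw [← Nat.card_eq_fintype_card]; exact hV
      rw [Fintype.card_subtype_eq, h5] at h4
      exact h4
    rw [this]
    rfl
  rwa [h3] at h1

end Generic

variable {F : Type*} [Field F]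

local notation "SL2" => Matrix.SpecialLinearGroup (Fin 2) F
local notation "M2" => Matrix (Fin 2) (Fin 2) F
local notation "PSL2" => Matrix.ProjectiveSpecialLinearGroup (Fin 2) F

theorem exists_klein [Fintype F] (hodd : Odd (Fintype.card F)) :
    ∃ V : Subgroup PSL2, IsKleinFour V := by
  have h2 : (2 : F) ≠ 0 := two_ne_zero_of_odd hodd
  obtain ⟨w, hw⟩ := exists_inverting hodd (trace_sq_ne_of_mul_self h2 (j0 : SL2) j0_mul_self)
  obtain ⟨y, -⟩ : ∃ y : QPair F, y = ⟨(j0, w), j0_mul_self, hw⟩ := ⟨_, rfl⟩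
  exact ⟨(y.toInvPair h2).klein.1, (y.toInvPair h2).klein.2⟩

theorem mem_center_of_fix (h2 : (2 : F) ≠ 0) (y : QPair F) (g : SL2)
    (h1 : g * y.1.1 * g⁻¹ = y.1.1) (h3 : g * y.1.2 * g⁻¹ = y.1.2) : g ∈ Subgroup.center SL2 := by
  rw [← stabilizer_eq h2 y, MulAction.mem_stabilizer_iff]
  apply Subtype.ext
  exact Prod.ext h1 h3

theorem conj_neg (g a : SL2) : g * (-a) * g⁻¹ = -(g * a * g⁻¹) := by
  rw [mul_neg, neg_mul]

/-- a Klein four-subgroup of `PSL₂(q)` is self-centralizing -/
theorem centralizer_klein_le (h2 : (2 : F) ≠ 0) [Finite F] (V : Subgroup PSL2) (hV : IsKleinFour V) :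
    Subgroup.centralizer (V : Set PSL2) ≤ V := by
  obtain ⟨y, rfl⟩ := exists_qPair_klein h2 V hV
  obtain ⟨a, haeq⟩ : ∃ a : SL2, a = y.1.1 := ⟨_, rfl⟩
  obtain ⟨b, hbeq⟩ : ∃ b : SL2, b = y.1.2 := ⟨_, rfl⟩
  have ha : a * a = -1 := by rw [haeq]; exact y.2.1
  have hb : b * a * b⁻¹ = a⁻¹ := by rw [haeq, hbeq]; exact y.2.2
  have hainv : a⁻¹ = -a := inv_eq_neg_of_mul_self a ha
  have hbab : b * a * b⁻¹ = -a := by rw [hb, hainv]
  have haba : a * b * a⁻¹ = -b := by
    have h1 : b * a = -(a * b) := by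
      calc b * a = (b * a * b⁻¹) * b := by rw [mul_assoc, mul_assoc, inv_mul_cancel, mul_one]
        _ = -(a * b) := by rw [hbab, neg_mul]
    have h3 : a * b = -(b * a) := by rw [h1, neg_neg]
    rw [h3, neg_mul, mul_assoc, mul_inv_cancel, mul_one]
  have haV : (QuotientGroup.mk a : PSL2) ∈ (y.toInvPair h2).klein.1 := by
    rw [haeq]; exact (y.toInvPair h2).fst_mem
  have hbV : (QuotientGroup.mk b : PSL2) ∈ (y.toInvPair h2).klein.1 := by
    rw [hbeq]; exact (y.toInvPair h2).snd_mem
  intro x hx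
  obtain ⟨g, rfl⟩ := QuotientGroup.mk_surjective x
  rw [Subgroup.mem_centralizer_iff] at hx
  have hga : g * a * g⁻¹ = a ∨ g * a * g⁻¹ = -a := by
    rw [← mk_eq_mk_iff]
    have := hx _ haV
    rw [QuotientGroup.mk_mul, QuotientGroup.mk_mul, QuotientGroup.mk_inv, ← this]
    group
  have hgb : g * b * g⁻¹ = b ∨ g * b * g⁻¹ = -b := by
    rw [← mk_eq_mk_iff]
    have := hx _ hbV
    rw [QuotientGroup.mk_mul, QuotientGroup.mk_mul, QuotientGroup.mk_inv, ← this]
    group
  have key : ∀ t : SL2, (QuotientGroup.mk t : PSL2) ∈ (y.toInvPair h2).klein.1 →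
      (g * t) * a * (g * t)⁻¹ = a → (g * t) * b * (g * t)⁻¹ = b →
      (QuotientGroup.mk g : PSL2) ∈ (y.toInvPair h2).klein.1 := by
    intro t ht h1 h3
    have hc := mem_center_of_fix h2 y (g * t) (by rw [← haeq]; exact h1) (by rw [← hbeq]; exact h3)
    have h4 : (QuotientGroup.mk (g * t) : PSL2) = 1 := (QuotientGroup.eq_one_iff _).mpr hc
    rw [QuotientGroup.mk_mul] at h4
    have h5 : (QuotientGroup.mk g : PSL2) = (QuotientGroup.mk t : PSL2)⁻¹ :=
      eq_inv_of_mul_eq_one_left h4
    rw [h5]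
    exact Subgroup.inv_mem _ ht
  rcases hga with hga | hga <;> rcases hgb with hgb | hgb
  · apply key 1 (Subgroup.one_mem _)
    · rw [mul_one]; exact hga
    · rw [mul_one]; exact hgb
  · apply key a haV
    · rw [conj_mul', mul_assoc a a, mul_inv_cancel, mul_one]; exact hga
    · rw [conj_mul', haba, conj_neg, hgb, neg_neg]
  · apply key b hbV
    · rw [conj_mul', hbab, conj_neg, hga, neg_neg]
    · rw [conj_mul', mul_assoc b b, mul_inv_cancel, mul_one]; exact hgb
  · apply key (a * b) (by rw [QuotientGroup.mk_mul]; exact Subgroup.mul_mem _ haV hbV)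
    · rw [conj_mul', conj_mul', hbab, conj_neg, mul_assoc a a, mul_inv_cancel, mul_one, conj_neg, hga,
        neg_neg]
    · rw [conj_mul', conj_mul', mul_assoc b b, mul_inv_cancel, mul_one, haba, conj_neg, hgb, neg_neg]

theorem centralizer_klein_eq (h2 : (2 : F) ≠ 0) [Finite F] (V : Subgroup PSL2) (hV : IsKleinFour V) :
    Subgroup.centralizer (V : Set PSL2) = V := by
  apply le_antisymm (centralizer_klein_le h2 V hV)
  intro x hx
  rw [Subgroup.mem_centralizer_iff]
  intro v hv
  exact klein_comm hV hv hx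

theorem card_normalizer_dvd (h2 : (2 : F) ≠ 0) [Finite F] (V : Subgroup PSL2) (hV : IsKleinFour V) :
    Nat.card (Subgroup.normalizer (V : Set PSL2)) ∣ 24 := by
  have h1 := relIndex_centralizer_normalizer_dvd V
  have h3 := card_mulAut_dvd_six V hV.card_four
  have h4 : Nat.card (Subgroup.centralizer (V : Set PSL2)) *
      (Subgroup.centralizer (V : Set PSL2)).relIndex (Subgroup.normalizer (V : Set PSL2)) =
      Nat.card (Subgroup.normalizer (V : Set PSL2)) := by
    have hle : Subgroup.centralizer (V : Set PSL2) ≤ Subgroup.normalizer (V : Set PSL2) := by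
      rw [centralizer_klein_eq h2 V hV]; exact Subgroup.le_normalizer
    have := Subgroup.relIndex_mul_relIndex ⊥ _ _ bot_le hle
    rwa [Subgroup.relIndex_bot_left, Subgroup.relIndex_bot_left] at this
  rw [centralizer_klein_eq h2 V hV, hV.card_four] at h4
  rw [centralizer_klein_eq h2 V hV] at h1
  rw [← h4]
  obtain ⟨k, hk⟩ := h1.trans h3
  exact ⟨k, by rw [mul_assoc, ← hk]; rfl⟩

theorem twelve_le_card_normalizer [Fintype F] (hodd : Odd (Fintype.card F)) (V : Subgroup PSL2)
    (hV : IsKleinFour V) : 12 ≤ Nat.card (Subgroup.normalizer (V : Set PSL2)) := by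
  have h1 := ConjSubgroupCount.card_eq_card_conj_mul_card_normalizer V
  have h12 := twelve_mul_card_klein (F := F) hodd
  have hle : Nat.card {W : Subgroup PSL2 // ∃ g : PSL2, W = V.map (MulAut.conj g).toMonoidHom} ≤
      Nat.card {W : Subgroup PSL2 // IsKleinFour W} := by
    apply Nat.card_le_card_of_injective
      (fun W => (⟨W.1, by obtain ⟨g, hg⟩ := W.2; rw [hg]; exact isKleinFour_map_conj' hV g⟩ :
        {W : Subgroup PSL2 // IsKleinFour W}))
    intro W W' h
    exact Subtype.ext (Subtype.mk.inj h)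
  have hpos : 0 < Nat.card {W : Subgroup PSL2 // ∃ g : PSL2, W = V.map (MulAut.conj g).toMonoidHom} := by
    haveI : Nonempty {W : Subgroup PSL2 // ∃ g : PSL2, W = V.map (MulAut.conj g).toMonoidHom} :=
      ⟨⟨_, 1, rfl⟩⟩
    exact Nat.card_pos
  by_contra hlt
  push Not at hlt
  have : Nat.card {W : Subgroup PSL2 // ∃ g : PSL2, W = V.map (MulAut.conj g).toMonoidHom} *
      Nat.card (Subgroup.normalizer (V : Set PSL2)) <
      12 * Nat.card {W : Subgroup PSL2 // ∃ g : PSL2, W = V.map (MulAut.conj g).toMonoidHom} := by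
    rw [mul_comm 12]
    exact Nat.mul_lt_mul_of_pos_left hlt hpos
  nlinarith

theorem card_normalizer_klein [Fintype F] (hodd : Odd (Fintype.card F)) (V : Subgroup PSL2)
    (hV : IsKleinFour V) :
    Nat.card (Subgroup.normalizer (V : Set PSL2)) = 12 ∨
      Nat.card (Subgroup.normalizer (V : Set PSL2)) = 24 := by
  have h2 : (2 : F) ≠ 0 := two_ne_zero_of_odd hodd
  have h1 := card_normalizer_dvd h2 V hV
  have h3 := twelve_le_card_normalizer hodd V hV
  have h4 : Nat.card (Subgroup.normalizer (V : Set PSL2)) ≤ 24 := Nat.le_of_dvd (by norm_num) h1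
  interval_cases hn : Nat.card (Subgroup.normalizer (V : Set PSL2)) <;> simp_all

/-- the Klein four-subgroup inside its normalizer -/
theorem klein_in_normalizer {G : Type*} [Group G] (V : Subgroup G) (hV : IsKleinFour V) :
    IsKleinFour (V.subgroupOf (Subgroup.normalizer (V : Set G))) := by
  have e : V.subgroupOf (Subgroup.normalizer (V : Set G)) ≃* V :=
    Subgroup.subgroupOfEquivOfLe Subgroup.le_normalizer
  exact ⟨by rw [Nat.card_congr e.toEquiv]; exact hV.card_four,
    by rw [Monoid.exponent_eq_of_mulEquiv e]; exact hV.exponent_two⟩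

theorem centralizer_subgroupOf_le {G : Type*} [Group G] (V : Subgroup G)
    (hC : Subgroup.centralizer (V : Set G) ≤ V) :
    Subgroup.centralizer ((V.subgroupOf (Subgroup.normalizer (V : Set G)) :
      Subgroup (Subgroup.normalizer (V : Set G))) : Set (Subgroup.normalizer (V : Set G))) ≤
      V.subgroupOf (Subgroup.normalizer (V : Set G)) := by
  intro x hx
  rw [Subgroup.mem_subgroupOf]
  apply hC
  rw [Subgroup.mem_centralizer_iff]
  intro v hv
  rw [Subgroup.mem_centralizer_iff] at hx
  have := hx ⟨v, Subgroup.le_normalizer hv⟩ (by rw [SetLike.mem_coe, Subgroup.mem_subgroupOf]; exact hv)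
  exact congrArg Subtype.val this

/-- if `|N(V)| = 24` then `N(V) ≅ S₄` -/
theorem normalizer_equiv_S4 {G : Type*} [Group G] (V : Subgroup G) (hV : IsKleinFour V)
    (hC : Subgroup.centralizer (V : Set G) ≤ V)
    (h24 : Nat.card (Subgroup.normalizer (V : Set G)) = 24) :
    Nonempty (Subgroup.normalizer (V : Set G) ≃* Equiv.Perm (Fin 4)) := by
  haveI : Finite (Subgroup.normalizer (V : Set G)) := Nat.finite_of_card_ne_zero (by omega)
  exact nonempty_mulEquiv_perm_four h24 (V.subgroupOf (Subgroup.normalizer (V : Set G)))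
    (klein_in_normalizer V hV) (centralizer_subgroupOf_le V hC)

/-- if `|N(V)| = 12` then `N(V) ≅ A₄` -/
theorem normalizer_equiv_A4 {G : Type*} [Group G] (V : Subgroup G) (hV : IsKleinFour V)
    (hC : Subgroup.centralizer (V : Set G) ≤ V)
    (h12 : Nat.card (Subgroup.normalizer (V : Set G)) = 12) :
    Nonempty (Subgroup.normalizer (V : Set G) ≃* alternatingGroup (Fin 4)) := by
  haveI : Finite (Subgroup.normalizer (V : Set G)) := Nat.finite_of_card_ne_zero (by omega)
  haveI : Fact (Nat.Prime 3) := ⟨Nat.prime_three⟩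
  apply Cfsg.Agent.S0228.result h12
  intro z hz2 hzc
  rw [Subgroup.mem_center_iff] at hzc
  -- z lies in V
  have hzV : (z : G) ∈ V := by
    apply hC
    rw [Subgroup.mem_centralizer_iff]
    intro v hv
    have := hzc ⟨v, Subgroup.le_normalizer hv⟩
    exact congrArg Subtype.val this
  have hz1 : (z : G) ≠ 1 := by
    intro h
    have : z = 1 := Subtype.ext h
    rw [this, orderOf_one] at hz2
    omega
  obtain ⟨h, hh⟩ := exists_prime_orderOf_dvd_card' (G := Subgroup.normalizer (V : Set G)) 3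
    (by rw [h12]; norm_num)
  have hh3 : (h : G) ^ 3 = 1 := by
    have := pow_orderOf_eq_one h
    rw [hh] at this
    exact congrArg Subtype.val this
  have hfix : (h : G) * z * (h : G)⁻¹ = z := by
    have h1 : (h : G) * z = z * h := congrArg Subtype.val (hzc h)
    rw [h1]; group
  have hn : ∀ v ∈ V, (h : G) * v * (h : G)⁻¹ ∈ V := fun v hv =>
    (Subgroup.mem_normalizer_iff.mp h.2 v).mp hv
  have hcent := centralizes_of_fix hV hn hh3 hzV hz1 hfix
  have hhV : (h : G) ∈ V := by
    apply hC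
    rw [Subgroup.mem_centralizer_iff]
    intro v hv
    have := hcent v hv
    calc v * (h : G) = ((h : G) * v * (h : G)⁻¹) * h := by rw [this]
      _ = h * v := by group
  have hh2 : (h : G) * h = 1 := klein_mul_self hV hhV
  have hh1 : (h : G) = 1 := by
    calc (h : G) = (h : G) ^ 3 * ((h : G) * h)⁻¹ := by group
      _ = 1 := by rw [hh3, hh2]; group
  have : h = 1 := Subtype.ext hh1
  rw [this, orderOf_one] at hh
  omega

/-- transport of an isomorphism type from a subgroup of a subgroup -/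
theorem exists_subgroup_of_subgroup {G A : Type*} [Group G] [Group A] (N : Subgroup G)
    (h : ∃ H : Subgroup N, Nonempty (H ≃* A)) : ∃ H : Subgroup G, Nonempty (H ≃* A) := by
  obtain ⟨H, ⟨e⟩⟩ := h
  exact ⟨H.map N.subtype,
    ⟨(H.equivMapOfInjective N.subtype N.subtype_injective).symm.trans e⟩⟩

/-- `PSL₂(q)`, `q` odd, contains `A₄` -/
theorem exists_A4 [Fintype F] (hodd : Odd (Fintype.card F)) :
    ∃ H : Subgroup PSL2, Nonempty (H ≃* alternatingGroup (Fin 4)) := by
  have h2 : (2 : F) ≠ 0 := two_ne_zero_of_odd hodd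
  obtain ⟨V, hV⟩ := exists_klein hodd
  have hC := centralizer_klein_le h2 V hV
  rcases card_normalizer_klein hodd V hV with h | h
  · exact ⟨_, normalizer_equiv_A4 V hV hC h⟩
  · obtain ⟨e⟩ := normalizer_equiv_S4 V hV hC h
    exact exists_subgroup_of_subgroup _ (exists_A4_of_S4 e)

end Cfsg.Agent.Lib.H5.PSL2KleinNorm
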