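import Mathlib
import Cfsg.Prelude.Def_CaseTheorems
import Cfsg.Prelude.Def_TwoFusion
import Cfsg.Agent.Lib.H5.PSL2KleinNorm

/-!
# S3206 piece PSL2F: `PSL₂(F)`, `|F|` odd `> 3`, with all 2-subgroups abelian, has trivial centre,
trivial odd core, and a self-centralizing elementary abelian Sylow 2-subgroup of order 4.
-/

set_option autoImplicit false

namespace Cfsg.Agent.Lib.H5.JRPSL2F

open Cfsg.Agent.Lib.H5.PSL2KleinNorm

theorem PSL2F {F : Type*} [Field F] [Fintype F] (hFo : Odd (Fintype.card F)) (hF3 : 3 < Fintype.card F)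
    (hab : ∀ Q : Subgroup (Matrix.ProjectiveSpecialLinearGroup (Fin 2) F), IsPGroup 2 ↥Q →
      ∀ a ∈ Q, ∀ b ∈ Q, a * b = b * a) :
    Subgroup.center (Matrix.ProjectiveSpecialLinearGroup (Fin 2) F) = ⊥ ∧
    Cfsg.pPrimeCore 2 (Matrix.ProjectiveSpecialLinearGroup (Fin 2) F) = ⊥ ∧
    ∃ P : Sylow 2 (Matrix.ProjectiveSpecialLinearGroup (Fin 2) F),
      Nat.card ↥(P : Subgroup (Matrix.ProjectiveSpecialLinearGroup (Fin 2) F)) = 4 ∧
      (∀ v ∈ (P : Subgroup (Matrix.ProjectiveSpecialLinearGroup (Fin 2) F)), v * v = 1) ∧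
      Subgroup.centralizer ((P : Subgroup (Matrix.ProjectiveSpecialLinearGroup (Fin 2) F)) :
        Set (Matrix.ProjectiveSpecialLinearGroup (Fin 2) F)) ≤
        (P : Subgroup (Matrix.ProjectiveSpecialLinearGroup (Fin 2) F)) := by
  classical
  haveI : IsSimpleGroup (Matrix.ProjectiveSpecialLinearGroup (Fin 2) F) :=
    Matrix.ProjectiveSpecialLinearGroup.rank_two_simple (by rw [Nat.card_eq_fintype_card]; omega)
  have h2 : (2 : F) ≠ 0 := by
    intro h
    have hc : ((Fintype.card F : ℕ) : F) = 0 := FiniteField.cast_card_eq_zero F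
    obtain ⟨k, hk⟩ := hFo
    rw [hk] at hc
    push_cast at hc
    rw [h, zero_mul, zero_add] at hc
    exact one_ne_zero hc
  obtain ⟨V, hV⟩ := exists_klein hFo
  have hV4 : Nat.card V = 4 := hV.card_four
  have hVdvd : 4 ∣ Nat.card (Matrix.ProjectiveSpecialLinearGroup (Fin 2) F) := by
    rw [← hV4]; exact Subgroup.card_subgroup_dvd_card V
  have hVc := centralizer_klein_le h2 V hV
  refine ⟨?_, ?_, ?_⟩
  · -- centre
    have hcn : (Subgroup.center (Matrix.ProjectiveSpecialLinearGroup (Fin 2) F)).Normal :=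
      inferInstance
    rcases hcn.eq_bot_or_eq_top with h | h
    · exact h
    · exfalso
      letI : CommGroup (Matrix.ProjectiveSpecialLinearGroup (Fin 2) F) :=
        Group.commGroupOfCenterEqTop h
      have hp : (Nat.card (Matrix.ProjectiveSpecialLinearGroup (Fin 2) F)).Prime :=
        IsSimpleGroup.prime_card
      rcases (Nat.dvd_prime hp).mp hVdvd with h1 | h1
      · omega
      · rw [← h1] at hp
        exact absurd hp (by decide)
  · -- odd core
    unfold Cfsg.pPrimeCore
    rw [sSup_eq_bot]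
    rintro N ⟨hN, hcop⟩
    rcases hN.eq_bot_or_eq_top with h | h
    · exact h
    · exfalso
      rw [h, Subgroup.card_top] at hcop
      have h2dvd : 2 ∣ Nat.card (Matrix.ProjectiveSpecialLinearGroup (Fin 2) F) :=
        Dvd.dvd.trans (by norm_num) hVdvd
      have := Nat.Coprime.eq_one_of_dvd hcop.symm h2dvd
      omega
  · -- the Sylow subgroup
    have hV2 : IsPGroup 2 V := IsPGroup.of_card (n := 2) (by rw [hV4]; norm_num)
    obtain ⟨P, hVP⟩ := hV2.exists_le_sylow
    have hPab := hab P P.isPGroup'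
    have hPV : (P : Subgroup (Matrix.ProjectiveSpecialLinearGroup (Fin 2) F)) = V := by
      apply le_antisymm _ hVP
      intro x hx
      apply hVc
      rw [Subgroup.mem_centralizer_iff]
      intro v hv
      exact hPab v (hVP hv) x hx
    refine ⟨P, ?_, ?_, ?_⟩
    · rw [hPV]; exact hV4
    · intro v hv
      rw [hPV] at hv
      have h1 : (⟨v, hv⟩ : V) ^ Monoid.exponent V = 1 := Monoid.pow_exponent_eq_one _
      rw [hV.exponent_two, pow_two] at h1
      exact congrArg Subtype.val h1
    · rw [hPV]; exact hVc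

end Cfsg.Agent.Lib.H5.JRPSL2F
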