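import Mathlib

set_option autoImplicit false

namespace Cfsg.Agent.Lib.H5.AG

open Equiv Equiv.Perm Subgroup

/-- a permutation of `Fin (n + 1)` fixing `0` comes from a permutation of `Fin n`. -/
theorem h7_forall_fix_zero {n : ℕ} (P : Perm (Fin (n + 1)) → Prop)
    (h : ∀ y : Perm (Fin n), P (decomposeFin.symm (0, y))) :
    ∀ x : Perm (Fin (n + 1)), x 0 = 0 → P x := by
  intro x hx
  obtain ⟨⟨p, e⟩, rfl⟩ := decomposeFin.symm.surjective x
  rw [decomposeFin_symm_apply_zero] at hx
  subst hx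
  exact h e

/-- kernel enumeration over the `120` permutations of the last five points. -/
theorem h7_word_exists_aux : ∀ z : Perm (Fin 5),
    (decomposeFin.symm ((0 : Fin 7), decomposeFin.symm ((0 : Fin 6), z))) 2 = 3 →
    (decomposeFin.symm ((0 : Fin 7), decomposeFin.symm ((0 : Fin 6), z))) ^ 5 = 1 →
    (decomposeFin.symm ((0 : Fin 7), decomposeFin.symm ((0 : Fin 6), z))).support.card = 5 →
    ∃ b : Fin 3, ∃ a : Fin 7,
      ((((decomposeFin.symm ((0 : Fin 7), decomposeFin.symm ((0 : Fin 6), z))) ^ (b : ℕ)) *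
        (finRotate 7) ^ (a : ℕ)) ^ 2).support.card = 3 := by
  decide +kernel

/-- each normalised `5`-cycle `x` in degree `7` has a word `(x ^ b * r ^ a) ^ 2`
(`r = finRotate 7`) moving exactly three points. -/
theorem h7_word_exists : ∀ x : Perm (Fin 7), x 0 = 0 → x 1 = 1 → x 2 = 3 → x ^ 5 = 1 →
    x.support.card = 5 →
    ∃ b : Fin 3, ∃ a : Fin 7,
      (((x ^ (b : ℕ)) * (finRotate 7) ^ (a : ℕ)) ^ 2).support.card = 3 := by
  refine h7_forall_fix_zero _ ?_
  intro y hy1
  have hy0 : y 0 = 0 := by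
    have h := decomposeFin_symm_apply_one y (0 : Fin 7)
    rw [hy1] at h
    simp only [swap_self, Equiv.refl_apply] at h
    have h1 : (1 : Fin 7) = (0 : Fin 6).succ := rfl
    rw [h1] at h
    exact (Fin.succ_injective _ h).symm
  revert hy1
  revert y
  refine h7_forall_fix_zero _ ?_
  intro z _
  exact h7_word_exists_aux z

/-- the cyclic group generated by `finRotate 7` is transitive. -/
theorem h7_rot_trans : ∀ a b : Fin 7, ∃ k : Fin 7, ((finRotate 7) ^ (k : ℕ)) a = b := by
  decide +kernel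

/-- (H7) the 6 normalised 5-cycles in degree 7. -/
theorem normalized7 : ∀ x : Perm (Fin 7), x 0 = 0 → x 1 = 1 → x 2 = 3 → x.cycleType = {5} →
    alternatingGroup (Fin 7) ≤ closure ({x, finRotate 7} : Set (Perm (Fin 7))) := by
  intro x h0 h1 h2 hx
  have hord : orderOf x = 5 := by
    rw [← lcm_cycleType, hx]; simp
  have hx5 : x ^ 5 = 1 := by rw [← hord]; exact pow_orderOf_eq_one x
  have hsupp : x.support.card = 5 := by
    rw [← sum_cycleType, hx]; simp
  obtain ⟨b, a, hw⟩ := h7_word_exists x h0 h1 h2 hx5 hsupp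
  set G : Subgroup (Perm (Fin 7)) := closure ({x, finRotate 7} : Set (Perm (Fin 7))) with hG
  have hxG : x ∈ G := subset_closure (by simp)
  have hrG : finRotate 7 ∈ G := subset_closure (by simp)
  have hwG : ((x ^ (b : ℕ)) * (finRotate 7) ^ (a : ℕ)) ^ 2 ∈ G :=
    pow_mem (mul_mem (pow_mem hxG _) (pow_mem hrG _)) _
  have h3 : (((x ^ (b : ℕ)) * (finRotate 7) ^ (a : ℕ)) ^ 2).IsThreeCycle :=
    card_support_eq_three_iff.mp hw
  have htr : MulAction.IsPretransitive G (Fin 7) := by
    refine ⟨fun u v => ?_⟩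
    obtain ⟨k, hk⟩ := h7_rot_trans u v
    exact ⟨⟨(finRotate 7) ^ (k : ℕ), pow_mem hrG _⟩, hk⟩
  have hprim : MulAction.IsPreprimitive G (Fin 7) := by
    apply MulAction.IsPreprimitive.of_prime_card
    rw [Nat.card_eq_fintype_card, Fintype.card_fin]
    norm_num
  exact alternatingGroup_le_of_isPreprimitive_of_isThreeCycle_mem hprim h3 hwG

end Cfsg.Agent.Lib.H5.AG
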