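/-
S5401 second farm-out (architect helper17), piece **S5401-TRQ** : over the field with three elements the sum of eight squares is a
hyperbolic form, so `PΩ(quadFormPlus 4) ≃* PΩ(sumSq 8)`.  Exact statement of tools/blueprints/S5401_sigs2.lean.

`v₀² + v₁² + v₂² + v₃² = (v₀ - v₂ - v₃)(v₀ + v₂ + v₃) + (v₁ - v₂ + v₃)(v₁ + v₂ - v₃)` over `ZMod 3`.
-/
import Mathlib
import Cfsg.Agent.Lib.H11.IsoReindex
import Cfsg.Agent.Lib.H17.FT.SumSq

set_option autoImplicit false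

namespace Cfsg.Agent.Lib.H5.FT

open Matrix Cfsg.Agent.Lib.H11.IsoReindex

/-- an isomorphism induces an isomorphism of commutator subgroups -/
noncomputable def commCongr {G G' : Type*} [Group G] [Group G'] (Θ : G ≃* G') :
    ↥(commutator G) ≃* ↥(commutator G') :=
  (Θ.subgroupMap (commutator G)).trans (MulEquiv.subgroupCongr (by
    rw [commutator_def, Subgroup.map_commutator,
      Subgroup.map_top_of_surjective _ Θ.surjective, commutator_def]))

/-- an isomorphism induces an isomorphism of central quotients -/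
noncomputable def centQuotCongr {A B : Type*} [Group A] [Group B] (Ψ : A ≃* B) :
    (A ⧸ Subgroup.center A) ≃* (B ⧸ Subgroup.center B) :=
  QuotientGroup.congr (Subgroup.center A) (Subgroup.center B) Ψ (by
    ext y
    rw [Subgroup.mem_map, Subgroup.mem_center_iff]
    constructor
    · rintro ⟨x, hx, rfl⟩ g
      rw [Subgroup.mem_center_iff] at hx
      have := congrArg Ψ (hx (Ψ.symm g))
      rwa [map_mul, map_mul, MulEquiv.apply_symm_apply] at this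
    · intro hy
      refine ⟨Ψ.symm y, ?_, MulEquiv.apply_symm_apply _ _⟩
      rw [Subgroup.mem_center_iff]
      intro g
      have := congrArg Ψ.symm (hy (Ψ g))
      rwa [map_mul, map_mul, MulEquiv.symm_apply_apply] at this)

section conj

variable {F : Type*} [Field F] {ι : Type} [Fintype ι] [DecidableEq ι]

theorem inv_mulVec_mulVec (L : GL ι F) (v : ι → F) : (L⁻¹).1 *ᵥ (L.1 *ᵥ v) = v := by
  rw [Matrix.mulVec_mulVec, ← Units.val_mul, inv_mul_cancel, Units.val_one, Matrix.one_mulVec]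

theorem mulVec_inv_mulVec' (L : GL ι F) (v : ι → F) : L.1 *ᵥ ((L⁻¹).1 *ᵥ v) = v := by
  rw [Matrix.mulVec_mulVec, ← Units.val_mul, mul_inv_cancel, Units.val_one, Matrix.one_mulVec]

/-- conjugation by a linear isometry `L : (Q', ι) → (Q, ι)` maps isometries of `Q'` to isometries of `Q` -/
theorem conj_mem_iso (Q Q' : (ι → F) → F) (L : GL ι F) (hL : ∀ v, Q (L.1 *ᵥ v) = Q' v)
    {s : GL ι F} (hs : s ∈ Cfsg.isometryGroup F Q') : L * s * L⁻¹ ∈ Cfsg.isometryGroup F Q := by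
  rw [mem_iso_iff'] at hs ⊢
  intro v
  have h1 : (L * s * L⁻¹).1 *ᵥ v = L.1 *ᵥ (s.1 *ᵥ ((L⁻¹).1 *ᵥ v)) := by
    rw [Units.val_mul, Units.val_mul, ← Matrix.mulVec_mulVec, ← Matrix.mulVec_mulVec]
  rw [h1, hL, hs, ← hL, mulVec_inv_mulVec']

/-- conjugation by a linear isometry between two forms, on the isometry groups -/
def conjIso (Q Q' : (ι → F) → F) (L : GL ι F) (hL : ∀ v, Q (L.1 *ᵥ v) = Q' v) :
    ↥(Cfsg.isometryGroup F Q') ≃* ↥(Cfsg.isometryGroup F Q) where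
  toFun k := ⟨L * k.1 * L⁻¹, conj_mem_iso Q Q' L hL k.2⟩
  invFun k := ⟨L⁻¹ * k.1 * (L⁻¹)⁻¹, conj_mem_iso Q' Q L⁻¹ (fun v => by
    rw [← hL, mulVec_inv_mulVec']) k.2⟩
  left_inv k := by
    apply Subtype.ext
    simp only [inv_inv]
    group
  right_inv k := by
    apply Subtype.ext
    simp only [inv_inv]
    group
  map_mul' k k' := by
    apply Subtype.ext
    simp only [Subgroup.coe_mul]
    group

end conj

/-- the change of basis -/
def Lmat : Matrix (Fin 8) (Fin 8) (ZMod 3) :=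
  !![1, 0, -1, -1, 0, 0, 0, 0;
     0, 1, -1, 1, 0, 0, 0, 0;
     0, 0, 0, 0, 1, 0, -1, -1;
     0, 0, 0, 0, 0, 1, -1, 1;
     1, 0, 1, 1, 0, 0, 0, 0;
     0, 1, 1, -1, 0, 0, 0, 0;
     0, 0, 0, 0, 1, 0, 1, 1;
     0, 0, 0, 0, 0, 1, 1, -1]

/-- its inverse -/
def Lmatinv : Matrix (Fin 8) (Fin 8) (ZMod 3) :=
  !![-1, 0, 0, 0, -1, 0, 0, 0;
     0, -1, 0, 0, 0, -1, 0, 0;
     -1, -1, 0, 0, 1, 1, 0, 0;
     -1, 1, 0, 0, 1, -1, 0, 0;
     0, 0, -1, 0, 0, 0, -1, 0;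
     0, 0, 0, -1, 0, 0, 0, -1;
     0, 0, -1, -1, 0, 0, 1, 1;
     0, 0, -1, 1, 0, 0, 1, -1]

theorem Lmat_mul_inv : Lmat * Lmatinv = 1 := by decide

theorem Lmatinv_mul : Lmatinv * Lmat = 1 := by decide

/-- the change of basis as an element of `GL_8(3)` -/
def LGL : GL (Fin 8) (ZMod 3) := ⟨Lmat, Lmatinv, Lmat_mul_inv, Lmatinv_mul⟩

theorem LGL_val : (LGL : GL (Fin 8) (ZMod 3)).1 = Lmat := rfl

/-- the transported plus form is the sum of squares in the new coordinates -/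
theorem tr_plus_Lmat (v : Fin 8 → ZMod 3) :
    tr finSumFinEquiv (Cfsg.quadFormPlus 4 (ZMod 3)) (Lmat *ᵥ v) = Cfsg.Agent.Lib.H17.FT.sumSq 8 v := by
  have h3 : (3 : ZMod 3) = 0 := by decide
  rw [Cfsg.Agent.Lib.H17.FT.sumSq_apply]
  unfold tr Cfsg.quadFormPlus
  simp only [Function.comp_apply, finSumFinEquiv_apply_left, finSumFinEquiv_apply_right]
  rw [Fin.sum_univ_four, Fin.sum_univ_eight]
  simp only [Lmat, Matrix.mulVec, dotProduct, Fin.sum_univ_eight]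
  simp [Fin.castAdd, Fin.natAdd]
  linear_combination (-(v 2 ^ 2 + v 3 ^ 2 + v 6 ^ 2 + v 7 ^ 2)) * h3

/-- **S5401-TRQ**. -/
theorem pOmega_plus_four_equiv_sumSq :
    Nonempty (Cfsg.POmega (ZMod 3) (Cfsg.quadFormPlus 4 (ZMod 3)) ≃*
      Cfsg.POmega (ZMod 3) (⇑(Cfsg.Agent.Lib.H17.FT.sumSq 8))) := by
  let Θ₁ : ↥(Cfsg.isometryGroup (ZMod 3) (Cfsg.quadFormPlus 4 (ZMod 3))) ≃*
      ↥(Cfsg.isometryGroup (ZMod 3) (tr finSumFinEquiv (Cfsg.quadFormPlus 4 (ZMod 3)))) :=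
    isoEquiv finSumFinEquiv (Cfsg.quadFormPlus 4 (ZMod 3))
  let Θ₂ : ↥(Cfsg.isometryGroup (ZMod 3) (⇑(Cfsg.Agent.Lib.H17.FT.sumSq 8))) ≃*
      ↥(Cfsg.isometryGroup (ZMod 3) (tr finSumFinEquiv (Cfsg.quadFormPlus 4 (ZMod 3)))) :=
    conjIso _ _ LGL (fun v => by rw [LGL_val]; exact tr_plus_Lmat v)
  exact ⟨centQuotCongr (commCongr (Θ₁.trans Θ₂.symm))⟩

end Cfsg.Agent.Lib.H5.FT
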