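/-
S5401-CARD8 (helper17 third farm-out): |POmega(sumSq 8)| over ZMod 3 is 4952179814400,
from the landed S0293 (order of POmega_{2m}^+(q)) and the transfer Lib/H5/FTTRQ.
-/
import Cfsg.Agent.S0293
import Cfsg.Agent.Lib.H5.FTTRQ

set_option autoImplicit false

namespace Cfsg.Agent.Lib.H5.FT

theorem card_pOmega_plus_four_three :
    Nat.card (Cfsg.POmega (ZMod 3) (Cfsg.quadFormPlus 4 (ZMod 3))) = 4952179814400 := by
  have h := Cfsg.Agent.S0293.result (F := ZMod 3) (q := 3) (ZMod.card 3) 4 le_rfl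
  have h1 : Nat.gcd 4 (3 ^ 4 - 1) = 4 := by norm_num
  have h2 : (3 : ℕ) ^ (4 * (4 - 1)) * (3 ^ 4 - 1) *
      ∏ i ∈ Finset.range (4 - 1), (3 ^ (2 * (i + 1)) - 1) = 4 * 4952179814400 := by
    simp [Finset.prod_range_succ]
  rw [h1, h2] at h
  exact Nat.eq_of_mul_eq_mul_left (by norm_num) h

theorem card_pOmega_sumSq8 :
    Nat.card (Cfsg.POmega (ZMod 3) (⇑(Cfsg.Agent.Lib.H17.FT.sumSq 8))) = 4952179814400 := by
  obtain ⟨e⟩ := pOmega_plus_four_equiv_sumSq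
  rw [← Nat.card_congr e.toEquiv]
  exact card_pOmega_plus_four_three

end Cfsg.Agent.Lib.H5.FT
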