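/-
S5401 second farm-out (architect helper17), piece **S5401-SQ** (abstract finite group theory): the order squeeze
`|E| ≤ |Ω/Z(Ω)| ≤ |Ω/ker f| = |range f| ≤ |range r| ≤ |E|`.  Exact statement of tools/blueprints/S5401_sigs2.lean.
-/
import Mathlib

set_option autoImplicit false

namespace Cfsg.Agent.Lib.H5.FT

theorem squeeze {E Ω Γ : Type*} [Group E] [Group Ω] [Group Γ] [Finite E] [Finite Ω]
    (r : E →* Γ) (f : Ω →* Γ) (hrange : f.range ≤ r.range) (hker : f.ker ≤ Subgroup.center Ω)
    (hcard : Nat.card E ≤ Nat.card (Ω ⧸ Subgroup.center Ω)) :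
    Nonempty (E ≃* Ω ⧸ Subgroup.center Ω) := by
  have : Finite r.range := Finite.of_surjective r.rangeRestrict r.rangeRestrict_surjective
  have : Finite f.range := Finite.of_surjective f.rangeRestrict f.rangeRestrict_surjective
  -- the chain of inequalities
  have h1 : Nat.card (Ω ⧸ Subgroup.center Ω) ≤ Nat.card f.range := by
    rw [← Subgroup.index_eq_card, ← Subgroup.index_ker]
    exact Nat.le_of_dvd (Nat.pos_of_ne_zero Subgroup.index_ne_zero_of_finite) (Subgroup.index_dvd_of_le hker)
  have h2 : Nat.card f.range ≤ Nat.card r.range := Subgroup.card_le_of_le hrange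
  have h3 : Nat.card r.range ≤ Nat.card E :=
    Nat.card_le_card_of_surjective r.rangeRestrict r.rangeRestrict_surjective
  -- equalities
  have e3 : Nat.card E ≤ Nat.card r.range := by omega
  have e2 : Nat.card r.range ≤ Nat.card f.range := by omega
  have e1 : Nat.card f.range ≤ Nat.card (Ω ⧸ Subgroup.center Ω) := by omega
  -- `r` is injective
  have hrbij : Function.Bijective r.rangeRestrict :=
    Function.Surjective.bijective_of_nat_card_le r.rangeRestrict_surjective e3
  -- the ranges agree
  have hreq : f.range = r.range := Subgroup.eq_of_le_of_card_ge hrange e2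
  -- the kernel is the centre
  have hkeq : f.ker = Subgroup.center Ω := by
    have h4 : (Subgroup.center Ω).index = f.ker.index := by
      rw [Subgroup.index_ker, Subgroup.index_eq_card]
      omega
    have h5 : (f.ker).relIndex (Subgroup.center Ω) = 1 := by
      have h6 := Subgroup.relIndex_mul_index hker
      rw [h4] at h6
      have hpos : 0 < f.ker.index := Nat.pos_of_ne_zero Subgroup.index_ne_zero_of_finite
      exact Nat.eq_of_mul_eq_mul_right hpos (by rw [h6, one_mul])
    exact le_antisymm hker (Subgroup.relIndex_eq_one.1 h5)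
  exact ⟨(MulEquiv.ofBijective r.rangeRestrict hrbij).trans
    ((MulEquiv.subgroupCongr hreq.symm).trans
      ((QuotientGroup.quotientKerEquivRange f).symm.trans
        (QuotientGroup.quotientMulEquivOfEq hkeq)))⟩

end Cfsg.Agent.Lib.H5.FT
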