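import Mathlib
import Cfsg.Prelude.Def_Transfer

/-!
# Peeling a cyclic 2-group off the top of a group by iterated sign characters (helper5)

`sign_eq_neg_one_of_fpf`: a permutation of `2 ^ (m+1) * k` points (`k` odd) whose order divides
`2 ^ (m+1)` and whose `2 ^ m`-th power is fixed point free is odd.

`peel`: if `T ≤ O²(H)` has index `2 ^ (m+1) * odd`, `c` has order `2 ^ (m+1)` and no conjugate of the
involution of `⟨c⟩` lies in `T`, then that involution is not in `O²(H)`.
-/

set_option autoImplicit false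

universe u

namespace Cfsg.Agent.Lib.H5.SP

open Equiv Equiv.Perm

/-- A permutation of order dividing `2 ^ (m+1)` whose `2 ^ m`-th power is fixed point free, on a set
of `2 ^ (m+1) * k` points with `k` odd, is an odd permutation. -/
theorem sign_eq_neg_one_of_fpf {Ω : Type*} [Fintype Ω] [DecidableEq Ω] (σ : Perm Ω) (m k : ℕ)
    (hσ : σ ^ 2 ^ (m + 1) = 1) (hfpf : ∀ ω, (σ ^ 2 ^ m) ω ≠ ω) (hk : Odd k)
    (hcard : Fintype.card Ω = 2 ^ (m + 1) * k) : Perm.sign σ = -1 := by
  have hall : ∀ n ∈ σ.cycleType, n = 2 ^ (m + 1) := by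
    intro n hn
    have hdvd : n ∣ 2 ^ (m + 1) :=
      (dvd_of_mem_cycleType hn).trans (orderOf_dvd_of_pow_eq_one hσ)
    obtain ⟨j, hj, rfl⟩ := (Nat.dvd_prime_pow Nat.prime_two).mp hdvd
    rw [cycleType_def, Multiset.mem_map] at hn
    obtain ⟨τ, hτ, hτn⟩ := hn
    replace hτ : τ ∈ σ.cycleFactorsFinset := hτ
    replace hτn : τ.support.card = 2 ^ j := hτn
    by_contra hne
    have hjm : j ≤ m := by
      by_contra hcon
      push Not at hcon
      apply hne
      congr 1
      omega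
    have hcyc : τ.IsCycle := (mem_cycleFactorsFinset_iff.mp hτ).1
    obtain ⟨a, ha⟩ := hcyc.nonempty_support
    have hτeq : τ = σ.cycleOf a := cycle_is_cycleOf ha hτ
    have h1 : (σ ^ 2 ^ j) a = a := by
      rw [← cycleOf_pow_apply_self, ← hτeq, ← hτn, ← hcyc.orderOf, pow_orderOf_eq_one]
      rfl
    have h2 : (σ ^ 2 ^ m) a = a := by
      have e : 2 ^ m = 2 ^ j * 2 ^ (m - j) := by rw [← pow_add]; congr 1; omega
      rw [e, pow_mul]
      exact pow_apply_eq_self_of_apply_eq_self h1 _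
    exact hfpf a h2
  have hrep : σ.cycleType = Multiset.replicate (Multiset.card σ.cycleType) (2 ^ (m + 1)) :=
    Multiset.eq_replicate.mpr ⟨rfl, hall⟩
  have hsupp : σ.support = Finset.univ := by
    ext ω
    simp only [Finset.mem_univ, iff_true, mem_support]
    intro h
    exact hfpf ω (pow_apply_eq_self_of_apply_eq_self h _)
  have hsum : σ.cycleType.sum = 2 ^ (m + 1) * k := by
    rw [sum_cycleType, hsupp, Finset.card_univ, hcard]
  have hsum2 : σ.cycleType.sum = Multiset.card σ.cycleType * 2 ^ (m + 1) := by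
    conv_lhs => rw [hrep]
    rw [Multiset.sum_replicate, smul_eq_mul]
  have hck : Multiset.card σ.cycleType = k := by
    have h3 : Multiset.card σ.cycleType * 2 ^ (m + 1) = k * 2 ^ (m + 1) := by
      rw [← hsum2, hsum, mul_comm]
    exact Nat.eq_of_mul_eq_mul_right (by positivity) h3
  rw [sign_of_cycleType, hsum, hck]
  apply Odd.neg_one_pow
  apply Even.add_odd _ hk
  exact ⟨2 ^ m * k, by rw [pow_succ]; ring⟩

variable {G : Type*} [Group G]

/-- Elements of odd order lie in the kernel of every homomorphism to `ℤˣ`. -/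
theorem apply_eq_one_of_coprime (φ : G →* ℤˣ) (g : G) (hg : Nat.Coprime (orderOf g) 2) :
    φ g = 1 := by
  rcases Int.units_eq_one_or (φ g) with h | h
  · exact h
  · exfalso
    have h1 : (φ g) ^ orderOf g = 1 := by rw [← map_pow, pow_orderOf_eq_one, map_one]
    rw [h] at h1
    have hodd : Odd (orderOf g) := by
      rw [← Nat.not_even_iff_odd, even_iff_two_dvd]
      intro h2
      have := Nat.eq_one_of_dvd_coprimes hg h2 (dvd_refl 2)
      omega
    rw [hodd.neg_one_pow] at h1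
    exact absurd h1 (by decide)

/-- `O²(G)` lies in the kernel of every homomorphism to `ℤˣ`. -/
theorem pResidual_le_ker (φ : G →* ℤˣ) : Cfsg.pResidual 2 G ≤ φ.ker := by
  unfold Cfsg.pResidual
  rw [Subgroup.closure_le]
  intro g hg
  exact apply_eq_one_of_coprime φ g hg

/-- `O²(G) ≤ O²(B)` for a subgroup `B` containing `O²(G)`. -/
theorem pResidual_le_map (p : ℕ) (B : Subgroup G) (hB : Cfsg.pResidual p G ≤ B) :
    Cfsg.pResidual p G ≤ (Cfsg.pResidual p ↥B).map B.subtype := by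
  have hB' := hB
  unfold Cfsg.pResidual at hB' ⊢
  rw [Subgroup.closure_le]
  intro g hg
  have hgB : g ∈ B := hB' (Subgroup.subset_closure hg)
  refine ⟨⟨g, hgB⟩, Subgroup.subset_closure ?_, rfl⟩
  show Nat.Coprime (orderOf (⟨g, hgB⟩ : B)) p
  rw [Subgroup.orderOf_mk]
  exact hg

/-- `O^p(A) ≤ O^p(B)` for subgroups `A ≤ B`. -/
theorem map_pResidual_mono (p : ℕ) {A B : Subgroup G} (hAB : A ≤ B) :
    (Cfsg.pResidual p ↥A).map A.subtype ≤ (Cfsg.pResidual p ↥B).map B.subtype := by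
  unfold Cfsg.pResidual
  rw [MonoidHom.map_closure, Subgroup.closure_le]
  rintro _ ⟨a, ha, rfl⟩
  refine ⟨⟨(a : G), hAB a.2⟩, Subgroup.subset_closure ?_, rfl⟩
  show Nat.Coprime (orderOf (⟨(a : G), hAB a.2⟩ : B)) p
  rw [Subgroup.orderOf_mk, Subgroup.orderOf_coe]
  exact ha

/-- The sign character of the action on the cosets of `T`. -/
noncomputable def cosetSign (T : Subgroup G) [Fintype (G ⧸ T)] [DecidableEq (G ⧸ T)] : G →* ℤˣ :=
  Perm.sign.comp (MulAction.toPermHom G (G ⧸ T))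

/-- The coset sign character is `-1` at an element of order `2 ^ (m+1)` whose involution has no
conjugate in `T`, when the index of `T` is `2 ^ (m+1)` times an odd number. -/
theorem cosetSign_eq_neg_one [Finite G] (T : Subgroup G) [Fintype (G ⧸ T)] [DecidableEq (G ⧸ T)]
    (c : G) (m k : ℕ) (hc : c ^ 2 ^ (m + 1) = 1) (hk : Odd k) (hidx : T.index = 2 ^ (m + 1) * k)
    (hcon : ∀ h : G, h⁻¹ * c ^ 2 ^ m * h ∉ T) : cosetSign T c = -1 := by
  show Perm.sign (MulAction.toPermHom G (G ⧸ T) c) = -1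
  apply sign_eq_neg_one_of_fpf _ m k
  · rw [← map_pow, hc, map_one]
  · intro ω
    induction ω using QuotientGroup.induction_on with
    | H h =>
      rw [← map_pow]
      show (c ^ 2 ^ m) • (h : G ⧸ T) ≠ (h : G ⧸ T)
      rw [MulAction.Quotient.smul_coe, smul_eq_mul]
      intro heq
      have h1 : (c ^ 2 ^ m * h)⁻¹ * h ∈ T := QuotientGroup.eq.mp heq
      apply hcon h
      have h2 := T.inv_mem h1
      have e : ((c ^ 2 ^ m * h)⁻¹ * h)⁻¹ = h⁻¹ * c ^ 2 ^ m * h := by group
      rw [e] at h2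
      exact h2
  · exact hk
  · rw [← Nat.card_eq_fintype_card, ← Subgroup.index_eq_card, hidx]

/-- A homomorphism to `ℤˣ` taking the value `-1` has a kernel of index two. -/
theorem index_ker_of_apply_eq_neg_one (f : G →* ℤˣ) (x : G) (hx : f x = -1) :
    f.ker.index = 2 := by
  rw [Subgroup.index_ker]
  have hrange : f.range = ⊤ := by
    rw [eq_top_iff]
    intro u _
    rcases Int.units_eq_one_or u with rfl | rfl
    · exact Subgroup.one_mem _
    · exact ⟨x, hx⟩
  rw [hrange, Subgroup.card_top, Nat.card_eq_fintype_card, Fintype.card_units_int]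

/-- **Peeling lemma.** Let `T ≤ O²(H)` have index `2 ^ (m+1) * odd` in `H` and let `c` have order
`2 ^ (m+1)`. If no conjugate of the involution `c ^ 2 ^ m` lies in `T`, this involution is not in
`O²(H)`. -/
theorem peel (m : ℕ) : ∀ (H : Type u) [Group H] [Finite H] (T : Subgroup H) (c : H),
    orderOf c = 2 ^ (m + 1) → (∃ k : ℕ, Odd k ∧ T.index = 2 ^ (m + 1) * k) →
    (∀ h : H, h⁻¹ * c ^ 2 ^ m * h ∉ T) → T ≤ Cfsg.pResidual 2 H →
    c ^ 2 ^ m ∉ Cfsg.pResidual 2 H := by
  induction m with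
  | zero =>
    intro H _ _ T c hc ⟨k, hk, hidx⟩ hcon _
    classical
    letI : Fintype (H ⧸ T) := Fintype.ofFinite _
    have hc1 : c ^ 2 ^ (0 + 1) = 1 := by rw [← hc, pow_orderOf_eq_one]
    have h1 := cosetSign_eq_neg_one T c 0 k hc1 hk hidx hcon
    intro hmem
    have h2 := pResidual_le_ker (cosetSign T) hmem
    rw [MonoidHom.mem_ker, pow_zero, pow_one, h1] at h2
    exact absurd h2 (by decide)
  | succ m ih =>
    intro H _ _ T c hc ⟨k, hk, hidx⟩ hcon hT
    classical
    letI : Fintype (H ⧸ T) := Fintype.ofFinite _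
    have hc1 : c ^ 2 ^ (m + 1 + 1) = 1 := by rw [← hc, pow_orderOf_eq_one]
    have h1 := cosetSign_eq_neg_one T c (m + 1) k hc1 hk hidx hcon
    obtain ⟨H₁, hH₁⟩ : ∃ H₁ : Subgroup H, H₁ = (cosetSign T).ker := ⟨_, rfl⟩
    have hres : Cfsg.pResidual 2 H ≤ H₁ := hH₁ ▸ pResidual_le_ker (cosetSign T)
    have hTH₁ : T ≤ H₁ := hT.trans hres
    have hidx₁ : H₁.index = 2 := hH₁ ▸ index_ker_of_apply_eq_neg_one _ c h1
    have hc2 : c * c ∈ H₁ := by
      rw [hH₁, MonoidHom.mem_ker, map_mul, h1]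
      decide
    have hcc : c ^ 2 = c * c := pow_two c
    -- apply the induction hypothesis to `H₁`
    have hord : orderOf (⟨c * c, hc2⟩ : H₁) = 2 ^ (m + 1) := by
      rw [Subgroup.orderOf_mk, ← hcc, orderOf_pow_of_dvd (by norm_num)
        (by rw [hc]; exact dvd_pow_self 2 (by omega)), hc]
      have e : 2 ^ (m + 1 + 1) = 2 ^ (m + 1) * 2 := pow_succ 2 (m + 1)
      rw [e, Nat.mul_div_cancel _ (by norm_num)]
    have hpow : ∀ j : ℕ, (((⟨c * c, hc2⟩ : H₁) ^ j : H₁) : H) = c ^ (2 * j) := by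
      intro j
      rw [Subgroup.coe_pow, Subgroup.coe_mk, ← hcc, ← pow_mul]
    have hz : (((⟨c * c, hc2⟩ : H₁) ^ 2 ^ m : H₁) : H) = c ^ 2 ^ (m + 1) := by
      rw [hpow, ← pow_succ']
    have hidxT : (T.subgroupOf H₁).index = 2 ^ (m + 1) * k := by
      have h3 : T.relIndex H₁ * H₁.index = T.index := Subgroup.relIndex_mul_index hTH₁
      rw [hidx₁, hidx] at h3
      have e : 2 ^ (m + 1 + 1) * k = 2 ^ (m + 1) * k * 2 := by rw [pow_succ]; ring
      rw [e] at h3
      exact Nat.eq_of_mul_eq_mul_right (by norm_num) h3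
    have hcon₁ : ∀ h : H₁, h⁻¹ * (⟨c * c, hc2⟩ : H₁) ^ 2 ^ m * h ∉ T.subgroupOf H₁ := by
      intro h hmem
      rw [Subgroup.mem_subgroupOf] at hmem
      rw [Subgroup.coe_mul, Subgroup.coe_mul, hz, Subgroup.coe_inv] at hmem
      exact hcon (h : H) hmem
    have hT₁ : T.subgroupOf H₁ ≤ Cfsg.pResidual 2 ↥H₁ := by
      intro t ht
      rw [Subgroup.mem_subgroupOf] at ht
      obtain ⟨y, hy, hyt⟩ := pResidual_le_map 2 H₁ hres (hT ht)
      have : y = t := Subtype.ext hyt
      rw [← this]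
      exact hy
    have hfin := ih ↥H₁ (T.subgroupOf H₁) ⟨c * c, hc2⟩ hord ⟨k, hk, hidxT⟩ hcon₁ hT₁
    intro hmem
    obtain ⟨y, hy, hyz⟩ := pResidual_le_map 2 H₁ hres hmem
    apply hfin
    have : y = (⟨c * c, hc2⟩ : H₁) ^ 2 ^ m := by
      apply Subtype.ext
      rw [hz]
      exact hyz
    rw [← this]
    exact hy

end Cfsg.Agent.Lib.H5.SP
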