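import Cfsg.Agent.Lib.H5.S3777Defs

/-!
# S3777, the step for `P1` (non-residual pairs) — sub-cut (helper5)

`(G, M)` a pair with `M' ≠ G'`.  `A/M' := Z(G/M')`, `|M : A| = |G'/M'| = p^λ`, `Δ := f - λ`,
`K₀ := A ⊔ zpowers y₀` for `y₀ ∉ M`.  Pieces `S1 … S6`, assembled in `S3777P1Asm.lean`.
-/

set_option autoImplicit false

namespace Cfsg.Agent.Lib.H5.S3777

universe u

/-- (S1) structure of `G/M'` for a non-residual pair. -/
def S1Stmt : Prop :=
  ∀ (p : ℕ) [Fact p.Prime] (G : Type u) [Group G] [Finite G], IsPGroup p G →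
    ∀ (M : Subgroup G) (f : ℕ), IsPair p M f → ⁅M, M⁆ ≠ commutator G →
    ∃ (A : Subgroup G) (lam : ℕ), A.Normal ∧ A ≤ M ∧ 1 ≤ lam ∧
      Nat.card ↥(commutator G) = p ^ lam * Nat.card ↥⁅M, M⁆ ∧
      A.relIndex M = p ^ lam ∧
      (∀ y : G, y ∉ M → y ^ p ∈ A) ∧
      (∀ y : G, y ∉ M → Subgroup.centralizer ({y} : Set G) ≤ A ⊔ Subgroup.zpowers y) ∧
      (∀ y : G, y ∉ M → (Subgroup.centralizer ({y} : Set G)).index =
        p ^ lam * (Subgroup.centralizer ({y} : Set G)).relIndex A)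

/-- (S2) Wiegold's bound for `M/[A,M]` from `P3` (induction hypothesis). -/
def S2Stmt : Prop :=
  ∀ (p : ℕ) [Fact p.Prime] (G : Type u) [Group G] [Finite G], IsPGroup p G →
    IH.{u} p (Nat.card G) →
    ∀ (M A : Subgroup G) (lam : ℕ), M.index = p → A.Normal → A ≤ M → A.relIndex M = p ^ lam →
      1 ≤ lam → Nat.card ↥⁅M, M⁆ ≤ p ^ tri (lam - 1) * Nat.card ↥⁅A, M⁆

/-- (S3) the module lemma with generators outside `M`. -/
def S3Stmt : Prop :=
  ∀ (p : ℕ) [Fact p.Prime] (G : Type u) [Group G] [Finite G], IsPGroup p G →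
    ∀ (M A : Subgroup G) (lam Delta : ℕ), M.index = p → A.Normal → A ≤ M →
      A.relIndex M = p ^ lam →
      (∀ y : G, y ∉ M → (Subgroup.centralizer ({y} : Set G)).relIndex A ≤ p ^ Delta) →
      ∀ y0 : G, y0 ∉ M →
        Nat.card ↥⁅A, (⊤ : Subgroup G)⁆ ≤
          Nat.card ↥⁅A, A ⊔ Subgroup.zpowers y0⁆ * p ^ (lam * Delta)

/-- (S4) the sub-pair `(K₀, A)`, `K₀ = A ⊔ zpowers y₀`, via the induction hypothesis. -/
def S4Stmt : Prop :=
  ∀ (p : ℕ) [Fact p.Prime] (G : Type u) [Group G] [Finite G], IsPGroup p G →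
    IH.{u} p (Nat.card G) →
    ∀ (M A : Subgroup G) (lam Delta : ℕ), M.index = p → A.Normal → A ≤ M → 1 ≤ lam →
      A.relIndex M = p ^ lam →
      (∀ y : G, y ∉ M → y ^ p ∈ A) →
      (∀ y : G, y ∉ M → Subgroup.centralizer ({y} : Set G) ≤ A ⊔ Subgroup.zpowers y) →
      (∀ y : G, y ∉ M → (Subgroup.centralizer ({y} : Set G)).index =
        p ^ lam * (Subgroup.centralizer ({y} : Set G)).relIndex A) →
      (∀ y : G, y ∉ M → (Subgroup.centralizer ({y} : Set G)).relIndex A ≤ p ^ Delta) →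
      ∀ y0 : G, y0 ∉ M →
        Nat.card ↥⁅A ⊔ Subgroup.zpowers y0, A ⊔ Subgroup.zpowers y0⁆ ≤ p ^ (tri Delta + Delta) ∧
        (⁅A ⊔ Subgroup.zpowers y0, A ⊔ Subgroup.zpowers y0⁆ ≠ ⁅A, A⁆ →
          Nat.card ↥⁅A ⊔ Subgroup.zpowers y0, A ⊔ Subgroup.zpowers y0⁆ ≤ p ^ tri Delta)

/-- (S6) the elements outside `M` generate: if they all act trivially on `A/A'` so does `G`. -/
def S6Stmt : Prop :=
  ∀ (p : ℕ) [Fact p.Prime] (G : Type u) [Group G] [Finite G],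
    ∀ (M A : Subgroup G), M.index = p → A.Normal →
      (∀ y : G, y ∉ M → ⁅A, Subgroup.zpowers y⁆ ≤ ⁅A, A⁆) → ⁅A, (⊤ : Subgroup G)⁆ ≤ ⁅A, A⁆

theorem tri_add (a b : ℕ) : tri (a + b) = tri a + a * b + tri b := by
  unfold tri
  have h1 : 2 ∣ a * (a + 1) := Nat.even_mul_succ_self a |>.two_dvd
  have h2 : 2 ∣ b * (b + 1) := Nat.even_mul_succ_self b |>.two_dvd
  have h3 : 2 ∣ (a + b) * (a + b + 1) := Nat.even_mul_succ_self (a + b) |>.two_dvd
  obtain ⟨x, hx⟩ := h1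
  obtain ⟨y, hy⟩ := h2
  obtain ⟨z, hz⟩ := h3
  rw [hx, hy, hz, Nat.mul_div_cancel_left _ (by norm_num), Nat.mul_div_cancel_left _ (by norm_num),
    Nat.mul_div_cancel_left _ (by norm_num)]
  nlinarith

theorem tri_mono {a b : ℕ} (h : a ≤ b) : tri a ≤ tri b := by
  unfold tri
  apply Nat.div_le_div_right
  exact Nat.mul_le_mul h (by omega)

theorem tri_pred_add (lam : ℕ) (h : 1 ≤ lam) : lam + tri (lam - 1) = tri lam := by
  obtain ⟨k, rfl⟩ : ∃ k, lam = k + 1 := ⟨lam - 1, by omega⟩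
  have := tri_add k 1
  simp only [Nat.add_sub_cancel]
  have h1 : tri 1 = 1 := by decide
  rw [this, h1]
  ring

end Cfsg.Agent.Lib.H5.S3777
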