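/-
S2347 farm-out (architect helper20), piece **WEIL-W1** : the Heisenberg relations for the Schroedinger operators `hop ψ u`,
the parity operator, and invariance of the symplectic form `om` under `Matrix.symplecticGroup`.
Exact statements of tools/blueprints/S2347_sigs.lean.
-/
import Cfsg.Agent.Lib.H20.WeilDefs

set_option autoImplicit false

namespace Cfsg.Agent.Lib.H5.Weil

open Matrix Cfsg.Agent.Lib.H12.LS2 Cfsg.Agent.Lib.H20.Weil

variable {F : Type*} [Field F] {n : ℕ}

theorem pA_add (u v : Fin n ⊕ Fin n → F) : pA (u + v) = pA u + pA v := rfl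

theorem pB_add (u v : Fin n ⊕ Fin n → F) : pB (u + v) = pB u + pB v := rfl

theorem pA_neg (u : Fin n ⊕ Fin n → F) : pA (-u) = -pA u := rfl

theorem pB_neg (u : Fin n ⊕ Fin n → F) : pB (-u) = -pB u := rfl

theorem pA_zero : pA (0 : Fin n ⊕ Fin n → F) = 0 := rfl

theorem pB_zero : pB (0 : Fin n ⊕ Fin n → F) = 0 := rfl

theorem om_self (u : Fin n ⊕ Fin n → F) : om u u = 0 := by
  unfold om
  exact sub_self _

theorem om_neg_right (u v : Fin n ⊕ Fin n → F) : om u (-v) = -om u v := by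
  unfold om
  rw [pA_neg, pB_neg, dotProduct_neg, neg_dotProduct]
  ring

theorem om_swap (u v : Fin n ⊕ Fin n → F) : om v u = -om u v := by
  unfold om
  ring

theorem hop_zero (ψ : AddChar F ℂ) : hop ψ (0 : Fin n ⊕ Fin n → F) = 1 := by
  apply LinearMap.ext
  intro f
  funext x
  rw [hop_apply, pA_zero, pB_zero, zero_dotProduct, zero_dotProduct, mul_zero, add_zero,
    AddChar.map_zero_eq_one, one_mul, add_zero]
  rfl

theorem hop_mul (h2 : (2 : F) ≠ 0) (ψ : AddChar F ℂ) (u v : Fin n ⊕ Fin n → F) :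
    hop ψ u * hop ψ v = ψ (2⁻¹ * om u v) • hop ψ (u + v) := by
  apply LinearMap.ext
  intro f
  funext x
  rw [Module.End.mul_apply, LinearMap.smul_apply, Pi.smul_apply, smul_eq_mul, hop_apply, hop_apply,
    hop_apply, pA_add, pB_add, ← mul_assoc, ← mul_assoc, ← AddChar.map_add_eq_mul,
    ← AddChar.map_add_eq_mul, add_assoc x]
  congr 2
  unfold om
  simp only [dotProduct_add, add_dotProduct]
  rw [dotProduct_comm (pB v) (pA u), dotProduct_comm (pA v) (pB v), dotProduct_comm (pA u) (pB u),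
    dotProduct_comm (pA v) (pB u), dotProduct_comm (pA u) (pB v)]
  field_simp
  ring

theorem hop_mul_neg (h2 : (2 : F) ≠ 0) (ψ : AddChar F ℂ) (u : Fin n ⊕ Fin n → F) :
    hop ψ u * hop ψ (-u) = 1 := by
  rw [hop_mul h2, om_neg_right, om_self, neg_zero, mul_zero, AddChar.map_zero_eq_one, one_smul,
    add_neg_cancel, hop_zero]

theorem par_mul_par : (par : Module.End ℂ ((Fin n → F) → ℂ)) * par = 1 := by
  apply LinearMap.ext
  intro f
  funext x
  rw [Module.End.mul_apply, par_apply, par_apply, neg_neg]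
  rfl

theorem par_mul_hop (ψ : AddChar F ℂ) (u : Fin n ⊕ Fin n → F) : par * hop ψ u = hop ψ (-u) * par := by
  apply LinearMap.ext
  intro f
  funext x
  rw [Module.End.mul_apply, Module.End.mul_apply, par_apply, hop_apply, hop_apply, par_apply, pA_neg,
    pB_neg, neg_dotProduct, dotProduct_neg, neg_dotProduct, dotProduct_neg, neg_neg, neg_add, neg_neg]

/-- `om` through the matrix `J` -/
theorem om_eq_neg_J (u v : Fin n ⊕ Fin n → F) :
    om u v = -(u ⬝ᵥ (Matrix.J (Fin n) F *ᵥ v)) := by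
  unfold om
  have hv : Matrix.J (Fin n) F *ᵥ v = Sum.elim (-pB v) (pA v) := by
    have h1 : v = Sum.elim (pA v) (pB v) := by
      funext i
      rcases i with i | i <;> rfl
    conv_lhs => rw [h1]
    unfold Matrix.J
    rw [Matrix.fromBlocks_mulVec]
    simp [Matrix.neg_mulVec]
  have hu : u = Sum.elim (pA u) (pB u) := by
    funext i
    rcases i with i | i <;> rfl
  rw [hv]
  conv_rhs => rw [hu]
  rw [sumElim_dotProduct_sumElim, dotProduct_neg, dotProduct_comm (pB u) (pA v)]
  ring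

/-- `A ∈ Sp` means `A * J * Aᵀ = J`; `SymplecticGroup.mem_iff'` gives `Aᵀ * J * A = J`, and `om u v = -(u ⬝ᵥ J *ᵥ v)`. -/
theorem om_mulVec (g : Matrix.symplecticGroup (Fin n) F) (u v : Fin n ⊕ Fin n → F) :
    om (g.1 *ᵥ u) (g.1 *ᵥ v) = om u v := by
  have hg : g.1ᵀ * Matrix.J (Fin n) F * g.1 = Matrix.J (Fin n) F := SymplecticGroup.mem_iff'.1 g.2
  rw [om_eq_neg_J, om_eq_neg_J]
  congr 1
  rw [Matrix.mulVec_mulVec, Matrix.dotProduct_mulVec, Matrix.vecMul_mulVec, ← Matrix.dotProduct_mulVec,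
    ← Matrix.mul_assoc, hg]

end Cfsg.Agent.Lib.H5.Weil
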