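/-
S2347 farm-out (architect helper20), piece **WEIL-W8**, core: for `g = tEl E_00` (the Siegel transvection), the canonical
intertwiner `Yop ψ g` is not a scalar on the odd functions - GIVEN the intertwining relation W5a and invertibility W5d for this `g`.
(The wrapper with the exact statement of the sigs file is `Lib/H5/WeilW8.lean`.)
-/
import Cfsg.Agent.Lib.H5.WeilW1
import Cfsg.Agent.Lib.H5.LS2S2

set_option autoImplicit false

namespace Cfsg.Agent.Lib.H5.Weil

open Matrix Cfsg.Agent.Lib.H12.LS2 Cfsg.Agent.Lib.H20.Weil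

variable {F : Type*} [Field F] {n : ℕ}

/-- `E_00` as a symmetric matrix -/
def E00 (n : ℕ) (hn : 2 ≤ n) : Symm n F :=
  ⟨Matrix.single (⟨0, by omega⟩ : Fin n) (⟨0, by omega⟩ : Fin n) 1, by
    show (Matrix.single (⟨0, by omega⟩ : Fin n) (⟨0, by omega⟩ : Fin n) (1 : F))ᵀ = _
    rw [Matrix.transpose_single]⟩

theorem E00_val (n : ℕ) (hn : 2 ≤ n) :
    ((E00 n hn : Symm n F) : Matrix (Fin n) (Fin n) F) =
      Matrix.single (⟨0, by omega⟩ : Fin n) (⟨0, by omega⟩ : Fin n) 1 := rfl

theorem addChar_ne_zero (ψ : AddChar F ℂ) (a : F) : ψ a ≠ 0 := by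
  intro h
  have h1 : ψ a * ψ (-a) = 1 := by
    rw [← AddChar.map_add_eq_mul, add_neg_cancel, AddChar.map_zero_eq_one]
  rw [h, zero_mul] at h1
  exact zero_ne_one h1

variable [Fintype F]

/-- the core of W8 -/
theorem not_scalar_core (h2 : (2 : F) ≠ 0) (hn : 2 ≤ n) (ψ : AddChar F ℂ)
    (hW5a : ∀ v : Fin n ⊕ Fin n → F,
      hop ψ ((Cfsg.Agent.Lib.H5.LS2.tEl (E00 n hn) : Matrix.symplecticGroup (Fin n) F).1 *ᵥ v) *
        Yop ψ (Cfsg.Agent.Lib.H5.LS2.tEl (E00 n hn) : Matrix.symplecticGroup (Fin n) F).1 =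
      Yop ψ (Cfsg.Agent.Lib.H5.LS2.tEl (E00 n hn) : Matrix.symplecticGroup (Fin n) F).1 * hop ψ v)
    (hunit : IsUnit (Yop ψ (Cfsg.Agent.Lib.H5.LS2.tEl (E00 n hn) : Matrix.symplecticGroup (Fin n) F).1)) :
    ¬ ∃ κ : ℂ, ∀ f ∈ Sminus n F,
      Yop ψ (Cfsg.Agent.Lib.H5.LS2.tEl (E00 n hn) : Matrix.symplecticGroup (Fin n) F).1 f = κ • f := by
  classical
  rintro ⟨κ, hκ⟩
  set g : Matrix.symplecticGroup (Fin n) F := Cfsg.Agent.Lib.H5.LS2.tEl (E00 n hn) with hgdef
  set Y := Yop ψ g.1 with hY
  let i0 : Fin n := ⟨0, by omega⟩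
  let i1 : Fin n := ⟨1, by omega⟩
  have hi : i1 ≠ i0 := by
    intro h
    have := congrArg Fin.val h
    simp [i0, i1] at this
  let e0 : Fin n → F := Pi.single i0 1
  let y : Fin n → F := Pi.single i1 1
  have hy0 : y i0 = 0 := by simp [y, hi.symm]
  have hy1 : y i1 = 1 := by simp [y]
  have he0 : e0 i0 = 1 := by simp [e0]
  -- the test function
  let f : (Fin n → F) → ℂ := Pi.single y 1 - Pi.single (-y) 1
  have hfval : ∀ z, f z = (if z = y then 1 else 0) - (if z = -y then 1 else 0) := by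
    intro z
    simp [f, Pi.single_apply]
  have hyny : y ≠ -y := by
    intro h
    have := congrFun h i1
    rw [Pi.neg_apply, hy1] at this
    apply h2
    linear_combination this
  have hfy : f y = 1 := by
    rw [hfval, if_pos rfl, if_neg hyny, sub_zero]
  have hf : f ∈ Sminus n F := by
    rw [mem_Sminus]
    intro x
    rw [hfval, hfval]
    have h1 : (-x = y) ↔ (x = -y) := by
      constructor
      · intro h; rw [← h, neg_neg]
      · intro h; rw [h, neg_neg]
    have h3 : (-x = -y) ↔ (x = y) := neg_inj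
    simp only [h1, h3]
    ring
  have hf0 : f ≠ 0 := by
    intro h
    have := congrFun h y
    rw [hfy] at this
    exact one_ne_zero this
  -- `κ ≠ 0`
  have hYinj : Function.Injective Y := by
    obtain ⟨u, hu⟩ := hunit
    intro a b hab
    have h1 : (↑u⁻¹ : Module.End ℂ ((Fin n → F) → ℂ)) (Y a) = (↑u⁻¹ : Module.End ℂ ((Fin n → F) → ℂ)) (Y b) := by
      rw [hab]
    rw [← hu, ← Module.End.mul_apply, ← Module.End.mul_apply, Units.inv_mul, Module.End.one_apply,
      Module.End.one_apply] at h1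
    exact h1
  have hκ0 : κ ≠ 0 := by
    intro h0
    have h1 := hκ f hf
    rw [h0, zero_smul] at h1
    have h3 : Y f = Y 0 := by rw [h1, map_zero]
    exact hf0 (hYinj h3)
  -- the vectors
  let v : Fin n ⊕ Fin n → F := Sum.elim 0 e0
  let w : Fin n ⊕ Fin n → F := Sum.elim e0 e0
  have hgv : g.1 *ᵥ v = w := by
    rw [hgdef, Cfsg.Agent.Lib.H5.LS2.tEl_val, E00_val]
    show Matrix.fromBlocks 1 _ 0 1 *ᵥ Sum.elim 0 e0 = Sum.elim e0 e0
    rw [Matrix.fromBlocks_mulVec]
    congr 1
    · rw [Sum.elim_comp_inl, Sum.elim_comp_inr, Matrix.mulVec_zero, zero_add]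
      funext i
      simp only [Matrix.mulVec, dotProduct, Matrix.single_apply, e0, Pi.single_apply]
      by_cases hi0 : i = i0
      · subst hi0
        simp [i0]
      · have : ¬ (i0 = i) := fun h => hi0 h.symm
        simp [hi0, i0, this]
    · rw [Sum.elim_comp_inl, Sum.elim_comp_inr, Matrix.mulVec_zero, zero_add, Matrix.one_mulVec]
  have hgv' : g.1 *ᵥ (-v) = -w := by rw [Matrix.mulVec_neg, hgv]
  have hpAv : pA v = 0 := rfl
  have hpBv : pB v = e0 := rfl
  have hpAw : pA w = e0 := rfl
  have hpBw : pB w = e0 := rfl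
  -- the symmetrised operators
  have hrel : (hop ψ w + hop ψ (-w)) * Y = Y * (hop ψ v + hop ψ (-v)) := by
    rw [add_mul, mul_add, ← hgv, hW5a v, hgv, ← hgv', hW5a (-v)]
  have hBv_mem : (hop ψ v + hop ψ (-v)) f ∈ Sminus n F := by
    rw [mem_Sminus]
    intro x
    have h0 : (par : Module.End ℂ ((Fin n → F) → ℂ)) * (hop ψ v + hop ψ (-v)) = (hop ψ v + hop ψ (-v)) * par := by
      rw [mul_add, add_mul, par_mul_hop, par_mul_hop, neg_neg, add_comm]
    have h1 := congrArg (fun T : Module.End ℂ ((Fin n → F) → ℂ) => T f) h0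
    beta_reduce at h1
    have hpf : (par f : (Fin n → F) → ℂ) = -f := by
      funext z
      rw [par_apply, Pi.neg_apply]
      exact (mem_Sminus f).1 hf z
    rw [Module.End.mul_apply, Module.End.mul_apply, hpf, map_neg] at h1
    have h3 := congrFun h1 x
    rw [par_apply, Pi.neg_apply] at h3
    exact h3
  have heq : (hop ψ w + hop ψ (-w)) f = (hop ψ v + hop ψ (-v)) f := by
    have h1 := congrArg (fun T : Module.End ℂ ((Fin n → F) → ℂ) => T f) hrel
    simp only [Module.End.mul_apply] at h1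
    rw [show Y f = κ • f from hκ f hf, hκ _ hBv_mem, map_smul] at h1
    exact smul_right_injective _ hκ0 h1
  -- evaluate at `x = y - e0`
  have hx := congrFun heq (y - e0)
  rw [LinearMap.add_apply, LinearMap.add_apply, Pi.add_apply, Pi.add_apply, hop_apply, hop_apply, hop_apply,
    hop_apply, pA_neg, pA_neg, hpAv, hpAw, neg_zero, add_zero, sub_add_cancel, hfy] at hx
  have hx1 : f (y - e0) = 0 := by
    rw [hfval]
    have ha : y - e0 ≠ y := by
      intro h
      have := congrFun h i0
      rw [Pi.sub_apply, hy0, he0] at this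
      have h5 : (1 : F) = 0 := by linear_combination -this
      exact one_ne_zero h5
    have hb : y - e0 ≠ -y := by
      intro h
      have := congrFun h i0
      rw [Pi.sub_apply, Pi.neg_apply, hy0, he0] at this
      have h5 : (1 : F) = 0 := by linear_combination -this
      exact one_ne_zero h5
    rw [if_neg ha, if_neg hb, sub_zero]
  have hx2 : f (y - e0 + -e0) = 0 := by
    rw [hfval]
    have ha : y - e0 + -e0 ≠ y := by
      intro h
      have := congrFun h i0
      rw [Pi.add_apply, Pi.sub_apply, Pi.neg_apply, hy0, he0] at this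
      apply h2
      linear_combination -this
    have hb : y - e0 + -e0 ≠ -y := by
      intro h
      have := congrFun h i0
      rw [Pi.add_apply, Pi.sub_apply, Pi.neg_apply, Pi.neg_apply, hy0, he0] at this
      apply h2
      linear_combination -this
    rw [if_neg ha, if_neg hb, sub_zero]
  rw [hx1, hx2, mul_zero, mul_zero, mul_zero, add_zero, add_zero, mul_one] at hx
  exact addChar_ne_zero ψ _ hx

end Cfsg.Agent.Lib.H5.Weil
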