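/-
S2347 farm-out (architect helper20), piece **WEIL-W8** : the canonical intertwiner `Yop ψ g` of the Siegel transvection
`g = tEl E_00` is not a scalar on the odd functions.  Exact statement of tools/blueprints/S2347_sigs.lean.
-/
import Cfsg.Agent.Lib.H5.WeilW8Core
import Cfsg.Agent.Lib.H2.WeilW5

set_option autoImplicit false

namespace Cfsg.Agent.Lib.H5.Weil

open Matrix Cfsg.Agent.Lib.H12.LS2 Cfsg.Agent.Lib.H20.Weil

variable {F : Type*} [Field F] {n : ℕ} [Fintype F]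

/-- **WEIL-W8**. -/
theorem exists_not_scalar (h2 : (2 : F) ≠ 0) (hn : 2 ≤ n) (ψ : AddChar F ℂ) (hψ : ψ ≠ 1) :
    ∃ g : Matrix.symplecticGroup (Fin n) F, ¬ ∃ κ : ℂ, ∀ f ∈ Sminus n F, Yop ψ g.1 f = κ • f :=
  ⟨Cfsg.Agent.Lib.H5.LS2.tEl (E00 n hn),
    not_scalar_core h2 hn ψ (fun v => Cfsg.Agent.Lib.H2.Weil.hop_mul_Yop h2 ψ _ v)
      (Cfsg.Agent.Lib.H2.Weil.isUnit_Yop h2 ψ hψ _)⟩

end Cfsg.Agent.Lib.H5.Weil
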