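import Mathlib
import Cfsg.Agent.Lib.H19.SGTDefs
import Cfsg.Agent.Lib.H19.FittingCrit
import Cfsg.Agent.Lib.H19.Fpf4Main

/-!
# S3795 piece CLAIMV (architect helper19): Claim V for `p = 2`
(adaptation of `SG.sg_claimV`, Lib/H19/SG14.lean).

The pieces CLAIMV / AMBIENT / STEP / CHAIN are proved here PARAMETRICALLY in the statement
`VabsStmt` of piece DLIN (`sg2_vabs`); the exact-signature versions are in `SGTTOP.lean`.
-/

set_option autoImplicit false
set_option linter.unusedSectionVars false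
set_option linter.unusedVariables false
set_option linter.style.haveILetI false

namespace Cfsg.Agent.Lib.H5.SGT

open Module Cfsg Cfsg.Agent.Lib.H19.SG Cfsg.Agent.Lib.H19.SGT Cfsg.Agent.Lib.H19.ModRep
  Cfsg.Agent.Lib.H1 Cfsg.Agent.Lib.H1.QuadMul Cfsg.Agent.Lib.H19.Ward

universe u

/-- The statement of piece DLIN (`sg2_vabs`) with all types in the universe `u`. -/
def VabsStmt : Prop :=
  ∀ (Γ : Type u) [Group Γ] [Finite Γ] (r : ℕ) [Fact r.Prime] (M : Type u) [AddCommGroup M]
    [Module (ZMod r) M] [Module.Finite (ZMod r) M], r ≠ 2 →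
    ∀ (ρ : Representation (ZMod r) Γ M) (H : Subgroup Γ) [H.Normal], Group.IsSolvable ↥H →
    (Nat.card H).Coprime 2 → (∀ h ∈ H, ρ h = 1 → h = 1) → ∀ (s : Γ) (n : ℕ), 0 < n →
    s ^ (2 ^ n) = 1 → (∀ m : M, ρ s m = m → m = 0) →
    (∀ P : Subgroup Γ, P.Normal → P ≤ H → IsPGroup r P → P = ⊥) →
    ∃ D : Subgroup Γ, D.Normal ∧ D ≤ H ∧ Group.IsNilpotent ↥D ∧
      ∀ h ∈ H, tau s n * h * (tau s n)⁻¹ * h⁻¹ ∈ D

variable {X : Type u} [Group X] [Finite X]

/-- **CLAIMV**, parametric in DLIN. -/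
theorem sg2_claimV_of (hvabs : VabsStmt.{u}) (G : Subgroup X) [G.Normal]
    (hGs : Group.IsSolvable ↥G) {s : X} {n : ℕ}
    (hn : 0 < n) (hs : s ^ (2 ^ n) = 1) (hfix : ∀ g ∈ G, s * g = g * s → g = 1)
    (V : Subgroup X) [V.Normal] (hVG : V ≤ G) (hV : V ≠ ⊥)
    (hmin : ∀ W : Subgroup X, W.Normal → W ≤ V → W ≠ ⊥ → W = V)
    {r : ℕ} [Fact r.Prime] [IsEA r ↥V] :
    ∃ D : Subgroup X, D.Normal ∧ D ≤ G ∧ G ⊓ Subgroup.centralizer (V : Set X) ≤ D ∧
      (∃ m : ℕ, D.lowerCentralSeries m ≤ Subgroup.centralizer (V : Set X)) ∧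
      ∀ g ∈ G, tau s n * g * (tau s n)⁻¹ * g⁻¹ ∈ D := by
  haveI : Fact (Nat.Prime 2) := ⟨Nat.prime_two⟩
  have hr : r.Prime := Fact.out
  have hGp := coprime_of_fpf' (p := 2) G hs hfix
  obtain ⟨C, hCdef⟩ : ∃ C : Subgroup X, C = G ⊓ Subgroup.centralizer (V : Set X) := ⟨_, rfl⟩
  haveI hCn : C.Normal := by rw [hCdef]; infer_instance
  have hCG : C ≤ G := by rw [hCdef]; exact inf_le_left
  have hCV : C ≤ Subgroup.centralizer (V : Set X) := by rw [hCdef]; exact inf_le_right
  have hmemC : ∀ g ∈ G, g ∈ Subgroup.centralizer (V : Set X) → g ∈ C := by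
    intro g hg hgV
    rw [hCdef]; exact ⟨hg, hgV⟩
  let π : X →* X ⧸ C := QuotientGroup.mk' C
  have hπsurj : Function.Surjective π := QuotientGroup.mk'_surjective C
  have hπker : π.ker = C := QuotientGroup.ker_mk' C
  have hπ1 : ∀ g : X, π g = 1 ↔ g ∈ C := fun g => QuotientGroup.eq_one_iff g
  -- the representation
  let ρX := conjRepX r V
  have hker : C ≤ MonoidHom.ker ρX := by
    intro c hc
    rw [MonoidHom.mem_ker]
    exact (conjRepX_eq_one_iff V c).mpr (hCV hc)
  let ρ : Representation (ZMod r) (X ⧸ C) (EA r ↥V) := QuotientGroup.lift C ρX hker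
  have hρ : ∀ g : X, ρ (π g) = ρX g := fun g => QuotientGroup.lift_mk C hker g
  -- the image of `G`
  obtain ⟨H, hHdef⟩ : ∃ H : Subgroup (X ⧸ C), H = G.map π := ⟨_, rfl⟩
  haveI hHn : H.Normal := by
    rw [hHdef]
    exact Subgroup.Normal.map inferInstance π hπsurj
  have hHs : Group.IsSolvable ↥H := by
    rw [hHdef]
    haveI := hGs
    exact Group.isSolvable_of_surjective (f := π.subgroupMap G) (π.subgroupMap_surjective G)
  have hHp : (Nat.card H).Coprime 2 := by
    rw [hHdef]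
    exact Nat.Coprime.coprime_dvd_left (Subgroup.card_map_dvd G π) hGp
  have hfaith : ∀ h ∈ H, ρ h = 1 → h = 1 := by
    intro h hh h1
    rw [hHdef] at hh
    obtain ⟨g, hg, rfl⟩ := hh
    rw [hρ] at h1
    rw [hπ1]
    exact hmemC g hg ((conjRepX_eq_one_iff V g).mp h1)
  have hVr : IsPGroup r ↥V := fun v => ⟨1, by rw [pow_one]; exact IsEA.exp v⟩
  have hrV : r ∣ Nat.card V := by
    obtain ⟨n, hn⟩ := IsPGroup.iff_card.mp hVr
    rw [hn]
    apply dvd_pow_self
    rintro rfl
    rw [pow_zero] at hn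
    exact hV (Subgroup.card_eq_one.mp hn)
  have hrp : r ≠ 2 := by
    rintro rfl
    have h1 : 2 ∣ Nat.card G := hrV.trans (Subgroup.card_dvd_of_le hVG)
    have h2 := Nat.Coprime.coprime_dvd_left h1 hGp
    rw [Nat.coprime_self] at h2
    exact hr.one_lt.ne' h2
  have hfixM : ∀ m : EA r ↥V, ρ (π s) m = m → m = 0 := by
    intro m h1
    rw [hρ, conjRepX_eq_self_iff] at h1
    have h3 := hfix _ (hVG m.val.2) h1
    apply EA.ext
    rw [EA.val_zero]
    exact Subtype.ext h3
  -- normal `r`-subgroups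
  have hOr : ∀ P : Subgroup (X ⧸ C), P.Normal → P ≤ H → IsPGroup r P → P = ⊥ := by
    intro P hPn hPH hPr
    obtain ⟨P', hP'def⟩ : ∃ P' : Subgroup X, P' = P.comap π := ⟨_, rfl⟩
    haveI hP'n : P'.Normal := by rw [hP'def]; exact Subgroup.Normal.comap hPn π
    have hP'G : P' ≤ G := by
      intro t ht
      rw [hP'def, Subgroup.mem_comap] at ht
      have h1 := hPH ht
      rw [hHdef] at h1
      obtain ⟨g, hg, hgt⟩ := h1
      have h2 : g⁻¹ * t ∈ C := by
        rw [← hπ1, map_mul, map_inv, hgt, inv_mul_cancel]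
      have e : t = g * (g⁻¹ * t) := by group
      rw [e]
      exact G.mul_mem hg (hCG h2)
    have hcent : P' ≤ Subgroup.centralizer (V : Set X) := by
      obtain ⟨v, hv, hv1, hvfix⟩ := exists_fixed_of_pgroup_image V hrV P' (by
        intro t ht
        rw [hP'def, Subgroup.mem_comap] at ht
        obtain ⟨kk, hkk⟩ := hPr ⟨π t, ht⟩
        refine ⟨kk, ?_⟩
        have h1 : π (t ^ (r ^ kk)) = 1 := by
          have := congrArg Subtype.val hkk
          rw [map_pow]
          simpa using this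
        have h2 : t ^ (r ^ kk) ∈ C := (hπ1 _).mp h1
        intro v hv
        exact ((Subgroup.mem_centralizer_iff.mp (hCV h2)) v hv).symm)
      have hW : V ⊓ Subgroup.centralizer (P' : Set X) = V := by
        apply hmin _ inferInstance inf_le_left
        intro hbot
        apply hv1
        have h1 : v ∈ V ⊓ Subgroup.centralizer (P' : Set X) := by
          rw [Subgroup.mem_inf, Subgroup.mem_centralizer_iff]
          exact ⟨hv, fun t ht => hvfix t ht⟩
        rw [hbot, Subgroup.mem_bot] at h1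
        exact h1
      have h2 : V ≤ Subgroup.centralizer (P' : Set X) := by
        rw [← hW]; exact inf_le_right
      exact Subgroup.le_centralizer_iff.mp h2
    have hP'C : P' ≤ C := fun t ht => hmemC t (hP'G ht) (hcent ht)
    have h3 : P = P'.map π := by
      rw [hP'def, Subgroup.map_comap_eq_self_of_surjective hπsurj]
    rw [h3, Subgroup.map_eq_bot_iff, hπker]
    exact hP'C
  -- DLIN
  obtain ⟨Db, hDbn, hDbH, hDbnil, hDb⟩ := hvabs (X ⧸ C) r (EA r ↥V) hrp ρ H hHs hHp hfaith (π s) n hn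
    (by rw [← map_pow, hs, map_one] : (π s) ^ (2 ^ n) = 1) hfixM hOr
  haveI := hDbn
  haveI hcn : (Db.comap π).Normal := Subgroup.Normal.comap hDbn π
  refine ⟨Db.comap π ⊓ G, inferInstance, inf_le_right, ?_, ?_, ?_⟩
  · -- `C ≤ D`
    rw [← hCdef]
    intro c hc
    refine Subgroup.mem_inf.mpr ⟨?_, hCG hc⟩
    rw [Subgroup.mem_comap, (hπ1 c).mpr hc]
    exact Subgroup.one_mem _
  · -- lower central series
    obtain ⟨m, hm⟩ := (Subgroup.isNilpotent_iff_lowerCentralSeries Db).mp hDbnil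
    refine ⟨m, ?_⟩
    have h1 : ((Db.comap π ⊓ G).lowerCentralSeries m).map π ≤ ⊥ := by
      rw [Subgroup.map_lowerCentralSeries, ← hm]
      apply Subgroup.lowerCentralSeries_mono m
      exact (Subgroup.map_mono inf_le_left).trans (Subgroup.map_comap_le _ _)
    intro x hx
    apply hCV
    rw [← hπ1]
    have := h1 (Subgroup.mem_map_of_mem π hx)
    exact Subgroup.mem_bot.mp this
  · -- the commutators
    intro g hg
    refine Subgroup.mem_inf.mpr ⟨?_, ?_⟩
    · rw [Subgroup.mem_comap]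
      have h1 := hDb (π g) (by rw [hHdef]; exact Subgroup.mem_map_of_mem _ hg)
      have e : tau (π s) n = π (tau s n) := by unfold tau; rw [map_pow]
      rw [e] at h1
      rw [map_mul, map_mul, map_mul, map_inv, map_inv]
      exact h1
    · exact G.mul_mem (Subgroup.Normal.conj_mem inferInstance g hg _) (G.inv_mem hg)

end Cfsg.Agent.Lib.H5.SGT
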