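import Mathlib
import Cfsg.Agent.Lib.H19.SGTDefs
import Cfsg.Agent.Lib.H19.FittingCrit
import Cfsg.Agent.Lib.H19.Fpf4Main
import Cfsg.Agent.Lib.H5.SGTCLAIMV

/-!
# S3795 piece AMBIENT (architect helper19): the ambient form for `p = 2`
(adaptation of `SG.sg_ambient`, Lib/H19/SG15.lean, with the two-step output `N₁ ≤ N₂`).
-/

set_option autoImplicit false
set_option linter.unusedSectionVars false
set_option linter.unusedVariables false
set_option linter.style.haveILetI false

namespace Cfsg.Agent.Lib.H5.SGT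

open Module Cfsg Cfsg.Agent.Lib.H19.SG Cfsg.Agent.Lib.H19.SGT Cfsg.Agent.Lib.H19.ModRep
  Cfsg.Agent.Lib.H1 Cfsg.Agent.Lib.H1.QuadMul Cfsg.Agent.Lib.H19.Ward

universe u

/-- **AMBIENT** (analogue of `SG.sg_ambient`), parametric in DLIN. -/
theorem sg2_ambient_of (hvabs : VabsStmt.{u}) {n : ℕ} (hn : 0 < n) :
    ∀ (c : ℕ) (X : Type u) [Group X] [Finite X] (G : Subgroup X) [G.Normal], Nat.card G = c →
      Group.IsSolvable ↥G → ∀ s : X, s ^ (2 ^ n) = 1 →
      (∀ g ∈ G, s * g = g * s → g = 1) →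
      ∃ N₁ N₂ : Subgroup X, N₁ ≤ N₂ ∧ N₂ ≤ G ∧ N₁.Normal ∧ N₂.Normal ∧ Group.IsNilpotent ↥N₁ ∧
        (∃ m : ℕ, N₂.lowerCentralSeries m ≤ N₁) ∧
        ∀ g ∈ G, tau s n * g * (tau s n)⁻¹ * g⁻¹ ∈ N₂ := by
  haveI : Fact (Nat.Prime 2) := ⟨Nat.prime_two⟩
  intro c
  induction c using Nat.strong_induction_on with
  | _ c ih =>
    intro X _ _ G _ hc hGs s hs hfix
    by_cases hG : G = ⊥
    · refine ⟨⊥, ⊥, le_rfl, bot_le, inferInstance, inferInstance, inferInstance, ⟨0, ?_⟩, ?_⟩
      · exact le_rfl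
      · intro g hg
        rw [hG, Subgroup.mem_bot] at hg
        rw [hg, Subgroup.mem_bot]
        group
    obtain ⟨V, hVn, hVG, hV, hmin⟩ := exists_min_normal G hG
    haveI := hVn
    have hVs : Group.IsSolvable ↥V :=
      Group.isSolvable_of_isSolvable_injective (Subgroup.inclusion_injective hVG)
    obtain ⟨r, hr, hEA⟩ := isEA_min_normal hVs hV hmin
    haveI : Fact r.Prime := ⟨hr⟩
    obtain ⟨D, hDn, hDG, hCD, ⟨m₂, hm₂⟩, hDcomm⟩ :=
      sg2_claimV_of hvabs G hGs hn hs hfix V hVG hV hmin (r := r)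
    haveI := hDn
    -- the quotient
    obtain ⟨π, hπdef⟩ : ∃ π : X →* X ⧸ V, π = QuotientGroup.mk' V := ⟨_, rfl⟩
    have hπsurj : Function.Surjective π := by rw [hπdef]; exact QuotientGroup.mk'_surjective V
    have hπ1 : ∀ g : X, π g = 1 ↔ g ∈ V := by
      intro g; rw [hπdef]; exact QuotientGroup.eq_one_iff g
    have hlt : Nat.card (G.map π) < c := by
      rw [← hc, hπdef]
      exact card_map_lt G V hVG hV
    haveI hGn' : (G.map π).Normal := Subgroup.Normal.map inferInstance π hπsurj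
    have hGs' : Group.IsSolvable ↥(G.map π) := by
      haveI := hGs
      exact Group.isSolvable_of_surjective (f := π.subgroupMap G) (π.subgroupMap_surjective G)
    have hfix' : ∀ g' ∈ G.map π, π s * g' = g' * π s → g' = 1 := by
      rw [hπdef]
      exact fpf_quot' G hs hfix V hVG
    obtain ⟨N₁', N₂', h12', hN₂'G, hN₁'n, hN₂'n, hN₁'nil, ⟨m₁, hm₁⟩, hN'⟩ :=
      ih _ hlt (X ⧸ V) (G.map π) rfl hGs' (π s) (by rw [← map_pow, hs, map_one]) hfix'
    haveI := hN₁'n
    haveI := hN₂'n
    haveI hcn₁ : (N₁'.comap π).Normal := Subgroup.Normal.comap hN₁'n π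
    haveI hcn₂ : (N₂'.comap π).Normal := Subgroup.Normal.comap hN₂'n π
    -- `π⁻¹(Ḡ) ≤ G`
    have hpre : ∀ t : X, π t ∈ G.map π → t ∈ G := by
      intro t ht
      obtain ⟨g, hg, hgt⟩ := ht
      have h2 : g⁻¹ * t ∈ V := by
        rw [← hπ1, map_mul, map_inv, hgt, inv_mul_cancel]
      have e : t = g * (g⁻¹ * t) := by group
      rw [e]
      exact G.mul_mem hg (hVG h2)
    refine ⟨N₁'.comap π ⊓ Subgroup.centralizer (V : Set X), N₂'.comap π ⊓ D, ?_, ?_,
      inferInstance, inferInstance, ?_, ⟨max m₁ m₂, ?_⟩, ?_⟩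
    · -- `N₁ ≤ N₂`
      intro t ht
      rw [Subgroup.mem_inf, Subgroup.mem_comap] at ht
      refine Subgroup.mem_inf.mpr ⟨Subgroup.mem_comap.mpr (h12' ht.1), ?_⟩
      apply hCD
      exact Subgroup.mem_inf.mpr ⟨hpre t (hN₂'G (h12' ht.1)), ht.2⟩
    · -- `N₂ ≤ G`
      exact inf_le_right.trans hDG
    · -- nilpotent
      obtain ⟨N, hNdef⟩ : ∃ N : Subgroup X, N = N₁'.comap π ⊓ Subgroup.centralizer (V : Set X) :=
        ⟨_, rfl⟩
      rw [← hNdef]
      have hNle : N ≤ N₁'.comap π := by rw [hNdef]; exact inf_le_left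
      have hNcent : N ≤ Subgroup.centralizer (V : Set X) := by rw [hNdef]; exact inf_le_right
      let f : ↥N →* ↥N₁' := (π.comp N.subtype).codRestrict N₁' (fun t => hNle t.2)
      haveI := hN₁'nil
      apply Subgroup.isNilpotent_of_ker_le_center f
      intro t ht
      rw [MonoidHom.mem_ker] at ht
      have h1 : π (t : X) = 1 := congrArg Subtype.val ht
      have h2 : (t : X) ∈ V := (hπ1 _).mp h1
      rw [Subgroup.mem_center_iff]
      intro t'
      apply Subtype.ext
      show (t' : X) * t = t * t'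
      exact ((Subgroup.mem_centralizer_iff.mp (hNcent t'.2)) _ h2).symm
    · -- the lower central series
      apply le_inf
      · -- into `π⁻¹(N̄₁)`
        have h1 : (N₂'.comap π ⊓ D).lowerCentralSeries (max m₁ m₂) ≤
            (N₂'.comap π).lowerCentralSeries m₁ :=
          (Subgroup.lowerCentralSeries_antitone _ (le_max_left m₁ m₂)).trans
            (Subgroup.lowerCentralSeries_mono m₁ inf_le_left)
        refine h1.trans ?_
        rw [← Subgroup.map_le_iff_le_comap, Subgroup.map_lowerCentralSeries,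
          Subgroup.map_comap_eq_self_of_surjective hπsurj]
        exact hm₁
      · have h1 : (N₂'.comap π ⊓ D).lowerCentralSeries (max m₁ m₂) ≤
            D.lowerCentralSeries m₂ :=
          (Subgroup.lowerCentralSeries_antitone _ (le_max_right m₁ m₂)).trans
            (Subgroup.lowerCentralSeries_mono m₂ inf_le_right)
        exact h1.trans hm₂
    · -- the commutators
      intro g hg
      rw [Subgroup.mem_inf]
      refine ⟨?_, hDcomm g hg⟩
      rw [Subgroup.mem_comap]
      have h1 := hN' (π g) (Subgroup.mem_map_of_mem _ hg)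
      have e : tau (π s) n = π (tau s n) := by unfold tau; rw [map_pow]
      rw [e] at h1
      rw [map_mul, map_mul, map_mul, map_inv, map_inv]
      exact h1

end Cfsg.Agent.Lib.H5.SGT
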