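import Mathlib
import Cfsg.Agent.Lib.H19.SGTDefs
import Cfsg.Agent.Lib.H19.FittingCrit
import Cfsg.Agent.Lib.H19.Fpf4Main
import Cfsg.Agent.Lib.H5.SGTAMBIENT

/-!
# S3795 piece STEP (architect helper19): the abstract step for `p = 2`
(adaptation of `SG.sg_abstract_step`, Lib/H19/SG16.lean).
-/

set_option autoImplicit false
set_option linter.unusedSectionVars false
set_option linter.unusedVariables false
set_option linter.style.haveILetI false

namespace Cfsg.Agent.Lib.H5.SGT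

open Module Cfsg Cfsg.Agent.Lib.H19.SG Cfsg.Agent.Lib.H19.SGT Cfsg.Agent.Lib.H19.ModRep
  Cfsg.Agent.Lib.H1 Cfsg.Agent.Lib.H1.QuadMul

universe u

open SemidirectProduct in
/-- **STEP** (analogue of `SG.sg_abstract_step`), parametric in DLIN. -/
theorem sg2_abstract_step_of (hvabs : VabsStmt.{u}) {G : Type u} [Group G] [Finite G]
    (hG : Group.IsSolvable G)
    (σ : MulAut G) {n : ℕ} (hn : 0 < n) (hσ : σ ^ (2 ^ n) = 1)
    (hfix : ∀ g : G, σ g = g → g = 1) :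
    ∃ N₁ N₂ : Subgroup G, N₁ ≤ N₂ ∧ N₁.Normal ∧ N₂.Normal ∧ Group.IsNilpotent ↥N₁ ∧
      (∃ m : ℕ, N₂.lowerCentralSeries m ≤ N₁) ∧ (∀ g ∈ N₂, σ g ∈ N₂) ∧
      (∀ g : G, g⁻¹ * (σ ^ (2 ^ (n - 1))) g ∈ N₂) ∧ (∀ g : G, g⁻¹ * σ g ∈ N₂ → g ∈ N₂) := by
  haveI : Fact (Nat.Prime 2) := ⟨Nat.prime_two⟩
  haveI : Finite (MulAut G) := inferInstance
  let φ : MulAut G →* MulAut G := MonoidHom.id _
  haveI : Finite (G ⋊[φ] MulAut G) := Finite.of_equiv _ (SemidirectProduct.equivProd (φ := φ)).symm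
  obtain ⟨Gt, hGt⟩ : ∃ Gt : Subgroup (G ⋊[φ] MulAut G), Gt = (inl : G →* G ⋊[φ] MulAut G).range :=
    ⟨_, rfl⟩
  haveI hGtn : Gt.Normal := by
    rw [hGt, range_inl_eq_ker_rightHom]; infer_instance
  have hGts : Group.IsSolvable ↥Gt := by
    haveI := hG
    rw [hGt]
    exact Group.isSolvable_of_surjective (f := (inl : G →* G ⋊[φ] MulAut G).rangeRestrict)
      (MonoidHom.rangeRestrict_surjective _)
  have hinl : ∀ (a : MulAut G) (g : G),
      (inl (a g) : G ⋊[φ] MulAut G) = inr a * inl g * (inr a)⁻¹ := by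
    intro a g
    have h1 : (inl (φ a g) : G ⋊[φ] MulAut G) = inr a * inl g * (inr a)⁻¹ := by
      rw [inl_aut, map_inv]
    exact h1
  have hconj : ∀ (a : MulAut G) (g : G),
      (inr a : G ⋊[φ] MulAut G) * inl g = inl g * inr a → a g = g := by
    intro a g h
    have h1 := hinl a g
    rw [h, mul_assoc, mul_inv_cancel, mul_one] at h1
    exact inl_injective h1
  have hs : (inr σ : G ⋊[φ] MulAut G) ^ (2 ^ n) = 1 := by rw [← map_pow, hσ, map_one]
  have hfixX : ∀ g' ∈ Gt, (inr σ : G ⋊[φ] MulAut G) * g' = g' * inr σ → g' = 1 := by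
    intro g' hg' h1
    rw [hGt] at hg'
    obtain ⟨g, rfl⟩ := hg'
    rw [hfix g (hconj σ g h1), map_one]
  obtain ⟨N₁, N₂, h12, hN₂G, hN₁n, hN₂n, hN₁nil, ⟨m, hm⟩, hN⟩ :=
    sg2_ambient_of hvabs hn (Nat.card Gt) (G ⋊[φ] MulAut G) Gt rfl hGts (inr σ) hs hfixX
  haveI := hN₁n
  haveI := hN₂n
  have hN₁'n : (N₁.comap (inl : G →* G ⋊[φ] MulAut G)).Normal := Subgroup.Normal.comap hN₁n _
  have hN₂'n : (N₂.comap (inl : G →* G ⋊[φ] MulAut G)).Normal := Subgroup.Normal.comap hN₂n _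
  refine ⟨N₁.comap inl, N₂.comap inl, Subgroup.comap_mono h12, hN₁'n, hN₂'n, ?_, ⟨m, ?_⟩, ?_, ?_, ?_⟩
  · let f : ↥(N₁.comap (inl : G →* G ⋊[φ] MulAut G)) →* ↥N₁ :=
      ((inl : G →* G ⋊[φ] MulAut G).comp (N₁.comap inl).subtype).codRestrict N₁ (fun t => t.2)
    haveI := hN₁nil
    apply Subgroup.isNilpotent_of_ker_le_center f
    intro t ht
    rw [MonoidHom.mem_ker] at ht
    have h1 : (inl (t : G) : G ⋊[φ] MulAut G) = 1 := congrArg Subtype.val ht
    have h2 : (t : G) = 1 := inl_injective (by rw [h1, map_one])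
    have h3 : t = 1 := Subtype.ext h2
    rw [h3]
    exact Subgroup.one_mem _
  · rw [← Subgroup.map_le_iff_le_comap, Subgroup.map_lowerCentralSeries]
    refine le_trans ?_ hm
    apply Subgroup.lowerCentralSeries_mono m
    exact Subgroup.map_comap_le _ _
  · intro g hg
    rw [Subgroup.mem_comap] at hg ⊢
    rw [hinl]
    exact hN₂n.conj_mem _ hg _
  · intro g
    rw [Subgroup.mem_comap, map_mul, map_inv, hinl, map_pow]
    have h1 := hN (inl g) (by rw [hGt]; exact ⟨g, rfl⟩)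
    unfold tau at h1
    have h2 := hN₂n.conj_mem _ h1 (inl g)⁻¹
    have e : (inl g : G ⋊[φ] MulAut G)⁻¹ * (inr σ ^ 2 ^ (n - 1) * inl g * (inr σ ^ 2 ^ (n - 1))⁻¹ *
        (inl g)⁻¹) * (inl g)⁻¹⁻¹ =
        (inl g)⁻¹ * (inr σ ^ 2 ^ (n - 1) * inl g * (inr σ ^ 2 ^ (n - 1))⁻¹) := by group
    rw [e] at h2
    exact h2
  · intro g hg
    rw [Subgroup.mem_comap] at hg ⊢
    rw [map_mul, map_inv, hinl] at hg
    have hmk : (QuotientGroup.mk' N₂) (inl g) = 1 := by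
      apply fpf_quot' Gt hs hfixX N₂ hN₂G _
        (Subgroup.mem_map_of_mem _ (by rw [hGt]; exact ⟨g, rfl⟩))
      have h1 : (QuotientGroup.mk' N₂) ((inl g : G ⋊[φ] MulAut G)⁻¹ *
          (inr σ * inl g * (inr σ)⁻¹)) = 1 := (QuotientGroup.eq_one_iff _).mpr hg
      rw [map_mul, map_mul, map_mul, map_inv, map_inv] at h1
      have h2 := congrArg
        (fun t => (QuotientGroup.mk' N₂) (inl g) * t * (QuotientGroup.mk' N₂) (inr σ)) h1
      simp only [mul_one] at h2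
      rw [← h2]
      group
    exact (QuotientGroup.eq_one_iff _).mp hmk

end Cfsg.Agent.Lib.H5.SGT
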