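import Mathlib
import Cfsg.Agent.Lib.H19.SGTDefs
import Cfsg.Agent.Lib.H19.FittingCrit
import Cfsg.Agent.Lib.H19.Fpf4Main
import Cfsg.Agent.Lib.H5.SGTSTEP

/-!
# S3795 piece CHAIN (architect helper19): the Fitting chain of length `2n - 2` for `p = 2`
(adaptation of `SG.sg_chain`, Lib/H19/SG16.lean; base case `n = 2` from `Fpf4.Kt_nilpotent`).
-/

set_option autoImplicit false
set_option linter.unusedSectionVars false
set_option linter.unusedVariables false
set_option linter.style.haveILetI false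

namespace Cfsg.Agent.Lib.H5.SGT

open Module Cfsg Cfsg.Agent.Lib.H19.SG Cfsg.Agent.Lib.H19.SGT Cfsg.Agent.Lib.H19.ModRep
  Cfsg.Agent.Lib.H1 Cfsg.Agent.Lib.H1.QuadMul

universe u

/-- A normal series `B = F 0 ≤ F 1 ≤ ⋯ ≤ F L = ⊤` with nilpotent factors (in the sense
`γ_k(F (i+1)) ≤ F i`). -/
def ChainFrom {G : Type u} [Group G] (B : Subgroup G) (L : ℕ) : Prop :=
  ∃ F : Fin (L + 1) → Subgroup G, F 0 = B ∧ F (Fin.last L) = ⊤ ∧ Monotone F ∧
    (∀ i, (F i).Normal) ∧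
    ∀ i : Fin L, ∃ k : ℕ, (F i.succ).lowerCentralSeries k ≤ F i.castSucc

/-- prepend a term to a chain -/
theorem ChainFrom.cons {G : Type u} [Group G] {B : Subgroup G} {L : ℕ} (h : ChainFrom B L)
    (A : Subgroup G) (hAn : A.Normal) (hAB : A ≤ B) (hk : ∃ k : ℕ, B.lowerCentralSeries k ≤ A) :
    ChainFrom A (L + 1) := by
  obtain ⟨F, hF0, hFlast, hFmono, hFn, hFnil⟩ := h
  refine ⟨Fin.cons A F, ?_, ?_, ?_, ?_, ?_⟩
  · rw [Fin.cons_zero]
  · rw [← Fin.succ_last, Fin.cons_succ, hFlast]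
  · rw [Fin.monotone_iff_le_succ]
    intro i
    refine Fin.cases ?_ (fun j => ?_) i
    · rw [Fin.castSucc_zero, Fin.cons_zero, Fin.cons_succ, hF0]
      exact hAB
    · rw [Fin.castSucc_succ, Fin.cons_succ, Fin.cons_succ]
      exact hFmono (Fin.castSucc_le_succ j)
  · intro i
    refine Fin.cases ?_ (fun j => ?_) i
    · rw [Fin.cons_zero]
      exact hAn
    · rw [Fin.cons_succ]
      exact hFn j
  · intro i
    refine Fin.cases ?_ (fun j => ?_) i
    · rw [Fin.castSucc_zero, Fin.cons_zero, Fin.cons_succ, hF0]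
      exact hk
    · rw [Fin.castSucc_succ, Fin.cons_succ, Fin.cons_succ]
      exact hFnil j

/-- pull a chain back along a surjection -/
theorem ChainFrom.comap {G Q : Type u} [Group G] [Group Q] (π : G →* Q)
    (hπsurj : Function.Surjective π) {L : ℕ} (h : ChainFrom (⊥ : Subgroup Q) L) :
    ChainFrom π.ker L := by
  obtain ⟨F', hF'0, hF'last, hF'mono, hF'n, hF'nil⟩ := h
  refine ⟨fun i => (F' i).comap π, ?_, ?_, ?_, ?_, ?_⟩
  · show (F' 0).comap π = π.ker
    rw [hF'0, MonoidHom.comap_bot]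
  · show (F' (Fin.last L)).comap π = ⊤
    rw [hF'last, Subgroup.comap_top]
  · intro i j hij
    exact Subgroup.comap_mono (hF'mono hij)
  · intro i
    exact Subgroup.Normal.comap (hF'n i) π
  · intro i
    obtain ⟨k, hk⟩ := hF'nil i
    refine ⟨k, ?_⟩
    show ((F' i.succ).comap π).lowerCentralSeries k ≤ (F' i.castSucc).comap π
    rw [← Subgroup.map_le_iff_le_comap, Subgroup.map_lowerCentralSeries,
      Subgroup.map_comap_eq_self_of_surjective hπsurj]
    exact hk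

/-- the chain of length `2 m + 2` for `σ ^ (2 ^ (m + 2)) = 1`, parametric in DLIN -/
theorem sg2_chain_aux (hvabs : VabsStmt.{u}) : ∀ (m : ℕ) (G : Type u) [Group G] [Finite G],
    Group.IsSolvable G → ∀ σ : MulAut G, σ ^ (2 ^ (m + 2)) = 1 → (∀ g : G, σ g = g → g = 1) →
      ChainFrom (⊥ : Subgroup G) (2 * m + 2) := by
  intro m
  induction m with
  | zero =>
    intro G _ _ hG σ hσ hfix
    have h4 : σ ^ 4 = 1 := by
      have : (2 : ℕ) ^ (0 + 2) = 4 := by norm_num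
      rw [this] at hσ
      exact hσ
    have hKnil := Cfsg.Agent.Lib.H19.Fpf4.Kt_nilpotent hG σ hfix h4
    have hKn := Cfsg.Agent.Lib.H19.Fpf4.Kt_normal σ
    have hcomm : commutator G ≤ Cfsg.Agent.Lib.H19.Fpf4.Kt σ :=
      Cfsg.Agent.Lib.H19.Fpf4.commutator_le_Kt hfix
    -- the chain `⊤` of length `0`, then `Kt`, then `⊥`
    have c0 : ChainFrom (⊤ : Subgroup G) 0 :=
      ⟨fun _ => ⊤, rfl, rfl, fun _ _ _ => le_rfl, fun _ => inferInstance, fun i => i.elim0⟩
    have c1 : ChainFrom (Cfsg.Agent.Lib.H19.Fpf4.Kt σ) 1 := by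
      refine c0.cons _ hKn le_top ⟨1, ?_⟩
      rw [Subgroup.lowerCentralSeries_succ, Subgroup.lowerCentralSeries_zero]
      exact hcomm
    have c2 : ChainFrom (⊥ : Subgroup G) 2 := by
      refine c1.cons _ inferInstance bot_le ?_
      obtain ⟨k, hk⟩ := (Subgroup.isNilpotent_iff_lowerCentralSeries _).mp hKnil
      exact ⟨k, hk.le⟩
    exact c2
  | succ m ih =>
    intro G _ _ hG σ hσ hfix
    obtain ⟨N₁, N₂, h12, hN₁n, hN₂n, hN₁nil, hm12, hN₂σ, hN₂ψ, hN₂fix⟩ :=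
      sg2_abstract_step_of hvabs hG σ (Nat.succ_pos (m + 2)) hσ hfix
    haveI := hN₁n
    haveI := hN₂n
    have hn1 : (m + 2).succ - 1 = m + 2 := Nat.succ_sub_one _
    rw [hn1] at hN₂ψ
    have hmap : N₂.map (σ : G →* G) = N₂ := by
      have h1 : N₂.map (σ : G →* G) ≤ N₂ := by
        rintro _ ⟨g, hg, rfl⟩
        exact hN₂σ g hg
      apply Subgroup.eq_of_le_of_card_ge h1
      rw [Subgroup.card_map_of_injective (f := (σ : G →* G)) σ.injective]
    let σb : MulAut (G ⧸ N₂) := QuotientGroup.congr N₂ N₂ σ hmap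
    have hσb : σb ^ (2 ^ (m + 2)) = 1 := by
      apply MulEquiv.ext
      intro x
      obtain ⟨g, rfl⟩ := QuotientGroup.mk_surjective x
      rw [congr_pow_mk, MulAut.one_apply, eq_comm, QuotientGroup.eq]
      exact hN₂ψ g
    have hfixb : ∀ x : G ⧸ N₂, σb x = x → x = 1 := by
      intro x hx
      obtain ⟨g, rfl⟩ := QuotientGroup.mk_surjective x
      have h1 : (QuotientGroup.mk (σ g) : G ⧸ N₂) = QuotientGroup.mk g := hx
      rw [eq_comm, QuotientGroup.eq] at h1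
      exact (QuotientGroup.eq_one_iff g).mpr (hN₂fix g h1)
    have hGb : Group.IsSolvable (G ⧸ N₂) := by
      haveI := hG
      infer_instance
    have cq := ih (G ⧸ N₂) hGb σb hσb hfixb
    have cN₂ : ChainFrom N₂ (2 * m + 2) := by
      have := cq.comap (QuotientGroup.mk' N₂) (QuotientGroup.mk'_surjective N₂)
      rwa [QuotientGroup.ker_mk'] at this
    have cN₁ : ChainFrom N₁ (2 * m + 2 + 1) := cN₂.cons N₁ hN₁n h12 hm12
    have cbot : ChainFrom (⊥ : Subgroup G) (2 * m + 2 + 1 + 1) := by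
      refine cN₁.cons _ inferInstance bot_le ?_
      obtain ⟨k, hk⟩ := (Subgroup.isNilpotent_iff_lowerCentralSeries _).mp hN₁nil
      exact ⟨k, hk.le⟩
    exact cbot

/-- **CHAIN**, parametric in DLIN -/
theorem sg2_chain_of (hvabs : VabsStmt.{u}) : ∀ (n : ℕ), 2 ≤ n → ∀ (G : Type u) [Group G]
    [Finite G], Group.IsSolvable G →
    ∀ σ : MulAut G, σ ^ (2 ^ n) = 1 → (∀ g : G, σ g = g → g = 1) →
      ∃ F : Fin ((2 * n - 2) + 1) → Subgroup G, F 0 = ⊥ ∧ F (Fin.last (2 * n - 2)) = ⊤ ∧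
        Monotone F ∧ (∀ i, (F i).Normal) ∧
        ∀ i : Fin (2 * n - 2), ∃ k : ℕ, (F i.succ).lowerCentralSeries k ≤ F i.castSucc := by
  intro n hn G _ _ hG σ hσ hfix
  obtain ⟨m, rfl⟩ : ∃ m, n = m + 2 := ⟨n - 2, by omega⟩
  have h := sg2_chain_aux hvabs m G hG σ hσ hfix
  have e : 2 * (m + 2) - 2 = 2 * m + 2 := by omega
  rw [e]
  exact h

end Cfsg.Agent.Lib.H5.SGT
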