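import Mathlib
import Cfsg.Agent.Lib.H5.KleinCount
import Cfsg.Agent.Lib.H22.OrderPCube
import Cfsg.Agent.S0228

set_option autoImplicit false

/-!
# Recognising `A₄` from generators

Two commuting involutions `u ≠ v` and an element `h` of order three with `h u h⁻¹ = v`,
`h v h⁻¹ = u v` generate a group isomorphic to `A₄`.
-/

namespace Cfsg.Agent.Lib.H5.A4Recog

open Cfsg.Agent.Lib.H5.KleinCount

variable {G : Type*} [Group G]

theorem mem_normalizer_of_conj_mem {V : Subgroup G} [Finite V] {h : G}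
    (hc : ∀ v ∈ V, h * v * h⁻¹ ∈ V) : h ∈ Subgroup.normalizer (V : Set G) := by
  rw [Subgroup.mem_normalizer_iff_map_conj_eq]
  apply Subgroup.eq_of_le_of_card_ge
  · rintro _ ⟨v, hv, rfl⟩
    exact hc v hv
  · rw [Subgroup.card_map_of_injective (MulAut.conj h).injective]

theorem exists_A4_of_triple (u v h : G) (hu : u * u = 1) (hv : v * v = 1) (hu1 : u ≠ 1)
    (huv : u * v = v * u) (hne : v ≠ u) (h3 : h ^ 3 = 1) (h1 : h * u * h⁻¹ = v)
    (h2 : h * v * h⁻¹ = u * v) :
    ∃ H : Subgroup G, Nonempty (H ≃* alternatingGroup (Fin 4)) := by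
  haveI : Fact (Nat.Prime 3) := ⟨Nat.prime_three⟩
  have hv1 : v ≠ 1 := by
    intro hv1
    apply hu1
    rw [hv1] at h1
    calc u = h⁻¹ * (h * u * h⁻¹) * h := by group
      _ = 1 := by rw [h1]; group
  have h3' : h * (u * v) * h⁻¹ = u := by
    calc h * (u * v) * h⁻¹ = (h * u * h⁻¹) * (h * v * h⁻¹) := by group
      _ = v * (u * v) := by rw [h1, h2]
      _ = v * (v * u) := by rw [huv]
      _ = (v * v) * u := by group
      _ = u := by rw [hv, one_mul]
  obtain ⟨V, hVdef⟩ : ∃ V : Subgroup G, V = kleinSub u v huv hu hv := ⟨_, rfl⟩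
  have hmemV : ∀ x : G, x ∈ V ↔ x = 1 ∨ x = u ∨ x = v ∨ x = u * v := by
    intro x; rw [hVdef]; exact mem_kleinSub huv hu hv x
  have hVK : IsKleinFour V := by rw [hVdef]; exact isKleinFour_kleinSub huv hu hv hu1 hv1 hne
  haveI : Finite V := Nat.finite_of_card_ne_zero (by rw [hVK.card_four]; norm_num)
  have hN : h ∈ Subgroup.normalizer (V : Set G) := by
    apply mem_normalizer_of_conj_mem
    intro x hx
    rcases (hmemV x).mp hx with rfl | rfl | rfl | rfl
    · have : h * 1 * h⁻¹ = 1 := by group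
      rw [this]; exact Subgroup.one_mem _
    · rw [h1]; exact (hmemV v).mpr (Or.inr (Or.inr (Or.inl rfl)))
    · rw [h2]; exact (hmemV _).mpr (Or.inr (Or.inr (Or.inr rfl)))
    · rw [h3']; exact (hmemV u).mpr (Or.inr (Or.inl rfl))
  have hh1 : h ≠ 1 := by
    intro hh1
    apply hne
    rw [hh1] at h1
    rw [← h1]; group
  have hord : orderOf h = 3 := orderOf_eq_prime h3 hh1
  have hK : Subgroup.zpowers h ≤ Subgroup.normalizer (V : Set G) := by
    rw [Subgroup.zpowers_le]; exact hN
  have hcardK : Nat.card (Subgroup.zpowers h) = 3 := by rw [Nat.card_zpowers, hord]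
  obtain ⟨H, hHdef⟩ : ∃ H : Subgroup G, H = Subgroup.zpowers h ⊔ V := ⟨_, rfl⟩
  have hKH : Subgroup.zpowers h ≤ H := by rw [hHdef]; exact le_sup_left
  have hVH : V ≤ H := by rw [hHdef]; exact le_sup_right
  have hHN : H ≤ Subgroup.normalizer (V : Set G) := by
    rw [hHdef]; exact sup_le hK Subgroup.le_normalizer
  have hcardH : Nat.card H = 12 := by
    have hd : Nat.card H ∣ 12 := by
      have := Cfsg.Agent.Lib.H22.card_sup_dvd_mul_of_le_normalizer (Subgroup.zpowers h) V hK
      rwa [← hHdef, hcardK, hVK.card_four] at this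
    have d3 : 3 ∣ Nat.card H := hcardK ▸ Subgroup.card_dvd_of_le hKH
    have d4 : 4 ∣ Nat.card H := hVK.card_four ▸ Subgroup.card_dvd_of_le hVH
    have hle := Nat.le_of_dvd (by norm_num) hd
    have hpos : 0 < Nat.card H := Nat.pos_of_dvd_of_pos hd (by norm_num)
    omega
  haveI : Finite H := Nat.finite_of_card_ne_zero (by rw [hcardH]; norm_num)
  refine ⟨H, Cfsg.Agent.S0228.result hcardH ?_⟩
  intro z hz2 hzc
  haveI hVn : (V.subgroupOf H).Normal := Subgroup.normal_subgroupOf_of_le_normalizer hHN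
  have hcardV' : Nat.card (V.subgroupOf H) = 4 := by
    rw [Nat.card_congr (Subgroup.subgroupOfEquivOfLe hVH).toEquiv, hVK.card_four]
  have hcardQ : Nat.card (H ⧸ V.subgroupOf H) = 3 := by
    have := Subgroup.card_eq_card_quotient_mul_card_subgroup (V.subgroupOf H)
    rw [hcardH, hcardV'] at this
    omega
  have hz3 : (QuotientGroup.mk z : H ⧸ V.subgroupOf H) ^ 3 = 1 := by
    rw [← hcardQ]; exact pow_card_eq_one'
  have hzz : (QuotientGroup.mk z : H ⧸ V.subgroupOf H) ^ 2 = 1 := by
    rw [← QuotientGroup.mk_pow]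
    have : z ^ 2 = 1 := by rw [← hz2]; exact pow_orderOf_eq_one z
    rw [this, QuotientGroup.mk_one]
  have hz1 : (QuotientGroup.mk z : H ⧸ V.subgroupOf H) = 1 := by
    calc (QuotientGroup.mk z : H ⧸ V.subgroupOf H)
        = (QuotientGroup.mk z : H ⧸ V.subgroupOf H) ^ 3 *
          ((QuotientGroup.mk z : H ⧸ V.subgroupOf H) ^ 2)⁻¹ := by group
      _ = 1 := by rw [hz3, hzz]; group
  have hzV : (z : G) ∈ V := by
    rw [QuotientGroup.eq_one_iff, Subgroup.mem_subgroupOf] at hz1
    exact hz1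
  rw [Subgroup.mem_center_iff] at hzc
  have hfix : h * (z : G) * h⁻¹ = z := by
    have hhH : h ∈ H := hKH (Subgroup.mem_zpowers h)
    have := hzc ⟨h, hhH⟩
    have h5 : h * (z : G) = z * h := congrArg Subtype.val this
    rw [h5]; group
  rcases (hmemV _).mp hzV with hz | hz | hz | hz
  · have : z = 1 := Subtype.ext hz
    rw [this, orderOf_one] at hz2
    omega
  · rw [hz, h1] at hfix
    exact hne hfix
  · rw [hz, h2] at hfix
    apply hu1
    have : u * v = 1 * v := by rw [one_mul]; exact hfix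
    exact mul_right_cancel this
  · rw [hz, h3'] at hfix
    apply hv1
    have : u * 1 = u * v := by rw [mul_one]; exact hfix
    exact (mul_left_cancel this).symm

end Cfsg.Agent.Lib.H5.A4Recog
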