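import Mathlib
import Cfsg.Agent.Lib.H5.SL2Char2
import Cfsg.Agent.Lib.H5.A4Recog

set_option autoImplicit false

/-!
# `A₄` inside `SL₂(2ⁿ)`

`SL₂(2ⁿ)` contains `A₄` iff `n` is even, i.e. iff the field contains a primitive cube root of unity.
-/

namespace Cfsg.Agent.Lib.H5.SL2Char2

open Matrix Cfsg.Agent.Lib.H12

variable {F : Type*} [Field F]

local notation "SL2" => Matrix.SpecialLinearGroup (Fin 2) F
local notation "M2" => Matrix (Fin 2) (Fin 2) F
local notation "PSL2" => Matrix.ProjectiveSpecialLinearGroup (Fin 2) F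

theorem mat_ext (a b c d a' b' c' d' : F) (h1 : a = a') (h3 : b = b') (h4 : c = c') (h5 : d = d') :
    (!![a, b; c, d] : M2) = !![a', b'; c', d'] := by
  subst h1 h3 h4 h5
  rfl

theorem add_self_mat (h2 : (2 : F) = 0) (M : M2) : M + M = 0 := by
  rw [← two_smul F M, h2, zero_smul]

theorem nonScalar_of_ne_one (h2 : (2 : F) = 0) {u : SL2} (hu1 : u ≠ 1) : NonScalar (u : M2) := by
  by_contra hns
  apply hu1
  have := sl2_mem_center_of_not_nonScalar u hns
  rw [center_eq_bot h2, Subgroup.mem_bot] at this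
  exact this

/-- elements of the centralizer of an involution -/
theorem centralizer_form (h2 : (2 : F) = 0) {u : SL2} (hu1 : u ≠ 1) (huu : u * u = 1) {x : SL2}
    (hx : x ∈ Subgroup.centralizer ({u} : Set SL2)) :
    ∃ β : F, (x : M2) = 1 + β • ((u : M2) + 1) := by
  have hd : NonScalar (u : M2) := nonScalar_of_ne_one h2 hu1
  obtain ⟨α, β, hx'⟩ := (mem_centralizer_iff_span hd x).mp hx
  have htr : (u : M2).trace = 0 :=
    trace_eq_zero_of_mul_self u (by rw [huu, sl2_neg_one_eq_one h2])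
  have hdet := det_span (u : M2) u.det_coe α β
  rw [← hx', x.det_coe, htr] at hdet
  have hαβ : α = 1 + β := by
    have hsq : (α + β + 1) ^ 2 = 0 := by
      linear_combination (-1 : F) * hdet + (α * β + α + β + 1) * h2
    have h0 : α + β + 1 = 0 := by
      rcases pow_eq_zero_iff (n := 2) (by norm_num) |>.mp hsq with h
      exact h
    linear_combination h0 - (β + 1) * h2
  refine ⟨β, ?_⟩
  rw [hx', hαβ]
  module

theorem mul_self_of_mem_centralizer (h2 : (2 : F) = 0) {u : SL2} (hu1 : u ≠ 1) (huu : u * u = 1)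
    {x : SL2} (hx : x ∈ Subgroup.centralizer ({u} : Set SL2)) : x * x = 1 := by
  obtain ⟨β, hβ⟩ := centralizer_form h2 hu1 huu hx
  have hUU : (u : M2) * (u : M2) = 1 := by
    rw [← Matrix.SpecialLinearGroup.coe_mul, huu, Matrix.SpecialLinearGroup.coe_one]
  have hNN : ((u : M2) + 1) * ((u : M2) + 1) = 0 := by
    have : ((u : M2) + 1) * ((u : M2) + 1) = (u : M2) * (u : M2) + ((u : M2) + (u : M2)) + 1 := by
      simp only [add_mul, mul_add, mul_one, one_mul]; abel
    rw [this, hUU, add_self_mat h2, add_zero, add_self_mat h2]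
  obtain ⟨N, hN⟩ : ∃ N : M2, N = (u : M2) + 1 := ⟨_, rfl⟩
  rw [← hN] at hβ hNN
  apply Subtype.ext
  rw [Matrix.SpecialLinearGroup.coe_mul, hβ, Matrix.SpecialLinearGroup.coe_one]
  have : (1 + β • N) * (1 + β • N) = 1 + (β • N + β • N) + (β * β) • (N * N) := by
    rw [add_mul, mul_add, mul_add, one_mul, one_mul, mul_one, smul_mul_assoc, mul_smul_comm, smul_smul]
    abel
  rw [this, hNN, add_self_mat h2, smul_zero, add_zero, add_zero]

/-- an `A₄`-configuration in `SL₂` in characteristic two gives a primitive cube root of unity -/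
theorem exists_cube_root (h2 : (2 : F) = 0) (u h : SL2) (hu1 : u ≠ 1) (huu : u * u = 1)
    (hh1 : h ≠ 1) (hh3 : h ^ 3 = 1) (hcomm : (h * u * h⁻¹) * u = u * (h * u * h⁻¹)) :
    ∃ γ : F, γ ^ 2 + γ + 1 = 0 := by
  have hWC : h * u * h⁻¹ ∈ Subgroup.centralizer ({u} : Set SL2) :=
    Subgroup.mem_centralizer_singleton_iff.mpr hcomm
  obtain ⟨β, hβ⟩ := centralizer_form h2 hu1 huu hWC
  obtain ⟨N, hN⟩ : ∃ N : M2, N = (u : M2) + 1 := ⟨_, rfl⟩
  rw [← hN] at hβ
  have hU : (u : M2) = N - 1 := by rw [hN]; abel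
  have hN0 : N ≠ 0 := by
    intro h0
    apply hu1
    apply Subtype.ext
    rw [hU, h0, zero_sub, Matrix.SpecialLinearGroup.coe_one]
    exact neg_one_eq_one_mat h2
  -- the relation `h N = β N h`
  have hrel : (h : M2) * N = β • (N * (h : M2)) := by
    have h1 : (h * u * h⁻¹) * h = h * u := by group
    have h3 : ((h * u * h⁻¹ : SL2) : M2) * (h : M2) = (h : M2) * (u : M2) := by
      rw [← Matrix.SpecialLinearGroup.coe_mul, ← Matrix.SpecialLinearGroup.coe_mul, h1]
    rw [hβ, hU] at h3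
    simp only [add_mul, mul_sub, one_mul, mul_one, smul_mul_assoc] at h3
    -- h3 : h + β • (N * h) = h * N - h
    have h4 : (h : M2) * N = ((h : M2) + β • (N * (h : M2))) + (h : M2) := by
      rw [h3]; abel
    rw [h4]
    have : (h : M2) + β • (N * (h : M2)) + (h : M2) = ((h : M2) + (h : M2)) + β • (N * (h : M2)) := by
      abel
    rw [this, add_self_mat h2, zero_add]
  have hH3 : (h : M2) * ((h : M2) * (h : M2)) = 1 := by
    have : h * (h * h) = 1 := by rw [← hh3]; simp only [pow_succ, pow_zero, one_mul, mul_assoc]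
    have := congrArg (fun x : SL2 => (x : M2)) this
    simpa using this
  have hβ3 : β ^ 3 = 1 := by
    have h1 : (h : M2) * ((h : M2) * ((h : M2) * N)) =
        (β ^ 3) • (N * ((h : M2) * ((h : M2) * (h : M2)))) := by
      rw [hrel, mul_smul_comm, ← mul_assoc (h : M2) N, hrel, smul_mul_assoc, mul_smul_comm, mul_smul_comm,
        ← mul_assoc (h : M2) (N * (h : M2)), ← mul_assoc (h : M2) N, hrel]
      simp only [smul_mul_assoc, smul_smul, mul_assoc]
      congr 1
      ring
    rw [hH3, mul_one] at h1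
    have h3 : (h : M2) * ((h : M2) * ((h : M2) * N)) = N := by
      rw [← mul_assoc, ← mul_assoc, mul_assoc (h : M2) (h : M2) (h : M2), hH3, one_mul]
    rw [h3] at h1
    by_contra hne
    apply hN0
    have h5 : (1 - β ^ 3) • N = 0 := by
      rw [sub_smul, one_smul, ← h1, sub_self]
    have h6 : (1 - β ^ 3) ≠ 0 := fun h => hne (sub_eq_zero.mp h).symm
    have := congrArg (fun M : M2 => (1 - β ^ 3)⁻¹ • M) h5
    simpa [smul_smul, inv_mul_cancel₀ h6] using this
  have hβ1 : β ≠ 1 := by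
    intro hb
    apply hh1
    have hW : h * u * h⁻¹ = u := by
      apply Subtype.ext
      rw [hβ, hb, one_smul, hU, sub_eq_add_neg, neg_one_eq_one_mat h2, add_comm]
    have hhC : h ∈ Subgroup.centralizer ({u} : Set SL2) := by
      rw [Subgroup.mem_centralizer_singleton_iff]
      calc h * u = (h * u * h⁻¹) * h := by group
        _ = u * h := by rw [hW]
    have hh2 := mul_self_of_mem_centralizer h2 hu1 huu hhC
    calc h = h ^ 3 * (h * h)⁻¹ := by group
      _ = 1 := by rw [hh3, hh2]; group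
  refine ⟨β, ?_⟩
  have h1 : (β - 1) * (β ^ 2 + β + 1) = 0 := by linear_combination hβ3
  rcases mul_eq_zero.mp h1 with h | h
  · exact absurd (sub_eq_zero.mp h) hβ1
  · exact h

/-- no primitive cube root of unity in `GF(2ⁿ)`, `n` odd -/
theorem no_cube_root_of_odd [Fintype F] (h2 : (2 : F) = 0) (n : ℕ) (hF : Fintype.card F = 2 ^ n)
    (hn : Odd n) (γ : F) (hγ : γ ^ 2 + γ + 1 = 0) : False := by
  have hγ0 : γ ≠ 0 := by
    rintro rfl
    simp at hγ
  have hγ3 : γ ^ 3 = 1 := by linear_combination (γ - 1) * hγ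
  have hγ1 : γ ≠ 1 := by
    rintro rfl
    have : (1 : F) = 0 := by linear_combination hγ - h2
    exact one_ne_zero this
  have hord : orderOf γ = 3 := orderOf_eq_prime hγ3 hγ1
  have hdvd : 3 ∣ Fintype.card F - 1 := by
    rw [← hord]
    exact orderOf_dvd_of_pow_eq_one (FiniteField.pow_card_sub_one_eq_one γ hγ0)
  rw [hF] at hdvd
  have hmod : 2 ^ n % 3 = 2 := by
    obtain ⟨k, rfl⟩ := hn
    rw [pow_succ, pow_mul]
    norm_num [Nat.mul_mod, Nat.pow_mod]
  have hpos : 1 ≤ 2 ^ n := Nat.one_le_two_pow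
  omega

/-- `SL₂(2ⁿ)`, `n` even, contains `A₄` -/
theorem exists_A4_char_two [Fintype F] (h2 : (2 : F) = 0) (n : ℕ) (hF : Fintype.card F = 2 ^ n)
    (hn : Even n) : ∃ H : Subgroup PSL2, Nonempty (H ≃* alternatingGroup (Fin 4)) := by
  classical
  haveI : Fact (Nat.Prime 3) := ⟨Nat.prime_three⟩
  have hdvd : 3 ∣ Nat.card Fˣ := by
    rw [Nat.card_eq_fintype_card, Fintype.card_units, hF]
    obtain ⟨k, rfl⟩ := hn
    have hmod : 2 ^ (k + k) % 3 = 1 := by
      rw [← two_mul, pow_mul]
      norm_num [Nat.pow_mod]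
    have hpos : 1 ≤ 2 ^ (k + k) := Nat.one_le_two_pow
    omega
  obtain ⟨ω, hω⟩ := exists_prime_orderOf_dvd_card' 3 hdvd
  obtain ⟨w, hw⟩ : ∃ w : F, w = (ω : F) := ⟨_, rfl⟩
  have hw3 : w ^ 3 = 1 := by
    have := pow_orderOf_eq_one ω
    rw [hω] at this
    rw [hw, ← Units.val_pow_eq_pow_val, this, Units.val_one]
  have hw1 : w ≠ 1 := by
    intro h1
    have : ω = 1 := Units.ext (by rw [← hw, h1, Units.val_one])
    rw [this, orderOf_one] at hω
    omega
  have hw2 : w ^ 2 + w + 1 = 0 := by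
    have h1 : (w - 1) * (w ^ 2 + w + 1) = 0 := by linear_combination hw3
    rcases mul_eq_zero.mp h1 with h | h
    · exact absurd (sub_eq_zero.mp h) hw1
    · exact h
  obtain ⟨u, hu⟩ : ∃ u : SL2, (u : M2) = !![1, 1; 0, 1] :=
    ⟨⟨!![1, 1; 0, 1], by simp [Matrix.det_fin_two]⟩, rfl⟩
  obtain ⟨v, hv⟩ : ∃ v : SL2, (v : M2) = !![1, w ^ 2; 0, 1] :=
    ⟨⟨!![1, w ^ 2; 0, 1], by simp [Matrix.det_fin_two]⟩, rfl⟩
  obtain ⟨h, hh⟩ : ∃ h : SL2, (h : M2) = !![w, 0; 0, w ^ 2] :=
    ⟨⟨!![w, 0; 0, w ^ 2], by rw [Matrix.det_fin_two]; simp; linear_combination hw3⟩, rfl⟩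
  have huu : u * u = 1 := by
    apply Subtype.ext
    rw [Matrix.SpecialLinearGroup.coe_mul, hu, Matrix.SpecialLinearGroup.coe_one, Matrix.mul_fin_two,
      Matrix.one_fin_two]
    apply mat_ext
    · ring
    · linear_combination h2
    · ring
    · ring
  have hvv : v * v = 1 := by
    apply Subtype.ext
    rw [Matrix.SpecialLinearGroup.coe_mul, hv, Matrix.SpecialLinearGroup.coe_one, Matrix.mul_fin_two,
      Matrix.one_fin_two]
    apply mat_ext
    · ring
    · linear_combination (w ^ 2) * h2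
    · ring
    · ring
  have huv : u * v = v * u := by
    apply Subtype.ext
    rw [Matrix.SpecialLinearGroup.coe_mul, Matrix.SpecialLinearGroup.coe_mul, hu, hv, Matrix.mul_fin_two,
      Matrix.mul_fin_two]
    apply mat_ext <;> ring
  have hu1 : u ≠ 1 := by
    intro h1
    have := congrArg (fun x : SL2 => (x : M2) 0 1) h1
    simp [hu] at this
  have hne : v ≠ u := by
    intro h1
    have := congrArg (fun x : SL2 => (x : M2) 0 1) h1
    simp only [hu, hv, Matrix.of_apply, Matrix.cons_val', Matrix.cons_val_zero, Matrix.cons_val_one,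
      Matrix.cons_val_fin_one] at this
    apply hw1
    have h5 : w ^ 2 = 1 := this
    linear_combination hw3 - w * h5
  have h3 : h ^ 3 = 1 := by
    apply Subtype.ext
    have : h ^ 3 = h * (h * h) := by simp only [pow_succ, pow_zero, one_mul, mul_assoc]
    rw [this, Matrix.SpecialLinearGroup.coe_mul, Matrix.SpecialLinearGroup.coe_mul, hh,
      Matrix.SpecialLinearGroup.coe_one, Matrix.mul_fin_two, Matrix.mul_fin_two, Matrix.one_fin_two]
    apply mat_ext
    · linear_combination hw3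
    · ring
    · ring
    · linear_combination (w ^ 3 + 1) * hw3
  have hc1 : h * u * h⁻¹ = v := by
    have : h * u = v * h := by
      apply Subtype.ext
      rw [Matrix.SpecialLinearGroup.coe_mul, Matrix.SpecialLinearGroup.coe_mul, hh, hu, hv,
        Matrix.mul_fin_two, Matrix.mul_fin_two]
      apply mat_ext
      · ring
      · linear_combination (-w) * hw3
      · ring
      · ring
    rw [this]; group
  have hc2 : h * v * h⁻¹ = u * v := by
    have : h * v = (u * v) * h := by
      apply Subtype.ext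
      rw [Matrix.SpecialLinearGroup.coe_mul, Matrix.SpecialLinearGroup.coe_mul,
        Matrix.SpecialLinearGroup.coe_mul, hh, hu, hv, Matrix.mul_fin_two, Matrix.mul_fin_two,
        Matrix.mul_fin_two]
      apply mat_ext
      · ring
      · linear_combination (1 - w) * hw3 - hw2 + h2
      · ring
      · ring
    rw [this]; group
  have hinj := mk_injective (F := F) h2
  apply Cfsg.Agent.Lib.H5.A4Recog.exists_A4_of_triple (QuotientGroup.mk u : PSL2) (QuotientGroup.mk v)
    (QuotientGroup.mk h)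
  · rw [← QuotientGroup.mk_mul, huu]; rfl
  · rw [← QuotientGroup.mk_mul, hvv]; rfl
  · intro h1
    exact hu1 (hinj h1)
  · rw [← QuotientGroup.mk_mul, ← QuotientGroup.mk_mul, huv]
  · intro h1
    exact hne (hinj h1)
  · rw [← QuotientGroup.mk_pow, h3]; rfl
  · rw [← QuotientGroup.mk_inv, ← QuotientGroup.mk_mul, ← QuotientGroup.mk_mul, hc1]
  · rw [← QuotientGroup.mk_inv, ← QuotientGroup.mk_mul, ← QuotientGroup.mk_mul, hc2,
      QuotientGroup.mk_mul]

end Cfsg.Agent.Lib.H5.SL2Char2
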