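/-
S4959 (architect helper23, blueprint tools/blueprints/S4959.md), piece **WEIL-A** (helper5):
`|tr ω(g)|² = #{v : g v = v}` for the Weil representation `ω` of `Sp_2n(F)`.

Proof: Heisenberg averaging `∑_v hop v * X * hop (-v) = (q^n tr X) • 1` (checked on the basis `hop u`), applied to
`X = ω g`, multiplied by `ω g⁻¹` and traced, with `ω g * hop u * ω g⁻¹ = hop (g u)` and trace orthogonality of the `hop`s.
-/
import Cfsg.Agent.Lib.H23.RVDefs
import Cfsg.Agent.Lib.H20.WeilIrr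
import Cfsg.Agent.Lib.L0.CharBasic

set_option autoImplicit false

namespace Cfsg.Agent.Lib.H5.RV

open Cfsg Cfsg.Agent.Lib.H23 Cfsg.Agent.Lib.H23.RV
open scoped ComplexConjugate
open Matrix Cfsg.Agent.Lib.H20.Weil

variable {F : Type*} [Field F] {n : ℕ}

theorem om_add_right (u v v' : Fin n ⊕ Fin n → F) : om u (v + v') = om u v + om u v' := by
  rw [Cfsg.Agent.Lib.H5.Weil.om_swap, Cfsg.Agent.Lib.H2.Weil.w5_om_add_left,
    Cfsg.Agent.Lib.H5.Weil.om_swap v u, Cfsg.Agent.Lib.H5.Weil.om_swap v' u]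
  ring

/-- `hop v * hop u * hop (-v) = ψ (om v u) • hop u` -/
theorem hop_conj (h2 : (2 : F) ≠ 0) (ψ : AddChar F ℂ) (u v : Fin n ⊕ Fin n → F) :
    hop ψ v * hop ψ u * hop ψ (-v) = ψ (om v u) • hop ψ u := by
  rw [Cfsg.Agent.Lib.H5.Weil.hop_mul h2, smul_mul_assoc, Cfsg.Agent.Lib.H5.Weil.hop_mul h2, smul_smul,
    ← AddChar.map_add_eq_mul]
  have h1 : v + u + -v = u := by abel
  have h3 : om (v + u) (-v) = om v u := by
    rw [Cfsg.Agent.Lib.H5.Weil.om_neg_right, Cfsg.Agent.Lib.H2.Weil.w5_om_add_left,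
      Cfsg.Agent.Lib.H5.Weil.om_self, zero_add, Cfsg.Agent.Lib.H5.Weil.om_swap v u, neg_neg]
  rw [h1, h3]
  congr 2
  field_simp
  ring

/-- non-degeneracy of `om` -/
theorem exists_om_eq (u : Fin n ⊕ Fin n → F) (hu : u ≠ 0) (a : F) :
    ∃ v : Fin n ⊕ Fin n → F, om v u = a := by
  classical
  obtain ⟨i, hi⟩ : ∃ i, u i ≠ 0 := by
    by_contra hcon
    push Not at hcon
    exact hu (funext hcon)
  rcases i with i | i
  · -- pA u i ≠ 0 : take v = single (inr i) t, om v u = - pA u i * t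
    refine ⟨Pi.single (Sum.inr i) (-(a / u (Sum.inl i))), ?_⟩
    unfold om
    have hA : pA (Pi.single (Sum.inr i) (-(a / u (Sum.inl i))) : Fin n ⊕ Fin n → F) = 0 := by
      funext j
      rw [pA_apply, Pi.single_apply, if_neg (by simp)]
      rfl
    have hB : pB (Pi.single (Sum.inr i) (-(a / u (Sum.inl i))) : Fin n ⊕ Fin n → F) =
        Pi.single i (-(a / u (Sum.inl i))) := by
      funext j
      rw [pB_apply, Pi.single_apply, Pi.single_apply]
      simp only [Sum.inr.injEq]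
    rw [hA, hB, zero_dotProduct, dotProduct_single, pA_apply]
    field_simp
    ring
  · refine ⟨Pi.single (Sum.inl i) (a / u (Sum.inr i)), ?_⟩
    unfold om
    have hA : pA (Pi.single (Sum.inl i) (a / u (Sum.inr i)) : Fin n ⊕ Fin n → F) =
        Pi.single i (a / u (Sum.inr i)) := by
      funext j
      rw [pA_apply, Pi.single_apply, Pi.single_apply]
      simp only [Sum.inl.injEq]
    have hB : pB (Pi.single (Sum.inl i) (a / u (Sum.inr i)) : Fin n ⊕ Fin n → F) = 0 := by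
      funext j
      rw [pB_apply, Pi.single_apply, if_neg (by simp)]
      rfl
    rw [hA, hB, dotProduct_zero, single_dotProduct, pB_apply]
    field_simp
    ring

variable [Fintype F]

/-- `∑_v ψ (om v u) = 0` for `u ≠ 0` -/
theorem sum_psi_om_ne (ψ : AddChar F ℂ) (hψ : ψ ≠ 1) (u : Fin n ⊕ Fin n → F) (hu : u ≠ 0) :
    ∑ v : Fin n ⊕ Fin n → F, ψ (om v u) = 0 := by
  classical
  let φ : AddChar (Fin n ⊕ Fin n → F) ℂ :=
    { toFun := fun v => ψ (om v u)
      map_zero_eq_one' := by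
        have h0 : om (0 : Fin n ⊕ Fin n → F) u = 0 := by
          unfold om
          rw [Cfsg.Agent.Lib.H5.Weil.pA_zero, Cfsg.Agent.Lib.H5.Weil.pB_zero, zero_dotProduct,
            dotProduct_zero, sub_zero]
        rw [h0, AddChar.map_zero_eq_one]
      map_add_eq_mul' := by
        intro x y
        rw [Cfsg.Agent.Lib.H2.Weil.w5_om_add_left, AddChar.map_add_eq_mul] }
  have hφ : φ ≠ 1 := by
    obtain ⟨a, ha⟩ := AddChar.ne_one_iff.1 hψ
    obtain ⟨v, hv⟩ := exists_om_eq u hu a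
    apply AddChar.ne_one_iff.2
    refine ⟨v, ?_⟩
    show ψ (om v u) ≠ 1
    rw [hv]
    exact ha
  exact AddChar.sum_eq_zero_of_ne_one hφ

/-- Heisenberg averaging on the basis -/
theorem sum_hop_conj_hop (h2 : (2 : F) ≠ 0) (ψ : AddChar F ℂ) (hψ : ψ ≠ 1) (u : Fin n ⊕ Fin n → F) :
    ∑ v : Fin n ⊕ Fin n → F, hop ψ v * hop ψ u * hop ψ (-v) =
      ((Fintype.card F : ℂ) ^ n * LinearMap.trace ℂ ((Fin n → F) → ℂ) (hop ψ u)) •
        (1 : Module.End ℂ ((Fin n → F) → ℂ)) := by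
  classical
  simp only [hop_conj h2]
  rw [← Finset.sum_smul]
  by_cases hu : u = 0
  · subst hu
    have h0 : ∀ v : Fin n ⊕ Fin n → F, ψ (om v 0) = 1 := by
      intro v
      have : om v (0 : Fin n ⊕ Fin n → F) = 0 := by
        unfold om
        rw [Cfsg.Agent.Lib.H5.Weil.pA_zero, Cfsg.Agent.Lib.H5.Weil.pB_zero, zero_dotProduct,
          dotProduct_zero, sub_zero]
      rw [this, AddChar.map_zero_eq_one]
    simp only [h0]
    rw [Cfsg.Agent.Lib.H1.Weil.trace_hop_zero, Cfsg.Agent.Lib.H5.Weil.hop_zero, Finset.sum_const,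
      Finset.card_univ, Fintype.card_fun, Fintype.card_sum, Fintype.card_fin, nsmul_eq_mul, mul_one,
      ← pow_add]
    push_cast
    rfl
  · rw [sum_psi_om_ne ψ hψ u hu, Cfsg.Agent.Lib.H1.Weil.trace_hop_ne ψ hψ u hu, mul_zero, zero_smul,
      zero_smul]

/-- Heisenberg averaging: `∑_v hop v * X * hop (-v) = (q^n tr X) • 1` -/
theorem sum_hop_conj (h2 : (2 : F) ≠ 0) (ψ : AddChar F ℂ) (hψ : ψ ≠ 1)
    (X : Module.End ℂ ((Fin n → F) → ℂ)) :
    ∑ v : Fin n ⊕ Fin n → F, hop ψ v * X * hop ψ (-v) =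
      ((Fintype.card F : ℂ) ^ n * LinearMap.trace ℂ ((Fin n → F) → ℂ) X) •
        (1 : Module.End ℂ ((Fin n → F) → ℂ)) := by
  classical
  have hX : X ∈ Submodule.span ℂ (Set.range (fun u : Fin n ⊕ Fin n → F => hop ψ u)) := by
    rw [hop_span h2 ψ hψ]
    exact Submodule.mem_top
  induction hX using Submodule.span_induction with
  | mem x hx =>
    obtain ⟨u, rfl⟩ := hx
    exact sum_hop_conj_hop h2 ψ hψ u
  | zero => simp
  | add x y _ _ hx hy =>
    simp only [mul_add, add_mul, Finset.sum_add_distrib, map_add, add_smul]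
    rw [hx, hy]
  | smul c x _ hx =>
    simp only [mul_smul_comm, smul_mul_assoc, ← Finset.smul_sum, map_smul, smul_eq_mul]
    rw [hx, smul_smul]
    congr 1
    ring

/-- **WEIL-A** -/
theorem weil_normSq {F : Type*} [Field F] [Fintype F] {n : ℕ} (h2 : (2 : F) ≠ 0) (ψ : AddChar F ℂ)
    (hψ : ψ ≠ 1) (ω : Matrix.symplecticGroup (Fin n) F →* Module.End ℂ ((Fin n → F) → ℂ))
    (hω : ∀ g, ∃ κ : ℂ, κ ≠ 0 ∧ ω g = κ • Yop ψ g.1) (g : Matrix.symplecticGroup (Fin n) F) :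
    ‖LinearMap.trace ℂ ((Fin n → F) → ℂ) (ω g)‖ ^ 2 =
      (Nat.card {v : Fin n ⊕ Fin n → F // g.1 *ᵥ v = v} : ℝ) := by
  classical
  set S := (Fin n → F) → ℂ
  have hfin : Finite (Matrix.symplecticGroup (Fin n) F) := Subtype.finite
  have hinv : ω g * ω g⁻¹ = 1 := by rw [← map_mul, mul_inv_cancel, map_one]
  -- conjugation of the Heisenberg operators
  have hconj : ∀ u : Fin n ⊕ Fin n → F, ω g * hop ψ u * ω g⁻¹ = hop ψ (g.1 *ᵥ u) := by
    intro u
    rw [weil_mul_hop h2 ψ ω hω g u, mul_assoc, hinv, mul_one]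
  have hq : ((Fintype.card F : ℂ)) ^ n ≠ 0 := card_pow_ne_zero
  -- the averaging identity, traced against `ω g⁻¹`
  have hav := sum_hop_conj h2 ψ hψ (ω g)
  have h1 := congrArg (fun T : Module.End ℂ S => LinearMap.trace ℂ S (T * ω g⁻¹)) hav
  simp only [Finset.sum_mul, map_sum, smul_mul_assoc, one_mul, map_smul, smul_eq_mul] at h1
  have hterm : ∀ v : Fin n ⊕ Fin n → F,
      LinearMap.trace ℂ S (hop ψ v * ω g * hop ψ (-v) * ω g⁻¹) =
        if g.1 *ᵥ v = v then (Fintype.card F : ℂ) ^ n else 0 := by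
    intro v
    rw [mul_assoc (hop ψ v), mul_assoc (hop ψ v), hconj, Matrix.mulVec_neg]
    split_ifs with hv
    · rw [hv]
      exact trace_hop_mul_hop_neg_self h2 ψ v
    · exact trace_hop_mul_hop_neg_ne h2 ψ hψ _ _ hv
  rw [Finset.sum_congr rfl (fun v _ => hterm v), Finset.sum_ite, Finset.sum_const_zero, add_zero,
    Finset.sum_const, nsmul_eq_mul] at h1
  -- `tr ω(g⁻¹) = conj tr ω(g)`
  have hci : LinearMap.trace ℂ S (ω g⁻¹) = conj (LinearMap.trace ℂ S (ω g)) :=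
    Cfsg.Agent.Lib.L0.char_inv (ρ := (ω : Representation ℂ (Matrix.symplecticGroup (Fin n) F) S)) g
  have h3 : ((Finset.univ.filter (fun v : Fin n ⊕ Fin n → F => g.1 *ᵥ v = v)).card : ℂ) =
      LinearMap.trace ℂ S (ω g) * conj (LinearMap.trace ℂ S (ω g)) := by
    rw [← hci]
    have h4 : (Fintype.card F : ℂ) ^ n *
        ((Finset.univ.filter (fun v : Fin n ⊕ Fin n → F => g.1 *ᵥ v = v)).card : ℂ) =
        (Fintype.card F : ℂ) ^ n * (LinearMap.trace ℂ S (ω g) * LinearMap.trace ℂ S (ω g⁻¹)) := by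
      rw [mul_comm, h1]
      ring
    exact mul_left_cancel₀ hq h4
  rw [Complex.mul_conj, Complex.normSq_eq_norm_sq] at h3
  have h5 : Nat.card {v : Fin n ⊕ Fin n → F // g.1 *ᵥ v = v} =
      (Finset.univ.filter (fun v : Fin n ⊕ Fin n → F => g.1 *ᵥ v = v)).card := by
    rw [Nat.card_eq_fintype_card, Fintype.card_subtype]
  rw [h5]
  have h6 : (((Finset.univ.filter (fun v : Fin n ⊕ Fin n → F => g.1 *ᵥ v = v)).card : ℝ) : ℂ) =
      ((‖LinearMap.trace ℂ S (ω g)‖ ^ 2 : ℝ) : ℂ) := by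
    rw [Complex.ofReal_natCast, h3]
  exact (Complex.ofReal_injective h6).symm

end Cfsg.Agent.Lib.H5.RV
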