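/-
S4959 (architect helper23, blueprint tools/blueprints/S4959.md), piece **WEIL-B** (helper5):
the Weil character restricted to a `p'`-subgroup `𝒦` of `Sp_2n(p)` is `p^c` times a character of `𝒦`, `|C_V(𝒦)| = p^(2c)`.
-/
import Cfsg.Agent.Lib.H5.RVWEILA
import Cfsg.Agent.Lib.H13.SympBasis
import Cfsg.Agent.Lib.L0.CharDecomp

set_option autoImplicit false

namespace Cfsg.Agent.Lib.H5.RV

open Cfsg Cfsg.Agent.Lib.H23 Cfsg.Agent.Lib.H23.RV
open scoped ComplexConjugate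
open Matrix Cfsg.Agent.Lib.H20.Weil

section general
variable {F : Type*} [Field F] {n : ℕ}

theorem om_smul_left (c : F) (u v : Fin n ⊕ Fin n → F) : om (c • u) v = c * om u v := by
  unfold om
  have hA : pA (c • u) = c • pA u := rfl
  have hB : pB (c • u) = c • pB u := rfl
  rw [hA, hB, smul_dotProduct, dotProduct_smul, smul_eq_mul, smul_eq_mul]
  ring

theorem om_smul_right (c : F) (u v : Fin n ⊕ Fin n → F) : om u (c • v) = c * om u v := by
  rw [Cfsg.Agent.Lib.H5.Weil.om_swap, om_smul_left, Cfsg.Agent.Lib.H5.Weil.om_swap v u]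
  ring

theorem om_zero_left (v : Fin n ⊕ Fin n → F) : om (0 : Fin n ⊕ Fin n → F) v = 0 := by
  unfold om
  rw [Cfsg.Agent.Lib.H5.Weil.pA_zero, Cfsg.Agent.Lib.H5.Weil.pB_zero, zero_dotProduct,
    dotProduct_zero, sub_zero]

theorem om_zero_right (v : Fin n ⊕ Fin n → F) : om v (0 : Fin n ⊕ Fin n → F) = 0 := by
  rw [Cfsg.Agent.Lib.H5.Weil.om_swap, om_zero_left, neg_zero]

/-- `om` as a bilinear form -/
noncomputable def omB (F : Type*) [Field F] (n : ℕ) : LinearMap.BilinForm F (Fin n ⊕ Fin n → F) :=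
  LinearMap.mk₂ F om Cfsg.Agent.Lib.H2.Weil.w5_om_add_left om_smul_left om_add_right om_smul_right

theorem omB_apply (u v : Fin n ⊕ Fin n → F) : omB F n u v = om u v := rfl

/-- the fixed space of a subgroup of `Sp` -/
def fixSub (𝒦 : Subgroup (Matrix.symplecticGroup (Fin n) F)) : Submodule F (Fin n ⊕ Fin n → F) where
  carrier := {v | ∀ g ∈ 𝒦, g.1 *ᵥ v = v}
  add_mem' := by
    intro a b ha hb g hg
    rw [Matrix.mulVec_add, ha g hg, hb g hg]
  zero_mem' := by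
    intro g _
    rw [Matrix.mulVec_zero]
  smul_mem' := by
    intro c x hx g hg
    rw [Matrix.mulVec_smul, hx g hg]

theorem mem_fixSub (𝒦 : Subgroup (Matrix.symplecticGroup (Fin n) F)) (v : Fin n ⊕ Fin n → F) :
    v ∈ fixSub 𝒦 ↔ ∀ g ∈ 𝒦, g.1 *ᵥ v = v := Iff.rfl

/-- coprime averaging: `om` is non-degenerate on the fixed space -/
theorem fixSub_nondeg [Fintype F] (𝒦 : Subgroup (Matrix.symplecticGroup (Fin n) F))
    (hK : (Nat.card 𝒦 : F) ≠ 0) (x : Fin n ⊕ Fin n → F) (hx : x ∈ fixSub 𝒦)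
    (h0 : ∀ y ∈ fixSub 𝒦, om x y = 0) : x = 0 := by
  classical
  haveI : Finite (Matrix.symplecticGroup (Fin n) F) := Subtype.finite
  haveI : Fintype 𝒦 := Fintype.ofFinite 𝒦
  by_contra hne
  obtain ⟨v, hv⟩ := exists_om_eq x hne (1 : F)
  have hy : (∑ g : 𝒦, g.1.1 *ᵥ v) ∈ fixSub 𝒦 := by
    intro h hh
    rw [Matrix.mulVec_sum]
    have := Equiv.sum_comp (Equiv.mulLeft (⟨h, hh⟩ : 𝒦)) (fun g : 𝒦 => g.1.1 *ᵥ v)
    rw [← this]
    refine Finset.sum_congr rfl fun g _ => ?_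
    rw [Matrix.mulVec_mulVec]
    rfl
  have h1 := h0 _ hy
  have h2 : om x (∑ g : 𝒦, g.1.1 *ᵥ v) = ∑ g : 𝒦, om x (g.1.1 *ᵥ v) := by
    have := map_sum ((omB F n) x) (fun g : 𝒦 => g.1.1 *ᵥ v) Finset.univ
    simpa only [omB_apply] using this
  rw [h2] at h1
  have h3 : ∀ g : 𝒦, om x (g.1.1 *ᵥ v) = om x v := by
    intro g
    have hgx : g.1.1 *ᵥ x = x := hx g.1 g.2
    conv_lhs => rw [← hgx]
    exact Cfsg.Agent.Lib.H5.Weil.om_mulVec g.1 x v
  rw [Finset.sum_congr rfl (fun g _ => h3 g), Finset.sum_const, Finset.card_univ, nsmul_eq_mul,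
    ← Nat.card_eq_fintype_card] at h1
  have h4 : om x v = -1 := by
    rw [Cfsg.Agent.Lib.H5.Weil.om_swap, hv]
  rw [h4] at h1
  rcases mul_eq_zero.1 h1 with h5 | h5
  · exact hK h5
  · exact one_ne_zero (neg_eq_zero.1 h5)

theorem om_sum_right {κ : Type*} (s : Finset κ) (x : Fin n ⊕ Fin n → F) (y : κ → Fin n ⊕ Fin n → F) :
    om x (∑ i ∈ s, y i) = ∑ i ∈ s, om x (y i) := by
  have := map_sum ((omB F n) x) y s
  simpa only [omB_apply] using this

theorem om_sum_left {κ : Type*} (s : Finset κ) (x : Fin n ⊕ Fin n → F) (y : κ → Fin n ⊕ Fin n → F) :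
    om (∑ i ∈ s, y i) x = ∑ i ∈ s, om (y i) x := by
  rw [Cfsg.Agent.Lib.H5.Weil.om_swap, om_sum_right, ← Finset.sum_neg_distrib]
  refine Finset.sum_congr rfl fun i _ => ?_
  rw [← Cfsg.Agent.Lib.H5.Weil.om_swap]

end general

section main
variable {F : Type*} [Field F] {n : ℕ}

/-- the Lagrangian parametrization -/
noncomputable def lagV (𝒦 : Subgroup (Matrix.symplecticGroup (Fin n) F)) {ι : Type} [Fintype ι]
    (b : ι ⊕ ι → fixSub 𝒦) (a : ι → F) : Fin n ⊕ Fin n → F :=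
  ∑ i, a i • ((b (Sum.inl i) : fixSub 𝒦) : Fin n ⊕ Fin n → F)

variable (𝒦 : Subgroup (Matrix.symplecticGroup (Fin n) F)) {ι : Type} [Fintype ι] [DecidableEq ι]
  (b : ι ⊕ ι → fixSub 𝒦)

theorem lagV_mem (a : ι → F) : lagV 𝒦 b a ∈ fixSub 𝒦 :=
  Submodule.sum_mem _ fun i _ => Submodule.smul_mem _ _ (b (Sum.inl i)).2

theorem lagV_add (a a' : ι → F) : lagV 𝒦 b (a + a') = lagV 𝒦 b a + lagV 𝒦 b a' := by
  unfold lagV
  rw [← Finset.sum_add_distrib]
  refine Finset.sum_congr rfl fun i _ => ?_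
  rw [Pi.add_apply, add_smul]

theorem lagV_zero : lagV 𝒦 b (0 : ι → F) = 0 := by
  unfold lagV
  simp

section withF
variable [Fintype F]

/-- the sum of the Heisenberg operators of the Lagrangian -/
noncomputable def lagT (ψ : AddChar F ℂ) : Module.End ℂ ((Fin n → F) → ℂ) :=
  ∑ a : ι → F, hop ψ (lagV 𝒦 b a)

theorem lagT_def (ψ : AddChar F ℂ) : lagT 𝒦 b ψ = ∑ a : ι → F, hop ψ (lagV 𝒦 b a) := rfl

theorem weil_comm_lagT (h2 : (2 : F) ≠ 0) (ψ : AddChar F ℂ)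
    (ω : Matrix.symplecticGroup (Fin n) F →* Module.End ℂ ((Fin n → F) → ℂ))
    (hω : ∀ g, ∃ κ : ℂ, κ ≠ 0 ∧ ω g = κ • Yop ψ g.1) (g : Matrix.symplecticGroup (Fin n) F)
    (hg : g ∈ 𝒦) : ω g * lagT 𝒦 b ψ = lagT 𝒦 b ψ * ω g := by
  rw [lagT_def, Finset.mul_sum, Finset.sum_mul]
  refine Finset.sum_congr rfl fun a _ => ?_
  rw [weil_mul_hop h2 ψ ω hω g, lagV_mem 𝒦 b a g hg]

end withF

variable (hb : Cfsg.Agent.Lib.H13.IsSymp (Cfsg.Agent.Lib.H13.restrictB (omB F n) (fixSub 𝒦)) b)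
include hb

theorem om_lagV_lagV (a a' : ι → F) : om (lagV 𝒦 b a) (lagV 𝒦 b a') = 0 := by
  unfold lagV
  rw [om_sum_left]
  refine Finset.sum_eq_zero fun i _ => ?_
  rw [om_sum_right]
  refine Finset.sum_eq_zero fun j _ => ?_
  rw [om_smul_left, om_smul_right]
  have := hb.iso_l i j
  rw [Cfsg.Agent.Lib.H13.restrictB_apply, omB_apply] at this
  rw [this, mul_zero, mul_zero]

theorem om_inr_lagV (j : ι) (a : ι → F) :
    om ((b (Sum.inr j) : fixSub 𝒦) : Fin n ⊕ Fin n → F) (lagV 𝒦 b a) = - a j := by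
  unfold lagV
  rw [om_sum_right, Finset.sum_eq_single j]
  · rw [om_smul_right, Cfsg.Agent.Lib.H5.Weil.om_swap]
    have := hb.pair j j
    rw [Cfsg.Agent.Lib.H13.restrictB_apply, omB_apply, if_pos rfl] at this
    rw [this]
    ring
  · intro i _ hij
    rw [om_smul_right, Cfsg.Agent.Lib.H5.Weil.om_swap]
    have := hb.pair i j
    rw [Cfsg.Agent.Lib.H13.restrictB_apply, omB_apply, if_neg hij] at this
    rw [this]
    ring
  · intro h
    exact absurd (Finset.mem_univ j) h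

variable [Fintype F]

/-- the character sum over the fixed space -/
theorem sum_psi_om_lagV [Fintype (fixSub 𝒦)] (ψ : AddChar F ℂ) (hψ : ψ ≠ 1) (a : ι → F) (ha : a ≠ 0) :
    ∑ c : fixSub 𝒦, ψ (om (c : Fin n ⊕ Fin n → F) (lagV 𝒦 b a)) = 0 := by
  classical
  let φ : AddChar (fixSub 𝒦) ℂ :=
    { toFun := fun c => ψ (om (c : Fin n ⊕ Fin n → F) (lagV 𝒦 b a))
      map_zero_eq_one' := by
        rw [Submodule.coe_zero, om_zero_left, AddChar.map_zero_eq_one]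
      map_add_eq_mul' := by
        intro x y
        rw [Submodule.coe_add, Cfsg.Agent.Lib.H2.Weil.w5_om_add_left, AddChar.map_add_eq_mul] }
  have hφ : φ ≠ 1 := by
    obtain ⟨t, ht⟩ := AddChar.ne_one_iff.1 hψ
    obtain ⟨j, hj⟩ : ∃ j, a j ≠ 0 := by
      by_contra hcon
      push Not at hcon
      exact ha (funext hcon)
    apply AddChar.ne_one_iff.2
    refine ⟨(-t / a j) • b (Sum.inr j), ?_⟩
    show ψ (om (((-t / a j) • b (Sum.inr j) : fixSub 𝒦) : Fin n ⊕ Fin n → F) (lagV 𝒦 b a)) ≠ 1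
    rw [Submodule.coe_smul, om_smul_left, om_inr_lagV 𝒦 b hb]
    have : -t / a j * -a j = t := by
      field_simp
    rw [this]
    exact ht
  exact AddChar.sum_eq_zero_of_ne_one hφ

theorem lagT_mul_lagT (h2 : (2 : F) ≠ 0) (ψ : AddChar F ℂ) :
    lagT 𝒦 b ψ * lagT 𝒦 b ψ = ((Fintype.card F : ℂ) ^ Fintype.card ι) • lagT 𝒦 b ψ := by
  classical
  rw [lagT_def, Finset.sum_mul]
  have h1 : ∀ a : ι → F, hop ψ (lagV 𝒦 b a) * ∑ a' : ι → F, hop ψ (lagV 𝒦 b a') =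
      ∑ a' : ι → F, hop ψ (lagV 𝒦 b a') := by
    intro a
    rw [Finset.mul_sum, ← Equiv.sum_comp (Equiv.addLeft a) (fun a' => hop ψ (lagV 𝒦 b a'))]
    refine Finset.sum_congr rfl fun a' _ => ?_
    rw [Cfsg.Agent.Lib.H5.Weil.hop_mul h2, om_lagV_lagV 𝒦 b hb, mul_zero, AddChar.map_zero_eq_one,
      one_smul, ← lagV_add]
    rfl
  rw [Finset.sum_congr rfl (fun a _ => h1 a), Finset.sum_const, Finset.card_univ, Fintype.card_fun,
    ← Nat.cast_smul_eq_nsmul ℂ]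
  push_cast
  rfl

/-- averaging `lagT` over the fixed space -/
theorem sum_conj_lagT [Fintype (fixSub 𝒦)] (h2 : (2 : F) ≠ 0) (ψ : AddChar F ℂ) (hψ : ψ ≠ 1) :
    ∑ c : fixSub 𝒦, hop ψ (c : Fin n ⊕ Fin n → F) * lagT 𝒦 b ψ * hop ψ (-(c : Fin n ⊕ Fin n → F)) =
      (Fintype.card (fixSub 𝒦) : ℂ) • (1 : Module.End ℂ ((Fin n → F) → ℂ)) := by
  classical
  have h1 : ∀ c : fixSub 𝒦,
      hop ψ (c : Fin n ⊕ Fin n → F) * lagT 𝒦 b ψ * hop ψ (-(c : Fin n ⊕ Fin n → F)) =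
        ∑ a : ι → F, ψ (om (c : Fin n ⊕ Fin n → F) (lagV 𝒦 b a)) • hop ψ (lagV 𝒦 b a) := by
    intro c
    rw [lagT_def, Finset.mul_sum, Finset.sum_mul]
    refine Finset.sum_congr rfl fun a _ => ?_
    exact hop_conj h2 ψ _ _
  rw [Finset.sum_congr rfl (fun c _ => h1 c), Finset.sum_comm]
  simp only [← Finset.sum_smul]
  rw [Finset.sum_eq_single (0 : ι → F)]
  · rw [lagV_zero, Cfsg.Agent.Lib.H5.Weil.hop_zero]
    congr 1
    simp only [om_zero_right, AddChar.map_zero_eq_one, Finset.sum_const, Finset.card_univ,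
      nsmul_eq_mul, mul_one]
  · intro a _ ha
    rw [sum_psi_om_lagV 𝒦 b hb ψ hψ a ha, zero_smul]
  · intro h
    exact absurd (Finset.mem_univ _) h

end main

/-- the trace of `T * P`, `P` an idempotent commuting with `T`, is the trace of `T` on the range of `P` -/
theorem trace_restrict_range_idem {S : Type*} [AddCommGroup S] [Module ℂ S] [FiniteDimensional ℂ S]
    (P T : Module.End ℂ S) (hP : P * P = P) (hTP : T * P = P * T)
    (hinv : ∀ x ∈ LinearMap.range P, T x ∈ LinearMap.range P) :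
    LinearMap.trace ℂ (LinearMap.range P) (T.restrict hinv) = LinearMap.trace ℂ S (T * P) := by
  have hf : ∀ x, (T * P) x ∈ LinearMap.range P := by
    intro x
    rw [hTP]
    exact ⟨T x, rfl⟩
  rw [← LinearMap.trace_restrict_eq_of_forall_mem (LinearMap.range P) (T * P) hf]
  congr 1
  apply LinearMap.ext
  intro x
  apply Subtype.ext
  rw [LinearMap.restrict_coe_apply, LinearMap.restrict_coe_apply, Module.End.mul_apply]
  obtain ⟨y, hy⟩ := x.2
  have hPx : P (x : S) = x := by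
    rw [← hy, ← Module.End.mul_apply, hP]
  rw [hPx]

section aux
variable {F : Type*} [Field F] [Fintype F] {n : ℕ}

theorem weil_restrict_aux (h2 : (2 : F) ≠ 0) (ψ : AddChar F ℂ) (hψ : ψ ≠ 1)
    (ω : Matrix.symplecticGroup (Fin n) F →* Module.End ℂ ((Fin n → F) → ℂ))
    (hω : ∀ g, ∃ κ : ℂ, κ ≠ 0 ∧ ω g = κ • Yop ψ g.1)
    (𝒦 : Subgroup (Matrix.symplecticGroup (Fin n) F)) {ι : Type} [Fintype ι] [DecidableEq ι]
    (b : ι ⊕ ι → fixSub 𝒦)
    (hb : Cfsg.Agent.Lib.H13.IsSymp (Cfsg.Agent.Lib.H13.restrictB (omB F n) (fixSub 𝒦)) b) :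
    ∃ θ : 𝒦 → ℂ, IsCharacter 𝒦 θ ∧
      ∀ g : 𝒦, LinearMap.trace ℂ ((Fin n → F) → ℂ) (ω g) =
        (Fintype.card F : ℂ) ^ Fintype.card ι * θ g := by
  classical
  set S := (Fin n → F) → ℂ
  set q : ℂ := (Fintype.card F : ℂ) ^ Fintype.card ι with hqdef
  have hq : q ≠ 0 := pow_ne_zero _ (Nat.cast_ne_zero.2 Fintype.card_ne_zero)
  set T : Module.End ℂ S := lagT 𝒦 b ψ with hT
  set P : Module.End ℂ S := q⁻¹ • T with hPdef
  have hTT : T * T = q • T := lagT_mul_lagT 𝒦 b hb h2 ψ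
  have hPP : P * P = P := by
    rw [hPdef, smul_mul_smul_comm, hTT, smul_smul]
    congr 1
    field_simp
  have hcommT : ∀ g : 𝒦, ω g * T = T * ω g := fun g => weil_comm_lagT 𝒦 b h2 ψ ω hω g.1 g.2
  have hcomm : ∀ g : 𝒦, ω g * P = P * ω g := by
    intro g
    rw [hPdef, mul_smul_comm, smul_mul_assoc, hcommT]
  have hinv : ∀ g : 𝒦, ∀ x ∈ LinearMap.range P, ω g x ∈ LinearMap.range P := by
    intro g x hx
    obtain ⟨y, rfl⟩ := hx
    refine ⟨ω g y, ?_⟩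
    rw [← Module.End.mul_apply, ← hcomm g, Module.End.mul_apply]
  let σ : Representation ℂ 𝒦 (LinearMap.range P) :=
    { toFun := fun g => (ω g).restrict (hinv g)
      map_one' := by
        apply LinearMap.ext
        intro x
        apply Subtype.ext
        rw [LinearMap.restrict_coe_apply]
        have : ω ((1 : 𝒦) : Matrix.symplecticGroup (Fin n) F) = 1 := by
          rw [Subgroup.coe_one, map_one]
        rw [this]
        rfl
      map_mul' := by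
        intro g h
        apply LinearMap.ext
        intro x
        apply Subtype.ext
        rw [LinearMap.restrict_coe_apply, Module.End.mul_apply, LinearMap.restrict_coe_apply,
          LinearMap.restrict_coe_apply]
        have : ω ((g * h : 𝒦) : Matrix.symplecticGroup (Fin n) F) = ω g * ω h := by
          rw [Subgroup.coe_mul, map_mul]
        rw [this, Module.End.mul_apply] }
  refine ⟨σ.character, Cfsg.Agent.Lib.L0.isCharacter_of_rep σ, ?_⟩
  intro g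
  have hθ : σ.character g = LinearMap.trace ℂ S (ω g * P) :=
    trace_restrict_range_idem P (ω g) hPP (hcomm g) (hinv g)
  rw [hθ]
  -- the averaging identity
  haveI : Fintype (fixSub 𝒦) := Fintype.ofFinite _
  have hsum := sum_conj_lagT 𝒦 b hb h2 ψ hψ
  have h1 := congrArg (fun X : Module.End ℂ S => LinearMap.trace ℂ S (ω g * X)) hsum
  simp only [Finset.mul_sum, map_sum, mul_smul_comm, mul_one, map_smul, smul_eq_mul] at h1
  have hterm : ∀ c : fixSub 𝒦,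
      LinearMap.trace ℂ S (ω g * (hop ψ (c : Fin n ⊕ Fin n → F) * lagT 𝒦 b ψ *
        hop ψ (-(c : Fin n ⊕ Fin n → F)))) = LinearMap.trace ℂ S (ω g * T) := by
    intro c
    have hc : ω g * hop ψ (c : Fin n ⊕ Fin n → F) = hop ψ (c : Fin n ⊕ Fin n → F) * ω g := by
      rw [weil_mul_hop h2 ψ ω hω g.1, c.2 g.1 g.2]
    have hcc : hop ψ (-(c : Fin n ⊕ Fin n → F)) * hop ψ (c : Fin n ⊕ Fin n → F) =
        (1 : Module.End ℂ S) := by
      have := Cfsg.Agent.Lib.H5.Weil.hop_mul_neg h2 ψ (-(c : Fin n ⊕ Fin n → F))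
      rwa [neg_neg] at this
    rw [← mul_assoc, ← mul_assoc, hc, mul_assoc, mul_assoc, LinearMap.trace_mul_comm,
      mul_assoc, mul_assoc, hcc, mul_one]
  rw [Finset.sum_congr rfl (fun c _ => hterm c), Finset.sum_const, Finset.card_univ, nsmul_eq_mul] at h1
  have hcard : (Fintype.card (fixSub 𝒦) : ℂ) ≠ 0 := Nat.cast_ne_zero.2 Fintype.card_ne_zero
  have h2' : LinearMap.trace ℂ S (ω g * T) = LinearMap.trace ℂ S (ω g) := mul_left_cancel₀ hcard h1
  rw [← h2', hPdef, mul_smul_comm, map_smul, smul_eq_mul, ← mul_assoc, mul_inv_cancel₀ hq, one_mul]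

end aux

/-- **WEIL-B** -/
theorem weil_restrict {p : ℕ} [Fact p.Prime] (hp2 : p ≠ 2) {n : ℕ} (ψ : AddChar (ZMod p) ℂ)
    (hψ : ψ ≠ 1)
    (ω : Matrix.symplecticGroup (Fin n) (ZMod p) →* Module.End ℂ ((Fin n → ZMod p) → ℂ))
    (hω : ∀ g, ∃ κ : ℂ, κ ≠ 0 ∧ ω g = κ • Yop ψ g.1)
    (𝒦 : Subgroup (Matrix.symplecticGroup (Fin n) (ZMod p))) (hcop : ¬ p ∣ Nat.card 𝒦) :
    ∃ (c : ℕ) (θ : 𝒦 → ℂ), IsCharacter 𝒦 θ ∧
      Nat.card {v : Fin n ⊕ Fin n → ZMod p // ∀ g ∈ 𝒦, g.1 *ᵥ v = v} = p ^ (2 * c) ∧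
      ∀ g : 𝒦, LinearMap.trace ℂ ((Fin n → ZMod p) → ℂ) (ω g) = (p : ℂ) ^ c * θ g := by
  classical
  have hp : p.Prime := Fact.out
  have h2 : (2 : ZMod p) ≠ 0 := by
    intro h
    have h' : ((2 : ℕ) : ZMod p) = 0 := by exact_mod_cast h
    rw [ZMod.natCast_eq_zero_iff] at h'
    exact hp2 ((Nat.prime_dvd_prime_iff_eq hp Nat.prime_two).1 h')
  have hK : (Nat.card 𝒦 : ZMod p) ≠ 0 := by
    intro h
    rw [ZMod.natCast_eq_zero_iff] at h
    exact hcop h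
  have halt : ∀ x : fixSub 𝒦, Cfsg.Agent.Lib.H13.restrictB (omB (ZMod p) n) (fixSub 𝒦) x x = 0 := by
    intro x
    rw [Cfsg.Agent.Lib.H13.restrictB_apply, omB_apply, Cfsg.Agent.Lib.H5.Weil.om_self]
  have hnd : ∀ x : fixSub 𝒦,
      (∀ y, Cfsg.Agent.Lib.H13.restrictB (omB (ZMod p) n) (fixSub 𝒦) x y = 0) → x = 0 := by
    intro x hx
    apply Subtype.ext
    apply fixSub_nondeg 𝒦 hK x x.2
    intro y hy
    have := hx ⟨y, hy⟩
    rwa [Cfsg.Agent.Lib.H13.restrictB_apply, omB_apply] at this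
  obtain ⟨ι, hι, hdec, b, hb⟩ := Cfsg.Agent.Lib.H13.symp_aux (F := ZMod p)
    (Module.finrank (ZMod p) (fixSub 𝒦)) (Cfsg.Agent.Lib.H13.restrictB (omB (ZMod p) n) (fixSub 𝒦))
    halt hnd rfl
  obtain ⟨θ, hθ, htr⟩ := weil_restrict_aux h2 ψ hψ ω hω 𝒦 (fun i => b i) hb
  refine ⟨Fintype.card ι, θ, hθ, ?_, ?_⟩
  · show Nat.card (fixSub 𝒦) = p ^ (2 * Fintype.card ι)
    rw [Module.natCard_eq_pow_finrank (K := ZMod p) (V := fixSub 𝒦), Nat.card_zmod,
      Module.finrank_eq_card_basis b, Fintype.card_sum, two_mul]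
  · intro g
    rw [htr g, ZMod.card p]

end Cfsg.Agent.Lib.H5.RV
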