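import Mathlib
import Cfsg.Agent.Lib.H5.WreathedQuat
import Cfsg.Agent.Lib.H5.AutOdd
import Cfsg.Agent.Lib.H16.AutIndexTwo

/-!
# Wreathed 2-groups: self-centralizing subgroups whose automorphism group is not a 2-group
-/

set_option autoImplicit false

namespace Cfsg.Agent.Lib.H5.Wr

open Subgroup Cfsg.Agent.Lib.H5.SD Cfsg.Agent.Lib.H5.AutOdd

variable {S : Type*} [Group S] {n : ℕ} {x y z : S}

namespace Gens

variable (d : Gens S n x y z)
include d

theorem isPGroup : IsPGroup 2 S := by
  have : Fact (Nat.Prime 2) := ⟨Nat.prime_two⟩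
  exact IsPGroup.of_card d.hcard

theorem center_le_of_centralizer_le (X : Subgroup S) (hC : centralizer (X : Set S) ≤ X) :
    center S ≤ X := (center_le_centralizer _).trans hC

theorem wp_diag_mem {X : Subgroup S} (hZ : center S ≤ X) (c : ZMod (2 ^ n)) :
    wp n x y c c ∈ X := hZ ((d.mem_center_iff' _).mpr ⟨c, rfl⟩)

theorem eq_base_of_le_base (X : Subgroup S) (hC : centralizer (X : Set S) ≤ X)
    (hle : X ≤ d.base) : X = d.base := by
  apply le_antisymm hle
  refine le_trans ?_ hC
  rintro _ ⟨a, b, rfl⟩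
  rw [mem_centralizer_iff]
  intro g hg
  obtain ⟨c, e, rfl⟩ := hle hg
  exact d.wp_comm _ _ _ _

/-- Membership of base elements depends only on the difference of the exponents. -/
theorem wp_mem_iff_diff {X : Subgroup S} (hZ : center S ≤ X) (c e : ZMod (2 ^ n)) :
    wp n x y c e ∈ X ↔ wp n x y (c - e) 0 ∈ X := by
  have h1 : wp n x y c e = wp n x y (c - e) 0 * wp n x y e e := by
    rw [← d.wp_add]; congr 1 <;> ring
  rw [h1]
  exact X.mul_mem_cancel_right (d.wp_diag_mem hZ e)

theorem wp_mem_of_diff_eq {X : Subgroup S} (hZ : center S ≤ X) {c e c' e' : ZMod (2 ^ n)}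
    (h : c - e = c' - e') (hX : wp n x y c e ∈ X) : wp n x y c' e' ∈ X := by
  rw [d.wp_mem_iff_diff hZ] at hX ⊢
  rw [← h]; exact hX

/-- Elements of `X` outside the base group are `X ∩ base` times `t`. -/
theorem wpz_mem_iff {X : Subgroup S} {a b : ZMod (2 ^ n)} (ht : wp n x y a b * z ∈ X)
    (c e : ZMod (2 ^ n)) : wp n x y c e * z ∈ X ↔ wp n x y (c - a) (e - b) ∈ X := by
  have h1 : wp n x y c e * z = wp n x y (c - a) (e - b) * (wp n x y a b * z) := by
    rw [d.wp_mul_wpz]; congr 2 <;> ring
  rw [h1]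
  exact X.mul_mem_cancel_right ht

theorem odd_isUnit (m : ZMod (2 ^ n)) (hm : ∃ b, m = 2 * b + 1) : IsUnit m := by
  obtain ⟨b, rfl⟩ := hm
  apply IsNilpotent.isUnit_add_one
  refine ⟨n, ?_⟩
  rw [mul_pow]
  have : (2 : ZMod (2 ^ n)) ^ n = ((2 ^ n : ℕ) : ZMod (2 ^ n)) := by push_cast; rfl
  rw [this, ZMod.natCast_self, zero_mul]

/-- The centre of a subgroup containing `Z(S)`, a non-base element and a non-central base
element. -/
theorem mem_center_of_mem_center {X : Subgroup S} {a b c e : ZMod (2 ^ n)}
    (ht : wp n x y a b * z ∈ X) (hu : wp n x y c e ∈ X) (hce : c ≠ e) (k : X)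
    (hk : k ∈ center X) : (k : S) ∈ center S := by
  have h1 : ∀ g (hg : g ∈ X), g * (k : S) = (k : S) * g := by
    intro g hg
    exact congrArg Subtype.val (mem_center_iff.mp hk ⟨g, hg⟩)
  rcases d.cases (k : S) with ⟨c', e', hk'⟩ | ⟨c', e', hk'⟩
  · rw [hk', d.mem_center_iff']
    have := h1 _ ht
    rw [hk', d.commute_wpz_wp_iff] at this
    exact ⟨c', by rw [this]⟩
  · exfalso
    have := h1 _ hu
    rw [hk'] at this
    exact hce ((d.commute_wpz_wp_iff c' e' c e).mp this.symm)

/-- **Main criterion.** Let `X` contain `Z(S)`, a non-base element and a non-central base element,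
and assume that every automorphism of `X` preserves `X ∩ base`. Then `Aut(X)` is a `2`-group. -/
theorem isPGroup_mulAut_of_invariant [Finite S] {X : Subgroup S} (hZ : center S ≤ X)
    {a b c₀ e₀ : ZMod (2 ^ n)} (ht : wp n x y a b * z ∈ X) (hu : wp n x y c₀ e₀ ∈ X)
    (hce : c₀ ≠ e₀)
    (hinv : ∀ α : MulAut X, ∀ g : X, (g : S) ∈ d.base → ((α g : X) : S) ∈ d.base) :
    IsPGroup 2 (MulAut X) := by
  apply isPGroup_two_of_odd_trivial
  intro α hodd
  have hh0 := hh_ne_zero (n := n) d.hn1
  have h2h := two_hh (n := n) d.hn1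
  have hp2 : ∀ g : X, ∃ k : ℕ, g ^ (2 ^ k) = 1 := (d.isPGroup.to_subgroup X)
  -- the subgroup `B = X ∩ base`
  have hidx : (d.base.subgroupOf X).index = 2 := by
    have h1 : d.base.relIndex X ∣ 2 := by
      have hnorm : d.base.Normal := Subgroup.normal_of_index_eq_two d.index_base
      rw [← d.index_base]
      exact Subgroup.relIndex_dvd_index_of_normal d.base X
    rcases (Nat.dvd_prime Nat.prime_two).mp h1 with h | h
    · exfalso
      rw [Subgroup.relIndex_eq_one] at h
      obtain ⟨a', b', hab⟩ := h ht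
      exact d.wpz_ne_wp _ _ _ _ hab
    · exact h
  -- the central involution is fixed
  have hc : wp n x y (hh n) (hh n) ∈ X := d.wp_diag_mem hZ _
  have hcfix : α ⟨_, hc⟩ = ⟨_, hc⟩ := by
    have h1 : (⟨_, hc⟩ : X) ∈ center X := by
      rw [mem_center_iff]
      intro g
      apply Subtype.ext
      exact d.wp_hh_hh_central g.1
    have h2 : α ⟨_, hc⟩ ∈ center X := by
      rw [mem_center_iff]
      intro g
      have := mem_center_iff.mp h1 (α.symm g)
      have h3 := congrArg α this
      rw [map_mul, map_mul, α.apply_symm_apply] at h3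
      exact h3
    have h3 := d.mem_center_of_mem_center ht hu hce _ h2
    obtain ⟨e, he⟩ := (d.mem_center_iff' _).mp h3
    have h4 : (α ⟨_, hc⟩) * (α ⟨_, hc⟩) = 1 := by
      rw [← map_mul]
      have : (⟨_, hc⟩ : X) * ⟨_, hc⟩ = 1 := Subtype.ext d.wp_hh_hh_sq
      rw [this, map_one]
    have h5 : ((α ⟨_, hc⟩ : X) : S) * ((α ⟨_, hc⟩ : X) : S) = 1 := congrArg Subtype.val h4
    rw [he, d.wp_sq, d.wp_eq_one_iff] at h5
    apply Subtype.ext
    rw [he]
    rcases two_torsion d.hn1 e h5.1 with rfl | rfl
    · exfalso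
      have h6 : α ⟨_, hc⟩ = 1 := Subtype.ext (by rw [he]; exact wp_zero)
      rw [α.map_eq_one_iff] at h6
      exact d.wp_hh_hh_ne_one (congrArg Subtype.val h6)
    · rfl
  -- `α` fixes every element of `B` squaring to one
  have hfix2 : ∀ g ∈ d.base.subgroupOf X, g * g = 1 → α g = g := by
    intro g hg hgsq
    rw [mem_subgroupOf] at hg
    obtain ⟨c, e, hgc⟩ := hg
    have hsq : wp n x y c e * wp n x y c e = 1 := by
      rw [← hgc]; exact congrArg Subtype.val hgsq
    rw [d.wp_sq, d.wp_eq_one_iff] at hsq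
    by_cases hmem : wp n x y (hh n) 0 ∈ X
    · have hmem' : wp n x y 0 (hh n) ∈ X :=
        d.wp_mem_of_diff_eq hZ (by linear_combination h2h) hmem
      -- images of the two non-central involutions
      have himg : ∀ (u : X), (u : S) = wp n x y (hh n) 0 ∨ (u : S) = wp n x y 0 (hh n) →
          ((α u : X) : S) = wp n x y (hh n) 0 ∨ ((α u : X) : S) = wp n x y 0 (hh n) := by
        intro u hu'
        have hub : (u : S) ∈ d.base := by
          rcases hu' with h | h <;> rw [h] <;> exact d.wp_mem_base _ _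
        obtain ⟨c', e', hc'⟩ := hinv α u hub
        have husq : u * u = 1 := by
          apply Subtype.ext
          show (u : S) * (u : S) = 1
          rcases hu' with h | h <;> rw [h, d.wp_sq, d.wp_eq_one_iff] <;> constructor <;>
            first | exact h2h | ring
        have h3 : ((α u : X) : S) * ((α u : X) : S) = 1 := by
          have : α u * α u = 1 := by rw [← map_mul, husq, map_one]
          exact congrArg Subtype.val this
        rw [hc', d.wp_sq, d.wp_eq_one_iff] at h3
        rw [hc']
        rcases two_torsion d.hn1 c' h3.1 with rfl | rfl <;>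
          rcases two_torsion d.hn1 e' h3.2 with rfl | rfl
        · exfalso
          have h6 : α u = 1 := Subtype.ext (by rw [hc']; exact wp_zero)
          rw [α.map_eq_one_iff] at h6
          have h7 : (u : S) = 1 := congrArg Subtype.val h6
          rcases hu' with h | h
          · rw [h, d.wp_eq_one_iff] at h7; exact hh0 h7.1
          · rw [h, d.wp_eq_one_iff] at h7; exact hh0 h7.2
        · right; rfl
        · left; rfl
        · exfalso
          have h6 : α u = α ⟨_, hc⟩ := by rw [hcfix]; exact Subtype.ext hc'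
          have h7 : (u : S) = wp n x y (hh n) (hh n) := congrArg Subtype.val (α.injective h6)
          rcases hu' with h | h
          · rw [h] at h7; exact hh0 (d.wp_injective _ _ _ _ h7).2.symm
          · rw [h] at h7; exact hh0 (d.wp_injective _ _ _ _ h7).1.symm
      have hp1 : α ⟨_, hmem⟩ = ⟨_, hmem⟩ := by
        apply fix_of_pair α hodd ⟨_, hmem⟩ ⟨_, hmem'⟩
        · rcases himg ⟨_, hmem⟩ (Or.inl rfl) with h | h
          · exact Or.inl (Subtype.ext h)
          · exact Or.inr (Subtype.ext h)
        · rcases himg ⟨_, hmem'⟩ (Or.inr rfl) with h | h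
          · exact Or.inl (Subtype.ext h)
          · exact Or.inr (Subtype.ext h)
      have hp2' : α ⟨_, hmem'⟩ = ⟨_, hmem'⟩ := by
        apply fix_of_pair α hodd ⟨_, hmem'⟩ ⟨_, hmem⟩
        · rcases himg ⟨_, hmem'⟩ (Or.inr rfl) with h | h
          · exact Or.inr (Subtype.ext h)
          · exact Or.inl (Subtype.ext h)
        · rcases himg ⟨_, hmem⟩ (Or.inl rfl) with h | h
          · exact Or.inr (Subtype.ext h)
          · exact Or.inl (Subtype.ext h)
      rcases two_torsion d.hn1 c hsq.1 with rfl | rfl <;>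
        rcases two_torsion d.hn1 e hsq.2 with rfl | rfl
      · have : g = 1 := Subtype.ext (by rw [hgc]; exact wp_zero)
        rw [this, map_one]
      · have : g = ⟨_, hmem'⟩ := Subtype.ext hgc
        rw [this, hp2']
      · have : g = ⟨_, hmem⟩ := Subtype.ext hgc
        rw [this, hp1]
      · have : g = ⟨_, hc⟩ := Subtype.ext hgc
        rw [this, hcfix]
    · -- only central involutions
      have hgX : wp n x y c e ∈ X := hgc ▸ g.2
      rcases two_torsion d.hn1 c hsq.1 with rfl | rfl <;>
        rcases two_torsion d.hn1 e hsq.2 with rfl | rfl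
      · have : g = 1 := Subtype.ext (by rw [hgc]; exact wp_zero)
        rw [this, map_one]
      · exfalso
        exact hmem (d.wp_mem_of_diff_eq hZ (by linear_combination -h2h) hgX)
      · exact absurd hgX hmem
      · have : g = ⟨_, hc⟩ := Subtype.ext hgc
        rw [this, hcfix]
  have hfixB : ∀ g ∈ d.base.subgroupOf X, α g = g := by
    apply fix_of_fix_involutions α hodd
    · intro g₁ hg₁ g₂ hg₂
      rw [mem_subgroupOf] at hg₁ hg₂
      obtain ⟨c, e, h1⟩ := hg₁
      obtain ⟨c', e', h2⟩ := hg₂
      apply Subtype.ext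
      show (g₁ : S) * (g₂ : S) = (g₂ : S) * (g₁ : S)
      rw [h1, h2]
      exact d.wp_comm _ _ _ _
    · intro g hg
      rw [mem_subgroupOf] at hg ⊢
      exact hinv α g hg
    · intro g _
      exact hp2 g
    · exact hfix2
  exact eq_one_of_fix_index_two α hodd _ hidx (fun g _ => hp2 g) hfixB

end Gens

end Cfsg.Agent.Lib.H5.Wr
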