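import Mathlib
import Cfsg.Agent.Lib.H5.WreathedAut

/-!
# Wreathed 2-groups: classification of self-centralizing subgroups with `Aut` not a 2-group
-/

set_option autoImplicit false

namespace Cfsg.Agent.Lib.H5.Wr

open Subgroup Cfsg.Agent.Lib.H5.SD Cfsg.Agent.Lib.H5.AutOdd
open scoped commutatorElement

variable {S : Type*} [Group S] {n : ℕ} {x y z : S}

namespace Gens

variable (d : Gens S n x y z)
include d

theorem commutator_wp_wpz (a b c e : ZMod (2 ^ n)) :
    ⁅wp n x y c e, wp n x y a b * z⁆ = wp n x y (c - e) (-(c - e)) := by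
  rw [commutatorElement_def, d.wp_conj_wpz, d.wpz_inv, d.wpz_mul_wpz]
  congr 1 <;> ring

/-- Case `P2`: some base element of `X` has `2 (c - e) ≠ 0`. -/
theorem isPGroup_mulAut_of_big [Finite S] {X : Subgroup S} (hZ : center S ≤ X)
    {a b c e : ZMod (2 ^ n)} (ht : wp n x y a b * z ∈ X) (hu : wp n x y c e ∈ X)
    (hce : 2 * (c - e) ≠ 0) : IsPGroup 2 (MulAut X) := by
  have hce' : c ≠ e := by
    intro h; apply hce; rw [h]; ring
  apply d.isPGroup_mulAut_of_invariant hZ ht hu hce'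
  intro α g hg
  by_contra hcon
  rcases d.cases ((α g : X) : S) with ⟨c', e', h⟩ | ⟨c', e', h⟩
  · exact hcon (h ▸ d.wp_mem_base _ _)
  · -- `g` commutes with the commutator `⁅α⁻¹ u, α⁻¹ t⁆`
    set p := α.symm ⟨_, hu⟩ with hp
    set q := α.symm ⟨_, ht⟩ with hq
    have h1 : ((⁅p, q⁆ : X) : S) ∈ zpowers (wp n x y 1 (-1)) := by
      have : ((⁅p, q⁆ : X) : S) = ⁅(p : S), (q : S)⁆ := by
        rw [commutatorElement_def, commutatorElement_def]
        simp only [Subgroup.coe_mul, Subgroup.coe_inv]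
      rw [this]
      exact d.commutator_mem _ _
    obtain ⟨k, hk⟩ := (d.mem_zpowers_anti_iff _).mp h1
    obtain ⟨c₁, e₁, hg'⟩ := hg
    have h2 : g * ⁅p, q⁆ = ⁅p, q⁆ * g := by
      apply Subtype.ext
      show (g : S) * ((⁅p, q⁆ : X) : S) = ((⁅p, q⁆ : X) : S) * (g : S)
      rw [hk, hg']
      exact d.wp_comm _ _ _ _
    have h3 := congrArg α h2
    rw [map_mul, map_mul, map_commutatorElement, hp, hq, α.apply_symm_apply,
      α.apply_symm_apply] at h3
    have h4 := congrArg Subtype.val h3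
    have h5 : ((⁅(⟨_, hu⟩ : X), (⟨_, ht⟩ : X)⁆ : X) : S) = wp n x y (c - e) (-(c - e)) := by
      rw [← d.commutator_wp_wpz a b c e, commutatorElement_def, commutatorElement_def]
      simp only [Subgroup.coe_mul, Subgroup.coe_inv]
    rw [Subgroup.coe_mul, Subgroup.coe_mul, h5, h] at h4
    have h6 := (d.commute_wpz_wp_iff c' e' _ _).mp h4
    apply hce
    linear_combination h6

/-- Non-base elements of `X` in the case `P1` with `a + b` odd have odd exponent sum. -/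
theorem pow_ne_one_of_odd (c e : ZMod (2 ^ n)) (hodd : ∃ m, c + e = 2 * m + 1) :
    (wp n x y c e * z) ^ (2 ^ n) ≠ 1 := by
  have hn1 := d.hn1
  have e1 : 2 ^ n = 2 * 2 ^ (n - 1) := by
    rw [← pow_succ']; congr 1; omega
  have hcast : ((2 ^ (n - 1) : ℕ) : ZMod (2 ^ n)) = hh n := rfl
  obtain ⟨m, hm⟩ := hodd
  rw [e1, pow_mul, pow_two, d.wpz_sq, d.wp_pow, hcast, hm, hh_mul_odd d.hn1]
  exact d.wp_hh_hh_ne_one

/-- Case `P1` with `a + b` odd. -/
theorem isPGroup_mulAut_of_small_odd [Finite S] {X : Subgroup S} (hZ : center S ≤ X)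
    {a b c₀ e₀ : ZMod (2 ^ n)} (ht : wp n x y a b * z ∈ X) (hab : ∃ m, a + b = 2 * m + 1)
    (hu : wp n x y c₀ e₀ ∈ X) (hce : c₀ ≠ e₀)
    (hall : ∀ c e, wp n x y c e ∈ X → 2 * (c - e) = 0) : IsPGroup 2 (MulAut X) := by
  apply d.isPGroup_mulAut_of_invariant hZ ht hu hce
  intro α g hg
  by_contra hcon
  rcases d.cases ((α g : X) : S) with ⟨c', e', h⟩ | ⟨c', e', h⟩
  · exact hcon (h ▸ d.wp_mem_base _ _)
  · obtain ⟨c₁, e₁, hg'⟩ := hg
    -- `g ^ (2 ^ n) = 1`
    have h1 : g ^ (2 ^ n) = 1 := by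
      apply Subtype.ext
      rw [Subgroup.coe_pow, hg', d.wp_pow]
      have : ((2 ^ n : ℕ) : ZMod (2 ^ n)) = 0 := ZMod.natCast_self _
      rw [this, zero_mul, zero_mul, wp_zero]
      rfl
    have h2 : (α g) ^ (2 ^ n) = 1 := by rw [← map_pow, h1, map_one]
    have h3 : ((α g : X) : S) ^ (2 ^ n) = 1 := by
      rw [← Subgroup.coe_pow, h2]; rfl
    rw [h] at h3
    apply d.pow_ne_one_of_odd c' e' _ h3
    -- parity
    have hmem : wp n x y c' e' * z ∈ X := h ▸ (α g).2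
    rw [d.wpz_mem_iff ht] at hmem
    have h4 := hall _ _ hmem
    obtain ⟨m, hm⟩ := hab
    have h5 := hh_eq (n := n) d.hn
    rcases two_torsion d.hn1 _ h4 with h6 | h6
    · exact ⟨m - b + e', by linear_combination h6 + hm⟩
    · exact ⟨m - b + e' + qq n, by linear_combination h6 + hm + h5⟩

end Gens

end Cfsg.Agent.Lib.H5.Wr
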