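import Mathlib
import Cfsg.Agent.Lib.H5.WreathedAut2

/-!
# Wreathed 2-groups: the abelian self-centralizing subgroups outside the base group,
and the classification
-/

set_option autoImplicit false

namespace Cfsg.Agent.Lib.H5.Wr

open Subgroup Cfsg.Agent.Lib.H5.SD Cfsg.Agent.Lib.H5.AutOdd

variable {S : Type*} [Group S] {n : ℕ} {x y z : S}

namespace Gens

variable (d : Gens S n x y z)
include d

/-- Case `P0`, `a + b` odd: `X` is cyclic. -/
theorem isPGroup_mulAut_of_cyclic [Finite S] {X : Subgroup S} (hZ : center S ≤ X)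
    {a b : ZMod (2 ^ n)} (ht : wp n x y a b * z ∈ X) (hab : ∃ m, a + b = 2 * m + 1)
    (hall : ∀ c e, wp n x y c e ∈ X → c = e) : IsPGroup 2 (MulAut X) := by
  have hX : X = zpowers (wp n x y a b * z) := by
    apply le_antisymm
    · have hunit := d.odd_isUnit (a + b) hab
      obtain ⟨u, hu⟩ := hunit
      have hdiag : ∀ r, wp n x y r r ∈ zpowers (wp n x y a b * z) := by
        intro r
        have h1 : wp n x y r r = (wp n x y (a + b) (a + b)) ^ ((r * (u⁻¹ : (ZMod (2 ^ n))ˣ)).val) := by
          rw [← d.wp_eq_pow]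
          have : r * (u⁻¹ : (ZMod (2 ^ n))ˣ) * (a + b) = r := by
            rw [← hu, mul_assoc, Units.inv_mul, mul_one]
          rw [this]
        rw [h1, ← d.wpz_sq]
        exact pow_mem (mul_mem (mem_zpowers _) (mem_zpowers _)) _
      intro g hg
      rcases d.cases g with ⟨c, e, rfl⟩ | ⟨c, e, rfl⟩
      · have := hall c e hg
        subst this
        exact hdiag c
      · rw [d.wpz_mem_iff ht] at hg
        have h2 := hall _ _ hg
        have h3 : wp n x y c e * z = wp n x y (c - a) (c - a) * (wp n x y a b * z) := by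
          rw [d.wp_mul_wpz]; congr 2
          · ring
          · linear_combination -h2
        rw [h3]
        exact mul_mem (hdiag _) (mem_zpowers _)
    · rw [zpowers_le]; exact ht
  have hcyc : IsCyclic X := by rw [hX]; infer_instance
  exact Cfsg.Agent.Lib.H16.isPGroup_mulAut_of_isCyclic (d.isPGroup.to_subgroup X)

/-- Case `P0`, `a + b` even: `X ≅ Z_{2^n} × Z_2`. -/
theorem isPGroup_mulAut_of_abelian [Finite S] {X : Subgroup S} (hZ : center S ≤ X)
    {a b : ZMod (2 ^ n)} (ht : wp n x y a b * z ∈ X) (hab : a + b = 0)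
    (hall : ∀ c e, wp n x y c e ∈ X → c = e) : IsPGroup 2 (MulAut X) := by
  apply isPGroup_two_of_odd_trivial
  intro α hodd
  have hh0 := hh_ne_zero (n := n) d.hn1
  have h2h := two_hh (n := n) d.hn1
  have hn := d.hn
  have hp2 : ∀ g : X, ∃ k : ℕ, g ^ (2 ^ k) = 1 := (d.isPGroup.to_subgroup X)
  -- normal form of the elements of `X`
  have hform : ∀ g : X, (∃ r, (g : S) = wp n x y r r) ∨
      (∃ r, (g : S) = wp n x y (r + a) (r + b) * z) := by
    intro g
    rcases d.cases (g : S) with ⟨c, e, h⟩ | ⟨c, e, h⟩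
    · left
      have := hall c e (h ▸ g.2)
      exact ⟨c, by rw [h, this]⟩
    · right
      have hg : wp n x y c e * z ∈ X := h ▸ g.2
      rw [d.wpz_mem_iff ht] at hg
      have h2 := hall _ _ hg
      refine ⟨c - a, ?_⟩
      rw [h]; congr 2
      · ring
      · linear_combination -h2
  have hmemt : ∀ r, wp n x y (r + a) (r + b) * z ∈ X := by
    intro r
    rw [d.wpz_mem_iff ht]
    have : wp n x y (r + a - a) (r + b - b) = wp n x y r r := by congr 1 <;> ring
    rw [this]
    exact d.wp_diag_mem hZ r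
  -- squares
  have hsqform : ∀ g : X, g * g = 1 → (g : S) = 1 ∨ (g : S) = wp n x y (hh n) (hh n) ∨
      (g : S) = wp n x y a b * z ∨ (g : S) = wp n x y (hh n + a) (hh n + b) * z := by
    intro g hg
    have hg' : (g : S) * (g : S) = 1 := congrArg Subtype.val hg
    rcases hform g with ⟨r, h⟩ | ⟨r, h⟩
    · rw [h, d.wp_sq, d.wp_eq_one_iff] at hg'
      rcases two_torsion d.hn1 r hg'.1 with rfl | rfl
      · left; rw [h, wp_zero]
      · right; left; exact h
    · rw [h, d.wpz_sq, d.wp_eq_one_iff] at hg'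
      have h3 : 2 * r = 0 := by linear_combination hg'.1 - hab
      rcases two_torsion d.hn1 r h3 with rfl | rfl
      · right; right; left; rw [h, zero_add, zero_add]
      · right; right; right; exact h
  -- `2^(n-1)`-th powers
  have hcast : ((2 ^ (n - 1) : ℕ) : ZMod (2 ^ n)) = hh n := rfl
  have hpowform : ∀ g : X, ((g ^ (2 ^ (n - 1)) : X) : S) = 1 ∨
      ((g ^ (2 ^ (n - 1)) : X) : S) = wp n x y (hh n) (hh n) := by
    intro g
    rw [Subgroup.coe_pow]
    rcases hform g with ⟨r, h⟩ | ⟨r, h⟩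
    · rw [h, d.wp_pow, hcast]
      rcases hh_mul_cases d.hn1 r with h' | h' <;> rw [h']
      · left; exact wp_zero
      · right; rfl
    · have e1 : 2 ^ (n - 1) = 2 * 2 ^ (n - 2) := by
        rw [← pow_succ']; congr 1; omega
      have hcast2 : ((2 ^ (n - 2) : ℕ) : ZMod (2 ^ n)) = qq n := rfl
      rw [h, e1, pow_mul, pow_two, d.wpz_sq, d.wp_pow, hcast2]
      have h4 : qq n * (r + a + (r + b)) = hh n * r := by
        have := hh_eq (n := n) d.hn
        linear_combination (qq n) * hab - r * this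
      rw [h4]
      rcases hh_mul_cases d.hn1 r with h' | h' <;> rw [h']
      · left; exact wp_zero
      · right; rfl
  have hc : wp n x y (hh n) (hh n) ∈ X := d.wp_diag_mem hZ _
  have hw : wp n x y 1 1 ∈ X := d.wp_diag_mem hZ _
  have hcpow : (⟨_, hc⟩ : X) = (⟨_, hw⟩ : X) ^ (2 ^ (n - 1)) := by
    apply Subtype.ext
    rw [Subgroup.coe_pow]
    show wp n x y (hh n) (hh n) = (wp n x y 1 1) ^ (2 ^ (n - 1))
    rw [d.wp_pow, hcast, mul_one]
  have hcfix : α ⟨_, hc⟩ = ⟨_, hc⟩ := by
    rw [hcpow, map_pow]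
    rcases hpowform (α ⟨_, hw⟩) with h | h
    · exfalso
      have h1 : (α ⟨_, hw⟩) ^ (2 ^ (n - 1)) = 1 := Subtype.ext h
      rw [← map_pow, α.map_eq_one_iff, ← hcpow] at h1
      exact d.wp_hh_hh_ne_one (congrArg Subtype.val h1)
    · apply Subtype.ext
      rw [h, Subgroup.coe_pow]
      show _ = (wp n x y 1 1) ^ (2 ^ (n - 1))
      rw [d.wp_pow, hcast, mul_one]
  have ht' : wp n x y (hh n + a) (hh n + b) * z ∈ X := hmemt _
  have htne : wp n x y a b * z ≠ wp n x y (hh n + a) (hh n + b) * z := by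
    intro h
    have := (d.wpz_injective _ _ _ _ h).1
    apply hh0
    linear_combination -this
  have himg : ∀ (u : X), (u : S) = wp n x y a b * z ∨
      (u : S) = wp n x y (hh n + a) (hh n + b) * z →
      ((α u : X) : S) = wp n x y a b * z ∨
        ((α u : X) : S) = wp n x y (hh n + a) (hh n + b) * z := by
    intro u hu
    have husq : u * u = 1 := by
      apply Subtype.ext
      show (u : S) * (u : S) = 1
      rcases hu with h | h <;> rw [h, d.wpz_sq, d.wp_eq_one_iff]
      · exact ⟨hab, hab⟩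
      · constructor <;> linear_combination hab + h2h
    have h3 : α u * α u = 1 := by rw [← map_mul, husq, map_one]
    rcases hsqform _ h3 with h | h | h | h
    · exfalso
      have h6 : α u = 1 := Subtype.ext h
      rw [α.map_eq_one_iff] at h6
      have h7 : (u : S) = 1 := congrArg Subtype.val h6
      rcases hu with h' | h' <;> rw [h'] at h7 <;>
        exact d.wpz_ne_wp _ _ 0 0 (by rw [h7, wp_zero])
    · exfalso
      have h6 : α u = α ⟨_, hc⟩ := by rw [hcfix]; exact Subtype.ext h
      have h7 : (u : S) = wp n x y (hh n) (hh n) := congrArg Subtype.val (α.injective h6)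
      rcases hu with h' | h' <;> rw [h'] at h7 <;> exact d.wpz_ne_wp _ _ _ _ h7
    · left; exact h
    · right; exact h
  have hp1 : α ⟨_, ht⟩ = ⟨_, ht⟩ := by
    apply fix_of_pair α hodd ⟨_, ht⟩ ⟨_, ht'⟩
    · rcases himg ⟨_, ht⟩ (Or.inl rfl) with h | h
      · exact Or.inl (Subtype.ext h)
      · exact Or.inr (Subtype.ext h)
    · rcases himg ⟨_, ht'⟩ (Or.inr rfl) with h | h
      · exact Or.inl (Subtype.ext h)
      · exact Or.inr (Subtype.ext h)
  have hp2' : α ⟨_, ht'⟩ = ⟨_, ht'⟩ := by
    apply fix_of_pair α hodd ⟨_, ht'⟩ ⟨_, ht⟩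
    · rcases himg ⟨_, ht'⟩ (Or.inr rfl) with h | h
      · exact Or.inr (Subtype.ext h)
      · exact Or.inl (Subtype.ext h)
    · rcases himg ⟨_, ht⟩ (Or.inl rfl) with h | h
      · exact Or.inr (Subtype.ext h)
      · exact Or.inl (Subtype.ext h)
  -- commutativity of `X`
  have hcomm : ∀ g₁ g₂ : X, g₁ * g₂ = g₂ * g₁ := by
    intro g₁ g₂
    apply Subtype.ext
    show (g₁ : S) * (g₂ : S) = (g₂ : S) * (g₁ : S)
    rcases hform g₁ with ⟨r, h⟩ | ⟨r, h⟩ <;> rcases hform g₂ with ⟨r', h'⟩ | ⟨r', h'⟩ <;>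
      rw [h, h']
    · exact d.wp_comm _ _ _ _
    · rw [d.wp_mul_wpz, d.wpz_mul_wp]; congr 2 <;> ring
    · rw [d.wp_mul_wpz, d.wpz_mul_wp]; congr 2 <;> ring
    · rw [d.wpz_mul_wpz, d.wpz_mul_wpz]; congr 1 <;> linear_combination hab - hab
  have hfixall : ∀ g ∈ (⊤ : Subgroup X), α g = g := by
    apply fix_of_fix_involutions α hodd
    · intro g₁ _ g₂ _; exact hcomm g₁ g₂
    · intro g _; exact mem_top _
    · intro g _; exact hp2 g
    · intro g _ hg
      rcases hsqform g hg with h | h | h | h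
      · have : g = 1 := Subtype.ext h
        rw [this, map_one]
      · have : g = ⟨_, hc⟩ := Subtype.ext h
        rw [this, hcfix]
      · have : g = ⟨_, ht⟩ := Subtype.ext h
        rw [this, hp1]
      · have : g = ⟨_, ht'⟩ := Subtype.ext h
        rw [this, hp2']
  ext g
  rw [MulAut.one_apply, hfixall g (mem_top _)]

end Gens

end Cfsg.Agent.Lib.H5.Wr
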