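import Mathlib
import Cfsg.Agent.Lib.H5.WreathedAut3
import Cfsg.Agent.Lib.H5.SylowIn

/-!
# Wreathed 2-groups: classification of self-centralizing subgroups with `Aut` not a 2-group,
and the subgroups `Q Z(S)`
-/

set_option autoImplicit false

namespace Cfsg.Agent.Lib.H5.Wr

open Subgroup Cfsg.Agent.Lib.H5.SD Cfsg.Agent.Lib.H5.AutOdd

variable {S : Type*} [Group S] {n : ℕ} {x y z : S}

/-- The subgroups `Q Z(S)`. -/
def Good (n : ℕ) (x y z : S) (X : Subgroup S) : Prop :=
  center S ≤ X ∧ (∃ a, wp n x y a (-a) * z ∈ X) ∧ ∀ c e, wp n x y c e ∈ X ↔ 2 * (c - e) = 0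

theorem four_torsion' (hn : 2 ≤ n) (c : ZMod (2 ^ n)) (h : 2 * (2 * c) = 0) :
    c = 0 ∨ c = qq n ∨ c = hh n ∨ c = -qq n := by
  have h1 := hh_eq (n := n) hn
  have h2 := two_hh (n := n) (by omega)
  rcases two_torsion (by omega) _ h with h3 | h3
  · rcases two_torsion (by omega) _ h3 with h4 | h4
    · exact Or.inl h4
    · exact Or.inr (Or.inr (Or.inl h4))
  · have h5 : 2 * (c - qq n) = 0 := by linear_combination h3 + h1
    rcases two_torsion (by omega) _ h5 with h4 | h4
    · right; left; linear_combination h4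
    · right; right; right; linear_combination h4 - h1 + h2

namespace Gens

variable (d : Gens S n x y z)
include d

theorem classify [Finite S] (X : Subgroup S) (hC : centralizer (X : Set S) ≤ X)
    (hA : ¬ IsPGroup 2 (MulAut X)) : X = d.base ∨ Good n x y z X := by
  have hZ := d.center_le_of_centralizer_le X hC
  by_cases hle : X ≤ d.base
  · exact Or.inl (d.eq_base_of_le_base X hC hle)
  right
  obtain ⟨t, htX, htb⟩ := SetLike.not_le_iff_exists.mp hle
  rcases d.cases t with ⟨a, b, rfl⟩ | ⟨a, b, rfl⟩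
  · exact absurd (d.wp_mem_base a b) htb
  by_cases hP2 : ∃ c e, wp n x y c e ∈ X ∧ 2 * (c - e) ≠ 0
  · obtain ⟨c, e, hu, hce⟩ := hP2
    exact absurd (d.isPGroup_mulAut_of_big hZ htX hu hce) hA
  push Not at hP2
  by_cases hP1 : ∃ c e, wp n x y c e ∈ X ∧ c ≠ e
  · obtain ⟨c₀, e₀, hu, hce⟩ := hP1
    rcases even_or_odd (a + b) with ⟨m, hm⟩ | ⟨m, hm⟩
    · refine ⟨hZ, ⟨a - m, ?_⟩, ?_⟩
      · rw [d.wpz_mem_iff htX]
        have : wp n x y (a - m - a) (-(a - m) - b) = wp n x y (-m) (-m) := by
          congr 1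
          · ring
          · linear_combination -hm
        rw [this]
        exact d.wp_diag_mem hZ _
      · intro c e
        constructor
        · exact hP2 c e
        · intro h
          rcases two_torsion d.hn1 _ h with h' | h'
          · have : c = e := by linear_combination h'
            rw [this]; exact d.wp_diag_mem hZ _
          · have h0 := hP2 _ _ hu
            rcases two_torsion d.hn1 _ h0 with h'' | h''
            · exact absurd (by linear_combination h'') hce
            · exact d.wp_mem_of_diff_eq hZ (h''.trans h'.symm) hu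
    · exact absurd (d.isPGroup_mulAut_of_small_odd hZ htX ⟨m, hm⟩ hu hce hP2) hA
  · push Not at hP1
    rcases even_or_odd (a + b) with ⟨m, hm⟩ | ⟨m, hm⟩
    · exfalso
      apply hA
      have ht' : wp n x y (a - m) (b - m) * z ∈ X := by
        rw [d.wpz_mem_iff htX]
        have : wp n x y (a - m - a) (b - m - b) = wp n x y (-m) (-m) := by
          congr 1 <;> ring
        rw [this]
        exact d.wp_diag_mem hZ _
      exact d.isPGroup_mulAut_of_abelian hZ ht' (by linear_combination hm) hP1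
    · exact absurd (d.isPGroup_mulAut_of_cyclic hZ htX ⟨m, hm⟩ hP1) hA

theorem card_base_commutative : IsMulCommutative d.base := by
  refine ⟨⟨fun a b => ?_⟩⟩
  obtain ⟨_, a1, a2, rfl⟩ := a
  obtain ⟨_, b1, b2, rfl⟩ := b
  apply Subtype.ext
  exact d.wp_comm _ _ _ _

section good

variable {X : Subgroup S} (hG : Good n x y z X)
include hG

theorem good_wpz_mem_iff {a : ZMod (2 ^ n)} (ht : wp n x y a (-a) * z ∈ X) (c e : ZMod (2 ^ n)) :
    wp n x y c e * z ∈ X ↔ 2 * (c - e - 2 * a) = 0 := by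
  rw [d.wpz_mem_iff ht, hG.2.2]
  constructor <;> intro h <;> linear_combination h

theorem good_not_comm : ¬ IsMulCommutative X := by
  intro hcomm
  obtain ⟨a, ht⟩ := hG.2.1
  have h2 := two_hh (n := n) d.hn1
  have hu : wp n x y (hh n) 0 ∈ X := (hG.2.2 _ _).mpr (by linear_combination h2)
  have := hcomm.is_comm.comm (⟨_, ht⟩ : X) ⟨_, hu⟩
  have h1 : (wp n x y a (-a) * z) * wp n x y (hh n) 0 = wp n x y (hh n) 0 * (wp n x y a (-a) * z) :=
    congrArg Subtype.val this
  rw [d.commute_wpz_wp_iff] at h1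
  exact hh_ne_zero d.hn1 h1

theorem good_relIndex [Finite S] : X.relIndex (normalizer (X : Set S)) = 2 := by
  obtain ⟨a, ht⟩ := hG.2.1
  have h1 := hh_eq (n := n) d.hn
  have h2 := two_hh (n := n) d.hn1
  rw [relIndex_eq_two_iff_exists_notMem_and']
  have hwX : wp n x y (qq n) 0 ∉ X := by
    rw [hG.2.2]
    intro h
    apply hh_ne_zero (n := n) d.hn1
    linear_combination h + h1
  have hwN : wp n x y (qq n) 0 ∈ normalizer (X : Set S) := by
    rw [mem_normalizer_iff_map_conj_eq]
    apply map_conj_eq_of_forall_mem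
    · intro k hk
      rcases d.cases k with ⟨c, e, rfl⟩ | ⟨c, e, rfl⟩
      · rw [d.wp_comm, mul_inv_cancel_right]; exact hk
      · rw [d.wp_conj_wpz, d.good_wpz_mem_iff hG ht]
        rw [d.good_wpz_mem_iff hG ht] at hk
        linear_combination hk + h2 - 2 * h1
    · exact le_refl _
  refine ⟨_, hwN, hwX, ?_⟩
  have hbase : ∀ c e, wp n x y c e ∈ normalizer (X : Set S) →
      wp n x y (qq n) 0 * wp n x y c e ∈ X ∨ wp n x y c e ∈ X := by
    intro c e hg
    have h3 := (mem_normalizer_iff.mp hg _).mp ht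
    rw [d.wp_conj_wpz, d.good_wpz_mem_iff hG ht] at h3
    have h4 : 2 * (2 * (c - e)) = 0 := by linear_combination h3
    rcases two_torsion d.hn1 _ h4 with h5 | h5
    · right
      exact (hG.2.2 _ _).mpr h5
    · left
      rw [← d.wp_add, hG.2.2]
      linear_combination h5 - h1 + h2
  intro g hg
  rcases d.cases g with ⟨c, e, rfl⟩ | ⟨c, e, rfl⟩
  · exact hbase c e hg
  · have h3 : wp n x y c e * z = wp n x y (c - a) (e + a) * (wp n x y a (-a) * z) := by
      rw [d.wp_mul_wpz]; congr 2 <;> ring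
    have h4 : wp n x y (c - a) (e + a) ∈ normalizer (X : Set S) := by
      have : wp n x y (c - a) (e + a) = (wp n x y c e * z) * (wp n x y a (-a) * z)⁻¹ := by
        rw [h3, mul_inv_cancel_right]
      rw [this]
      exact mul_mem hg (inv_mem (le_normalizer ht))
    rcases hbase _ _ h4 with h5 | h5
    · left
      rw [h3, ← mul_assoc]
      exact X.mul_mem h5 ht
    · right
      rw [h3]
      exact X.mul_mem h5 ht

theorem good_conj {X' : Subgroup S} (hG' : Good n x y z X') :
    ∃ s : S, X.map (MulAut.conj s).toMonoidHom = X' := by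
  obtain ⟨a, ht⟩ := hG.2.1
  obtain ⟨a', ht'⟩ := hG'.2.1
  refine ⟨wp n x y (a' - a) 0, ?_⟩
  ext g
  rw [Cfsg.Agent.Lib.H5.mem_map_conj_iff]
  have e1 : (wp n x y (a' - a) 0)⁻¹ = wp n x y (-(a' - a)) 0 := by
    rw [← d.wp_neg, neg_zero]
  rcases d.cases g with ⟨c, e, rfl⟩ | ⟨c, e, rfl⟩
  · have e0 : (wp n x y (a' - a) 0)⁻¹ * wp n x y c e * wp n x y (a' - a) 0 = wp n x y c e := by
      rw [mul_assoc, d.wp_comm c e, ← mul_assoc, inv_mul_cancel, one_mul]
    rw [e0, hG.2.2, hG'.2.2]
  · have e2 : (wp n x y (a' - a) 0)⁻¹ * (wp n x y c e * z) * wp n x y (a' - a) 0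
        = wp n x y (c - (a' - a)) (e + (a' - a)) * z := by
      have := d.wp_conj_wpz c e (-(a' - a)) 0
      rw [← e1, inv_inv] at this
      rw [this]; congr 2 <;> ring
    rw [e2, d.good_wpz_mem_iff hG ht, d.good_wpz_mem_iff hG' ht']
    constructor <;> intro h <;> linear_combination h

end good

end Gens

end Cfsg.Agent.Lib.H5.Wr
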