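import Mathlib
import Cfsg.Agent.Lib.H5.WreathedAut4

/-!
# Wreathed 2-groups: the quaternion subgroups of order 8 and `Q Z(S)`
-/

set_option autoImplicit false

namespace Cfsg.Agent.Lib.H5.Wr

open Subgroup Cfsg.Agent.Lib.H5.SD

variable {S : Type*} [Group S] {n : ℕ} {x y z : S}

namespace Gens

variable (d : Gens S n x y z)
include d

/-- A quaternion subgroup of order 8. -/
def q8Sub (α β : ZMod (2 ^ n)) (hαβ : α + β = hh n) : Subgroup S where
  carrier := {g | (∃ c, 2 * (2 * c) = 0 ∧ g = wp n x y c (-c)) ∨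
    (∃ c, 2 * (2 * c) = 0 ∧ g = wp n x y (c + α) (-c + β) * z)}
  one_mem' := Or.inl ⟨0, by ring, by rw [neg_zero, wp_zero]⟩
  mul_mem' := by
    have h2 := two_hh (n := n) d.hn1
    rintro _ _ (⟨c, hc, rfl⟩ | ⟨c, hc, rfl⟩) (⟨c', hc', rfl⟩ | ⟨c', hc', rfl⟩)
    · left
      refine ⟨c + c', by linear_combination hc + hc', ?_⟩
      rw [← d.wp_add]; congr 1; ring
    · right
      refine ⟨c + c', by linear_combination hc + hc', ?_⟩
      rw [d.wp_mul_wpz]; congr 2 <;> ring
    · right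
      refine ⟨c - c', by linear_combination hc - hc', ?_⟩
      rw [d.wpz_mul_wp]; congr 2 <;> ring
    · left
      refine ⟨c - c' + hh n, by linear_combination hc - hc' + 2 * h2, ?_⟩
      rw [d.wpz_mul_wpz]; congr 1
      · linear_combination hαβ
      · linear_combination hαβ + h2
  inv_mem' := by
    have h2 := two_hh (n := n) d.hn1
    rintro _ (⟨c, hc, rfl⟩ | ⟨c, hc, rfl⟩)
    · left
      refine ⟨-c, by linear_combination -hc, ?_⟩
      rw [← d.wp_neg]
    · right
      refine ⟨c - hh n, by linear_combination hc - 2 * h2, ?_⟩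
      rw [d.wpz_inv]; congr 2
      · linear_combination -hαβ
      · linear_combination -hαβ - h2

theorem wp_mem_q8Sub (α β : ZMod (2 ^ n)) (hαβ : α + β = hh n) (c e : ZMod (2 ^ n)) :
    wp n x y c e ∈ d.q8Sub α β hαβ ↔ 2 * (2 * c) = 0 ∧ e = -c := by
  constructor
  · rintro (⟨c', hc', h⟩ | ⟨c', hc', h⟩)
    · obtain ⟨rfl, rfl⟩ := d.wp_injective _ _ _ _ h
      exact ⟨hc', rfl⟩
    · exact absurd h.symm (d.wpz_ne_wp _ _ _ _)
  · rintro ⟨hc, rfl⟩
    exact Or.inl ⟨c, hc, rfl⟩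

theorem wpz_mem_q8Sub (α β : ZMod (2 ^ n)) (hαβ : α + β = hh n) (c e : ZMod (2 ^ n)) :
    wp n x y c e * z ∈ d.q8Sub α β hαβ ↔ 2 * (2 * (c - α)) = 0 ∧ e = -(c - α) + β := by
  constructor
  · rintro (⟨c', hc', h⟩ | ⟨c', hc', h⟩)
    · exact absurd h (d.wpz_ne_wp _ _ _ _)
    · obtain ⟨rfl, rfl⟩ := d.wpz_injective _ _ _ _ h
      refine ⟨by linear_combination hc', by ring⟩
  · rintro ⟨hc, rfl⟩
    refine Or.inr ⟨c - α, hc, ?_⟩
    congr 2; ring

theorem orderOf_wp_qq : orderOf (wp n x y (qq n) (-qq n)) = 4 := by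
  have : Fact (Nat.Prime 2) := ⟨Nat.prime_two⟩
  have h1 := hh_eq (n := n) d.hn
  have h2 := two_hh (n := n) d.hn1
  have key : orderOf (wp n x y (qq n) (-qq n)) = 2 ^ (1 + 1) := by
    apply orderOf_eq_prime_pow
    · rw [pow_one, d.wp_pow, d.wp_eq_one_iff]
      rintro ⟨h, -⟩
      apply hh_ne_zero (n := n) d.hn1
      rw [h1]; push_cast at h; exact h
    · rw [d.wp_pow, d.wp_eq_one_iff]
      push_cast
      constructor
      · linear_combination h2 - 2 * h1
      · linear_combination -h2 + 2 * h1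
  rw [key]; norm_num

theorem card_q8Sub (α β : ZMod (2 ^ n)) (hαβ : α + β = hh n) :
    Nat.card (d.q8Sub α β hαβ) = 8 := by
  have h1 := hh_eq (n := n) d.hn
  have h2 := two_hh (n := n) d.hn1
  have hr : wp n x y (qq n) (-qq n) ∈ d.q8Sub α β hαβ :=
    (d.wp_mem_q8Sub α β hαβ _ _).mpr ⟨by linear_combination h2 - 2 * h1, rfl⟩
  have hle : zpowers (wp n x y (qq n) (-qq n)) ≤ d.q8Sub α β hαβ := zpowers_le.mpr hr
  -- membership in `⟨r⟩`
  have hmem : ∀ c, 2 * (2 * c) = 0 → wp n x y c (-c) ∈ zpowers (wp n x y (qq n) (-qq n)) := by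
    intro c hc
    rcases four_torsion' d.hn c hc with rfl | rfl | rfl | rfl
    · rw [neg_zero, wp_zero]; exact one_mem _
    · exact mem_zpowers _
    · have : wp n x y (hh n) (-hh n) = (wp n x y (qq n) (-qq n)) ^ 2 := by
        rw [d.wp_pow]; congr 1
        push_cast; linear_combination -h1
      rw [this]; exact pow_mem (mem_zpowers _) _
    · have : wp n x y (-qq n) (- -qq n) = (wp n x y (qq n) (-qq n))⁻¹ := by
        rw [← d.wp_neg]
      rw [this]; exact inv_mem (mem_zpowers _)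
  have hrel : (zpowers (wp n x y (qq n) (-qq n))).relIndex (d.q8Sub α β hαβ) = 2 := by
    rw [relIndex_eq_two_iff_exists_notMem_and']
    refine ⟨wp n x y α β * z, ?_, ?_, ?_⟩
    · rw [d.wpz_mem_q8Sub]
      exact ⟨by ring, by ring⟩
    · intro h
      have hb : zpowers (wp n x y (qq n) (-qq n)) ≤ d.base := by
        rw [zpowers_le]; exact d.wp_mem_base _ _
      obtain ⟨c, e, hce⟩ := hb h
      exact d.wpz_ne_wp _ _ _ _ hce
    · intro g hg
      rcases d.cases g with ⟨c, e, rfl⟩ | ⟨c, e, rfl⟩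
      · right
        rw [d.wp_mem_q8Sub] at hg
        obtain ⟨hc, rfl⟩ := hg
        exact hmem c hc
      · left
        rw [d.wpz_mem_q8Sub] at hg
        obtain ⟨hc, rfl⟩ := hg
        rw [d.wpz_mul_wpz]
        have : wp n x y (α + (-(c - α) + β)) (β + c) =
            wp n x y (α + hh n - c) (-(α + hh n - c)) := by
          congr 1
          · linear_combination hαβ
          · linear_combination hαβ + h2
        rw [this]
        apply hmem
        linear_combination -hc + 2 * h2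
  have h3 := card_of_relIndex_two hle hrel
  rw [h3, Nat.card_zpowers, d.orderOf_wp_qq]

theorem q8Sub_equiv [Finite S] (α β : ZMod (2 ^ n)) (hαβ : α + β = hh n) :
    Nonempty (d.q8Sub α β hαβ ≃* QuaternionGroup 2) := by
  have h1 := hh_eq (n := n) d.hn
  have h2 := two_hh (n := n) d.hn1
  have hr : wp n x y (qq n) (-qq n) ∈ d.q8Sub α β hαβ :=
    (d.wp_mem_q8Sub α β hαβ _ _).mpr ⟨by linear_combination h2 - 2 * h1, rfl⟩
  have hu : wp n x y α β * z ∈ d.q8Sub α β hαβ :=
    (d.wpz_mem_q8Sub α β hαβ _ _).mpr ⟨by ring, by ring⟩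
  apply Cfsg.Agent.Lib.H22.quaternion_equiv_of_gens 2
    (⟨_, hr⟩ : d.q8Sub α β hαβ) ⟨_, hu⟩
  · apply Subtype.ext
    rw [Subgroup.coe_pow, Subgroup.coe_one]
    have := pow_orderOf_eq_one (wp n x y (qq n) (-qq n))
    rw [d.orderOf_wp_qq] at this
    exact this
  · apply Subtype.ext
    rw [Subgroup.coe_mul, Subgroup.coe_pow]
    show (wp n x y α β * z) * (wp n x y α β * z) = (wp n x y (qq n) (-qq n)) ^ 2
    rw [d.wpz_sq, d.wp_pow]
    congr 1
    · push_cast; linear_combination hαβ + h1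
    · push_cast; linear_combination hαβ - h1 + h2
  · apply Subtype.ext
    rw [Subgroup.coe_mul, Subgroup.coe_mul, Subgroup.coe_inv, Subgroup.coe_inv]
    show (wp n x y α β * z) * wp n x y (qq n) (-qq n) * (wp n x y α β * z)⁻¹ =
      (wp n x y (qq n) (-qq n))⁻¹
    rw [d.wpz_conj_wp, ← d.wp_neg, neg_neg]
  · rw [eq_top_iff]
    rintro ⟨g, hg⟩ -
    have hrr : ∀ c (hc : 2 * (2 * c) = 0),
        (⟨wp n x y c (-c), (d.wp_mem_q8Sub α β hαβ _ _).mpr ⟨hc, rfl⟩⟩ : d.q8Sub α β hαβ)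
        ∈ closure ({⟨_, hr⟩, ⟨_, hu⟩} : Set (d.q8Sub α β hαβ)) := by
      intro c hc
      have hR : (⟨_, hr⟩ : d.q8Sub α β hαβ) ∈
          closure ({⟨_, hr⟩, ⟨_, hu⟩} : Set (d.q8Sub α β hαβ)) := subset_closure (by simp)
      rcases four_torsion' d.hn c hc with rfl | rfl | rfl | rfl
      · have : (⟨wp n x y 0 (-0), (d.wp_mem_q8Sub α β hαβ _ _).mpr ⟨hc, rfl⟩⟩ : d.q8Sub α β hαβ)
            = 1 := Subtype.ext (by show wp n x y 0 (-0) = 1; rw [neg_zero, wp_zero])
        rw [this]; exact one_mem _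
      · exact hR
      · have : (⟨wp n x y (hh n) (-hh n), (d.wp_mem_q8Sub α β hαβ _ _).mpr ⟨hc, rfl⟩⟩ :
            d.q8Sub α β hαβ) = (⟨_, hr⟩ : d.q8Sub α β hαβ) ^ 2 := by
          apply Subtype.ext
          rw [Subgroup.coe_pow]
          show wp n x y (hh n) (-hh n) = (wp n x y (qq n) (-qq n)) ^ 2
          rw [d.wp_pow]; congr 1
          push_cast; linear_combination -h1
        rw [this]; exact pow_mem hR _
      · have : (⟨wp n x y (-qq n) (- -qq n), (d.wp_mem_q8Sub α β hαβ _ _).mpr ⟨hc, rfl⟩⟩ :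
            d.q8Sub α β hαβ) = (⟨_, hr⟩ : d.q8Sub α β hαβ)⁻¹ := by
          apply Subtype.ext
          rw [Subgroup.coe_inv]
          show wp n x y (-qq n) (- -qq n) = (wp n x y (qq n) (-qq n))⁻¹
          rw [← d.wp_neg]
        rw [this]; exact inv_mem hR
    rcases hg with ⟨c, hc, rfl⟩ | ⟨c, hc, rfl⟩
    · exact hrr c hc
    · have h3 : (⟨wp n x y (c + α) (-c + β) * z, Or.inr ⟨c, hc, rfl⟩⟩ : d.q8Sub α β hαβ)
          = ⟨wp n x y c (-c), (d.wp_mem_q8Sub α β hαβ _ _).mpr ⟨hc, rfl⟩⟩ * ⟨_, hu⟩ := by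
        apply Subtype.ext
        show wp n x y (c + α) (-c + β) * z = wp n x y c (-c) * (wp n x y α β * z)
        rw [d.wp_mul_wpz]
      rw [h3]
      exact mul_mem (hrr c hc) (subset_closure (by simp))
  · rw [d.card_q8Sub]

/-- A good subgroup is `Q Z(S)` for a quaternion subgroup `Q` of order 8. -/
theorem good_eq_sup [Finite S] {X : Subgroup S} (hG : Good n x y z X) :
    ∃ Q : Subgroup S, Nonempty (Q ≃* QuaternionGroup 2) ∧ X = Q ⊔ center S := by
  obtain ⟨a, ht⟩ := hG.2.1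
  have h1 := hh_eq (n := n) d.hn
  have h2 := two_hh (n := n) d.hn1
  have hαβ : (a + qq n) + (-a + qq n) = hh n := by linear_combination -h1
  refine ⟨d.q8Sub _ _ hαβ, d.q8Sub_equiv _ _ hαβ, ?_⟩
  have hu : wp n x y (a + qq n) (-a + qq n) * z ∈ X := by
    rw [d.good_wpz_mem_iff hG ht]; ring
  apply le_antisymm
  · have hbase : ∀ c e, wp n x y c e ∈ X → wp n x y c e ∈ d.q8Sub _ _ hαβ ⊔ center S := by
      intro c e hg
      rw [hG.2.2] at hg
      rcases two_torsion d.hn1 _ hg with h | h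
      · apply (le_sup_right : center S ≤ _)
        rw [d.mem_center_iff']
        exact ⟨c, by congr 1; linear_combination -h⟩
      · have e1 : wp n x y c e = wp n x y (qq n) (-qq n) * wp n x y (c - qq n) (c - qq n) := by
          rw [← d.wp_add]; congr 1
          · ring
          · linear_combination -h - h1
        rw [e1]
        apply mul_mem
        · apply (le_sup_left : d.q8Sub _ _ hαβ ≤ _)
          exact (d.wp_mem_q8Sub _ _ hαβ _ _).mpr ⟨by linear_combination h2 - 2 * h1, rfl⟩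
        · apply (le_sup_right : center S ≤ _)
          exact (d.mem_center_iff' _).mpr ⟨_, rfl⟩
    intro g hg
    rcases d.cases g with ⟨c, e, rfl⟩ | ⟨c, e, rfl⟩
    · exact hbase c e hg
    · have e1 : wp n x y c e * z = wp n x y (c - (a + qq n)) (e - (-a + qq n)) *
          (wp n x y (a + qq n) (-a + qq n) * z) := by
        rw [d.wp_mul_wpz]; congr 2 <;> ring
      have h3 : wp n x y (c - (a + qq n)) (e - (-a + qq n)) ∈ X := by
        have : wp n x y (c - (a + qq n)) (e - (-a + qq n)) =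
            (wp n x y c e * z) * (wp n x y (a + qq n) (-a + qq n) * z)⁻¹ := by
          rw [e1, mul_inv_cancel_right]
        rw [this]
        exact X.mul_mem hg (X.inv_mem hu)
      rw [e1]
      apply mul_mem (hbase _ _ h3)
      apply (le_sup_left : d.q8Sub _ _ hαβ ≤ _)
      exact (d.wpz_mem_q8Sub _ _ hαβ _ _).mpr ⟨by ring, by ring⟩
  · apply sup_le _ hG.1
    intro g hg
    rcases d.cases g with ⟨c, e, rfl⟩ | ⟨c, e, rfl⟩
    · rw [d.wp_mem_q8Sub] at hg
      obtain ⟨hc, rfl⟩ := hg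
      rw [hG.2.2]
      linear_combination hc
    · rw [d.wpz_mem_q8Sub] at hg
      obtain ⟨hc, rfl⟩ := hg
      rw [d.good_wpz_mem_iff hG ht]
      linear_combination hc

end Gens

end Cfsg.Agent.Lib.H5.Wr
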