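import Mathlib
import Cfsg.Agent.Lib.H5.WreathedAut5

/-!
# Wreathed 2-groups: every quaternion subgroup `Q` of order 8 gives a good subgroup `Q Z(S)`
-/

set_option autoImplicit false

namespace Cfsg.Agent.Lib.H5.Wr

open Subgroup Cfsg.Agent.Lib.H5.SD

section abstract

variable {S : Type*} [Group S]

theorem quat_swap_rel {R T : S} (hTR : T * R * T⁻¹ = R⁻¹) (hT : T * T = R * R) :
    R * T * R⁻¹ = T⁻¹ := by
  have h1 : T * R = R⁻¹ * T := by
    calc T * R = (T * R * T⁻¹) * T := by group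
      _ = R⁻¹ * T := by rw [hTR]
  have h3 : R * T * R = T := by
    calc R * T * R = R * (T * R) := by group
      _ = R * (R⁻¹ * T) := by rw [h1]
      _ = T := by group
  calc R * T * R⁻¹ = (R * T * R) * (R * R)⁻¹ := by group
    _ = T * (T * T)⁻¹ := by rw [h3, hT]
    _ = T⁻¹ := by group

theorem quat_prod_rel {R T : S} (hTR : T * R * T⁻¹ = R⁻¹) (hT : T * T = R * R) :
    T * (R * T) * T⁻¹ = (R * T)⁻¹ ∧ T * T = (R * T) * (R * T) := by
  have h1 : T * R = R⁻¹ * T := by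
    calc T * R = (T * R * T⁻¹) * T := by group
      _ = R⁻¹ * T := by rw [hTR]
  have h2 := quat_swap_rel hTR hT
  constructor
  · have h4 : R * T * R⁻¹ * T = 1 := by rw [h2, inv_mul_cancel]
    calc T * (R * T) * T⁻¹ = T * R := by group
      _ = R⁻¹ * T := h1
      _ = T⁻¹ * R⁻¹ * (R * T * R⁻¹ * T) := by group
      _ = (R * T)⁻¹ := by rw [h4]; group
  · calc T * T = R * (R⁻¹ * T) * T := by group
      _ = R * (T * R) * T := by rw [h1]
      _ = (R * T) * (R * T) := by group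

end abstract

variable {S : Type*} [Group S] {n : ℕ} {x y z : S}

namespace Gens

variable (d : Gens S n x y z)
include d

/-- Generators of a quaternion subgroup of order 8 adapted to the base group. -/
theorem q8_gens_base (Q : Subgroup S) (hQ : Nonempty (Q ≃* QuaternionGroup 2)) :
    ∃ R T : S, R ∈ Q ∧ T ∈ Q ∧ R ∈ d.base ∧ T ∉ d.base ∧ R * R ≠ 1 ∧
      T * R * T⁻¹ = R⁻¹ ∧ T * T = R * R := by
  obtain ⟨R, T, hRQ, hTQ, hR, hTR, hT, -⟩ := quat_abstract_gens Q hQ
  rw [pow_two] at hT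
  have hRR : R * R ≠ 1 := by
    intro h
    have := orderOf_dvd_of_pow_eq_one (show R ^ 2 = 1 by rw [pow_two]; exact h)
    rw [hR] at this
    omega
  have hidx := d.index_base
  by_cases hRb : R ∈ d.base
  · by_cases hTb : T ∈ d.base
    · exfalso
      obtain ⟨a, b, rfl⟩ := hRb
      obtain ⟨c, e, rfl⟩ := hTb
      rw [d.wp_comm c e a b, mul_inv_cancel_right] at hTR
      apply hRR
      nth_rewrite 1 [hTR]
      exact inv_mul_cancel _
    · exact ⟨R, T, hRQ, hTQ, hRb, hTb, hRR, hTR, hT⟩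
  · by_cases hTb : T ∈ d.base
    · refine ⟨T, R, hTQ, hRQ, hTb, hRb, by rw [hT]; exact hRR, quat_swap_rel hTR hT, hT.symm⟩
    · have hRT : R * T ∈ d.base :=
        (mul_mem_iff_of_index_two hidx).mpr ⟨fun h => absurd h hRb, fun h => absurd h hTb⟩
      obtain ⟨h1, h2⟩ := quat_prod_rel hTR hT
      refine ⟨R * T, T, Q.mul_mem hRQ hTQ, hTQ, hRT, hTb, by rw [← h2, hT]; exact hRR, h1, h2⟩

/-- Every quaternion subgroup of order 8 is one of the `q8Sub`. -/
theorem q8_eq_q8Sub [Finite S] (Q : Subgroup S) (hQ : Nonempty (Q ≃* QuaternionGroup 2)) :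
    ∃ (α β : ZMod (2 ^ n)) (hαβ : α + β = hh n), Q = d.q8Sub α β hαβ := by
  have h1 := hh_eq (n := n) d.hn
  have h2 := two_hh (n := n) d.hn1
  have hh0 := hh_ne_zero (n := n) d.hn1
  obtain ⟨R, T, hRQ, hTQ, hRb, hTb, hRR, hTR, hT⟩ := d.q8_gens_base Q hQ
  obtain ⟨c, e, rfl⟩ := hRb
  rcases d.cases T with ⟨a, b, rfl⟩ | ⟨a, b, rfl⟩
  · exact absurd (d.wp_mem_base a b) hTb
  rw [d.wpz_conj_wp, ← d.wp_neg] at hTR
  obtain ⟨hec, -⟩ := d.wp_injective _ _ _ _ hTR
  subst hec
  rw [d.wpz_sq, d.wp_sq] at hT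
  obtain ⟨hab1, hab2⟩ := d.wp_injective _ _ _ _ hT
  have h4c : 2 * (2 * c) = 0 := by linear_combination hab2 - hab1
  have h2c : 2 * c = hh n := by
    rcases two_torsion d.hn1 _ h4c with h | h
    · exfalso
      apply hRR
      rw [d.wp_sq, h, d.wp_eq_one_iff]
      exact ⟨rfl, by rw [mul_neg, h, neg_zero]⟩
    · exact h
  have hαβ : a + b = hh n := by rw [hab1, h2c]
  refine ⟨a, b, hαβ, ?_⟩
  symm
  apply Subgroup.eq_of_le_of_card_ge
  · -- `q8Sub a b ≤ Q`
    have hpow : ∀ c', 2 * (2 * c') = 0 → wp n x y c' (-c') ∈ Q := by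
      intro c' hc'
      rcases four_torsion' d.hn c' hc' with h | h | h | h
      · rw [h, neg_zero, wp_zero]; exact Q.one_mem
      · -- `c' = qq`, and `c = ± qq`
        rcases four_torsion' d.hn c h4c with h' | h' | h' | h'
        · exfalso; rw [h', mul_zero] at h2c; exact hh0 h2c.symm
        · rw [h, ← h']; exact hRQ
        · exfalso; rw [h', h2] at h2c; exact hh0 h2c.symm
        · have : wp n x y c' (-c') = (wp n x y c (-c))⁻¹ := by
            rw [← d.wp_neg, h, h', neg_neg]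
          rw [this]; exact Q.inv_mem hRQ
      · have : wp n x y c' (-c') = wp n x y c (-c) * wp n x y c (-c) := by
          rw [d.wp_sq, h, h2c, mul_neg, h2c]
        rw [this]; exact Q.mul_mem hRQ hRQ
      · rcases four_torsion' d.hn c h4c with h' | h' | h' | h'
        · exfalso; rw [h', mul_zero] at h2c; exact hh0 h2c.symm
        · have : wp n x y c' (-c') = (wp n x y c (-c))⁻¹ := by
            rw [← d.wp_neg, h, h']
          rw [this]; exact Q.inv_mem hRQ
        · exfalso; rw [h', h2] at h2c; exact hh0 h2c.symm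
        · rw [h, ← h']; exact hRQ
    rintro g (⟨c', hc', rfl⟩ | ⟨c', hc', rfl⟩)
    · exact hpow c' hc'
    · have : wp n x y (c' + a) (-c' + b) * z = wp n x y c' (-c') * (wp n x y a b * z) := by
        rw [d.wp_mul_wpz]
      rw [this]
      exact Q.mul_mem (hpow c' hc') hTQ
  · obtain ⟨φ⟩ := hQ
    rw [d.card_q8Sub, Nat.card_congr φ.toEquiv, Nat.card_eq_fintype_card, QuaternionGroup.card]

/-- The centralizer of a `q8Sub` is the centre. -/
theorem centralizer_q8Sub (α β : ZMod (2 ^ n)) (hαβ : α + β = hh n) :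
    centralizer (d.q8Sub α β hαβ : Set S) = center S := by
  have h1 := hh_eq (n := n) d.hn
  have h2 := two_hh (n := n) d.hn1
  have hh0 := hh_ne_zero (n := n) d.hn1
  apply le_antisymm _ (center_le_centralizer _)
  intro g hg
  rw [mem_centralizer_iff] at hg
  have hr : wp n x y (qq n) (-qq n) ∈ d.q8Sub α β hαβ :=
    (d.wp_mem_q8Sub α β hαβ _ _).mpr ⟨by linear_combination h2 - 2 * h1, rfl⟩
  have hu : wp n x y α β * z ∈ d.q8Sub α β hαβ :=
    (d.wpz_mem_q8Sub α β hαβ _ _).mpr ⟨by ring, by ring⟩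
  rcases d.cases g with ⟨c, e, rfl⟩ | ⟨c, e, rfl⟩
  · have := (d.commute_wpz_wp_iff α β c e).mp (hg _ hu)
    subst this
    exact (d.mem_center_iff' _).mpr ⟨c, rfl⟩
  · exfalso
    have := (d.commute_wpz_wp_iff c e (qq n) (-qq n)).mp (hg _ hr).symm
    apply hh0
    linear_combination h1 + this

/-- `q8Sub α β · Z(S)` is good. -/
theorem good_q8Sub_sup (α β : ZMod (2 ^ n)) (hαβ : α + β = hh n) :
    Good n x y z (d.q8Sub α β hαβ ⊔ center S) := by
  have h1 := hh_eq (n := n) d.hn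
  have h2 := two_hh (n := n) d.hn1
  have hr : wp n x y (qq n) (-qq n) ∈ d.q8Sub α β hαβ :=
    (d.wp_mem_q8Sub α β hαβ _ _).mpr ⟨by linear_combination h2 - 2 * h1, rfl⟩
  have hu : wp n x y α β * z ∈ d.q8Sub α β hαβ :=
    (d.wpz_mem_q8Sub α β hαβ _ _).mpr ⟨by ring, by ring⟩
  refine ⟨le_sup_right, ⟨α + qq n, ?_⟩, ?_⟩
  · have : wp n x y (α + qq n) (-(α + qq n)) * z = (wp n x y α β * z) * wp n x y (qq n) (qq n) := by
      rw [d.wpz_mul_wp]; congr 2
      linear_combination -hαβ + h1 - h2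
    rw [this]
    exact mul_mem (le_sup_left (a := d.q8Sub α β hαβ) hu)
      (le_sup_right (b := center S) ((d.mem_center_iff' _).mpr ⟨_, rfl⟩))
  · intro c e
    constructor
    · intro hmem
      rw [← SetLike.mem_coe, mul_normal, Set.mem_mul] at hmem
      obtain ⟨q, hq, ζ, hζ, hqζ⟩ := hmem
      obtain ⟨r, rfl⟩ := (d.mem_center_iff' ζ).mp hζ
      have hq' : q = wp n x y (c - r) (e - r) := by
        rw [sub_eq_add_neg, sub_eq_add_neg, d.wp_add, d.wp_neg, ← hqζ, mul_inv_cancel_right]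
      rw [hq'] at hq
      obtain ⟨h3, h4⟩ := (d.wp_mem_q8Sub α β hαβ _ _).mp hq
      linear_combination h3 - 2 * h4
    · intro hce
      rcases two_torsion d.hn1 _ hce with h | h
      · apply le_sup_right (b := center S)
        rw [d.mem_center_iff']
        exact ⟨c, by congr 1; linear_combination -h⟩
      · have e1 : wp n x y c e = wp n x y (qq n) (-qq n) * wp n x y (c - qq n) (c - qq n) := by
          rw [← d.wp_add]; congr 1
          · ring
          · linear_combination -h - h1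
        rw [e1]
        exact mul_mem (le_sup_left (a := d.q8Sub α β hαβ) hr)
          (le_sup_right (b := center S) ((d.mem_center_iff' _).mpr ⟨_, rfl⟩))

/-- `Q Z(S)` is good for every quaternion subgroup `Q` of order 8. -/
theorem good_of_quat [Finite S] (Q : Subgroup S) (hQ : Nonempty (Q ≃* QuaternionGroup 2)) :
    Good n x y z (Q ⊔ center S) := by
  obtain ⟨α, β, hαβ, rfl⟩ := d.q8_eq_q8Sub Q hQ
  exact d.good_q8Sub_sup α β hαβ

/-- The centralizer of a quaternion subgroup of order 8 is the centre. -/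
theorem centralizer_quat [Finite S] (Q : Subgroup S) (hQ : Nonempty (Q ≃* QuaternionGroup 2)) :
    centralizer (Q : Set S) = center S := by
  obtain ⟨α, β, hαβ, rfl⟩ := d.q8_eq_q8Sub Q hQ
  exact d.centralizer_q8Sub α β hαβ

/-- A good subgroup contains its centralizer. -/
theorem good_centralizer [Finite S] {X : Subgroup S} (hG : Good n x y z X) :
    centralizer (X : Set S) = center S := by
  obtain ⟨Q, hQ, rfl⟩ := d.good_eq_sup hG
  apply le_antisymm _ (center_le_centralizer _)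
  rw [← d.centralizer_quat Q hQ]
  exact centralizer_le (SetLike.coe_subset_coe.mpr le_sup_left)

/-- A good subgroup contains a unique quaternion subgroup of order 8. -/
theorem quat_unique_of_good [Finite S] {X : Subgroup S} (hG : Good n x y z X)
    (Q₁ Q₂ : Subgroup S) (h₁ : Nonempty (Q₁ ≃* QuaternionGroup 2))
    (h₂ : Nonempty (Q₂ ≃* QuaternionGroup 2)) (hQ₁ : Q₁ ≤ X) (hQ₂ : Q₂ ≤ X) : Q₁ = Q₂ := by
  have h2 := two_hh (n := n) d.hn1
  obtain ⟨a, ht⟩ := hG.2.1
  obtain ⟨α₁, β₁, h₁', rfl⟩ := d.q8_eq_q8Sub Q₁ h₁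
  obtain ⟨α₂, β₂, h₂', rfl⟩ := d.q8_eq_q8Sub Q₂ h₂
  have hu₁ : wp n x y α₁ β₁ * z ∈ X :=
    hQ₁ ((d.wpz_mem_q8Sub α₁ β₁ h₁' _ _).mpr ⟨by ring, by ring⟩)
  have hu₂ : wp n x y α₂ β₂ * z ∈ X :=
    hQ₂ ((d.wpz_mem_q8Sub α₂ β₂ h₂' _ _).mpr ⟨by ring, by ring⟩)
  rw [d.good_wpz_mem_iff hG ht] at hu₁ hu₂
  have hδ : 2 * (2 * (α₁ - α₂)) = 0 := by
    linear_combination hu₁ - hu₂ + 2 * h₁' - 2 * h₂'
  ext g
  rcases d.cases g with ⟨c, e, rfl⟩ | ⟨c, e, rfl⟩
  · rw [d.wp_mem_q8Sub, d.wp_mem_q8Sub]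
  · rw [d.wpz_mem_q8Sub, d.wpz_mem_q8Sub]
    constructor
    · rintro ⟨h3, h4⟩
      refine ⟨by linear_combination h3 + hδ, ?_⟩
      linear_combination h4 + h₁' - h₂'
    · rintro ⟨h3, h4⟩
      refine ⟨by linear_combination h3 - hδ, ?_⟩
      linear_combination h4 - h₁' + h₂'

end Gens

end Cfsg.Agent.Lib.H5.Wr
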