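import Mathlib
import Cfsg.Agent.Lib.H5.WreathedGood
import Cfsg.Agent.Lib.H5.AutomizerTools
import Cfsg.Agent.S1196
import Cfsg.Agent.Lib.H16.AutIndexTwo

/-!
# Finite groups with a wreathed Sylow 2-subgroup: the subgroups `U` and `V = Q Z(S)`
-/

set_option autoImplicit false

namespace Cfsg.Agent.Lib.H5.WS

open Subgroup Cfsg.Agent.Lib.H5 Cfsg.Agent.Lib.H5.SD Cfsg.Agent.Lib.H5.Wr Cfsg.Agent.Lib.H10

section transfer

variable {G : Type*} [Group G] {S : Subgroup G}

/-- The image in `G` of a subgroup of `S`. -/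
abbrev up (X : Subgroup ↥S) : Subgroup G := X.map S.subtype

theorem up_le (X : Subgroup ↥S) : up X ≤ S := Subgroup.map_subtype_le X

theorem up_subgroupOf {H : Subgroup G} (h : H ≤ S) : up (H.subgroupOf S) = H :=
  map_subgroupOf_eq_of_le h

theorem subgroupOf_up (X : Subgroup ↥S) : (up X).subgroupOf S = X :=
  Subgroup.comap_map_eq_self_of_injective (Subgroup.subtype_injective S) X

theorem mem_up_iff {X : Subgroup ↥S} {g : G} : g ∈ up X ↔ ∃ h : g ∈ S, (⟨g, h⟩ : ↥S) ∈ X := by
  constructor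
  · rintro ⟨s, hs, rfl⟩
    exact ⟨s.2, hs⟩
  · rintro ⟨h, hs⟩
    exact ⟨⟨g, h⟩, hs, rfl⟩

theorem coe_mem_up_iff {X : Subgroup ↥S} {s : ↥S} : (s : G) ∈ up X ↔ s ∈ X := by
  rw [mem_up_iff]
  constructor
  · rintro ⟨_, hs⟩; exact hs
  · intro hs; exact ⟨s.2, hs⟩

theorem up_mono {X Y : Subgroup ↥S} (h : X ≤ Y) : up X ≤ up Y := Subgroup.map_mono h

theorem up_le_up_iff {X Y : Subgroup ↥S} : up X ≤ up Y ↔ X ≤ Y :=
  Subgroup.map_le_map_iff_of_injective (Subgroup.subtype_injective S)

theorem up_injective {X Y : Subgroup ↥S} (h : up X = up Y) : X = Y :=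
  Subgroup.map_injective (Subgroup.subtype_injective S) h

theorem up_sup (X Y : Subgroup ↥S) : up (X ⊔ Y) = up X ⊔ up Y := Subgroup.map_sup X Y _

theorem card_up (X : Subgroup ↥S) : Nat.card (up X) = Nat.card X :=
  Subgroup.card_map_of_injective (Subgroup.subtype_injective S)

/-- `X ≃* up X`. -/
noncomputable def upEquiv (X : Subgroup ↥S) : X ≃* up X :=
  X.equivMapOfInjective S.subtype (Subgroup.subtype_injective S)

theorem up_conj (X : Subgroup ↥S) (s : ↥S) :
    up (X.map (MulAut.conj s).toMonoidHom) = (up X).map (MulAut.conj (s : G)).toMonoidHom := by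
  ext g
  constructor
  · rintro ⟨_, ⟨k, hk, rfl⟩, rfl⟩
    exact ⟨(k : G), ⟨k, hk, rfl⟩, rfl⟩
  · rintro ⟨_, ⟨k, hk, rfl⟩, rfl⟩
    exact ⟨_, ⟨k, hk, rfl⟩, rfl⟩

theorem subgroupOf_centralizer {H : Subgroup G} (h : H ≤ S) :
    (centralizer (H : Set G)).subgroupOf S = centralizer ((H.subgroupOf S : Subgroup ↥S) : Set ↥S) := by
  ext c
  rw [mem_subgroupOf, mem_centralizer_iff, mem_centralizer_iff]
  constructor
  · intro hc k hk
    apply Subtype.ext
    exact hc k.1 (mem_subgroupOf.mp hk)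
  · intro hc k hk
    have := hc ⟨k, h hk⟩ (mem_subgroupOf.mpr hk)
    exact congrArg Subtype.val this

theorem centralizer_up_inf (X : Subgroup ↥S) :
    centralizer ((up X : Subgroup G) : Set G) ⊓ S = up (centralizer (X : Set ↥S)) := by
  rw [← subgroupOf_map_subtype, subgroupOf_centralizer (up_le X), subgroupOf_up]

theorem normalizer_up_inf (X : Subgroup ↥S) :
    normalizer ((up X : Subgroup G) : Set G) ⊓ S = up (normalizer (X : Set ↥S)) := by
  rw [← subgroupOf_map_subtype, subgroupOf_normalizer_eq (up_le X), subgroupOf_up]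

theorem relIndex_up (X Y : Subgroup ↥S) : (up X).relIndex (up Y) = X.relIndex Y := by
  rw [← relIndex_subgroupOf (up_le Y), subgroupOf_up, subgroupOf_up]

end transfer


section setup

variable {G : Type*} [Group G] [Finite G] (S : Sylow 2 G)

theorem exists_gens' (hS : Cfsg.IsWreathed (S : Subgroup G)) (n : ℕ)
    (hn : Nat.card S = 2 ^ (2 * n + 1)) :
    ∃ x y z : ↥(S : Subgroup G), Gens ↥(S : Subgroup G) n x y z := by
  obtain ⟨n', x, y, z, d⟩ := exists_gens hS
  have hnn : n' = n := by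
    have h1 := d.hcard
    have hn' : Nat.card ↥(S : Subgroup G) = 2 ^ (2 * n + 1) := hn
    rw [hn'] at h1
    have := Nat.pow_right_injective (le_refl 2) h1
    omega
  subst hnn
  exact ⟨x, y, z, d⟩

variable {S} {n : ℕ} {x y z : ↥(S : Subgroup G)} (d : Gens ↥(S : Subgroup G) n x y z)
include d

theorem eq_up_base (U : Subgroup G) (hUS : U ≤ S) (hUab : IsMulCommutative U)
    (hUcard : Nat.card U = 2 ^ (2 * n)) : U = up d.base := by
  have e : U.subgroupOf (S : Subgroup G) ≃* U := Subgroup.subgroupOfEquivOfLe hUS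
  have h1 : IsMulCommutative (U.subgroupOf (S : Subgroup G)) := by
    refine ⟨⟨fun a b => ?_⟩⟩
    apply e.injective
    rw [map_mul, map_mul]
    exact hUab.is_comm.comm _ _
  have h2 : Nat.card (U.subgroupOf (S : Subgroup G)) = 2 ^ (2 * n) := by
    rw [Nat.card_congr e.toEquiv, hUcard]
  have := Cfsg.Agent.S1196.base_unique d _ h1 h2
  rw [← this, up_subgroupOf hUS]

/-- `S` normalizes `U`. -/
theorem le_normalizer_base : (S : Subgroup G) ≤ normalizer ((up d.base : Subgroup G) : Set G) := by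
  have hnorm : d.base.Normal := Subgroup.normal_of_index_eq_two d.index_base
  have h1 := normalizer_up_inf (S := (S : Subgroup G)) d.base
  rw [normalizer_eq_top_iff.mpr hnorm] at h1
  have h2 : up (⊤ : Subgroup ↥(S : Subgroup G)) = (S : Subgroup G) := by
    rw [← subgroupOf_self, up_subgroupOf le_rfl]
  rw [h2] at h1
  exact inf_eq_right.mp h1

/-- `C_S(U) = U`. -/
theorem centralizer_base : centralizer (d.base : Set ↥(S : Subgroup G)) = d.base := by
  apply le_antisymm
  · intro g hg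
    rw [mem_centralizer_iff] at hg
    rcases d.cases g with ⟨a, b, rfl⟩ | ⟨a, b, rfl⟩
    · exact d.wp_mem_base a b
    · exfalso
      have h1 := (d.commute_wpz_wp_iff a b 1 0).mp (hg _ (d.wp_mem_base 1 0)).symm
      have hn1 := d.hn1
      haveI : Fact (1 < 2 ^ n) := ⟨Nat.one_lt_two_pow (by omega)⟩
      exact one_ne_zero h1
  · rintro _ ⟨a, b, rfl⟩
    rw [mem_centralizer_iff]
    rintro _ ⟨c, e, rfl⟩
    exact d.wp_comm _ _ _ _

theorem centralizer_up_base_inf :
    centralizer ((up d.base : Subgroup G) : Set G) ⊓ (S : Subgroup G) = up d.base := by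
  rw [centralizer_up_inf, centralizer_base d]

/-- `N_G(U)` normalizes `Ω₁(U)`. -/
theorem normalizer_base_le :
    normalizer ((up d.base : Subgroup G) : Set G) ≤
      normalizer ((up d.omegaBase : Subgroup G) : Set G) := by
  have h2 := two_hh (n := n) d.hn1
  -- `Ω₁(U)` is the set of elements of `U` of square one
  have key : ∀ g : G, g ∈ up d.omegaBase ↔ g ∈ up d.base ∧ g * g = 1 := by
    intro g
    constructor
    · rintro ⟨_, ⟨a, b, ha, hb, rfl⟩, rfl⟩
      refine ⟨⟨_, d.wp_mem_base a b, rfl⟩, ?_⟩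
      have : wp n x y a b * wp n x y a b = 1 := by rw [d.wp_sq, ha, hb, Gens.wp_zero]
      exact congrArg Subtype.val this
    · rintro ⟨⟨_, ⟨a, b, rfl⟩, rfl⟩, hsq⟩
      have h1 : wp n x y a b * wp n x y a b = 1 := Subtype.ext hsq
      rw [d.wp_sq, d.wp_eq_one_iff] at h1
      exact ⟨_, ⟨a, b, h1.1, h1.2, rfl⟩, rfl⟩
  intro g hg
  rw [mem_normalizer_iff] at hg ⊢
  intro u
  rw [key, key, hg u]
  constructor
  · rintro ⟨h1, h3⟩
    refine ⟨h1, ?_⟩
    calc g * u * g⁻¹ * (g * u * g⁻¹) = g * (u * u) * g⁻¹ := by group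
      _ = 1 := by rw [h3]; group
  · rintro ⟨h1, h3⟩
    refine ⟨h1, ?_⟩
    calc u * u = g⁻¹ * (g * u * g⁻¹ * (g * u * g⁻¹)) * g := by group
      _ = 1 := by rw [h3]; group

theorem isKleinFour_up_omegaBase : IsKleinFour (up d.omegaBase : Subgroup G) :=
  haveI := d.isKleinFour_omegaBase
  NC.isKleinFour_of_mulEquiv (upEquiv d.omegaBase).symm

/-- An odd-order automorphism of `U` induced by an element centralizing `Ω₁(U)` is trivial. -/
theorem mem_centralizer_base_of_odd (g : G)
    (hg : g ∈ normalizer ((up d.base : Subgroup G) : Set G))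
    (hgW : g ∈ centralizer ((up d.omegaBase : Subgroup G) : Set G))
    (hodd : Odd (orderOf ((up d.base : Subgroup G).normalizerMonoidHom ⟨g, hg⟩))) :
    g ∈ centralizer ((up d.base : Subgroup G) : Set G) := by
  apply AZ.mem_centralizer_of_normalizerMonoidHom_eq_one _ g hg
  set α := (up d.base : Subgroup G).normalizerMonoidHom ⟨g, hg⟩ with hα
  have hUcomm : ∀ a b : ↥(up d.base : Subgroup G), a * b = b * a := by
    rintro ⟨_, ⟨_, ⟨a, b, rfl⟩, rfl⟩⟩ ⟨_, ⟨_, ⟨c, e, rfl⟩, rfl⟩⟩
    apply Subtype.ext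
    show ((wp n x y a b : ↥(S : Subgroup G)) : G) * ((wp n x y c e : ↥(S : Subgroup G)) : G) =
      ((wp n x y c e : ↥(S : Subgroup G)) : G) * ((wp n x y a b : ↥(S : Subgroup G)) : G)
    exact congrArg Subtype.val (d.wp_comm a b c e)
  have key := AutOdd.fix_of_fix_involutions α hodd ⊤ (fun a _ b _ => hUcomm a b)
    (fun _ _ => mem_top _) ?_ ?_
  · ext u
    exact congrArg Subtype.val (key u (mem_top _))
  · rintro ⟨_, ⟨_, ⟨a, b, rfl⟩, rfl⟩⟩ -
    refine ⟨n, ?_⟩
    apply Subtype.ext
    have h1 : (wp n x y a b) ^ (2 ^ n) = 1 := by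
      rw [d.wp_pow, d.wp_eq_one_iff]
      have : ((2 ^ n : ℕ) : ZMod (2 ^ n)) = 0 := ZMod.natCast_self _
      rw [this, zero_mul, zero_mul]
      exact ⟨rfl, rfl⟩
    have h3 := congrArg Subtype.val h1
    simpa using h3
  · rintro ⟨u, hu⟩ - hsq
    have hsq' : u * u = 1 := congrArg Subtype.val hsq
    obtain ⟨_, ⟨a, b, rfl⟩, rfl⟩ := hu
    have h1 : wp n x y a b * wp n x y a b = 1 := Subtype.ext hsq'
    rw [d.wp_sq, d.wp_eq_one_iff] at h1
    have hW : ((wp n x y a b : ↥(S : Subgroup G)) : G) ∈ up d.omegaBase :=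
      ⟨_, ⟨a, b, h1.1, h1.2, rfl⟩, rfl⟩
    have h3 := mem_centralizer_iff.mp hgW _ hW
    apply Subtype.ext
    show g * ((wp n x y a b : ↥(S : Subgroup G)) : G) * g⁻¹ = ((wp n x y a b : ↥(S : Subgroup G)) : G)
    rw [← h3, mul_inv_cancel_right]

/-- `|N_G(U) : C_G(U)| ∈ {2, 6}`. -/
theorem automizer_base :
    (centralizer ((up d.base : Subgroup G) : Set G)).relIndex
        (normalizer ((up d.base : Subgroup G) : Set G)) = 2 ∨
    (centralizer ((up d.base : Subgroup G) : Set G)).relIndex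
        (normalizer ((up d.base : Subgroup G) : Set G)) = 6 := by
  have : Fact (Nat.Prime 2) := ⟨Nat.prime_two⟩
  set Ug : Subgroup G := up d.base with hUg
  set N := normalizer (Ug : Set G) with hN
  set C := centralizer (Ug : Set G) with hC
  set W : Subgroup G := up d.omegaBase with hW
  have hCN : C ≤ N := centralizer_le_normalizer _
  have hSN : (S : Subgroup G) ≤ N := le_normalizer_base d
  have hodd : ¬ 2 ∣ (S : Subgroup G).relIndex N := not_dvd_relIndex_of_sylow_le S hSN
  have hNC : N ≤ normalizer (C : Set G) := NC.normalizer_le_normalizer_centralizer Ug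
  have h2 : C.relIndex (S : Subgroup G) = 2 := by
    rw [← inf_relIndex_right, hC, hUg, centralizer_up_base_inf d]
    have h3 := relIndex_up (S := (S : Subgroup G)) d.base ⊤
    have h4 : up (⊤ : Subgroup ↥(S : Subgroup G)) = (S : Subgroup G) := by
      rw [← subgroupOf_self, up_subgroupOf le_rfl]
    rw [h4, relIndex_top_right, d.index_base] at h3
    exact h3
  obtain ⟨m, hm, hCm⟩ := AZ.relIndex_eq_two_mul_odd hCN hSN hNC hodd h2
  set K₀ := N ⊓ centralizer (W : Set G) with hK₀
  have hWU : W ≤ Ug := by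
    rintro _ ⟨_, ⟨a, b, -, -, rfl⟩, rfl⟩
    exact ⟨_, d.wp_mem_base a b, rfl⟩
  have hCK : C ≤ K₀ := le_inf hCN (centralizer_le (SetLike.coe_subset_coe.mpr hWU))
  have hK₀N : K₀ ≤ N := inf_le_left
  have hNW : N ≤ normalizer (W : Set G) := normalizer_base_le d
  have h6 : K₀.relIndex N ∣ 6 := by
    rw [hK₀, inf_comm, inf_relIndex_right]
    exact (AZ.relIndex_dvd_relIndex_of_normal (centralizer_le_normalizer _)
      (NC.normalizer_le_normalizer_centralizer W) hNW).trans
      (NC.relIndex_klein_dvd W (isKleinFour_up_omegaBase d))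
  obtain ⟨j, hj⟩ := AZ.relIndex_eq_pow_of_forall_pow_mem (p := 2) (hK₀N.trans hNC)
    (AZ.exists_pow_mem_centralizer Ug K₀ hK₀N (fun g hg hodd' =>
      mem_centralizer_base_of_odd d g (hK₀N hg) hg.2 hodd'))
  have hprod := relIndex_mul_relIndex C K₀ N hCK hK₀N
  rw [hj] at hprod
  exact AZ.eq_two_or_six_of h6 hprod.symm hm hCm

end setup

section good

variable {G : Type*} [Group G] [Finite G] {S : Sylow 2 G} {n : ℕ} {x y z : ↥(S : Subgroup G)}
  (d : Gens ↥(S : Subgroup G) n x y z)
include d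

theorem card_mul_relIndex' {H K : Subgroup G} (h : H ≤ K) :
    Nat.card H * H.relIndex K = Nat.card K := by
  have := relIndex_mul_relIndex ⊥ H K bot_le h
  rwa [relIndex_bot_left, relIndex_bot_left] at this

omit d in
/-- A conjugate of a quaternion subgroup which lies in `S`. -/
theorem conj_quat (Q' : Subgroup ↥(S : Subgroup G)) (hQ' : Nonempty (Q' ≃* QuaternionGroup 2))
    (g : G) (h : (up Q').map (MulAut.conj g).toMonoidHom ≤ (S : Subgroup G)) :
    ∃ Q'' : Subgroup ↥(S : Subgroup G), Nonempty (Q'' ≃* QuaternionGroup 2) ∧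
      (up Q').map (MulAut.conj g).toMonoidHom = up Q'' := by
  obtain ⟨e⟩ := hQ'
  refine ⟨((up Q').map (MulAut.conj g).toMonoidHom).subgroupOf (S : Subgroup G), ⟨?_⟩,
    (up_subgroupOf h).symm⟩
  exact (((Subgroup.subgroupOfEquivOfLe h).trans
    ((MulAut.conj g).subgroupMap (up Q')).symm).trans (upEquiv Q').symm).trans e

/-- Conjugates of `Z(S)` which together with a conjugate quaternion subgroup lie in `S`. -/
theorem conj_center (Q' : Subgroup ↥(S : Subgroup G)) (hQ' : Nonempty (Q' ≃* QuaternionGroup 2))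
    (g : G) (h : (up Q').map (MulAut.conj g).toMonoidHom ≤ (S : Subgroup G))
    (hZ : (up (center ↥(S : Subgroup G))).map (MulAut.conj g).toMonoidHom ≤ (S : Subgroup G)) :
    (up (center ↥(S : Subgroup G))).map (MulAut.conj g).toMonoidHom =
      up (center ↥(S : Subgroup G)) := by
  obtain ⟨Q'', hQ'', hconj⟩ := conj_quat Q' hQ' g h
  apply eq_of_le_of_card_map_conj _ le_rfl
  have h1 : (up (center ↥(S : Subgroup G))).map (MulAut.conj g).toMonoidHom ≤
      centralizer ((up Q'' : Subgroup G) : Set G) ⊓ (S : Subgroup G) := by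
    apply le_inf _ hZ
    rw [← hconj]
    rintro _ ⟨_, ⟨c, hc, rfl⟩, rfl⟩
    rw [mem_centralizer_iff]
    rintro _ ⟨_, ⟨q, -, rfl⟩, rfl⟩
    have hcq : q * c = c * q := mem_center_iff.mp hc q
    have hcq' : (q : G) * (c : G) = (c : G) * (q : G) := congrArg Subtype.val hcq
    show g * (q : G) * g⁻¹ * (g * (c : G) * g⁻¹) = g * (c : G) * g⁻¹ * (g * (q : G) * g⁻¹)
    calc g * (q : G) * g⁻¹ * (g * (c : G) * g⁻¹) = g * ((q : G) * (c : G)) * g⁻¹ := by group
      _ = g * ((c : G) * (q : G)) * g⁻¹ := by rw [hcq']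
      _ = g * (c : G) * g⁻¹ * (g * (q : G) * g⁻¹) := by group
  rw [centralizer_up_inf, d.centralizer_quat Q'' hQ''] at h1
  exact h1

/-- A conjugate of a good subgroup which lies in `S` is good. -/
theorem conj_good {X : Subgroup ↥(S : Subgroup G)} (hG : Good n x y z X) (g : G)
    (h : (up X).map (MulAut.conj g).toMonoidHom ≤ (S : Subgroup G)) :
    ∃ X' : Subgroup ↥(S : Subgroup G), Good n x y z X' ∧
      (up X).map (MulAut.conj g).toMonoidHom = up X' := by
  obtain ⟨Q', hQ', rfl⟩ := d.good_eq_sup hG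
  have hQ : (up Q').map (MulAut.conj g).toMonoidHom ≤ (S : Subgroup G) :=
    (Subgroup.map_mono (up_mono le_sup_left)).trans h
  have hZ : (up (center ↥(S : Subgroup G))).map (MulAut.conj g).toMonoidHom ≤ (S : Subgroup G) :=
    (Subgroup.map_mono (up_mono le_sup_right)).trans h
  obtain ⟨Q'', hQ'', hconj⟩ := conj_quat Q' hQ' g hQ
  refine ⟨Q'' ⊔ center ↥(S : Subgroup G), d.good_of_quat Q'' hQ'', ?_⟩
  rw [up_sup, Subgroup.map_sup, hconj, conj_center d Q' hQ' g hQ hZ, up_sup]

theorem relIndex_up_good {X : Subgroup ↥(S : Subgroup G)} (hG : Good n x y z X) :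
    (up X).relIndex ((S : Subgroup G) ⊓ normalizer ((up X : Subgroup G) : Set G)) = 2 := by
  rw [inf_comm, normalizer_up_inf, relIndex_up]
  exact d.good_relIndex hG

theorem centralizer_up_good_inf {X : Subgroup ↥(S : Subgroup G)} (hG : Good n x y z X) :
    centralizer ((up X : Subgroup G) : Set G) ⊓ (S : Subgroup G) =
      up (center ↥(S : Subgroup G)) := by
  rw [centralizer_up_inf, d.good_centralizer hG]

theorem card_normalizer_good {X : Subgroup ↥(S : Subgroup G)} (hG : Good n x y z X) :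
    Nat.card ((S : Subgroup G) ⊓ normalizer ((up X : Subgroup G) : Set G) : Subgroup G) =
      Nat.card (up X) * 2 := by
  rw [← card_mul_relIndex' d (le_inf (up_le X) le_normalizer), relIndex_up_good d hG]

/-- `N_S(V)` is a Sylow 2-subgroup of `N_G(V)`. -/
theorem good_sylNorm {X : Subgroup ↥(S : Subgroup G)} (hG : Good n x y z X) :
    ¬ 2 ∣ ((S : Subgroup G) ⊓ normalizer ((up X : Subgroup G) : Set G)).relIndex
      (normalizer ((up X : Subgroup G) : Set G)) := by
  have : Fact (Nat.Prime 2) := ⟨Nat.prime_two⟩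
  apply AZ.not_dvd_relIndex_of_fully_normalized S (up X) (up_le X)
  intro g hg
  obtain ⟨X', hG', hconj⟩ := conj_good d hG g hg
  rw [hconj, card_normalizer_good d hG', card_normalizer_good d hG, ← hconj, card_map_conj]

/-- `N_G(V)` normalizes the quaternion subgroup of `V`. -/
theorem normalizer_good_le_quat {X : Subgroup ↥(S : Subgroup G)} (hG : Good n x y z X)
    (Q' : Subgroup ↥(S : Subgroup G)) (hQ' : Nonempty (Q' ≃* QuaternionGroup 2)) (hQX : Q' ≤ X) :
    normalizer ((up X : Subgroup G) : Set G) ≤ normalizer ((up Q' : Subgroup G) : Set G) := by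
  intro g hg
  rw [mem_normalizer_iff_map_conj] at hg ⊢
  have h1 : (up Q').map (MulAut.conj g).toMonoidHom ≤ up X := by
    rw [← hg]; exact Subgroup.map_mono (up_mono hQX)
  obtain ⟨Q'', hQ'', hconj⟩ := conj_quat Q' hQ' g (h1.trans (up_le X))
  rw [hconj] at h1 ⊢
  rw [d.quat_unique_of_good hG Q'' Q' hQ'' hQ' (up_le_up_iff.mp h1) hQX]

/-- `N_G(V)` normalizes `Z(S)`. -/
theorem normalizer_good_le_center {X : Subgroup ↥(S : Subgroup G)} (hG : Good n x y z X) :
    normalizer ((up X : Subgroup G) : Set G) ≤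
      normalizer ((up (center ↥(S : Subgroup G)) : Subgroup G) : Set G) := by
  intro g hg
  rw [mem_normalizer_iff_map_conj] at hg ⊢
  obtain ⟨Q', hQ', hX⟩ := d.good_eq_sup hG
  have h1 : (up Q').map (MulAut.conj g).toMonoidHom ≤ up X := by
    rw [← hg]; exact Subgroup.map_mono (up_mono (hX ▸ le_sup_left))
  have h2 : (up (center ↥(S : Subgroup G))).map (MulAut.conj g).toMonoidHom ≤ up X := by
    rw [← hg]; exact Subgroup.map_mono (up_mono hG.1)
  exact conj_center d Q' hQ' g (h1.trans (up_le X)) (h2.trans (up_le X))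

/-- `Aut(Z(S))` is a 2-group. -/
theorem isPGroup_mulAut_up_center :
    IsPGroup 2 (MulAut (up (center ↥(S : Subgroup G)) : Subgroup G)) := by
  have : Fact (Nat.Prime 2) := ⟨Nat.prime_two⟩
  have hp : IsPGroup 2 (up (center ↥(S : Subgroup G)) : Subgroup G) :=
    S.2.to_le (up_le _)
  have hcyc : IsCyclic (center ↥(S : Subgroup G)) := by
    rw [d.center_eq]
    infer_instance
  haveI : IsCyclic (up (center ↥(S : Subgroup G)) : Subgroup G) :=
    isCyclic_of_surjective (upEquiv (center ↥(S : Subgroup G))) (upEquiv _).surjective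
  exact Cfsg.Agent.Lib.H16.isPGroup_mulAut_of_isCyclic hp

/-- The quotient `(N_G(V) ∩ Q C_G(Q)) / V C_G(V)` is a 2-group. -/
theorem exists_pow_mem_good {X : Subgroup ↥(S : Subgroup G)} (hG : Good n x y z X)
    (Q' : Subgroup ↥(S : Subgroup G)) (hX : X = Q' ⊔ center ↥(S : Subgroup G)) (g : G)
    (hgN : g ∈ normalizer ((up X : Subgroup G) : Set G))
    (hgQ : g ∈ up Q' ⊔ centralizer ((up Q' : Subgroup G) : Set G)) :
    ∃ k : ℕ, g ^ 2 ^ k ∈ up X ⊔ centralizer ((up X : Subgroup G) : Set G) := by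
  have hQX : up Q' ≤ up X := up_mono (hX ▸ le_sup_left)
  rw [← SetLike.mem_coe, coe_mul_of_right_le_normalizer_left (up Q') _
    (centralizer_le_normalizer _)] at hgQ
  obtain ⟨q, hq, c, hc, rfl⟩ := hgQ
  have hcN : c ∈ normalizer ((up X : Subgroup G) : Set G) := by
    have : c = q⁻¹ * (q * c) := by group
    rw [this]
    exact mul_mem (inv_mem (le_normalizer (hQX hq))) hgN
  have hcZ := normalizer_good_le_center d hG hcN
  obtain ⟨k, hk⟩ := AZ.exists_pow_mem_centralizer_of_isPGroup _ (isPGroup_mulAut_up_center d) c hcZ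
  refine ⟨k, ?_⟩
  have hcomm : Commute q c := (mem_centralizer_iff.mp hc q hq)
  rw [hcomm.mul_pow]
  apply mul_mem
  · exact le_sup_left (a := up X) (pow_mem (hQX hq) _)
  · apply le_sup_right (b := centralizer ((up X : Subgroup G) : Set G))
    have h1 : c ^ 2 ^ k ∈ centralizer ((up Q' : Subgroup G) : Set G) := pow_mem hc _
    rw [← zpowers_le, le_centralizer_iff] at h1 hk ⊢
    rw [hX, up_sup]
    exact sup_le h1 hk

/-- `|N_G(V) : V C_G(V)| ∈ {2, 6}` for `V = Q Z(S)`. -/
theorem automizer_good {X : Subgroup ↥(S : Subgroup G)} (hG : Good n x y z X) :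
    (up X ⊔ centralizer ((up X : Subgroup G) : Set G)).relIndex
        (normalizer ((up X : Subgroup G) : Set G)) = 2 ∨
    (up X ⊔ centralizer ((up X : Subgroup G) : Set G)).relIndex
        (normalizer ((up X : Subgroup G) : Set G)) = 6 := by
  have : Fact (Nat.Prime 2) := ⟨Nat.prime_two⟩
  obtain ⟨Q', hQ', hX⟩ := d.good_eq_sup hG
  obtain ⟨eQ⟩ := hQ'
  set V : Subgroup G := up X with hV
  set N := normalizer (V : Set G) with hN
  set C := centralizer (V : Set G) with hC
  set M := V ⊔ C with hM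
  set T := (S : Subgroup G) ⊓ N with hT
  set Qg : Subgroup G := up Q' with hQg
  have hVN : V ≤ N := le_normalizer
  have hCN : C ≤ N := centralizer_le_normalizer _
  have hMN : M ≤ N := sup_le hVN hCN
  have hTN : T ≤ N := inf_le_right
  have hNM : N ≤ normalizer (M : Set G) :=
    (le_inf (le_refl _) (NC.normalizer_le_normalizer_centralizer V)).trans
      (NC.normalizer_inf_le_normalizer_sup' V _)
  have hTodd : ¬ 2 ∣ T.relIndex N := good_sylNorm d hG
  have hMT : M ⊓ T = V := by
    apply le_antisymm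
    · intro m hm
      obtain ⟨hmM, hmT⟩ := Subgroup.mem_inf.mp hm
      obtain ⟨hmS, -⟩ := Subgroup.mem_inf.mp hmT
      rw [← SetLike.mem_coe, hM, coe_mul_of_right_le_normalizer_left V _ hCN] at hmM
      obtain ⟨v, hv, c, hc, rfl⟩ := hmM
      have hcS : c ∈ (S : Subgroup G) := by
        have : c = v⁻¹ * (v * c) := by group
        rw [this]
        exact mul_mem (inv_mem (up_le X hv)) hmS
      have hcZ : c ∈ centralizer (V : Set G) ⊓ (S : Subgroup G) := ⟨hc, hcS⟩
      rw [hV, centralizer_up_good_inf d hG] at hcZ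
      exact mul_mem hv (up_mono hG.1 hcZ)
    · exact le_inf le_sup_left (le_inf (up_le X) hVN)
  have h2 : M.relIndex T = 2 := by
    rw [← inf_relIndex_right, hMT]
    exact relIndex_up_good d hG
  obtain ⟨m, hm, hMm⟩ := AZ.relIndex_eq_two_mul_odd hMN hTN hNM hTodd h2
  -- the subgroup `K₀`
  set QC := Qg ⊔ centralizer (Qg : Set G) with hQC
  set K₀ := N ⊓ QC with hK₀
  have hK₀N : K₀ ≤ N := inf_le_left
  have hQV : Qg ≤ V := up_mono (hX ▸ le_sup_left)
  have hZC : up (center ↥(S : Subgroup G)) ≤ centralizer (Qg : Set G) := by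
    rintro _ ⟨c, hc, rfl⟩
    rw [mem_centralizer_iff]
    rintro _ ⟨q, -, rfl⟩
    exact congrArg Subtype.val (mem_center_iff.mp hc q)
  have hMK : M ≤ K₀ := by
    apply le_inf hMN
    apply sup_le
    · rw [hV, hX, up_sup]
      exact sup_le le_sup_left (hZC.trans le_sup_right)
    · exact (centralizer_le (SetLike.coe_subset_coe.mpr hQV)).trans le_sup_right
  have hNQ : N ≤ normalizer (Qg : Set G) :=
    normalizer_good_le_quat d hG Q' ⟨eQ⟩ (hX ▸ le_sup_left)
  have hQCn : normalizer (Qg : Set G) ≤ normalizer (QC : Set G) :=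
    (le_inf (le_refl _) (NC.normalizer_le_normalizer_centralizer Qg)).trans
      (NC.normalizer_inf_le_normalizer_sup' Qg _)
  have h6 : K₀.relIndex N ∣ 6 := by
    rw [hK₀, inf_comm, inf_relIndex_right]
    exact (AZ.relIndex_dvd_relIndex_of_normal
      (sup_le le_normalizer (centralizer_le_normalizer _)) hQCn hNQ).trans
      (NC.relIndex_quaternion_dvd Qg ((upEquiv Q').symm.trans eQ))
  obtain ⟨j, hj⟩ := AZ.relIndex_eq_pow_of_forall_pow_mem (p := 2) (hK₀N.trans hNM)
    (fun g hg => exists_pow_mem_good d hG Q' hX g hg.1 hg.2)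
  have hprod := relIndex_mul_relIndex M K₀ N hMK hK₀N
  rw [hj] at hprod
  exact AZ.eq_two_or_six_of h6 hprod.symm hm hMm

end good

section factor

variable {G : Type*} [Group G] [Finite G] {S : Sylow 2 G} {n : ℕ} {x y z : ↥(S : Subgroup G)}
  (d : Gens ↥(S : Subgroup G) n x y z)
include d

theorem relIndex_centralizer_base_sylow :
    (centralizer ((up d.base : Subgroup G) : Set G)).relIndex (S : Subgroup G) = 2 := by
  rw [← inf_relIndex_right, centralizer_up_base_inf d]
  have h3 := relIndex_up (S := (S : Subgroup G)) d.base ⊤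
  have h4 : up (⊤ : Subgroup ↥(S : Subgroup G)) = (S : Subgroup G) := by
    rw [← subgroupOf_self, up_subgroupOf le_rfl]
  rw [h4, relIndex_top_right, d.index_base] at h3
  exact h3

/-- If `|N_G(U) : C_G(U)| = 2` then `N_G(U) = C_G(U) S`. -/
theorem normalizer_base_factor
    (h : (centralizer ((up d.base : Subgroup G) : Set G)).relIndex
      (normalizer ((up d.base : Subgroup G) : Set G)) = 2) (g : G)
    (hg : g ∈ normalizer ((up d.base : Subgroup G) : Set G)) :
    ∃ c ∈ centralizer ((up d.base : Subgroup G) : Set G), ∃ s ∈ (S : Subgroup G), g = c * s := by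
  have hNC := NC.normalizer_le_normalizer_centralizer (up d.base : Subgroup G)
  have hSN := le_normalizer_base d
  have h1 := AZ.le_sup_of_relIndex_eq (centralizer_le_normalizer _) hSN hNC
    ((relIndex_centralizer_base_sylow d).trans h.symm) hg
  rw [← SetLike.mem_coe, coe_mul_of_right_le_normalizer_left _ _ (hSN.trans hNC)] at h1
  obtain ⟨c, hc, s, hs, rfl⟩ := h1
  exact ⟨c, hc, s, hs, rfl⟩

theorem good_inf_eq {X : Subgroup ↥(S : Subgroup G)} (hG : Good n x y z X) :
    (up X ⊔ centralizer ((up X : Subgroup G) : Set G)) ⊓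
      ((S : Subgroup G) ⊓ normalizer ((up X : Subgroup G) : Set G)) = up X := by
  apply le_antisymm
  · intro m hm
    obtain ⟨hmM, hmT⟩ := Subgroup.mem_inf.mp hm
    obtain ⟨hmS, -⟩ := Subgroup.mem_inf.mp hmT
    rw [← SetLike.mem_coe, coe_mul_of_right_le_normalizer_left (up X) _
      (centralizer_le_normalizer _)] at hmM
    obtain ⟨v, hv, c, hc, rfl⟩ := hmM
    have hcS : c ∈ (S : Subgroup G) := by
      have : c = v⁻¹ * (v * c) := by group
      rw [this]
      exact mul_mem (inv_mem (up_le X hv)) hmS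
    have hcZ : c ∈ centralizer ((up X : Subgroup G) : Set G) ⊓ (S : Subgroup G) := ⟨hc, hcS⟩
    rw [centralizer_up_good_inf d hG] at hcZ
    exact mul_mem hv (up_mono hG.1 hcZ)
  · exact le_inf le_sup_left (le_inf (up_le X) le_normalizer)

theorem relIndex_good_sylow {X : Subgroup ↥(S : Subgroup G)} (hG : Good n x y z X) :
    (up X ⊔ centralizer ((up X : Subgroup G) : Set G)).relIndex
      ((S : Subgroup G) ⊓ normalizer ((up X : Subgroup G) : Set G)) = 2 := by
  rw [← inf_relIndex_right, good_inf_eq d hG]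
  exact relIndex_up_good d hG

/-- If `|N_G(V) : V C_G(V)| = 2` then `N_G(V) = C_G(V) N_S(V)`. -/
theorem normalizer_good_factor {X : Subgroup ↥(S : Subgroup G)} (hG : Good n x y z X)
    (h : (up X ⊔ centralizer ((up X : Subgroup G) : Set G)).relIndex
      (normalizer ((up X : Subgroup G) : Set G)) = 2) (g : G)
    (hg : g ∈ normalizer ((up X : Subgroup G) : Set G)) :
    ∃ c ∈ centralizer ((up X : Subgroup G) : Set G),
      ∃ s ∈ (S : Subgroup G) ⊓ normalizer ((up X : Subgroup G) : Set G), g = c * s := by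
  set V : Subgroup G := up X with hV
  set N := normalizer (V : Set G) with hN
  set C := centralizer (V : Set G) with hC
  have hVN : V ≤ N := le_normalizer
  have hCN : C ≤ N := centralizer_le_normalizer _
  have hNM : N ≤ normalizer ((V ⊔ C : Subgroup G) : Set G) :=
    (le_inf (le_refl _) (NC.normalizer_le_normalizer_centralizer V)).trans
      (NC.normalizer_inf_le_normalizer_sup' V _)
  have hTN : (S : Subgroup G) ⊓ N ≤ N := inf_le_right
  have h1 := AZ.le_sup_of_relIndex_eq (sup_le hVN hCN) hTN hNM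
    ((relIndex_good_sylow d hG).trans h.symm) hg
  rw [← SetLike.mem_coe, coe_mul_of_right_le_normalizer_left _ _ (hTN.trans hNM)] at h1
  obtain ⟨m, hm, t, ht, rfl⟩ := h1
  replace ht : t ∈ (S : Subgroup G) ⊓ N := ht
  rw [sup_comm, coe_mul_of_right_le_normalizer_left C V
    (hVN.trans (NC.normalizer_le_normalizer_centralizer V))] at hm
  obtain ⟨c, hc, v, hv, rfl⟩ := hm
  have hv' : v ∈ (S : Subgroup G) ⊓ N := ⟨up_le X hv, hVN hv⟩
  refine ⟨c, hc, v * t, mul_mem hv' ht, ?_⟩
  show c * v * t = c * (v * t)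
  rw [mul_assoc]

end factor

end Cfsg.Agent.Lib.H5.WS
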