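import Mathlib
import Cfsg.Agent.Lib.H5.WreathedSylow
import Cfsg.Agent.Lib.H5.AlperinCentric
import Cfsg.Agent.Lib.H5.CentralTransfer
import Cfsg.Agent.Lib.L0.DihedralFusion

/-!
# Control of fusion in finite groups with a wreathed Sylow 2-subgroup (helper5)

`fusion_control`: a relation `Good' A g` closed under restriction, composition and inverses which
holds for centralizing elements, for elements of `S`, for `N_G(U)` acting on `U` and for `N_G(V)`
acting on `V = Q Z(S)`, holds for every `Q ≤ S`, `g ∈ G` with `Q^g ≤ S`.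
-/

set_option autoImplicit false

namespace Cfsg.Agent.Lib.H5.WS

open Subgroup Cfsg.Agent.Lib.H5 Cfsg.Agent.Lib.H5.SD Cfsg.Agent.Lib.H5.Wr Cfsg.Agent.Lib.H10

variable {G : Type*} [Group G] [Finite G] {S : Sylow 2 G} {n : ℕ} {x y z : ↥(S : Subgroup G)}
  (d : Gens ↥(S : Subgroup G) n x y z)
include d

/-- If `Aut(T)` is a 2-group, odd-order elements of `N_G(T)` centralize `T`. -/
theorem mem_centralizer_of_odd_of_isPGroup (T : Subgroup G) (hA : IsPGroup 2 (MulAut T)) (g : G)
    (hg : g ∈ normalizer (T : Set G)) (hodd : Nat.Coprime (orderOf g) 2) :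
    g ∈ centralizer (T : Set G) := by
  obtain ⟨k, hk⟩ := AZ.exists_pow_mem_centralizer_of_isPGroup T hA g hg
  exact mem_of_pow_mem_of_pow_eq_one (Nat.Coprime.pow_left k hodd.symm) hk (pow_orderOf_eq_one g)

theorem fusion_control {X : Subgroup ↥(S : Subgroup G)} (hG : Good n x y z X)
    (Good' : Set G → G → Prop)
    (hres : ∀ {A B : Set G} {g : G}, Good' A g → B ⊆ A → Good' B g)
    (htrans : ∀ {A : Set G} {g h : G}, Good' A g → Good' (rconj g A) h → Good' A (g * h))
    (hsymm : ∀ {A : Set G} {g : G}, Good' A g → Good' (rconj g A) g⁻¹)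
    (hcent : ∀ (T : Subgroup G) (c : G), T ≤ (S : Subgroup G) → c ∈ centralizer (T : Set G) →
      Good' (T : Set G) c)
    (hS' : ∀ (T : Subgroup G) (u : G), T ≤ (S : Subgroup G) → u ∈ (S : Subgroup G) →
      Good' (T : Set G) u)
    (hU : ∀ g ∈ normalizer ((up d.base : Subgroup G) : Set G),
      Good' ((up d.base : Subgroup G) : Set G) g)
    (hV : ∀ g ∈ normalizer ((up X : Subgroup G) : Set G), Good' ((up X : Subgroup G) : Set G) g) :
    ∀ Q : Subgroup G, Q ≤ (S : Subgroup G) → ∀ g : G,
      Q.map (MulAut.conj g⁻¹).toMonoidHom ≤ (S : Subgroup G) → Good' (Q : Set G) g := by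
  have : Fact (Nat.Prime 2) := ⟨Nat.prime_two⟩
  apply AC.good_of_centric S Good' hres htrans hsymm hcent
  intro T hT hTc g hg
  have hTS : T ≤ (S : Subgroup G) := hT.1
  by_cases hA : IsPGroup 2 (MulAut T)
  · obtain ⟨u, hu, c, hc, rfl⟩ := Cfsg.Agent.Lib.L0.normalizer_factor_of_local S T hT
      (fun g hg hodd => mem_centralizer_of_odd_of_isPGroup d T hA g hg hodd) g hg
    refine htrans (hS' T u hTS hu.1) ?_
    rw [rconj_coe_of_mem_normalizer hu.2]
    exact hcent T c hTS hc
  · set T' : Subgroup ↥(S : Subgroup G) := T.subgroupOf (S : Subgroup G) with hT'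
    have hupT : up T' = T := up_subgroupOf hTS
    have hC' : centralizer (T' : Set ↥(S : Subgroup G)) ≤ T' := by
      intro c hc
      rw [hT', ← subgroupOf_centralizer hTS, mem_subgroupOf] at hc
      rw [hT', mem_subgroupOf]
      exact hTc ⟨hc, c.2⟩
    have hA' : ¬ IsPGroup 2 (MulAut T') := by
      intro h
      exact hA (h.of_equiv (MulAut.congr (Subgroup.subgroupOfEquivOfLe hTS)))
    rcases d.classify T' hC' hA' with hb | hgood
    · have : T = up d.base := by rw [← hupT, hb]
      rw [this] at hg ⊢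
      exact hU g hg
    · obtain ⟨s, hs⟩ := d.good_conj hgood hG
      have hsG : T.map (MulAut.conj (s : G)).toMonoidHom = up X := by
        rw [← hupT, ← up_conj, hs]
      have hg' : (s : G) * g * (s : G)⁻¹ ∈ normalizer ((up X : Subgroup G) : Set G) := by
        rw [← hsG]
        exact conj_mem_normalizer_map_conj (s : G) hg
      have r1 : Good' (T : Set G) (s : G)⁻¹ := hS' T _ hTS (inv_mem s.2)
      have e1 : rconj (s : G)⁻¹ (T : Set G) = ((up X : Subgroup G) : Set G) := by
        rw [rconj_coe, inv_inv, hsG]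
      have r2 : Good' ((up X : Subgroup G) : Set G) ((s : G) * g * (s : G)⁻¹) := hV _ hg'
      have r3 : Good' (T : Set G) ((s : G)⁻¹ * ((s : G) * g * (s : G)⁻¹)) :=
        htrans r1 (by rw [e1]; exact r2)
      have e2 : rconj ((s : G)⁻¹ * ((s : G) * g * (s : G)⁻¹)) (T : Set G) =
          ((up X : Subgroup G) : Set G) := by
        rw [rconj_mul, e1, rconj_coe_of_mem_normalizer hg']
      have r4 : Good' ((up X : Subgroup G) : Set G) (s : G) := hS' _ _ (up_le X) s.2
      have r5 := htrans r3 (by rw [e2]; exact r4)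
      have e3 : (s : G)⁻¹ * ((s : G) * g * (s : G)⁻¹) * (s : G) = g := by group
      rwa [e3] at r5

end Cfsg.Agent.Lib.H5.WS
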