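import Mathlib
import Cfsg.Agent.Lib.H5.WreathedSylow
import Cfsg.Agent.Lib.H5.WreathedInv

/-!
# Involution classes in a finite group with a wreathed Sylow 2-subgroup (helper5)
-/

set_option autoImplicit false

namespace Cfsg.Agent.Lib.H5.WS

open Subgroup Cfsg.Agent.Lib.H5 Cfsg.Agent.Lib.H5.SD Cfsg.Agent.Lib.H5.Wr Cfsg.Agent.Lib.H10

section general

variable {G : Type*} [Group G]

theorem isConj_conj' (c g : G) : IsConj g (c * g * c⁻¹) := isConj_iff.mpr ⟨c, rfl⟩

theorem orderOf_conj'' (c g : G) : orderOf (c * g * c⁻¹) = orderOf g := by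
  have := MulEquiv.orderOf_eq (MulAut.conj c) g
  rwa [MulAut.conj_apply] at this

/-- an element of 2-power order is conjugate into a given Sylow 2-subgroup. -/
theorem exists_conj_mem_sylow [Finite G] (S : Sylow 2 G) (g : G) (k : ℕ) (hg : orderOf g = 2 ^ k) :
    ∃ c : G, c * g * c⁻¹ ∈ (S : Subgroup G) := by
  have : Fact (Nat.Prime 2) := ⟨Nat.prime_two⟩
  have hp : IsPGroup 2 (Subgroup.zpowers g) := by
    apply IsPGroup.of_card (n := k)
    rw [Nat.card_zpowers, hg]
  obtain ⟨c, hc⟩ := exists_map_conj_le_sylow S hp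
  refine ⟨c, hc ?_⟩
  exact ⟨g, Subgroup.mem_zpowers g, by simp [MulAut.conj_apply]⟩

/-- Counting a set of classes with three representatives. -/
theorem card_classes_three (p : G → Prop) (u v w : G) (hu : p u) (hv : p v) (hw : p w)
    (h : ∀ g, p g → IsConj g u ∨ IsConj g v ∨ IsConj g w) :
    {C : ConjClasses G | ∃ t : G, p t ∧ ConjClasses.mk t = C}
      = {ConjClasses.mk u, ConjClasses.mk v, ConjClasses.mk w} := by
  ext C
  simp only [Set.mem_setOf_eq, Set.mem_insert_iff, Set.mem_singleton_iff]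
  constructor
  · rintro ⟨t, ht, rfl⟩
    rcases h t ht with h1 | h1 | h1
    · left; exact ConjClasses.mk_eq_mk_iff_isConj.mpr h1
    · right; left; exact ConjClasses.mk_eq_mk_iff_isConj.mpr h1
    · right; right; exact ConjClasses.mk_eq_mk_iff_isConj.mpr h1
  · rintro (rfl | rfl | rfl)
    · exact ⟨u, hu, rfl⟩
    · exact ⟨v, hv, rfl⟩
    · exact ⟨w, hw, rfl⟩

end general

variable {G : Type*} [Group G] [Finite G] {S : Sylow 2 G} {n : ℕ} {x y z : ↥(S : Subgroup G)}
  (d : Gens ↥(S : Subgroup G) n x y z)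

/-- the central involution of `S`, in `G`. -/
def zetaG (_d : Gens ↥(S : Subgroup G) n x y z) : G :=
  ((wp n x y (hh n) (hh n) : ↥(S : Subgroup G)) : G)
/-- a non-central involution of the base group, in `G`. -/
def bG (_d : Gens ↥(S : Subgroup G) n x y z) : G := ((wp n x y (hh n) 0 : ↥(S : Subgroup G)) : G)
/-- an involution outside the base group, in `G`. -/
def tG (_d : Gens ↥(S : Subgroup G) n x y z) : G := (z : G)

omit [Finite G] in
theorem isConj_coe' {s s' : ↥(S : Subgroup G)} (h : IsConj s s') : IsConj (s : G) (s' : G) := by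
  obtain ⟨c, hc⟩ := isConj_iff.mp h
  refine isConj_iff.mpr ⟨(c : G), ?_⟩
  rw [← hc]; rfl

include d

omit [Finite G] in
theorem orderOf_zetaG : orderOf (zetaG d) = 2 := by
  unfold zetaG
  rw [Subgroup.orderOf_coe, d.orderOf_eq_two_iff]
  exact Or.inl (Or.inr (Or.inr rfl))

omit [Finite G] in
theorem orderOf_bG : orderOf (bG d) = 2 := by
  unfold bG
  rw [Subgroup.orderOf_coe, d.orderOf_eq_two_iff]
  exact Or.inl (Or.inl rfl)

omit [Finite G] in
theorem orderOf_tG : orderOf (tG d) = 2 := by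
  unfold tG
  rw [Subgroup.orderOf_coe]
  exact d.hz

omit [Finite G] in
/-- involutions of `S` up to `G`-conjugacy. -/
theorem involution_cases_sylow (s : ↥(S : Subgroup G)) (hs : orderOf s = 2) :
    IsConj (s : G) (bG d) ∨ (s : G) = zetaG d ∨ IsConj (s : G) (tG d) := by
  rcases (d.orderOf_eq_two_iff s).mp hs with (rfl | rfl | rfl) | ⟨a, rfl⟩
  · left; exact IsConj.refl _
  · left; exact isConj_coe' (d.isConj_wp_swap _ _)
  · right; left; rfl
  · right; right; exact isConj_coe' (d.isConj_z a).symm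

theorem involution_cases (g : G) (hg : orderOf g = 2) :
    IsConj g (bG d) ∨ IsConj g (zetaG d) ∨ IsConj g (tG d) := by
  obtain ⟨c, hc⟩ := exists_conj_mem_sylow S g 1 (by rw [hg, pow_one])
  have h1 : orderOf (⟨c * g * c⁻¹, hc⟩ : ↥(S : Subgroup G)) = 2 := by
    rw [← Subgroup.orderOf_coe, orderOf_conj'', hg]
  rcases involution_cases_sylow d _ h1 with h | h | h
  · left; exact (isConj_conj' c g).trans h
  · right; left
    have h2 : c * g * c⁻¹ = zetaG d := h
    rw [← h2]; exact isConj_conj' c g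
  · right; right; exact (isConj_conj' c g).trans h

theorem classes_eq :
    {C : ConjClasses G | ∃ t : G, orderOf t = 2 ∧ ConjClasses.mk t = C}
      = {ConjClasses.mk (bG d), ConjClasses.mk (zetaG d), ConjClasses.mk (tG d)} :=
  card_classes_three (fun g => orderOf g = 2) _ _ _ (orderOf_bG d) (orderOf_zetaG d) (orderOf_tG d)
    (involution_cases d)

/-- three classes if no fusion. -/
theorem card_classes_eq_three (h1 : ¬ IsConj (bG d) (zetaG d)) (h2 : ¬ IsConj (bG d) (tG d))
    (h3 : ¬ IsConj (zetaG d) (tG d)) :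
    Nat.card {C : ConjClasses G // ∃ t : G, orderOf t = 2 ∧ ConjClasses.mk t = C} = 3 := by
  show Nat.card ↥{C : ConjClasses G | ∃ t : G, orderOf t = 2 ∧ ConjClasses.mk t = C} = 3
  rw [Nat.card_coe_set_eq, Set.ncard_eq_three]
  refine ⟨_, _, _, ?_, ?_, ?_, classes_eq d⟩
  · rw [Ne, ConjClasses.mk_eq_mk_iff_isConj]; exact h1
  · rw [Ne, ConjClasses.mk_eq_mk_iff_isConj]; exact h2
  · rw [Ne, ConjClasses.mk_eq_mk_iff_isConj]; exact h3

/-- two classes if `b ~ ζ` only. -/
theorem card_classes_eq_two_of_b_zeta (h1 : IsConj (bG d) (zetaG d))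
    (h3 : ¬ IsConj (zetaG d) (tG d)) :
    Nat.card {C : ConjClasses G // ∃ t : G, orderOf t = 2 ∧ ConjClasses.mk t = C} = 2 := by
  show Nat.card ↥{C : ConjClasses G | ∃ t : G, orderOf t = 2 ∧ ConjClasses.mk t = C} = 2
  rw [Nat.card_coe_set_eq, classes_eq d, ConjClasses.mk_eq_mk_iff_isConj.mpr h1,
    Set.insert_eq_of_mem (Set.mem_insert _ _)]
  apply Set.ncard_pair
  rw [Ne, ConjClasses.mk_eq_mk_iff_isConj]; exact h3

/-- two classes if `b ~ t` only. -/
theorem card_classes_eq_two_of_b_t (h2 : IsConj (bG d) (tG d))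
    (h3 : ¬ IsConj (zetaG d) (tG d)) :
    Nat.card {C : ConjClasses G // ∃ t : G, orderOf t = 2 ∧ ConjClasses.mk t = C} = 2 := by
  show Nat.card ↥{C : ConjClasses G | ∃ t : G, orderOf t = 2 ∧ ConjClasses.mk t = C} = 2
  rw [Nat.card_coe_set_eq, classes_eq d, ConjClasses.mk_eq_mk_iff_isConj.mpr h2]
  have : ({ConjClasses.mk (tG d), ConjClasses.mk (zetaG d), ConjClasses.mk (tG d)} :
      Set (ConjClasses G)) = {ConjClasses.mk (zetaG d), ConjClasses.mk (tG d)} := by
    ext C
    simp only [Set.mem_insert_iff, Set.mem_singleton_iff]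
    tauto
  rw [this]
  apply Set.ncard_pair
  rw [Ne, ConjClasses.mk_eq_mk_iff_isConj]; exact h3

/-- one class if everything is fused. -/
theorem card_classes_eq_one (h1 : IsConj (bG d) (zetaG d)) (h2 : IsConj (bG d) (tG d)) :
    Nat.card {C : ConjClasses G // ∃ t : G, orderOf t = 2 ∧ ConjClasses.mk t = C} = 1 := by
  show Nat.card ↥{C : ConjClasses G | ∃ t : G, orderOf t = 2 ∧ ConjClasses.mk t = C} = 1
  rw [Nat.card_coe_set_eq, classes_eq d, ← ConjClasses.mk_eq_mk_iff_isConj.mpr h1,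
    ← ConjClasses.mk_eq_mk_iff_isConj.mpr h2]
  simp

end Cfsg.Agent.Lib.H5.WS
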