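import Mathlib
import Cfsg.Agent.Lib.H5.WreathedClasses

/-!
# Odd-order elements of `N_G(U)` in groups with a wreathed Sylow 2-subgroup (helper5)
-/

set_option autoImplicit false

namespace Cfsg.Agent.Lib.H5.AZ

open Subgroup

variable {G : Type*} [Group G]

theorem odd_orderOf_conj {g : G} (h : Odd (orderOf g)) : Odd (orderOf (MulAut.conj g)) :=
  Odd.of_dvd_nat h (orderOf_map_dvd MulAut.conj g)

/-- If `3` divides `|N : M|` there is an element of odd order in `N \ M`. -/
theorem exists_odd_notMem_of_three_dvd [Finite G] {M N : Subgroup G}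
    (hN : N ≤ normalizer (M : Set G)) (h3 : 3 ∣ M.relIndex N) :
    ∃ g ∈ N, Odd (orderOf g) ∧ g ∉ M := by
  haveI hnorm : (M.subgroupOf N).Normal := Subgroup.normal_subgroupOf_of_le_normalizer hN
  haveI : Fact (Nat.Prime 3) := ⟨Nat.prime_three⟩
  have hcard : 3 ∣ Nat.card (N ⧸ M.subgroupOf N) := by
    rw [← index_eq_card]; exact h3
  obtain ⟨ybar, hy⟩ := exists_prime_orderOf_dvd_card' 3 hcard
  obtain ⟨y, rfl⟩ := QuotientGroup.mk_surjective ybar
  obtain ⟨k, m, hm, hkm⟩ := Nat.exists_eq_two_pow_mul_odd (orderOf_pos (y : G)).ne'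
  refine ⟨(y : G) ^ 2 ^ k, pow_mem y.2 _, ?_, ?_⟩
  · rw [orderOf_pow, hkm, Nat.gcd_eq_right (Dvd.intro _ rfl),
      Nat.mul_div_cancel_left _ (by positivity)]
    exact hm
  · intro hmem
    have h1 : (QuotientGroup.mk y : N ⧸ M.subgroupOf N) ^ 2 ^ k = 1 := by
      rw [← QuotientGroup.mk_pow, QuotientGroup.eq_one_iff, mem_subgroupOf]
      simpa using hmem
    have h2 := orderOf_dvd_of_pow_eq_one h1
    rw [hy] at h2
    have h3' : (3 : ℕ) ∣ 2 := (Nat.Prime.dvd_of_dvd_pow Nat.prime_three h2)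
    omega

/-- A permutation-type lemma: an odd-order automorphism permuting three elements and fixing one of
them fixes all three. -/
theorem fix_three {X : Type*} [Group X] [Finite X] (α : MulAut X) (hodd : Odd (orderOf α))
    (p q r : X) (hpq : p ≠ q) (hpr : p ≠ r)
    (hperm : ∀ w, (w = p ∨ w = q ∨ w = r) → (α w = p ∨ α w = q ∨ α w = r)) (hp : α p = p) :
    α q = q ∧ α r = r := by
  have hq : α q = q ∨ α q = r := by
    rcases hperm q (Or.inr (Or.inl rfl)) with h | h | h
    · exact absurd (α.injective (h.trans hp.symm)) hpq.symm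
    · exact Or.inl h
    · exact Or.inr h
  have hr : α r = q ∨ α r = r := by
    rcases hperm r (Or.inr (Or.inr rfl)) with h | h | h
    · exact absurd (α.injective (h.trans hp.symm)) hpr.symm
    · exact Or.inl h
    · exact Or.inr h
  exact ⟨AutOdd.fix_of_pair α hodd q r hq hr, AutOdd.fix_of_pair α hodd r q hr.symm hq.symm⟩

end Cfsg.Agent.Lib.H5.AZ

namespace Cfsg.Agent.Lib.H5.WS

open Subgroup Cfsg.Agent.Lib.H5 Cfsg.Agent.Lib.H5.SD Cfsg.Agent.Lib.H5.Wr Cfsg.Agent.Lib.H10

variable {G : Type*} [Group G] [Finite G] {S : Sylow 2 G} {n : ℕ} {x y z : ↥(S : Subgroup G)}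
  (d : Gens ↥(S : Subgroup G) n x y z)

/-- the second non-central involution of the base group, in `G`. -/
def b'G (_d : Gens ↥(S : Subgroup G) n x y z) : G := ((wp n x y 0 (hh n) : ↥(S : Subgroup G)) : G)

include d

omit [Finite G] in
/-- The involutions of `U`. -/
theorem involution_base (u : G) (hu : u ∈ up d.base) (hsq : u * u = 1) (hne : u ≠ 1) :
    u = zetaG d ∨ u = bG d ∨ u = b'G d := by
  obtain ⟨_, ⟨a, b, rfl⟩, rfl⟩ := hu
  have h1 : wp n x y a b * wp n x y a b = 1 := Subtype.ext hsq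
  rw [d.wp_sq, d.wp_eq_one_iff] at h1
  have hne' : ¬ (a = 0 ∧ b = 0) := by
    rintro ⟨rfl, rfl⟩
    apply hne
    show ((wp n x y 0 0 : ↥(S : Subgroup G)) : G) = 1
    rw [Gens.wp_zero]; rfl
  rcases two_torsion d.hn1 a h1.1 with rfl | rfl <;> rcases two_torsion d.hn1 b h1.2 with rfl | rfl
  · exact absurd ⟨rfl, rfl⟩ hne'
  · right; right; rfl
  · right; left; rfl
  · left; rfl

omit [Finite G] in
theorem zetaG_mem : zetaG d ∈ up d.base := ⟨_, d.wp_mem_base _ _, rfl⟩
omit [Finite G] in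
theorem bG_mem : bG d ∈ up d.base := ⟨_, d.wp_mem_base _ _, rfl⟩
omit [Finite G] in
theorem b'G_mem : b'G d ∈ up d.base := ⟨_, d.wp_mem_base _ _, rfl⟩

omit [Finite G] in
theorem zetaG_ne_bG : zetaG d ≠ bG d := by
  intro h
  have h1 : wp n x y (hh n) (hh n) = wp n x y (hh n) 0 := Subtype.ext h
  exact hh_ne_zero d.hn1 (d.wp_injective _ _ _ _ h1).2

omit [Finite G] in
theorem zetaG_ne_b'G : zetaG d ≠ b'G d := by
  intro h
  have h1 : wp n x y (hh n) (hh n) = wp n x y 0 (hh n) := Subtype.ext h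
  exact hh_ne_zero d.hn1 (d.wp_injective _ _ _ _ h1).1

omit [Finite G] in
theorem bG_ne_b'G : bG d ≠ b'G d := by
  intro h
  have h1 : wp n x y (hh n) 0 = wp n x y 0 (hh n) := Subtype.ext h
  exact hh_ne_zero d.hn1 (d.wp_injective _ _ _ _ h1).1

omit [Finite G] in
theorem isConj_b'G_bG : IsConj (b'G d) (bG d) := isConj_coe' (d.isConj_wp_swap _ _)

omit [Finite G] d in
theorem sq_eq_one_of_orderOf_two {u : G} (h : orderOf u = 2) : u * u = 1 := by
  rw [← pow_two, ← h, pow_orderOf_eq_one]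

omit [Finite G] d in
theorem ne_one_of_orderOf_two {u : G} (h : orderOf u = 2) : u ≠ 1 := by
  rintro rfl
  rw [orderOf_one] at h
  omega

omit [Finite G] in
/-- `N_G(U)` permutes the three involutions of `U`. -/
theorem conj_involution_base (g : G) (hg : g ∈ normalizer ((up d.base : Subgroup G) : Set G))
    (w : G) (hw : w = zetaG d ∨ w = bG d ∨ w = b'G d) :
    g * w * g⁻¹ = zetaG d ∨ g * w * g⁻¹ = bG d ∨ g * w * g⁻¹ = b'G d := by
  have hwU : w ∈ up d.base := by
    rcases hw with rfl | rfl | rfl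
    · exact zetaG_mem d
    · exact bG_mem d
    · exact b'G_mem d
  have hw2 : orderOf w = 2 := by
    rcases hw with rfl | rfl | rfl
    · exact orderOf_zetaG d
    · exact orderOf_bG d
    · unfold b'G
      rw [Subgroup.orderOf_coe, d.orderOf_eq_two_iff]
      exact Or.inl (Or.inr (Or.inl rfl))
  apply involution_base d _ ((mem_normalizer_iff.mp hg w).mp hwU)
  · calc g * w * g⁻¹ * (g * w * g⁻¹) = g * (w * w) * g⁻¹ := by group
      _ = 1 := by rw [sq_eq_one_of_orderOf_two hw2]; group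
  · intro h
    apply ne_one_of_orderOf_two hw2
    calc w = g⁻¹ * (g * w * g⁻¹) * g := by group
      _ = 1 := by rw [h]; group

/-- An odd-order element of `N_G(U)` centralizing `Ω₁(U)` centralizes `U`. -/
theorem mem_centralizer_base_of_odd' (g : G)
    (hg : g ∈ normalizer ((up d.base : Subgroup G) : Set G)) (hodd : Odd (orderOf g))
    (hfix : ∀ w, (w = zetaG d ∨ w = bG d ∨ w = b'G d) → g * w * g⁻¹ = w) :
    g ∈ centralizer ((up d.base : Subgroup G) : Set G) := by
  have key := AutOdd.fix_of_fix_involutions (MulAut.conj g) (AZ.odd_orderOf_conj hodd) (up d.base)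
    ?_ ?_ ?_ ?_
  · rw [mem_centralizer_iff]
    intro u hu
    have := key u hu
    rw [MulAut.conj_apply] at this
    calc u * g = (g * u * g⁻¹) * g := by rw [this]
      _ = g * u := by group
  · rintro _ ⟨_, ⟨a, b, rfl⟩, rfl⟩ _ ⟨_, ⟨c, e, rfl⟩, rfl⟩
    exact congrArg Subtype.val (d.wp_comm a b c e)
  · intro u hu
    rw [MulAut.conj_apply]
    exact (mem_normalizer_iff.mp hg u).mp hu
  · rintro _ ⟨_, ⟨a, b, rfl⟩, rfl⟩
    refine ⟨n, ?_⟩
    have h1 : (wp n x y a b) ^ (2 ^ n) = 1 := by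
      rw [d.wp_pow, d.wp_eq_one_iff]
      have : ((2 ^ n : ℕ) : ZMod (2 ^ n)) = 0 := ZMod.natCast_self _
      rw [this, zero_mul, zero_mul]
      exact ⟨rfl, rfl⟩
    have h3 := congrArg Subtype.val h1
    simpa using h3
  · intro u hu hsq
    rw [MulAut.conj_apply]
    by_cases h1 : u = 1
    · rw [h1]; group
    · exact hfix u (involution_base d u hu hsq h1)

/-- An odd-order element of `N_G(U)` outside `C_G(U)` fixes no involution of `U`. -/
theorem base_odd_moves (g : G) (hg : g ∈ normalizer ((up d.base : Subgroup G) : Set G))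
    (hodd : Odd (orderOf g)) (hgC : g ∉ centralizer ((up d.base : Subgroup G) : Set G))
    (w : G) (hw : w = zetaG d ∨ w = bG d ∨ w = b'G d) : g * w * g⁻¹ ≠ w := by
  intro hfix
  apply hgC
  have hα := AZ.odd_orderOf_conj hodd
  have hperm : ∀ (p q r : G), (∀ v, (v = p ∨ v = q ∨ v = r) ↔
      (v = zetaG d ∨ v = bG d ∨ v = b'G d)) →
      ∀ v, (v = p ∨ v = q ∨ v = r) → ((MulAut.conj g) v = p ∨ (MulAut.conj g) v = q ∨
        (MulAut.conj g) v = r) := by
    intro p q r hiff v hv
    rw [MulAut.conj_apply]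
    exact (hiff _).mpr (conj_involution_base d g hg v ((hiff v).mp hv))
  apply mem_centralizer_base_of_odd' d g hg hodd
  rcases hw with rfl | rfl | rfl
  · have := AZ.fix_three (MulAut.conj g) hα (zetaG d) (bG d) (b'G d) (zetaG_ne_bG d)
      (zetaG_ne_b'G d) (hperm _ _ _ (fun v => Iff.rfl)) (by rw [MulAut.conj_apply]; exact hfix)
    rw [MulAut.conj_apply, MulAut.conj_apply] at this
    rintro v (rfl | rfl | rfl)
    · exact hfix
    · exact this.1
    · exact this.2
  · have := AZ.fix_three (MulAut.conj g) hα (bG d) (zetaG d) (b'G d) (zetaG_ne_bG d).symm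
      (bG_ne_b'G d) (hperm _ _ _ (fun v => by tauto)) (by rw [MulAut.conj_apply]; exact hfix)
    rw [MulAut.conj_apply, MulAut.conj_apply] at this
    rintro v (rfl | rfl | rfl)
    · exact this.1
    · exact hfix
    · exact this.2
  · have := AZ.fix_three (MulAut.conj g) hα (b'G d) (zetaG d) (bG d) (zetaG_ne_b'G d).symm
      (bG_ne_b'G d).symm (hperm _ _ _ (fun v => by tauto)) (by rw [MulAut.conj_apply]; exact hfix)
    rw [MulAut.conj_apply, MulAut.conj_apply] at this
    rintro v (rfl | rfl | rfl)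
    · exact this.1
    · exact this.2
    · exact hfix

/-- If `3` divides `|N_G(U) : C_G(U)|` then the central involution is fused to `b`. -/
theorem isConj_b_zeta_of_odd (g : G) (hg : g ∈ normalizer ((up d.base : Subgroup G) : Set G))
    (hodd : Odd (orderOf g)) (hgC : g ∉ centralizer ((up d.base : Subgroup G) : Set G)) :
    IsConj (bG d) (zetaG d) := by
  have h1 := base_odd_moves d g hg hodd hgC (zetaG d) (Or.inl rfl)
  rcases conj_involution_base d g hg (zetaG d) (Or.inl rfl) with h | h | h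
  · exact absurd h h1
  · have := isConj_conj' g (zetaG d)
    rw [h] at this
    exact this.symm
  · have := isConj_conj' g (zetaG d)
    rw [h] at this
    exact (this.trans (isConj_b'G_bG d)).symm

/-- An odd-order element of `N_G(U)` outside `C_G(U)` acts fixed-point-freely on `U`. -/
theorem base_odd_fix_free (g : G) (hg : g ∈ normalizer ((up d.base : Subgroup G) : Set G))
    (hodd : Odd (orderOf g)) (hgC : g ∉ centralizer ((up d.base : Subgroup G) : Set G))
    (u : G) (hu : u ∈ up d.base) (hfix : g * u * g⁻¹ = u) : u = 1 := by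
  have : Fact (Nat.Prime 2) := ⟨Nat.prime_two⟩
  by_contra hne
  have hp : IsPGroup 2 (up d.base : Subgroup G) := S.2.to_le (up_le _)
  obtain ⟨k, hk⟩ := (IsPGroup.iff_orderOf.mp hp) ⟨u, hu⟩
  rw [Subgroup.orderOf_mk] at hk
  have hk0 : k ≠ 0 := by
    rintro rfl
    rw [pow_zero, orderOf_eq_one_iff] at hk
    exact hne hk
  obtain ⟨j, rfl⟩ : ∃ j, k = j + 1 := ⟨k - 1, by omega⟩
  set v := u ^ 2 ^ j with hv
  have hvU : v ∈ up d.base := pow_mem hu _
  have hv2 : v * v = 1 := by
    rw [hv, ← pow_two, ← pow_mul, ← pow_succ, ← hk, pow_orderOf_eq_one]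
  have hv1 : v ≠ 1 := by
    apply pow_ne_one_of_lt_orderOf (by positivity)
    rw [hk]
    exact Nat.pow_lt_pow_right (by norm_num) (by omega)
  have hvfix : g * v * g⁻¹ = v := by
    rw [hv, ← conj_pow, hfix]
  exact base_odd_moves d g hg hodd hgC v
    (involution_base d v hvU hv2 hv1) hvfix

/-- `U = [U, g]` for an odd-order element `g ∈ N_G(U) \ C_G(U)`. -/
theorem base_odd_surj (g : G) (hg : g ∈ normalizer ((up d.base : Subgroup G) : Set G))
    (hodd : Odd (orderOf g)) (hgC : g ∉ centralizer ((up d.base : Subgroup G) : Set G))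
    (u : G) (hu : u ∈ up d.base) : ∃ u' ∈ up d.base, u = u'⁻¹ * (g * u' * g⁻¹) := by
  let f : ↥(up d.base : Subgroup G) → ↥(up d.base : Subgroup G) := fun w =>
    ⟨(w : G)⁻¹ * (g * w * g⁻¹), mul_mem (inv_mem w.2) ((mem_normalizer_iff.mp hg w).mp w.2)⟩
  have hinj : Function.Injective f := by
    intro v w hvw
    have h1 : (v : G)⁻¹ * (g * v * g⁻¹) = (w : G)⁻¹ * (g * w * g⁻¹) := congrArg Subtype.val hvw
    have h2 : g * ((w : G) * (v : G)⁻¹) * g⁻¹ = (w : G) * (v : G)⁻¹ := by
      calc g * ((w : G) * (v : G)⁻¹) * g⁻¹ = (g * w * g⁻¹) * (g * v * g⁻¹)⁻¹ := by group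
        _ = (w : G) * ((w : G)⁻¹ * (g * w * g⁻¹)) * (g * v * g⁻¹)⁻¹ := by group
        _ = (w : G) * ((v : G)⁻¹ * (g * v * g⁻¹)) * (g * v * g⁻¹)⁻¹ := by rw [h1]
        _ = (w : G) * (v : G)⁻¹ := by group
    have h3 := base_odd_fix_free d g hg hodd hgC _ (mul_mem w.2 (inv_mem v.2)) h2
    apply Subtype.ext
    exact (mul_inv_eq_one.mp h3).symm
  obtain ⟨u', hu'⟩ := (Finite.injective_iff_surjective.mp hinj) ⟨u, hu⟩
  exact ⟨u', u'.2, (congrArg Subtype.val hu').symm⟩

end Cfsg.Agent.Lib.H5.WS
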