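import Mathlib
import Cfsg.Agent.Lib.H5.WreathedOdd
import Cfsg.Agent.Lib.H5.WreathedFusion

/-!
# Odd-order elements of `N_G(V)`, `V = Q Z(S)`, in groups with a wreathed Sylow 2-subgroup
-/

set_option autoImplicit false

namespace Cfsg.Agent.Lib.H5.AZ

variable {X : Type*} [Group X]

/-- Stability: if `c = t⁻¹ α(t)` is fixed by the odd-order automorphism `α` and has `2`-power
order then `α t = t`. -/
theorem fix_of_stable [Finite X] (α : MulAut X) (hodd : Odd (orderOf α)) (t : X)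
    (hc : α (t⁻¹ * α t) = t⁻¹ * α t) (h2 : ∃ k : ℕ, (t⁻¹ * α t) ^ 2 ^ k = 1) : α t = t := by
  set c := t⁻¹ * α t with hcdef
  have hαt : α t = t * c := by rw [hcdef]; group
  have key : ∀ j : ℕ, (α ^ j) t = t * c ^ j := by
    intro j
    induction j with
    | zero => simp
    | succ j ih =>
      rw [pow_succ', MulAut.mul_apply, ih, map_mul, map_pow, hc, hαt, pow_succ']
      group
  have h1 := key (orderOf α)
  rw [pow_orderOf_eq_one, MulAut.one_apply] at h1
  have h3 : c ^ orderOf α = 1 := by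
    have : t * c ^ orderOf α = t * 1 := by rw [← h1, mul_one]
    exact mul_left_cancel this
  obtain ⟨k, hk⟩ := h2
  have hcop : Nat.Coprime (orderOf α) (2 ^ k) :=
    Nat.Coprime.pow_right k (Nat.Coprime.symm (Nat.coprime_two_left.mpr hodd))
  have h4 : orderOf c = 1 :=
    Nat.eq_one_of_dvd_coprimes hcop (orderOf_dvd_of_pow_eq_one h3) (orderOf_dvd_of_pow_eq_one hk)
  rw [orderOf_eq_one_iff] at h4
  rw [hαt, h4, mul_one]

end Cfsg.Agent.Lib.H5.AZ

namespace Cfsg.Agent.Lib.H5.WS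

open Subgroup Cfsg.Agent.Lib.H5 Cfsg.Agent.Lib.H5.SD Cfsg.Agent.Lib.H5.Wr Cfsg.Agent.Lib.H10

variable {G : Type*} [Group G] [Finite G] {S : Sylow 2 G} {n : ℕ} {x y z : ↥(S : Subgroup G)}
  (d : Gens ↥(S : Subgroup G) n x y z)
include d

/-- Elements of `Q ∩ U`. -/
theorem mem_quat_inf_base (Q' : Subgroup ↥(S : Subgroup G)) (hQ' : Nonempty (Q' ≃* QuaternionGroup 2))
    (r : G) (hr : r ∈ up Q' ⊓ up d.base) :
    ∃ c : ZMod (2 ^ n), 2 * (2 * c) = 0 ∧ r = ((wp n x y c (-c) : ↥(S : Subgroup G)) : G) := by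
  obtain ⟨α, β, hαβ, rfl⟩ := d.q8_eq_q8Sub Q' hQ'
  obtain ⟨hrQ, hrb⟩ := Subgroup.mem_inf.mp hr
  obtain ⟨_, ⟨a, b, rfl⟩, rfl⟩ := hrb
  have hq : wp n x y a b ∈ d.q8Sub α β hαβ := coe_mem_up_iff.mp hrQ
  rw [d.wp_mem_q8Sub] at hq
  obtain ⟨h1, rfl⟩ := hq
  exact ⟨a, h1, rfl⟩

/-- An odd-order element of `N_G(V)` outside `V C_G(V)` moves `Q ∩ U` out of `U`. -/
theorem exists_quat_moved {X : Subgroup ↥(S : Subgroup G)} (hG : Good n x y z X)
    (Q' : Subgroup ↥(S : Subgroup G)) (hQ' : Nonempty (Q' ≃* QuaternionGroup 2))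
    (hX : X = Q' ⊔ center ↥(S : Subgroup G)) (g : G)
    (hg : g ∈ normalizer ((up X : Subgroup G) : Set G)) (hodd : Odd (orderOf g))
    (hgM : g ∉ up X ⊔ centralizer ((up X : Subgroup G) : Set G)) :
    ∃ r ∈ up Q' ⊓ up d.base, g * r * g⁻¹ ∉ up d.base := by
  have : Fact (Nat.Prime 2) := ⟨Nat.prime_two⟩
  by_contra hcon
  push Not at hcon
  apply hgM
  apply le_sup_right (b := centralizer ((up X : Subgroup G) : Set G))
  have hα := AZ.odd_orderOf_conj hodd
  have h2h := two_hh (n := n) d.hn1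
  have hQX : Q' ≤ X := hX ▸ le_sup_left
  have hgQ : g ∈ normalizer ((up Q' : Subgroup G) : Set G) :=
    normalizer_good_le_quat d hG Q' hQ' hQX hg
  have hgZ : g ∈ centralizer ((up (center ↥(S : Subgroup G)) : Subgroup G) : Set G) :=
    mem_centralizer_of_odd_of_isPGroup d _ (isPGroup_mulAut_up_center d) g
      (normalizer_good_le_center d hG hg) (Nat.coprime_two_right.mpr hodd)
  have hS2 : ∀ s ∈ (S : Subgroup G), ∃ k : ℕ, s ^ 2 ^ k = 1 := by
    intro s hs
    obtain ⟨k, hk⟩ := (IsPGroup.iff_orderOf.mp S.2) ⟨s, hs⟩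
    rw [Subgroup.orderOf_mk] at hk
    exact ⟨k, by rw [← hk, pow_orderOf_eq_one]⟩
  -- `g` fixes `Q ∩ U` pointwise
  have hB : ∀ r ∈ up Q' ⊓ up d.base, (MulAut.conj g) r = r := by
    apply AutOdd.fix_of_fix_involutions (MulAut.conj g) hα (up Q' ⊓ up d.base)
    · rintro a ⟨-, ha⟩ b ⟨-, hb⟩
      obtain ⟨_, ⟨a1, a2, rfl⟩, rfl⟩ := ha
      obtain ⟨_, ⟨b1, b2, rfl⟩, rfl⟩ := hb
      exact congrArg Subtype.val (d.wp_comm a1 a2 b1 b2)
    · intro r hr
      rw [MulAut.conj_apply]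
      exact ⟨(mem_normalizer_iff.mp hgQ r).mp hr.1, hcon r hr⟩
    · intro r hr
      exact hS2 r (up_le _ hr.1)
    · intro r hr hsq
      rw [MulAut.conj_apply]
      obtain ⟨c, hc, rfl⟩ := mem_quat_inf_base d Q' hQ' r hr
      have h1 : wp n x y c (-c) * wp n x y c (-c) = 1 := Subtype.ext hsq
      rw [d.wp_sq, d.wp_eq_one_iff] at h1
      have hcen : ((wp n x y c (-c) : ↥(S : Subgroup G)) : G) ∈ up (center ↥(S : Subgroup G)) := by
        rw [coe_mem_up_iff, d.mem_center_iff']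
        refine ⟨c, ?_⟩
        congr 1
        linear_combination -h1.1
      have := mem_centralizer_iff.mp hgZ _ hcen
      rw [← this, mul_inv_cancel_right]
  -- `g` fixes `Q` pointwise
  have hQfix : ∀ t ∈ up Q', (MulAut.conj g) t = t := by
    intro t ht
    by_cases htb : t ∈ up d.base
    · exact hB t ⟨ht, htb⟩
    · have hαt : (MulAut.conj g) t ∈ up Q' := by
        rw [MulAut.conj_apply]; exact (mem_normalizer_iff.mp hgQ t).mp ht
      have hαtb : (MulAut.conj g) t ∉ up d.base := by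
        intro h
        have h1 := hB _ ⟨hαt, h⟩
        exact htb ((MulAut.conj g).injective h1 ▸ h)
      have hc : t⁻¹ * (MulAut.conj g) t ∈ up Q' ⊓ up d.base := by
        refine Subgroup.mem_inf.mpr ⟨mul_mem (inv_mem ht) hαt, ?_⟩
        have htS := up_le Q' ht
        have hαtS := up_le Q' hαt
        have h1 : (⟨t, htS⟩ : ↥(S : Subgroup G)) ∉ d.base := fun h => htb ⟨_, h, rfl⟩
        have h2 : (⟨(MulAut.conj g) t, hαtS⟩ : ↥(S : Subgroup G)) ∉ d.base :=
          fun h => hαtb ⟨_, h, rfl⟩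
        have h3 : (⟨t, htS⟩ : ↥(S : Subgroup G))⁻¹ * ⟨(MulAut.conj g) t, hαtS⟩ ∈ d.base := by
          rw [mul_mem_iff_of_index_two d.index_base, inv_mem_iff]
          exact ⟨fun h => absurd h h1, fun h => absurd h h2⟩
        exact ⟨_, h3, rfl⟩
      exact AZ.fix_of_stable (MulAut.conj g) hα t (hB _ hc) (hS2 _ (up_le _ hc.1))
  -- hence `g` centralizes `V`
  rw [← zpowers_le, le_centralizer_iff, hX, up_sup]
  apply sup_le
  · intro t ht
    rw [mem_centralizer_iff]
    intro k hk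
    obtain ⟨j, rfl⟩ := mem_zpowers_iff.mp hk
    have h1 := hQfix t ht
    rw [MulAut.conj_apply] at h1
    have h2 : g * t = t * g := by
      calc g * t = (g * t * g⁻¹) * g := by group
        _ = t * g := by rw [h1]
    exact ((Commute.zpow_left (show Commute g t from h2) j).eq)
  · rw [← le_centralizer_iff, zpowers_le]
    exact hgZ

/-- If `3` divides `|N_G(V) : V C_G(V)|` then `b` is fused to an involution outside `U`. -/
theorem isConj_b_t_of_odd {X : Subgroup ↥(S : Subgroup G)} (hG : Good n x y z X) (g : G)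
    (hg : g ∈ normalizer ((up X : Subgroup G) : Set G)) (hodd : Odd (orderOf g))
    (hgM : g ∉ up X ⊔ centralizer ((up X : Subgroup G) : Set G)) :
    IsConj (bG d) (tG d) := by
  have h1 := hh_eq (n := n) d.hn
  have h2 := two_hh (n := n) d.hn1
  obtain ⟨Q', hQ', hX⟩ := d.good_eq_sup hG
  obtain ⟨r, hr, hrg⟩ := exists_quat_moved d hG Q' hQ' hX g hg hodd hgM
  obtain ⟨c, hc, rfl⟩ := mem_quat_inf_base d Q' hQ' r hr
  have hgZ := normalizer_good_le_center d hG hg
  have hZb : up (center ↥(S : Subgroup G)) ≤ up d.base := by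
    apply up_mono
    intro k hk
    obtain ⟨a, rfl⟩ := (d.mem_center_iff' k).mp hk
    exact d.wp_mem_base a a
  -- `2c = hh`
  have h2c : 2 * c = hh n := by
    rcases two_torsion d.hn1 _ hc with h | h
    · exfalso
      apply hrg
      apply hZb
      apply (mem_normalizer_iff.mp hgZ _).mp
      rw [coe_mem_up_iff, d.mem_center_iff']
      refine ⟨c, ?_⟩
      congr 1
      linear_combination -h
    · exact h
  -- `b = r ω`
  have hb : bG d = ((wp n x y c (-c) : ↥(S : Subgroup G)) : G) *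
      ((wp n x y c c : ↥(S : Subgroup G)) : G) := by
    have : wp n x y (hh n) 0 = wp n x y c (-c) * wp n x y c c := by
      rw [← d.wp_add]; congr 1
      · linear_combination -h2c
      · ring
    exact congrArg Subtype.val this
  have hω : g * ((wp n x y c c : ↥(S : Subgroup G)) : G) * g⁻¹ ∈ up d.base := by
    apply hZb
    apply (mem_normalizer_iff.mp hgZ _).mp
    rw [coe_mem_up_iff, d.mem_center_iff']
    exact ⟨c, rfl⟩
  have hbX : bG d ∈ up X := by
    refine ⟨_, (hG.2.2 _ _).mpr ?_, rfl⟩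
    linear_combination h2
  have hsX : g * bG d * g⁻¹ ∈ up X := (mem_normalizer_iff.mp hg _).mp hbX
  have hsS : g * bG d * g⁻¹ ∈ (S : Subgroup G) := up_le X hsX
  have hsb : g * bG d * g⁻¹ ∉ up d.base := by
    intro h
    apply hrg
    have : g * ((wp n x y c (-c) : ↥(S : Subgroup G)) : G) * g⁻¹ =
        (g * bG d * g⁻¹) * (g * ((wp n x y c c : ↥(S : Subgroup G)) : G) * g⁻¹)⁻¹ := by
      rw [hb]; group
    rw [this]
    exact mul_mem h (inv_mem hω)
  have hs2 : orderOf (⟨g * bG d * g⁻¹, hsS⟩ : ↥(S : Subgroup G)) = 2 := by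
    rw [← Subgroup.orderOf_coe, orderOf_conj'', orderOf_bG]
  have hconj : IsConj (bG d) (g * bG d * g⁻¹) := isConj_conj' g _
  rcases (d.orderOf_eq_two_iff _).mp hs2 with (h | h | h) | ⟨a, h⟩
  · exact absurd ⟨_, d.wp_mem_base (hh n) 0, congrArg Subtype.val h.symm⟩ hsb
  · exact absurd ⟨_, d.wp_mem_base 0 (hh n), congrArg Subtype.val h.symm⟩ hsb
  · exact absurd ⟨_, d.wp_mem_base (hh n) (hh n), congrArg Subtype.val h.symm⟩ hsb
  · have h3 : IsConj (tG d) (g * bG d * g⁻¹) := by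
      have := isConj_coe' (d.isConj_z a)
      rw [← h] at this
      exact this
    exact hconj.trans h3.symm

end Cfsg.Agent.Lib.H5.WS
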