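import Mathlib
import Cfsg.Prelude.Def_OddOrderLocal
import Cfsg.Agent.Lib.H5.AutOdd
import Cfsg.Agent.Lib.H5.Q8Aut
import Cfsg.Agent.Lib.H5.Homocyclic
import Cfsg.Agent.Lib.H5.WreathedOddV

/-!
# Metacyclic 2-groups with an automorphism of odd order (helper5)
-/

set_option autoImplicit false

namespace Cfsg.Agent.Lib.H5.MC2

open Subgroup

/-- A finite cyclic group of exponent two has order at most two. -/
theorem card_le_two_of_cyclic {A : Type*} [Group A] [Finite A] [IsCyclic A]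
    (h : ∀ a : A, a * a = 1) : Nat.card A ≤ 2 := by
  obtain ⟨g, hg⟩ := IsCyclic.exists_generator (α := A)
  rw [← orderOf_eq_card_of_forall_mem_zpowers hg]
  apply Nat.le_of_dvd (by norm_num)
  apply orderOf_dvd_of_pow_eq_one
  rw [pow_two]
  exact h g

/-- Elementary abelian 2-subgroups of a metacyclic group have order at most four. -/
theorem card_le_four_of_exp_two {X : Type*} [Group X] [Finite X] (hm : Cfsg.IsMetacyclic X)
    (E : Subgroup X) (hE : ∀ t ∈ E, t * t = 1) : Nat.card E ≤ 4 := by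
  obtain ⟨N, hN, hNc, hQc⟩ := hm
  let f : E →* X ⧸ N := (QuotientGroup.mk' N).comp E.subtype
  have h1 := f.ker.card_mul_index
  rw [Subgroup.index_ker] at h1
  have hr : Nat.card f.range ≤ 2 := by
    have : IsCyclic f.range := Subgroup.isCyclic _
    apply card_le_two_of_cyclic
    rintro ⟨_, ⟨t, rfl⟩⟩
    apply Subtype.ext
    show f t * f t = 1
    rw [← map_mul]
    have : t * t = 1 := Subtype.ext (hE t t.2)
    rw [this, map_one]
  have hk : Nat.card f.ker ≤ 2 := by
    let g : f.ker →* N :=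
      { toFun := fun t => ⟨((t : E) : X), by
          have := t.2
          rw [MonoidHom.mem_ker] at this
          exact (QuotientGroup.eq_one_iff _).mp this⟩
        map_one' := rfl
        map_mul' := fun _ _ => rfl }
    have hg : Function.Injective g := by
      intro a b hab
      have : ((a : E) : X) = ((b : E) : X) := congrArg (fun u : N => (u : X)) hab
      exact Subtype.ext (Subtype.ext this)
    have : IsCyclic f.ker := isCyclic_of_injective g hg
    apply card_le_two_of_cyclic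
    intro t
    apply Subtype.ext
    apply Subtype.ext
    exact hE _ (t : E).2
  calc Nat.card E = Nat.card f.ker * Nat.card f.range := h1.symm
    _ ≤ 2 * 2 := Nat.mul_le_mul hk hr
    _ = 4 := by norm_num

/-- Quotients of metacyclic groups are metacyclic. -/
theorem isMetacyclic_quotient {X : Type*} [Group X] (hm : Cfsg.IsMetacyclic X)
    (K : Subgroup X) [K.Normal] : Cfsg.IsMetacyclic (X ⧸ K) := by
  obtain ⟨N, hN, hNc, hQc⟩ := hm
  have hsurj := QuotientGroup.mk'_surjective K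
  have hNn : (N.map (QuotientGroup.mk' K)).Normal := hN.map _ hsurj
  refine ⟨N.map (QuotientGroup.mk' K), hNn, ?_, ?_⟩
  · let g : N →* N.map (QuotientGroup.mk' K) := (QuotientGroup.mk' K).subgroupMap N
    exact isCyclic_of_surjective g ((QuotientGroup.mk' K).subgroupMap_surjective N)
  · let h : X ⧸ N →* (X ⧸ K) ⧸ N.map (QuotientGroup.mk' K) :=
      QuotientGroup.map N (N.map (QuotientGroup.mk' K)) (QuotientGroup.mk' K)
        (Subgroup.le_comap_map _ _)
    apply isCyclic_of_surjective h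
    intro q
    obtain ⟨q', rfl⟩ := QuotientGroup.mk'_surjective _ q
    obtain ⟨x, rfl⟩ := hsurj q'
    exact ⟨QuotientGroup.mk' N x, rfl⟩

/-- The homomorphism `i ↦ x ^ i` from `ZMod N` when `x ^ N = 1`. -/
def powHom {X : Type*} [Group X] (x : X) (N : ℕ) [NeZero N] (hx : x ^ N = 1) :
    Multiplicative (ZMod N) →* X where
  toFun i := x ^ (Multiplicative.toAdd i).val
  map_one' := by simp
  map_mul' i j := by
    rw [toAdd_mul, ZMod.val_add, ← pow_eq_pow_mod _ hx, pow_add]

theorem powHom_apply {X : Type*} [Group X] (x : X) (N : ℕ) [NeZero N] (hx : x ^ N = 1)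
    (i : Multiplicative (ZMod N)) : powHom x N hx i = x ^ (Multiplicative.toAdd i).val := rfl

theorem powHom_natCast {X : Type*} [Group X] (x : X) (N : ℕ) [NeZero N] (hx : x ^ N = 1)
    (k : ℕ) : powHom x N hx (Multiplicative.ofAdd (k : ZMod N)) = x ^ k := by
  rw [powHom_apply, toAdd_ofAdd, ZMod.val_natCast, ← pow_eq_pow_mod _ hx]

/-- The involution of a cyclic 2-group. -/
theorem eq_pow_of_mem_zpowers {X : Type*} [Group X] [Finite X] (x : X) (n : ℕ) (hn : n ≠ 0)
    (hx : orderOf x = 2 ^ n) (u : X) (hu : u ∈ zpowers x) (hu1 : u ≠ 1) (huu : u * u = 1) :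
    u = x ^ 2 ^ (n - 1) := by
  obtain ⟨k, hk⟩ := (mem_powers_iff_mem_zpowers (x := x)).mpr hu
  replace hk : x ^ k = u := hk
  subst hk
  have h1 : x ^ (2 * k) = 1 := by rw [two_mul, pow_add]; exact huu
  have h2 : 2 ^ n ∣ 2 * k := hx ▸ orderOf_dvd_of_pow_eq_one h1
  have e : 2 ^ n = 2 * 2 ^ (n - 1) := by
    rw [← pow_succ']; congr 1; omega
  rw [e] at h2
  obtain ⟨m, hm⟩ := (Nat.mul_dvd_mul_iff_left (by norm_num : 0 < 2)).mp h2
  have ht2 : (x ^ 2 ^ (n - 1)) ^ 2 = 1 := by
    rw [← pow_mul, mul_comm, ← e, ← hx, pow_orderOf_eq_one]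
  rcases Nat.even_or_odd' m with ⟨r, hr | hr⟩
  · exfalso
    apply hu1
    rw [hm, hr, pow_mul, pow_mul, ht2, one_pow]
  · rw [hm, hr, pow_mul, pow_succ, pow_mul, ht2, one_pow, one_mul]

/-- Abelian metacyclic 2-groups with a nontrivial automorphism of odd order are homocyclic of
rank two. -/
theorem abelian_case {X : Type*} [CommGroup X] [Finite X] (hX : IsPGroup 2 X)
    (hm : Cfsg.IsMetacyclic X) (α : MulAut X) (hodd : Odd (orderOf α)) (hne : α ≠ 1) :
    ∃ n : ℕ, n ≠ 0 ∧ (∃ x : X, orderOf x = 2 ^ n ∧ zpowers x ⊓ zpowers (α x) = ⊥) ∧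
      (∀ g : X, g ^ 2 ^ n = 1) ∧
      (∀ u v : X, u ≠ 1 → u * u = 1 → v ≠ 1 → v * v = 1 → ∃ k : ℕ, (α ^ k) u = v) ∧
      Nonempty (X ≃* Multiplicative (ZMod (2 ^ n)) × Multiplicative (ZMod (2 ^ n))) := by
  have : Fact (Nat.Prime 2) := ⟨Nat.prime_two⟩
  -- the subgroup of elements of square one
  set E : Subgroup X := (powMonoidHom 2 : X →* X).ker with hE
  have hmemE : ∀ t : X, t ∈ E ↔ t * t = 1 := by
    intro t
    rw [hE, MonoidHom.mem_ker, powMonoidHom_apply, pow_two]
  have hE4 : Nat.card E ≤ 4 := card_le_four_of_exp_two hm E (fun t ht => (hmemE t).mp ht)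
  -- the list of involutions
  have hlist : ∀ s : X, s * s = 1 → α s ≠ s → ∀ u : X, u * u = 1 →
      u = 1 ∨ u = s ∨ u = α s ∨ u = s * α s := by
    intro s hs hαs u hu
    have hs1 : s ≠ 1 := by
      rintro rfl
      exact hαs (map_one α)
    have hαs1 : α s ≠ 1 := by
      intro h
      apply hs1
      exact α.injective (by rw [h, map_one])
    have hαss : α s * α s = 1 := by rw [← map_mul, hs, map_one]
    apply R2.mem_of_card_le_four hE4 (one_mem E) ((hmemE s).mpr hs) ((hmemE _).mpr hαss)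
      ((hmemE _).mpr (by rw [mul_mul_mul_comm, hs, hαss, one_mul])) ((hmemE u).mpr hu)
      hs1.symm hαs1.symm
    · intro h
      apply hαs
      have : α s = s⁻¹ := (eq_inv_of_mul_eq_one_right h.symm)
      rw [this]
      exact (eq_inv_of_mul_eq_one_left hs).symm
    · exact fun h => hαs h.symm
    · intro h
      apply hαs1
      calc α s = s⁻¹ * (s * α s) := by group
        _ = 1 := by rw [← h, inv_mul_cancel]
    · intro h
      apply hs1
      calc s = (s * α s) * (α s)⁻¹ := by group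
        _ = 1 := by rw [← h, mul_inv_cancel]
  -- some involution is moved
  obtain ⟨t₀, ht₀, hαt₀⟩ : ∃ t₀ : X, t₀ * t₀ = 1 ∧ α t₀ ≠ t₀ := by
    by_contra hcon
    push Not at hcon
    apply hne
    ext g
    rw [MulAut.one_apply]
    exact AutOdd.fix_of_fix_involutions α hodd ⊤ (fun a _ b _ => mul_comm a b)
      (fun g _ => mem_top _) (fun g _ => by
        obtain ⟨k, hk⟩ := (IsPGroup.iff_orderOf.mp hX) g
        exact ⟨k, by rw [← hk, pow_orderOf_eq_one]⟩)
      (fun g _ hg => hcon g hg) g (mem_top g)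
  have ht₀1 : t₀ ≠ 1 := by
    rintro rfl
    exact hαt₀ (map_one α)
  have hαt₀' : α t₀ * α t₀ = 1 := by rw [← map_mul, ht₀, map_one]
  -- `α² t₀ = t₀ α t₀`
  have ht₂ : α (α t₀) = t₀ * α t₀ := by
    have h1 : α (α t₀) * α (α t₀) = 1 := by rw [← map_mul, hαt₀', map_one]
    rcases hlist t₀ ht₀ hαt₀ _ h1 with h | h | h | h
    · exfalso
      apply ht₀1
      apply α.injective
      apply α.injective
      rw [h, map_one, map_one]
    · exact absurd (AutOdd.fix_of_sq_fix α hodd t₀ h) hαt₀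
    · exact absurd (α.injective h) hαt₀
    · exact h
  have ht₃ : α (α (α t₀)) = t₀ := by
    rw [ht₂, map_mul, ht₂, mul_comm t₀ (α t₀), ← mul_assoc, hαt₀', one_mul]
  -- every involution is in the orbit of `t₀`
  have horb : ∀ u : X, u ≠ 1 → u * u = 1 → ∃ i : ℕ, (α ^ i) t₀ = u := by
    intro u hu1 hu
    rcases hlist t₀ ht₀ hαt₀ u hu with h | h | h | h
    · exact absurd h hu1
    · exact ⟨0, by rw [pow_zero, MulAut.one_apply, h]⟩
    · exact ⟨1, by rw [pow_one, h]⟩
    · exact ⟨2, by rw [pow_two, MulAut.mul_apply, ht₂, h]⟩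
  have hper : ∀ i : ℕ, (α ^ (i + 3)) t₀ = (α ^ i) t₀ := by
    intro i
    have h3 : (α ^ 3) t₀ = t₀ := by
      have e : α ^ 3 = α * (α * α) := by rw [pow_succ', pow_two]
      rw [e, MulAut.mul_apply, MulAut.mul_apply]
      exact ht₃
    rw [pow_add, MulAut.mul_apply, h3]
  have hper' : ∀ j m : ℕ, (α ^ (j + 3 * m)) t₀ = (α ^ j) t₀ := by
    intro j m
    induction m with
    | zero => simp
    | succ m ih => rw [show j + 3 * (m + 1) = (j + 3 * m) + 3 by ring, hper, ih]
  have htrans : ∀ u v : X, u ≠ 1 → u * u = 1 → v ≠ 1 → v * v = 1 → ∃ k : ℕ, (α ^ k) u = v := by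
    intro u v hu1 hu hv1 hv
    obtain ⟨i, rfl⟩ := horb u hu1 hu
    obtain ⟨j, rfl⟩ := horb v hv1 hv
    refine ⟨j + 2 * i, ?_⟩
    rw [← MulAut.mul_apply, ← pow_add, show j + 2 * i + i = j + 3 * i by ring]
    exact hper' j i
  have hmove : ∀ u : X, u ≠ 1 → u * u = 1 → α u ≠ u := by
    intro u hu1 hu h
    obtain ⟨i, rfl⟩ := horb u hu1 hu
    apply hαt₀
    have : (α ^ i) (α t₀) = (α ^ i) t₀ := by
      rw [← MulAut.mul_apply, ← pow_succ, pow_succ', MulAut.mul_apply]
      exact h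
    exact (α ^ i).injective this
  -- an element of maximal order
  obtain ⟨x, hxmax⟩ := Finite.exists_max (fun g : X => orderOf g)
  obtain ⟨n, hxn⟩ := (IsPGroup.iff_orderOf.mp hX) x
  have hn0 : n ≠ 0 := by
    rintro rfl
    have h1 := hxmax t₀
    have h2 : orderOf t₀ = 2 := orderOf_eq_prime (by rw [pow_two]; exact ht₀) ht₀1
    simp only [h2, hxn, pow_zero] at h1
    omega
  have hexp : ∀ g : X, g ^ 2 ^ n = 1 := by
    intro g
    obtain ⟨j, hj⟩ := (IsPGroup.iff_orderOf.mp hX) g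
    have h1 := hxmax g
    simp only [hj, hxn] at h1
    have hjn : j ≤ n := (Nat.pow_le_pow_iff_right (by norm_num)).mp h1
    apply orderOf_dvd_iff_pow_eq_one.mp
    rw [hj]
    exact pow_dvd_pow 2 hjn
  have e2 : 2 ^ n = 2 ^ (n - 1) * 2 := by
    rw [← pow_succ]; congr 1; omega
  set t : X := x ^ 2 ^ (n - 1) with ht
  have htt : t * t = 1 := by
    rw [ht, ← pow_two, ← pow_mul, ← e2]
    exact hexp x
  have ht1 : t ≠ 1 := by
    intro h
    have h1 : orderOf x ∣ 2 ^ (n - 1) := orderOf_dvd_of_pow_eq_one h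
    rw [hxn] at h1
    have := (Nat.pow_dvd_pow_iff_le_right (by norm_num : 1 < 2)).mp h1
    omega
  have hαx : orderOf (α x) = 2 ^ n := by rw [MulEquiv.orderOf_eq, hxn]
  have hαt : α t = (α x) ^ 2 ^ (n - 1) := by rw [ht, map_pow]
  have hdisj : zpowers x ⊓ zpowers (α x) = ⊥ := by
    rw [eq_bot_iff]
    rintro g ⟨hgx, hgy⟩
    rw [mem_bot]
    by_contra hg1
    obtain ⟨j, hj⟩ := (IsPGroup.iff_orderOf.mp hX) g
    have hj0 : j ≠ 0 := by
      rintro rfl
      rw [pow_zero, orderOf_eq_one_iff] at hj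
      exact hg1 hj
    have e3 : 2 ^ j = 2 ^ (j - 1) * 2 := by
      rw [← pow_succ]; congr 1; omega
    set u : X := g ^ 2 ^ (j - 1) with hu
    have huu : u * u = 1 := by
      rw [hu, ← pow_two, ← pow_mul, ← e3, ← hj, pow_orderOf_eq_one]
    have hu1 : u ≠ 1 := by
      intro h
      have h1 : orderOf g ∣ 2 ^ (j - 1) := orderOf_dvd_of_pow_eq_one h
      rw [hj] at h1
      have := (Nat.pow_dvd_pow_iff_le_right (by norm_num : 1 < 2)).mp h1
      omega
    have h1 := eq_pow_of_mem_zpowers x n hn0 hxn u (pow_mem hgx _) hu1 huu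
    have h2 := eq_pow_of_mem_zpowers (α x) n hn0 hαx u (pow_mem hgy _) hu1 huu
    apply hmove t ht1 htt
    rw [hαt, ← h2, h1]
  -- `X = ⟨x⟩ ⟨α x⟩`
  have hgen : ∀ j : ℕ, ∀ g : X, g ^ 2 ^ j = 1 → g ∈ zpowers x ⊔ zpowers (α x) := by
    intro j
    induction j with
    | zero =>
      intro g hg
      rw [pow_zero, pow_one] at hg
      rw [hg]
      exact one_mem _
    | succ j ih =>
      intro g hg
      by_cases hjn : n ≤ j
      · apply ih
        have : 2 ^ n ∣ 2 ^ j := pow_dvd_pow 2 hjn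
        obtain ⟨c, hc⟩ := this
        rw [hc, pow_mul, hexp, one_pow]
      · have hjn' : j < n := by omega
        set u : X := g ^ 2 ^ j with hu
        have huu : u * u = 1 := by
          rw [hu, ← pow_two, ← pow_mul, ← pow_succ]
          exact hg
        -- `u = h₀ ^ 2 ^ (n - 1)` with `h₀ ∈ H`
        have hh₀ : ∃ h₀ ∈ zpowers x ⊔ zpowers (α x), h₀ ^ 2 ^ (n - 1) = u := by
          rcases hlist t htt (hmove t ht1 htt) u huu with h | h | h | h
          · exact ⟨1, one_mem _, by rw [one_pow, h]⟩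
          · exact ⟨x, le_sup_left (a := zpowers x) (mem_zpowers x), by rw [h]⟩
          · exact ⟨α x, le_sup_right (b := zpowers (α x)) (mem_zpowers _), by rw [h, hαt]⟩
          · refine ⟨x * α x, mul_mem (le_sup_left (a := zpowers x) (mem_zpowers x))
              (le_sup_right (b := zpowers (α x)) (mem_zpowers _)), ?_⟩
            rw [mul_pow, h, hαt]
        obtain ⟨h₀, hh₀H, hh₀u⟩ := hh₀
        set h₁ : X := h₀ ^ 2 ^ (n - 1 - j) with hh₁
        have hh₁H : h₁ ∈ zpowers x ⊔ zpowers (α x) := pow_mem hh₀H _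
        have hh₁u : h₁ ^ 2 ^ j = u := by
          rw [hh₁, ← pow_mul, ← pow_add, ← hh₀u]
          congr 2
          omega
        have h3 : (g * h₁⁻¹) ^ 2 ^ j = 1 := by
          rw [mul_pow, inv_pow, hh₁u, ← hu, mul_inv_cancel]
        have h4 := ih _ h3
        have : g = g * h₁⁻¹ * h₁ := by group
        rw [this]
        exact mul_mem h4 hh₁H
  have htop : ∀ g : X, g ∈ zpowers x ⊔ zpowers (α x) := fun g => hgen n g (hexp g)
  -- the isomorphism
  have hne2 : NeZero (2 ^ n) := ⟨by positivity⟩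
  have hx1 : x ^ 2 ^ n = 1 := hexp x
  have hy1 : (α x) ^ 2 ^ n = 1 := hexp _
  let Φ : Multiplicative (ZMod (2 ^ n)) × Multiplicative (ZMod (2 ^ n)) →* X :=
    (powHom x (2 ^ n) hx1).coprod (powHom (α x) (2 ^ n) hy1)
  have hinj1 : ∀ (w : X) (hw : w ^ 2 ^ n = 1), orderOf w = 2 ^ n →
      ∀ i : Multiplicative (ZMod (2 ^ n)), powHom w (2 ^ n) hw i = 1 → i = 1 := by
    intro w hw how i hi
    rw [powHom_apply] at hi
    have h1 : orderOf w ∣ (Multiplicative.toAdd i).val := orderOf_dvd_of_pow_eq_one hi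
    rw [how] at h1
    have h2 : (Multiplicative.toAdd i).val < 2 ^ n := ZMod.val_lt _
    have h3 : (Multiplicative.toAdd i).val = 0 := Nat.eq_zero_of_dvd_of_lt h1 h2
    have h4 : Multiplicative.toAdd i = 0 := (ZMod.val_eq_zero _).mp h3
    exact Multiplicative.toAdd.injective h4
  have hΦinj : Function.Injective Φ := by
    rw [injective_iff_map_eq_one]
    rintro ⟨i, j⟩ hij
    have h1 : powHom x (2 ^ n) hx1 i * powHom (α x) (2 ^ n) hy1 j = 1 := hij
    have h2 : powHom x (2 ^ n) hx1 i ∈ zpowers x ⊓ zpowers (α x) := by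
      refine ⟨?_, ?_⟩
      · rw [powHom_apply]
        exact Subgroup.pow_mem _ (mem_zpowers x) _
      · have : powHom x (2 ^ n) hx1 i = (powHom (α x) (2 ^ n) hy1 j)⁻¹ :=
          eq_inv_of_mul_eq_one_left h1
        rw [this, powHom_apply]
        exact Subgroup.inv_mem _ (Subgroup.pow_mem _ (mem_zpowers (α x)) _)
    rw [hdisj, mem_bot] at h2
    have hi := hinj1 x hx1 hxn i h2
    rw [h2, one_mul] at h1
    have hj := hinj1 (α x) hy1 hαx j h1
    rw [hi, hj]
    rfl
  have hΦsurj : Function.Surjective Φ := by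
    intro g
    obtain ⟨a, ha, b, hb, rfl⟩ := Subgroup.mem_sup.mp (htop g)
    obtain ⟨k, hk⟩ := (mem_powers_iff_mem_zpowers (x := x)).mpr ha
    replace hk : x ^ k = a := hk
    obtain ⟨l, hl⟩ := (mem_powers_iff_mem_zpowers (x := α x)).mpr hb
    replace hl : α x ^ l = b := hl
    subst hk hl
    refine ⟨(Multiplicative.ofAdd (k : ZMod (2 ^ n)), Multiplicative.ofAdd (l : ZMod (2 ^ n))), ?_⟩
    show powHom x (2 ^ n) hx1 (Multiplicative.ofAdd (k : ZMod (2 ^ n))) *
      powHom (α x) (2 ^ n) hy1 (Multiplicative.ofAdd (l : ZMod (2 ^ n))) = _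
    rw [powHom_natCast, powHom_natCast]
  exact ⟨n, hn0, ⟨x, hxn, hdisj⟩, hexp, htrans,
    ⟨(MulEquiv.ofBijective Φ ⟨hΦinj, hΦsurj⟩).symm⟩⟩

end Cfsg.Agent.Lib.H5.MC2
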