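import Mathlib
import Cfsg.Prelude.Def_Transfer
import Cfsg.Agent.Lib.H5.SignPeel
import Cfsg.Agent.Lib.H5.SubgroupCard
import Cfsg.Agent.Lib.H5.Metacyclic2
import Cfsg.Agent.Lib.H6.PResidual
import Cfsg.Agent.Lib.H6.PResidual2
import Cfsg.Agent.Lib.H16.ThompsonTransfer
import Cfsg.Agent.Lib.H19.ProdCard

/-!
# A consequence of Thompson transfer: splitting off a dihedral complement (helper5)
-/

set_option autoImplicit false

universe u

namespace Cfsg.Agent.Lib.H5.TD

open Subgroup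

/-- In a dihedral group `D` with a cyclic subgroup `C` of index two, all elements outside `C` are
involutions. -/
theorem outside_involution {G : Type*} [Group G] (D C : Subgroup G) (n : ℕ) (hn : 2 ≤ n)
    (e : ↥D ≃* DihedralGroup n) (hCD : C ≤ D) (hC : IsCyclic ↥C) (hCi : C.relIndex D = 2) :
    ∀ y ∈ D, y ∉ C → orderOf y = 2 := by
  intro y hyD hyC
  have hne : NeZero n := ⟨by omega⟩
  have hcardD : Nat.card D = 2 * n := by rw [Nat.card_congr e.toEquiv, DihedralGroup.nat_card]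
  have hcardC : Nat.card C = n := by
    have := card_mul_relIndex_of_le hCD
    rw [hCi, hcardD] at this
    omega
  obtain ⟨⟨g, hgC⟩, hgen⟩ := hC.exists_generator
  have hog : orderOf g = n := by
    have := orderOf_eq_card_of_forall_mem_zpowers hgen
    rw [Subgroup.orderOf_mk] at this
    rw [this, hcardC]
  have hoy : orderOf (e ⟨y, hyD⟩) = orderOf y := by
    rw [MulEquiv.orderOf_eq, Subgroup.orderOf_mk]
  have hogD : orderOf (e ⟨g, hCD hgC⟩) = n := by
    rw [MulEquiv.orderOf_eq, Subgroup.orderOf_mk, hog]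
  have hrmem : ∀ i : ZMod n, (DihedralGroup.r i : DihedralGroup n) ∈ zpowers (DihedralGroup.r 1) := by
    intro i
    rw [Subgroup.mem_zpowers_iff]
    refine ⟨(i.val : ℤ), ?_⟩
    rw [zpow_natCast, DihedralGroup.r_one_pow, ZMod.natCast_zmod_val]
  rw [← hoy]
  rcases hey : e ⟨y, hyD⟩ with i | i
  · -- a rotation
    rcases heg : e ⟨g, hCD hgC⟩ with j | j
    · exfalso
      -- `r i` is a power of `r j`
      have hle : zpowers (DihedralGroup.r j : DihedralGroup n) ≤ zpowers (DihedralGroup.r 1) := by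
        rw [Subgroup.zpowers_le]; exact hrmem j
      have heq : zpowers (DihedralGroup.r j : DihedralGroup n) = zpowers (DihedralGroup.r 1) := by
        apply Subgroup.eq_of_le_of_card_ge hle
        rw [Nat.card_zpowers, Nat.card_zpowers, DihedralGroup.orderOf_r_one, ← heg, hogD]
      have hri := hrmem i
      rw [← heq, Subgroup.mem_zpowers_iff] at hri
      obtain ⟨t, ht⟩ := hri
      rw [← heg, ← hey, ← map_zpow] at ht
      have h3 := e.injective ht
      apply hyC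
      have h4 : g ^ t = y := by
        have := congrArg Subtype.val h3
        rw [Subgroup.coe_zpow] at this
        exact this
      rw [← h4]
      exact C.zpow_mem hgC t
    · -- then `n = 2`
      have hn2 : n = 2 := by
        rw [← hogD, heg, DihedralGroup.orderOf_sr]
      subst hn2
      have hi0 : i ≠ 0 := by
        intro h
        apply hyC
        rw [h, DihedralGroup.r_zero] at hey
        have h3 : (⟨y, hyD⟩ : D) = 1 := e.injective (hey.trans (map_one e).symm)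
        have h4 := congrArg Subtype.val h3
        rw [show y = 1 from h4]
        exact C.one_mem
      rw [DihedralGroup.orderOf_r]
      have hi1 : i.val = 1 := by
        have h1 : i.val < 2 := ZMod.val_lt i
        have h2 : i.val ≠ 0 := fun h => hi0 ((ZMod.val_eq_zero i).mp h)
        omega
      rw [hi1]
      norm_num
  · exact DihedralGroup.orderOf_sr i

/-- Two `2`-subgroups of odd relative index in `L` have the same order. -/
theorem card_eq_of_sylowIn {G : Type*} [Group G] [Finite G] {L T T' : Subgroup G}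
    (hTL : T ≤ L) (hT2 : IsPGroup 2 T) (hTsyl : ¬ 2 ∣ T.relIndex L)
    (hTL' : T' ≤ L) (hT2' : IsPGroup 2 T') (hTsyl' : ¬ 2 ∣ T'.relIndex L) :
    Nat.card T' = Nat.card T := by
  have : Fact (Nat.Prime 2) := ⟨Nat.prime_two⟩
  obtain ⟨a, ha⟩ := IsPGroup.iff_card.mp hT2
  obtain ⟨b, hb⟩ := IsPGroup.iff_card.mp hT2'
  have h1 := card_mul_relIndex_of_le hTL
  have h2 := card_mul_relIndex_of_le hTL'
  rw [ha] at h1
  rw [hb] at h2
  have hc1 : Nat.Coprime (2 ^ a) (T'.relIndex L) :=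
    Nat.Coprime.pow_left a ((Nat.Prime.coprime_iff_not_dvd Nat.prime_two).mpr hTsyl')
  have hc2 : Nat.Coprime (2 ^ b) (T.relIndex L) :=
    Nat.Coprime.pow_left b ((Nat.Prime.coprime_iff_not_dvd Nat.prime_two).mpr hTsyl)
  have hd1 : 2 ^ a ∣ 2 ^ b * T'.relIndex L := by rw [h2, ← h1]; exact dvd_mul_right _ _
  have hd2 : 2 ^ b ∣ 2 ^ a * T.relIndex L := by rw [h1, ← h2]; exact dvd_mul_right _ _
  have hab : a ≤ b := (Nat.pow_dvd_pow_iff_le_right (by norm_num)).mp (hc1.dvd_of_dvd_mul_right hd1)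
  have hba : b ≤ a := (Nat.pow_dvd_pow_iff_le_right (by norm_num)).mp (hc2.dvd_of_dvd_mul_right hd2)
  rw [ha, hb, le_antisymm hab hba]

/-- **A consequence of Thompson transfer** (dihedral complement). -/
theorem main {G : Type u} [Group G] [Finite G] (L T S D C : Subgroup G)
    (hL : Cfsg.pResidual 2 ↥L = ⊤)
    (hTL : T ≤ L) (hT2 : IsPGroup 2 T) (hTsyl : ¬ 2 ∣ T.relIndex L)
    (hS2 : IsPGroup 2 S) (hSsyl : ¬ 2 ∣ S.index) (hTS : T ≤ S)
    (hDS : D ≤ S) (hDih : ∃ n : ℕ, 2 ≤ n ∧ Nonempty (↥D ≃* DihedralGroup n)) (hDT : D ⊓ T = ⊥)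
    (hTD : T ⊔ D = S) (hTDc : Nat.card T * Nat.card D = Nat.card S)
    (hCD : C ≤ D) (hC : IsCyclic ↥C) (hCi : C.relIndex D = 2)
    (h1 : ∀ x ∈ D, x ∉ C → orderOf x = 2 → ∀ g : G, g * x * g⁻¹ ∈ T ⊔ C → False)
    (h2 : ∀ c ∈ C, orderOf c = 2 → ∀ g : G, g * c * g⁻¹ ∈ T → False) :
    ∃ K : Subgroup G, K.Normal ∧ K ⊔ D = ⊤ ∧
      ∀ T' : Subgroup G, T' ≤ L → IsPGroup 2 T' → ¬ 2 ∣ T'.relIndex L →
        T' ≤ K ∧ ¬ 2 ∣ T'.relIndex K := by
  have : Fact (Nat.Prime 2) := ⟨Nat.prime_two⟩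
  obtain ⟨n, hn, ⟨e⟩⟩ := hDih
  have hinv := outside_involution D C n hn e hCD hC hCi
  -- an element of `D` outside `C`
  obtain ⟨x, hxD, hxC⟩ : ∃ x ∈ D, x ∉ C := by
    by_contra hcon
    push Not at hcon
    have : C.relIndex D = 1 := Subgroup.relIndex_eq_one.mpr hcon
    omega
  obtain ⟨K, hKdef⟩ : ∃ K : Subgroup G, K = Cfsg.pResidual 2 G := ⟨_, rfl⟩
  have hKn : K.Normal := hKdef ▸ Cfsg.Agent.Lib.H6.pResidual_normal 2
  have hLmap : ∀ l ∈ L, l ∈ (Cfsg.pResidual 2 ↥L).map L.subtype := by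
    intro l hl
    exact ⟨⟨l, hl⟩, by rw [hL]; exact Subgroup.mem_top _, rfl⟩
  have hLK : L ≤ K := by
    intro l hl
    rw [hKdef]
    exact Cfsg.Agent.Lib.H6.map_pResidual_le 2 L (hLmap l hl)
  have hTK : T ≤ K := hTL.trans hLK
  -- the subgroup `M₀ = T ⊔ C` of index two in `S`
  obtain ⟨M₀, hM₀def⟩ : ∃ M₀ : Subgroup G, M₀ = T ⊔ C := ⟨_, rfl⟩
  have hM₀S : M₀ ≤ S := by
    rw [hM₀def]
    exact sup_le hTS (hCD.trans hDS)
  have hnotM₀ : ∀ y ∈ D, y ∉ C → ∀ g : G, g * y * g⁻¹ ∉ M₀ := by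
    intro y hyD hyC g hmem
    rw [hM₀def] at hmem
    exact h1 y hyD hyC (hinv y hyD hyC) g hmem
  have hxM₀ : x ∉ M₀ := by
    intro h
    apply hnotM₀ x hxD hxC 1
    rw [one_mul, inv_one, mul_one]
    exact h
  have hcardD : Nat.card C * 2 = Nat.card D := by
    have := card_mul_relIndex_of_le hCD
    rw [hCi] at this
    exact this
  have hTC : T ⊓ C = ⊥ := by
    rw [eq_bot_iff, ← hDT]
    exact le_inf (inf_le_right.trans hCD) inf_le_left
  have hM₀card : Nat.card T * Nat.card C ≤ Nat.card M₀ := by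
    have := Cfsg.Agent.Lib.H19.card_mul_card_le_sup_mul_inf T C
    rw [hTC, Subgroup.card_bot, mul_one, ← hM₀def] at this
    exact this
  have hM₀rel : M₀.relIndex S = 2 := by
    have h3 := card_mul_relIndex_of_le hM₀S
    have hne1 : M₀.relIndex S ≠ 1 := by
      intro h
      exact hxM₀ (Subgroup.relIndex_eq_one.mp h (hDS hxD))
    have hne0 : M₀.relIndex S ≠ 0 := by
      intro h
      rw [h, mul_zero] at h3
      have : 0 < Nat.card S := Nat.card_pos
      omega
    have hle : M₀.relIndex S ≤ 2 := by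
      by_contra hcon
      push Not at hcon
      have h4 : Nat.card M₀ * 3 ≤ Nat.card M₀ * M₀.relIndex S := Nat.mul_le_mul_left _ hcon
      rw [h3, ← hTDc, ← hcardD] at h4
      have h5 : Nat.card T * (Nat.card C * 2) = 2 * (Nat.card T * Nat.card C) := by ring
      have hpos : 0 < Nat.card M₀ := Nat.card_pos
      rw [h5] at h4
      nlinarith
    omega
  -- the Thompson transfer homomorphism
  obtain ⟨S', hS'⟩ : ∃ S' : Sylow 2 G, (S' : Subgroup G) = S :=
    ⟨hS2.toSylow hSsyl, IsPGroup.toSylow_coe hS2 hSsyl⟩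
  have hM : M₀.relIndex (S' : Subgroup G) = 2 := by rw [hS']; exact hM₀rel
  obtain ⟨φ, hφdef⟩ : ∃ φ : G →* ℤˣ, φ = Cfsg.Agent.Lib.H16.thompsonTransfer S' M₀ hM :=
    ⟨_, rfl⟩
  have hφ : ∀ y ∈ D, y ∉ C → φ y = -1 := by
    intro y hyD hyC
    rw [hφdef]
    apply Cfsg.Agent.Lib.H16.thompsonTransfer_eq_neg_one S' M₀ hM 1
    · intro w _ hwM
      rw [Nat.sub_self, pow_zero]
      have hw1 : w ≠ 1 := fun h => hwM (h ▸ M₀.one_mem)
      have h3 : orderOf w ≠ 1 := fun h => hw1 (orderOf_eq_one_iff.mp h)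
      have h4 : 0 < orderOf w := orderOf_pos w
      omega
    · rw [pow_one]
      exact hinv y hyD hyC
    · exact hnotM₀ y hyD hyC
  have hKker : K ≤ φ.ker := hKdef ▸ SP.pResidual_le_ker φ
  obtain ⟨G₁, hG₁def⟩ : ∃ G₁ : Subgroup G, G₁ = φ.ker := ⟨_, rfl⟩
  have hKG₁ : K ≤ G₁ := hG₁def ▸ hKker
  have hG₁idx : G₁.index = 2 := hG₁def ▸ SP.index_ker_of_apply_eq_neg_one φ x (hφ x hxD hxC)
  -- a generator of `C`
  obtain ⟨⟨c, hcC⟩, hcgen⟩ := hC.exists_generator
  have hoc : orderOf c = Nat.card C := by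
    have := orderOf_eq_card_of_forall_mem_zpowers hcgen
    rw [Subgroup.orderOf_mk] at this
    exact this
  have hCz : ∀ u ∈ C, u ∈ zpowers c := by
    intro u hu
    obtain ⟨t, ht⟩ := Subgroup.mem_zpowers_iff.mp (hcgen ⟨u, hu⟩)
    rw [Subgroup.mem_zpowers_iff]
    refine ⟨t, ?_⟩
    have := congrArg Subtype.val ht
    rw [Subgroup.coe_zpow] at this
    exact this
  obtain ⟨m, hm⟩ : ∃ m : ℕ, Nat.card C = 2 ^ (m + 1) := by
    have hC2 : IsPGroup 2 C := hS2.to_le (hCD.trans hDS)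
    obtain ⟨j, hj⟩ := IsPGroup.iff_card.mp hC2
    have hcn : Nat.card C = n := by
      have hcardD' : Nat.card D = 2 * n := by
        rw [Nat.card_congr e.toEquiv, DihedralGroup.nat_card]
      omega
    rcases j with _ | j
    · rw [pow_zero] at hj
      omega
    · exact ⟨j, hj⟩
  rw [hm] at hoc
  -- `c ∈ G₁`
  have hcG₁ : c ∈ G₁ := by
    rw [hG₁def, MonoidHom.mem_ker]
    have hxc : x * c ∉ C := fun h => hxC (by
      have := C.mul_mem h (C.inv_mem hcC)
      rwa [mul_inv_cancel_right] at this)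
    have h3 := hφ (x * c) (D.mul_mem hxD (hCD hcC)) hxc
    rw [map_mul, hφ x hxD hxC] at h3
    have h4 : φ c = (-1 : ℤˣ) * ((-1 : ℤˣ) * φ c) := by rw [← mul_assoc]; simp
    rw [h4, h3]
    decide
  -- the involution `z` of `C` is not in `K`
  have hoz : orderOf (c ^ 2 ^ m) = 2 := by
    rw [orderOf_pow_of_dvd (by positivity) (by rw [hoc]; exact pow_dvd_pow 2 (by omega)), hoc,
      pow_succ, Nat.mul_div_cancel_left _ (by positivity)]
  have hzC : c ^ 2 ^ m ∈ C := C.pow_mem hcC _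
  have hzK : c ^ 2 ^ m ∉ K := by
    have hLG₁ : L ≤ G₁ := hLK.trans hKG₁
    have hTG₁ : T ≤ G₁ := hTK.trans hKG₁
    have hres : Cfsg.pResidual 2 G ≤ G₁ := hKdef ▸ hKG₁
    have hord : orderOf (⟨c, hcG₁⟩ : G₁) = 2 ^ (m + 1) := by
      rw [Subgroup.orderOf_mk, hoc]
    have hodd : Odd S.index := by
      rw [← Nat.not_even_iff_odd, even_iff_two_dvd]
      exact hSsyl
    have hidxT : (T.subgroupOf G₁).index = 2 ^ (m + 1) * S.index := by
      have h3 : T.relIndex G₁ * G₁.index = T.index := Subgroup.relIndex_mul_index hTG₁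
      have h4 : T.relIndex S * S.index = T.index := Subgroup.relIndex_mul_index hTS
      have h5 := card_mul_relIndex_of_le hTS
      rw [← hTDc] at h5
      have hTpos : 0 < Nat.card T := Nat.card_pos
      have h6 : T.relIndex S = Nat.card D := Nat.eq_of_mul_eq_mul_left hTpos h5
      rw [hG₁idx, ← h4, h6, ← hcardD, hm] at h3
      have h7 : T.relIndex G₁ * 2 = 2 ^ (m + 1) * S.index * 2 := by rw [h3]; ring
      exact Nat.eq_of_mul_eq_mul_right (by norm_num) h7
    have hcon₁ : ∀ h : G₁, h⁻¹ * (⟨c, hcG₁⟩ : G₁) ^ 2 ^ m * h ∉ T.subgroupOf G₁ := by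
      intro h hmem
      rw [Subgroup.mem_subgroupOf, Subgroup.coe_mul, Subgroup.coe_mul, Subgroup.coe_pow,
        Subgroup.coe_inv] at hmem
      apply h2 (c ^ 2 ^ m) hzC hoz (h : G)⁻¹
      rw [inv_inv]
      exact hmem
    have hT₁ : T.subgroupOf G₁ ≤ Cfsg.pResidual 2 ↥G₁ := by
      intro t ht
      rw [Subgroup.mem_subgroupOf] at ht
      obtain ⟨y, hy, hyt⟩ := SP.map_pResidual_mono 2 hLG₁ (hLmap _ (hTL ht))
      have : y = t := Subtype.ext hyt
      rw [← this]
      exact hy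
    have hfin := SP.peel m ↥G₁ (T.subgroupOf G₁) ⟨c, hcG₁⟩ hord ⟨S.index, hodd, hidxT⟩ hcon₁ hT₁
    intro hmem
    rw [hKdef] at hmem
    obtain ⟨y, hy, hyz⟩ := SP.pResidual_le_map 2 G₁ hres hmem
    apply hfin
    have : y = (⟨c, hcG₁⟩ : G₁) ^ 2 ^ m := by
      apply Subtype.ext
      rw [Subgroup.coe_pow]
      exact hyz
    rw [← this]
    exact hy
  -- `D ∩ K = 1`
  have hDK : K ⊓ D = ⊥ := by
    by_contra hne
    have hE2 : IsPGroup 2 ↥(K ⊓ D) := hS2.to_le (inf_le_right.trans hDS)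
    obtain ⟨j, hj⟩ := IsPGroup.iff_card.mp hE2
    have hj0 : j ≠ 0 := by
      intro h
      rw [h, pow_zero] at hj
      exact hne (Subgroup.card_eq_one.mp hj)
    have h2dvd : 2 ∣ Nat.card ↥(K ⊓ D) := by rw [hj]; exact dvd_pow_self 2 hj0
    obtain ⟨⟨u, huKD⟩, hu⟩ := exists_prime_orderOf_dvd_card' 2 h2dvd
    rw [Subgroup.orderOf_mk] at hu
    have huK : u ∈ K := huKD.1
    have huD : u ∈ D := huKD.2
    by_cases huC : u ∈ C
    · have hu1 : u ≠ 1 := by
        intro h
        rw [h, orderOf_one] at hu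
        omega
      have huu : u * u = 1 := by rw [← pow_two, ← hu, pow_orderOf_eq_one]
      have := MC2.eq_pow_of_mem_zpowers c (m + 1) (by omega) hoc u (hCz u huC) hu1 huu
      rw [Nat.add_sub_cancel] at this
      exact hzK (this ▸ huK)
    · have h3 := hφ u huD huC
      have h4 := hKker huK
      rw [MonoidHom.mem_ker, h3] at h4
      exact absurd h4 (by decide)
  -- `K D = G`
  have hKD : K ⊔ D = ⊤ := by
    obtain ⟨j, hj⟩ := Cfsg.Agent.Lib.H6.index_pResidual (G := G) 2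
    rw [← hKdef] at hj
    have hKS : K ⊔ S = ⊤ := by
      rw [← Subgroup.index_eq_one]
      have hd1 : (K ⊔ S).index ∣ 2 ^ j := hj ▸ Subgroup.index_dvd_of_le le_sup_left
      have hd2 : (K ⊔ S).index ∣ S.index := Subgroup.index_dvd_of_le le_sup_right
      have hcop : Nat.Coprime (2 ^ j) S.index :=
        Nat.Coprime.pow_left j ((Nat.Prime.coprime_iff_not_dvd Nat.prime_two).mpr hSsyl)
      exact Nat.eq_one_of_dvd_coprimes hcop hd1 hd2
    rw [eq_top_iff, ← hKS, ← hTD]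
    exact sup_le le_sup_left (sup_le (hTK.trans le_sup_left) le_sup_right)
  refine ⟨K, hKn, hKD, ?_⟩
  intro T' hTL' hT2' hTsyl'
  refine ⟨hTL'.trans hLK, ?_⟩
  have hTK' : T' ≤ K := hTL'.trans hLK
  have hcT' := card_eq_of_sylowIn hTL hT2 hTsyl hTL' hT2' hTsyl'
  have hKidx : K.index = Nat.card D := by
    have h3 : K.relIndex (K ⊔ D) = K.relIndex D := Subgroup.relIndex_sup_left D K
    rw [hKD, Subgroup.relIndex_top_right] at h3
    rw [h3, ← Subgroup.inf_relIndex_right, hDK, Subgroup.relIndex_bot_left]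
  have h4 := Subgroup.card_mul_index K
  have h5 := Subgroup.card_mul_index S
  have h6 := card_mul_relIndex_of_le hTK'
  rw [hKidx] at h4
  rw [← hTDc] at h5
  have hDpos : 0 < Nat.card D := Nat.card_pos
  have hTpos : 0 < Nat.card T := Nat.card_pos
  have h7 : Nat.card K = Nat.card T * S.index := by
    have : Nat.card K * Nat.card D = Nat.card T * S.index * Nat.card D := by
      rw [h4, ← h5]; ring
    exact Nat.eq_of_mul_eq_mul_right hDpos this
  rw [h7, hcT'] at h6
  have h8 : T'.relIndex K = S.index := Nat.eq_of_mul_eq_mul_left hTpos h6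
  rw [h8]
  exact hSsyl

end Cfsg.Agent.Lib.H5.TD
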