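import Mathlib
import Cfsg.Agent.Lib.H15.Conj

/-!
# S4931 piece BURN (architect helper20): Burnside's normal `p`-complement in a quotient.

`P` a self-normalizing Sylow `p`-subgroup of `X`, `L ⊴ X` with `P' ≤ L`: some `K₂ ⊴ X` has
`L ≤ K₂`, `K₂ ⊓ P ≤ L`, `K₂ ⊔ P = ⊤`.
-/

set_option autoImplicit false

namespace Cfsg.Agent.Lib.H5.SNC

open Cfsg.Agent.Lib.H15
open scoped commutatorElement

/-- A self-normalizing Sylow subgroup has a self-normalizing image modulo any normal subgroup. -/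
theorem normalizer_map_sylow_le {X : Type*} [Group X] [Finite X] (p : ℕ) [Fact p.Prime]
    (P : Sylow p X)
    (hself : Subgroup.normalizer ((P : Subgroup X) : Set X) = (P : Subgroup X))
    (L : Subgroup X) [L.Normal] :
    Subgroup.normalizer
        ((((P : Subgroup X).map (QuotientGroup.mk' L) : Subgroup (X ⧸ L))) : Set (X ⧸ L))
      ≤ (P : Subgroup X).map (QuotientGroup.mk' L) := by
  intro y hy
  obtain ⟨g, rfl⟩ := QuotientGroup.mk'_surjective L y
  set M : Subgroup X := (P : Subgroup X) ⊔ L with hM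
  have hcomap : ((P : Subgroup X).map (QuotientGroup.mk' L)).comap (QuotientGroup.mk' L) = M := by
    rw [Subgroup.comap_map_eq, QuotientGroup.ker_mk']
  have hgM : g ∈ Subgroup.normalizer (M : Set X) := by
    rw [← hcomap, ← Subgroup.comap_normalizer_eq_of_surjective _ (QuotientGroup.mk'_surjective L)]
    exact hy
  have hPM : (P : Subgroup X) ≤ M := le_sup_left
  have hgP : cj g (P : Subgroup X) ≤ M := by
    calc cj g (P : Subgroup X) ≤ cj g M := cj_mono g hPM
      _ = M := mem_normalizer_iff_cj_eq.mp hgM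
  have hp1 : IsPGroup p ((cj g (P : Subgroup X)).subgroupOf M) :=
    (P.2.map _).comap_subtype
  obtain ⟨S₂, hS₂⟩ := hp1.exists_le_sylow
  obtain ⟨m, hm⟩ := MulAction.exists_smul_eq ↥M (P.subtype hPM) S₂
  have h5 : cj ((m : X)⁻¹ * g) (P : Subgroup X) ≤ P := by
    rintro _ ⟨x, hx, rfl⟩
    have hx1 : g * x * g⁻¹ ∈ cj g (P : Subgroup X) := conj_mem_cj hx
    have hx2 : (⟨g * x * g⁻¹, hgP hx1⟩ : ↥M) ∈ (S₂ : Subgroup ↥M) :=
      hS₂ (Subgroup.mem_subgroupOf.mpr hx1)
    rw [← hm, Sylow.coe_subgroup_smul, Subgroup.mem_pointwise_smul_iff_inv_smul_mem] at hx2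
    rw [Sylow.coe_subtype, Subgroup.mem_subgroupOf] at hx2
    simpa [MulAut.smul_def, mul_assoc] using hx2
  have h6 : (m : X)⁻¹ * g ∈ (P : Subgroup X) := by
    rw [← hself]
    exact mem_normalizer_of_cj_le h5
  have h7 : g ∈ M := by
    have := M.mul_mem m.2 (hPM h6)
    rwa [mul_inv_cancel_left] at this
  rw [← hcomap] at h7
  exact h7

/-- BURN. -/
theorem exists_normal_sup_sylow_inf_le {X : Type*} [Group X] [Finite X] (p : ℕ) [Fact p.Prime]
    (P : Sylow p X)
    (hself : Subgroup.normalizer ((P : Subgroup X) : Set X) = (P : Subgroup X))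
    (L : Subgroup X) [L.Normal] (hL : ⁅(P : Subgroup X), (P : Subgroup X)⁆ ≤ L) :
    ∃ K₂ : Subgroup X, K₂.Normal ∧ L ≤ K₂ ∧ K₂ ⊓ (P : Subgroup X) ≤ L ∧
      K₂ ⊔ (P : Subgroup X) = ⊤ := by
  have hπ : Function.Surjective (QuotientGroup.mk' L) := QuotientGroup.mk'_surjective L
  let Pb : Sylow p (X ⧸ L) := P.mapSurjective hπ
  have hPb : (Pb : Subgroup (X ⧸ L)) = (P : Subgroup X).map (QuotientGroup.mk' L) :=
    Sylow.coe_mapSurjective hπ P
  have hab : ∀ a ∈ (Pb : Subgroup (X ⧸ L)), ∀ b ∈ (Pb : Subgroup (X ⧸ L)), a * b = b * a := by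
    intro a ha b hb
    rw [hPb] at ha hb
    obtain ⟨a, ha, rfl⟩ := ha
    obtain ⟨b, hb, rfl⟩ := hb
    have h1 : ⁅a, b⁆ ∈ L := hL (Subgroup.commutator_mem_commutator ha hb)
    have h2 : (QuotientGroup.mk' L) ⁅a, b⁆ = 1 := (QuotientGroup.eq_one_iff _).mpr h1
    rw [commutatorElement_def, map_mul, map_mul, map_mul, map_inv, map_inv] at h2
    have h3 := mul_inv_eq_one.mp h2
    have h4 := mul_inv_eq_iff_eq_mul.mp h3
    exact h4
  have hNC : Subgroup.normalizer ((Pb : Subgroup (X ⧸ L)) : Set (X ⧸ L)) ≤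
      Subgroup.centralizer ((Pb : Subgroup (X ⧸ L)) : Set (X ⧸ L)) := by
    intro y hy
    have hy' : y ∈ (Pb : Subgroup (X ⧸ L)) := by
      rw [hPb]
      apply normalizer_map_sylow_le p P hself L
      rw [← hPb]
      exact hy
    rw [Subgroup.mem_centralizer_iff]
    intro z hz
    exact hab z hz y hy'
  have hcompl := MonoidHom.ker_transferSylow_isComplement' Pb hNC
  refine ⟨(MonoidHom.transferSylow Pb hNC).ker.comap (QuotientGroup.mk' L), inferInstance,
    ?_, ?_, ?_⟩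
  · intro x hx
    rw [Subgroup.mem_comap]
    have : (QuotientGroup.mk' L) x = 1 := (QuotientGroup.eq_one_iff x).mpr hx
    rw [this]
    exact one_mem _
  · rintro x ⟨hx1, hx2⟩
    have h1 : (QuotientGroup.mk' L) x ∈
        (MonoidHom.transferSylow Pb hNC).ker ⊓ (Pb : Subgroup (X ⧸ L)) := by
      refine ⟨hx1, ?_⟩
      rw [hPb]
      exact ⟨x, hx2, rfl⟩
    rw [hcompl.disjoint.eq_bot, Subgroup.mem_bot] at h1
    exact (QuotientGroup.eq_one_iff x).mp h1
  · rw [eq_top_iff]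
    intro x _
    have h1 : (QuotientGroup.mk' L) x ∈
        (MonoidHom.transferSylow Pb hNC).ker ⊔ (Pb : Subgroup (X ⧸ L)) := by
      rw [hcompl.sup_eq_top]
      exact Subgroup.mem_top _
    obtain ⟨k, hk, z, hz, hkz⟩ := Subgroup.mem_sup_of_normal_left.mp h1
    rw [hPb] at hz
    obtain ⟨a, ha, rfl⟩ := hz
    have h2 : x * a⁻¹ ∈ (MonoidHom.transferSylow Pb hNC).ker.comap (QuotientGroup.mk' L) := by
      rw [Subgroup.mem_comap, map_mul, map_inv, ← hkz, mul_inv_cancel_right]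
      exact hk
    have h3 := Subgroup.mul_mem_sup h2 ha
    rwa [inv_mul_cancel_right] at h3

end Cfsg.Agent.Lib.H5.SNC
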