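import Mathlib
import Cfsg.Prelude.Def_Solvable
import Cfsg.Prelude.Def_Transfer
import Cfsg.Agent.Lib.H16.PQTATE
import Cfsg.Agent.Lib.H22.PPrimeCore

/-!
# S4931 piece TATE (architect helper20): corollary of Tate's theorem.

`K₂ ⊴ X` with `K₂ ⊔ P = ⊤` and `K₂ ⊓ P ≤ P'`: some normal `K` of order prime to `p` has
`K ⊔ P = ⊤` (namely `K = O_{p'}(X)`).
-/

set_option autoImplicit false

namespace Cfsg.Agent.Lib.H5.SNC

open Cfsg

/-- TATE. -/
theorem exists_normal_pPrime_sup_sylow {X : Type*} [Group X] [Finite X] (p : ℕ) [Fact p.Prime]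
    (P : Sylow p X) (K₂ : Subgroup X) [K₂.Normal]
    (hsup : K₂ ⊔ (P : Subgroup X) = ⊤)
    (hinf : K₂ ⊓ (P : Subgroup X) ≤ ⁅(P : Subgroup X), (P : Subgroup X)⁆) :
    ∃ K : Subgroup X, K.Normal ∧ (Nat.card K).Coprime p ∧ K ⊔ (P : Subgroup X) = ⊤ := by
  classical
  have hp : p.Prime := Fact.out
  have hinf' : K₂ ⊓ (P : Subgroup X) ≤ (commutator (P : Subgroup X)).map (P : Subgroup X).subtype := by
    rw [Subgroup.map_subtype_commutator]
    exact hinf
  obtain ⟨k, hk⟩ := Cfsg.Agent.Lib.H16.PQ.relIndex_pPrimeCore_eq_pow p P K₂ hinf'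
  set K : Subgroup X := pPrimeCore p X with hKdef
  haveI hKn : K.Normal := Cfsg.Agent.Lib.H22.pPrimeCore_normal p
  have hKc : (Nat.card K).Coprime p := Cfsg.Agent.Lib.H22.card_pPrimeCore_coprime p
  refine ⟨K, hKn, hKc, ?_⟩
  -- `K₂.index` is a power of `p`
  have hK₂idx : ∃ i : ℕ, K₂.index = p ^ i := by
    have h1 : K₂.index = K₂.relIndex (P : Subgroup X) := by
      rw [← Subgroup.relIndex_top_right, ← hsup, Subgroup.relIndex_sup_left]
    have h2 : K₂.relIndex (P : Subgroup X) ∣ Nat.card (P : Subgroup X) :=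
      Subgroup.index_dvd_card _
    obtain ⟨n, hn⟩ := P.2.exists_card_eq
    rw [hn] at h2
    obtain ⟨i, -, hi⟩ := (Nat.dvd_prime_pow hp).mp h2
    exact ⟨i, h1.trans hi⟩
  obtain ⟨i, hi⟩ := hK₂idx
  -- `K.index` is a power of `p`
  have hKidx : ∃ j : ℕ, K.index = p ^ j := by
    have h1 : (K ⊓ K₂).index = p ^ k * p ^ i := by
      rw [← Subgroup.relIndex_mul_index (inf_le_right : K ⊓ K₂ ≤ K₂),
        Subgroup.inf_relIndex_right, hk, hi]
    have h2 : K.index ∣ (K ⊓ K₂).index := Subgroup.index_dvd_of_le inf_le_left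
    rw [h1, ← pow_add] at h2
    obtain ⟨j, -, hj⟩ := (Nat.dvd_prime_pow hp).mp h2
    exact ⟨j, hj⟩
  obtain ⟨j, hj⟩ := hKidx
  have h3 : (K ⊔ (P : Subgroup X)).index ∣ p ^ j := by
    rw [← hj]
    exact Subgroup.index_dvd_of_le le_sup_left
  have h4 : (K ⊔ (P : Subgroup X)).index ∣ (P : Subgroup X).index :=
    Subgroup.index_dvd_of_le le_sup_right
  have h5 : ((P : Subgroup X).index).Coprime (p ^ j) :=
    Nat.Coprime.pow_right j ((Nat.Prime.coprime_iff_not_dvd hp).mpr P.not_dvd_index).symm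
  have h6 : (K ⊔ (P : Subgroup X)).index = 1 :=
    Nat.eq_one_of_dvd_coprimes h5 h4 h3
  exact Subgroup.index_eq_one.mp h6

end Cfsg.Agent.Lib.H5.SNC
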