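import Mathlib

/-!
# The subfields `{x | x ^ (p ^ n) = x}` of a field of characteristic `p`
-/

set_option autoImplicit false
set_option linter.style.haveILetI false

namespace Cfsg.Agent.Lib.H5.FrobFix

variable {F : Type*} [Field F] (p : ℕ) [Fact p.Prime] [CharP F p]

/-- the subfield fixed by the `n`-th power of the Frobenius map -/
def frobFix (n : ℕ) : Subfield F :=
  RingHom.eqLocusField (iterateFrobenius F p n) (RingHom.id F)

theorem mem_frobFix (n : ℕ) (x : F) : x ∈ frobFix p n ↔ x ^ p ^ n = x := by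
  show iterateFrobenius F p n x = RingHom.id F x ↔ _
  rw [iterateFrobenius_def, RingHom.id_apply]

theorem card_frobFix_le [Finite F] (n : ℕ) (hn : n ≠ 0) :
    Nat.card (frobFix (F := F) p n) ≤ p ^ n := by
  classical
  have hp1 : 1 < p := (Fact.out : p.Prime).one_lt
  obtain ⟨P, hP⟩ : ∃ P : Polynomial F, P = Polynomial.X ^ p ^ n - Polynomial.X := ⟨_, rfl⟩
  have hP0 : P ≠ 0 := by
    rw [hP]; exact FiniteField.X_pow_card_pow_sub_X_ne_zero F hn hp1
  have hdeg : P.natDegree = p ^ n := by
    rw [hP]; exact FiniteField.X_pow_card_pow_sub_X_natDegree_eq F hn hp1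
  have hsub : ((frobFix (F := F) p n : Subfield F) : Set F) ⊆ (P.roots.toFinset : Set F) := by
    intro x hx
    rw [SetLike.mem_coe, mem_frobFix] at hx
    rw [Finset.mem_coe, Multiset.mem_toFinset, Polynomial.mem_roots hP0, hP]
    simp [hx]
  calc Nat.card (frobFix (F := F) p n) = ((frobFix (F := F) p n : Subfield F) : Set F).ncard :=
        (Nat.card_coe_set_eq _)
    _ ≤ (P.roots.toFinset : Set F).ncard := Set.ncard_le_ncard hsub (Finset.finite_toSet _)
    _ = P.roots.toFinset.card := Set.ncard_coe_finset _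
    _ ≤ Multiset.card P.roots := Multiset.toFinset_card_le _
    _ ≤ P.natDegree := Polynomial.card_roots' P
    _ = p ^ n := hdeg

theorem card_le_of_frobFix_eq_top [Fintype F] (n : ℕ) (hn : n ≠ 0)
    (h : frobFix (F := F) p n = ⊤) : Fintype.card F ≤ p ^ n := by
  have h1 := card_frobFix_le (F := F) p n hn
  rw [h] at h1
  have h2 : Nat.card (⊤ : Subfield F) = Fintype.card F := by
    rw [← Nat.card_eq_fintype_card]
    exact Nat.card_congr (Subfield.topEquiv (K := F)).toEquiv
  rwa [h2] at h1

/-- if the prime field is everything then `|F| = p` -/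
theorem card_eq_of_frobFix_one_eq_top [Fintype F] (h : frobFix (F := F) p 1 = ⊤) :
    Fintype.card F = p := by
  have hp : p.Prime := Fact.out
  have h1 := card_le_of_frobFix_eq_top p 1 one_ne_zero h
  obtain ⟨m, hm, hq⟩ := FiniteField.card F p
  rw [hq, pow_one] at h1
  rw [hq]
  have hm1 : (m : ℕ) ≤ 1 := by
    by_contra hlt
    push Not at hlt
    have : p ^ 2 ≤ p ^ (m : ℕ) := Nat.pow_le_pow_right hp.pos hlt
    have h2 : p < p ^ 2 := by nlinarith [hp.two_le]
    omega
  have : (m : ℕ) = 1 := le_antisymm hm1 m.pos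
  rw [this, pow_one]

/-- if the field of `p²` elements is everything then `|F| = p` or `|F| = p²` -/
theorem card_eq_of_frobFix_two_eq_top [Fintype F] (h : frobFix (F := F) p 2 = ⊤) :
    Fintype.card F = p ∨ Fintype.card F = p ^ 2 := by
  have hp : p.Prime := Fact.out
  have h1 := card_le_of_frobFix_eq_top p 2 two_ne_zero h
  obtain ⟨m, hm, hq⟩ := FiniteField.card F p
  rw [hq] at h1
  rw [hq]
  have hm1 : (m : ℕ) ≤ 2 := by
    by_contra hlt
    push Not at hlt
    have : p ^ 3 ≤ p ^ (m : ℕ) := Nat.pow_le_pow_right hp.pos hlt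
    have h2 : p ^ 2 < p ^ 3 := Nat.pow_lt_pow_right hp.one_lt (by norm_num)
    omega
  have hm0 := m.pos
  have : (m : ℕ) = 1 ∨ (m : ℕ) = 2 := by omega
  rcases this with h | h
  · left; rw [h, pow_one]
  · right; rw [h]

/-- a subfield of order `p ^ j` lies in `frobFix p j` -/
theorem le_frobFix_of_card [Finite F] (S : Subfield F) (j : ℕ) (hS : Nat.card S = p ^ j) :
    S ≤ frobFix p j := by
  intro x hx
  rw [mem_frobFix]
  haveI : Fintype S := Fintype.ofFinite S
  have := FiniteField.pow_card (⟨x, hx⟩ : S)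
  rw [← Nat.card_eq_fintype_card, hS] at this
  exact congrArg Subtype.val this

/-- square roots of elements of a subfield of order `p ^ j` lie in `frobFix p (2 j)` -/
theorem sqrt_mem_frobFix [Finite F] (hp2 : p ≠ 2) (S : Subfield F) (j : ℕ)
    (hS : Nat.card S = p ^ j) {d : F} (hd : d ^ 2 ∈ S) : d ∈ frobFix p (2 * j) := by
  have hp : p.Prime := Fact.out
  rw [mem_frobFix]
  have h1 : (d ^ 2) ^ p ^ j = d ^ 2 := (mem_frobFix p j _).mp (le_frobFix_of_card p S j hS hd)
  have h2 : (d ^ p ^ j - d) * (d ^ p ^ j + d) = 0 := by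
    have : (d ^ p ^ j) ^ 2 = d ^ 2 := by rw [← pow_mul, mul_comm, pow_mul, h1]
    linear_combination this
  have hodd : Odd (p ^ j) := (hp.odd_of_ne_two hp2).pow
  have hexp : p ^ (2 * j) = p ^ j * p ^ j := by rw [two_mul, pow_add]
  rw [hexp, pow_mul]
  rcases mul_eq_zero.mp h2 with h | h
  · have : d ^ p ^ j = d := by linear_combination h
    rw [this, this]
  · have : d ^ p ^ j = -d := by linear_combination h
    rw [this, hodd.neg_pow, this, neg_neg]

/-- roots of monic quadratics over the prime field lie in the field of `p²` elements -/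
theorem quad_root_mem {x b c : F} (hb : b ∈ frobFix p 1) (hc : c ∈ frobFix p 1)
    (h : x ^ 2 + b * x + c = 0) : x ∈ frobFix p 2 := by
  rw [mem_frobFix, pow_one] at hb hc
  rw [mem_frobFix]
  have hy : (x ^ p) ^ 2 + b * x ^ p + c = 0 := by
    have : (x ^ 2 + b * x + c) ^ p = 0 := by
      rw [h, zero_pow (Fact.out : p.Prime).ne_zero]
    rw [add_pow_char, add_pow_char, mul_pow, hb, hc,
      ← pow_mul, mul_comm 2 p, pow_mul] at this
    exact this
  have h2 : (x ^ p - x) * (x ^ p + x + b) = 0 := by linear_combination hy - h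
  rw [pow_two, pow_mul]
  rcases mul_eq_zero.mp h2 with h' | h'
  · have : x ^ p = x := by linear_combination h'
    rw [this, this]
  · have e : x ^ p = -b - x := by linear_combination h'
    rw [e, sub_pow_char]
    have hneg : ∀ z : F, (-z) ^ p = -(z ^ p) := by
      intro z
      have := sub_pow_char (0 : F) z (p := p)
      rw [zero_sub, zero_pow (Fact.out : p.Prime).ne_zero, zero_sub] at this
      exact this
    rw [hneg, hb, e]
    ring

/-- the image of `ZMod p` lies in the prime field -/
theorem castHom_mem (a : ZMod p) : (ZMod.castHom (dvd_refl p) F a) ∈ frobFix p 1 := by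
  rw [mem_frobFix, pow_one, ← map_pow, ZMod.pow_card]

end Cfsg.Agent.Lib.H5.FrobFix
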