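import Mathlib
import Cfsg.Agent.Lib.H5.PSL2SubfieldMax
import Cfsg.Agent.Lib.H5.PSL2SubfieldPGL

/-!
# `PGL₂(q)` is maximal in `PSL₂(q²)`, `q` odd
-/

set_option autoImplicit false

namespace Cfsg.Agent.Lib.H5.PSL2SubfieldMax

open Matrix Cfsg.Agent.Lib.H12 Cfsg.Agent.Lib.H4.Dickson Cfsg.Agent.Lib.H5.PSL2Torus
  Cfsg.Agent.Lib.H5.PSL2Subfield Cfsg.Agent.Lib.H5.DicksonOdd Cfsg.Agent.Lib.H5.PSL2Klein

section pgl

variable {F K : Type*} [Field F] [Field K] (ι : K →+* F)

/-- the subgroup `PGL₂(K)` of `PSL₂(F)` -/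
def pglSub : Subgroup (Matrix.ProjectiveSpecialLinearGroup (Fin 2) F) :=
  (Matrix.ProjGenLinGroup.map (n := Fin 2) ι).range.comap
    Matrix.ProjectiveSpecialLinearGroup.toPGL

/-- if every element of `K` is a square in `F` then `pglSub` is isomorphic to `PGL₂(K)` -/
theorem pglSub_equiv (hsq : ∀ d : Kˣ, ∃ u : Fˣ, (u : F) ^ 2 = ι d) :
    Nonempty (pglSub ι ≃* Matrix.ProjGenLinGroup (Fin 2) K) := by
  obtain ⟨T, hT⟩ : ∃ T : Matrix.ProjectiveSpecialLinearGroup (Fin 2) F →* Matrix.ProjGenLinGroup (Fin 2) F,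
    T = Matrix.ProjectiveSpecialLinearGroup.toPGL := ⟨_, rfl⟩
  have hTinj : Function.Injective T := by
    rw [hT]; exact Matrix.ProjectiveSpecialLinearGroup.toPGL_injective
  obtain ⟨φ, hφ⟩ : ∃ φ : Matrix.ProjGenLinGroup (Fin 2) K →* Matrix.ProjGenLinGroup (Fin 2) F,
    φ = Matrix.ProjGenLinGroup.map ι := ⟨_, rfl⟩
  have hφinj : Function.Injective φ := by rw [hφ]; exact pglMap_injective ι
  have hle : φ.range ≤ T.range := by
    rintro _ ⟨x, rfl⟩
    rw [hφ, hT]
    exact pglMap_mem_range_toPGL ι hsq x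
  have h1 : (φ.range.comap T).map T = φ.range := by
    rw [Subgroup.map_comap_eq, inf_eq_right.mpr hle]
  have h2 : pglSub ι = φ.range.comap T := by rw [hφ, hT]; rfl
  rw [h2]
  exact ⟨((φ.range.comap T).equivMapOfInjective T hTinj).trans
    ((MulEquiv.subgroupCongr h1).trans (MonoidHom.ofInjective hφinj).symm)⟩

theorem pr_mem_pglSub_iff (g : Matrix.SpecialLinearGroup (Fin 2) F) :
    pr g ∈ pglSub ι ↔ ∃ (γ : GL (Fin 2) K) (u : Fˣ),
      Matrix.GeneralLinearGroup.map ι γ * Matrix.GeneralLinearGroup.scalar (Fin 2) u =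
        Matrix.SpecialLinearGroup.toGL g := by
  unfold pglSub
  rw [Subgroup.mem_comap, MonoidHom.mem_range]
  have h1 : Matrix.ProjectiveSpecialLinearGroup.toPGL (pr g) =
      Matrix.ProjGenLinGroup.mk (Matrix.SpecialLinearGroup.toGL g) := rfl
  rw [h1]
  constructor
  · rintro ⟨x, hx⟩
    induction x using Matrix.ProjGenLinGroup.induction_on with | mk γ =>
    rw [Matrix.ProjGenLinGroup.map_mk, Matrix.ProjGenLinGroup.mk_eq_mk_iff] at hx
    obtain ⟨u, hu⟩ := hx
    exact ⟨γ, u, hu⟩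
  · rintro ⟨γ, u, hu⟩
    refine ⟨Matrix.ProjGenLinGroup.mk γ, ?_⟩
    rw [Matrix.ProjGenLinGroup.map_mk, Matrix.ProjGenLinGroup.mk_eq_mk_iff]
    exact ⟨u, hu⟩

/-- entrywise form of the membership criterion -/
theorem pr_mem_pglSub_iff' (g : Matrix.SpecialLinearGroup (Fin 2) F) :
    pr g ∈ pglSub ι ↔ ∃ (γ : GL (Fin 2) K) (u : Fˣ),
      ∀ i j, ι ((γ : Matrix (Fin 2) (Fin 2) K) i j) * (u : F) =
        (g : Matrix (Fin 2) (Fin 2) F) i j := by
  rw [pr_mem_pglSub_iff]
  have key : ∀ (γ : GL (Fin 2) K) (u : Fˣ) (i j : Fin 2),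
      ((Matrix.GeneralLinearGroup.map ι γ * Matrix.GeneralLinearGroup.scalar (Fin 2) u : GL (Fin 2) F) :
        Matrix (Fin 2) (Fin 2) F) i j = ι ((γ : Matrix (Fin 2) (Fin 2) K) i j) * (u : F) := by
    intro γ u i j
    rw [Units.val_mul, Matrix.GeneralLinearGroup.coe_scalar, Matrix.scalar_apply,
      ← Matrix.smul_one_eq_diagonal, Matrix.mul_smul, Matrix.mul_one, Matrix.smul_apply, smul_eq_mul,
      mul_comm]
    rfl
  constructor
  · rintro ⟨γ, u, hu⟩
    refine ⟨γ, u, fun i j => ?_⟩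
    rw [← key, hu]
    rfl
  · rintro ⟨γ, u, hu⟩
    refine ⟨γ, u, ?_⟩
    apply Units.ext
    ext i j
    rw [key, hu]
    rfl

/-- elements of the normalizer shape over the image of `K` lie in `pglSub` -/
theorem pr_mem_pglSub_of_shape (S : Subfield F) (hS : ∀ a, a ∈ S → ∃ k : K, ι k = a)
    (g : Matrix.SpecialLinearGroup (Fin 2) F) (hg : Shape S g) : pr g ∈ pglSub ι := by
  obtain ⟨d, hd, hd2, h00, h10, h01, h11⟩ := hg
  obtain ⟨δ, hδ⟩ := hS _ hd2
  obtain ⟨a, ha⟩ := hS _ h00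
  obtain ⟨c, hc⟩ := hS _ h10
  obtain ⟨b, hb⟩ := hS _ h01
  obtain ⟨e, he⟩ := hS _ h11
  have hdet : (!![a * δ, b; c * δ, e] : Matrix (Fin 2) (Fin 2) K).det ≠ 0 := by
    intro h0
    have h1 := congrArg ι h0
    rw [Matrix.det_fin_two_of, map_sub, map_mul, map_mul, map_mul, map_mul, ha, hc, hb, he, hδ,
      map_zero] at h1
    have hdg := det_eq g
    have : d ^ 2 = 0 := by
      have h3 : (g : Matrix (Fin 2) (Fin 2) F) 0 0 * d⁻¹ * d ^ 2 * ((g : Matrix (Fin 2) (Fin 2) F) 1 1 * d) -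
          (g : Matrix (Fin 2) (Fin 2) F) 0 1 * d * ((g : Matrix (Fin 2) (Fin 2) F) 1 0 * d⁻¹ * d ^ 2) =
          d ^ 2 * ((g : Matrix (Fin 2) (Fin 2) F) 0 0 * (g : Matrix (Fin 2) (Fin 2) F) 1 1 -
            (g : Matrix (Fin 2) (Fin 2) F) 0 1 * (g : Matrix (Fin 2) (Fin 2) F) 1 0) := by
        field_simp
      rw [h3, hdg, mul_one] at h1
      exact h1
    exact hd (pow_eq_zero_iff (two_ne_zero) |>.mp this)
  rw [pr_mem_pglSub_iff']
  refine ⟨Matrix.GeneralLinearGroup.mkOfDetNeZero _ hdet, Units.mk0 d⁻¹ (inv_ne_zero hd), ?_⟩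
  intro i j
  rw [Units.val_mk0]
  fin_cases i <;> fin_cases j
  · show ι (a * δ) * d⁻¹ = (g : Matrix (Fin 2) (Fin 2) F) 0 0
    rw [map_mul, ha, hδ]; field_simp
  · show ι b * d⁻¹ = (g : Matrix (Fin 2) (Fin 2) F) 0 1
    rw [hb]; field_simp
  · show ι (c * δ) * d⁻¹ = (g : Matrix (Fin 2) (Fin 2) F) 1 0
    rw [map_mul, hc, hδ]; field_simp
  · show ι e * d⁻¹ = (g : Matrix (Fin 2) (Fin 2) F) 1 1
    rw [he]; field_simp

end pgl

section finite

variable {F K : Type*} [Field F] [Field K] [Fintype F] [Fintype K] (ι : K →+* F)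

/-- **`PGL₂(q)` is maximal in `PSL₂(q²)`**, `q` odd -/
theorem isCoatom_pglSub (q : ℕ) (hK : Fintype.card K = q) (hF : Fintype.card F = q ^ 2)
    (hq : Odd q) (hsq : ∀ d : Kˣ, ∃ u : Fˣ, (u : F) ^ 2 = ι d) : IsCoatom (pglSub ι) := by
  have hodd : Odd (Fintype.card F) := by rw [hF]; exact hq.pow
  have hq2 : 2 ≤ q := by rw [← hK]; exact Fintype.one_lt_card
  have hq3 : 3 ≤ q := by
    obtain ⟨j, hj⟩ := hq
    omega
  obtain ⟨p, hpc⟩ : ∃ p : ℕ, CharP F p := ⟨ringChar F, inferInstance⟩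
  haveI := hpc
  have hpp : p.Prime := CharP.char_is_prime F p
  haveI : Fact p.Prime := ⟨hpp⟩
  have h2 : (2 : F) ≠ 0 := two_ne_zero_of_odd hodd
  have hp2 : p ≠ 2 := by
    rintro rfl
    apply h2
    have := CharP.cast_eq_zero F 2
    exact_mod_cast this
  -- the image of `SL₂(K)` lies in `pglSub`
  have hrange : (slToPSL ι).range ≤ pglSub ι := by
    rintro _ ⟨g₀, rfl⟩
    rw [slToPSL_eq, pr_mem_pglSub_iff']
    refine ⟨Matrix.SpecialLinearGroup.toGL g₀, 1, fun i j => ?_⟩
    rw [Units.val_one, mul_one, map_entry]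
    rfl
  constructor
  · intro htop
    have hsurj : Function.Surjective ι := by
      intro x
      have hx : pr (uu x) ∈ pglSub ι := by rw [htop]; exact Subgroup.mem_top _
      rw [pr_mem_pglSub_iff'] at hx
      obtain ⟨γ, u, hu⟩ := hx
      have h00 := hu 0 0
      have h01 := hu 0 1
      rw [uu_00] at h00
      rw [uu_01] at h01
      have hne : ι ((γ : Matrix (Fin 2) (Fin 2) K) 0 0) ≠ 0 := left_ne_zero_of_mul_eq_one h00
      refine ⟨(γ : Matrix (Fin 2) (Fin 2) K) 0 1 / (γ : Matrix (Fin 2) (Fin 2) K) 0 0, ?_⟩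
      rw [map_div₀, ← h01]
      have hu' : (u : F) = (ι ((γ : Matrix (Fin 2) (Fin 2) K) 0 0))⁻¹ :=
        eq_inv_of_mul_eq_one_right h00
      rw [hu']
      field_simp
    have hle := Fintype.card_le_of_surjective ι hsurj
    rw [hF, hK] at hle
    nlinarith
  · intro M hHM
    have hHM' := hHM.le
    have hneg : (-1 : Matrix.SpecialLinearGroup (Fin 2) F) ∈ M.comap pr := by
      rw [Subgroup.mem_comap, pr_neg_one]; exact M.one_mem
    have hmemA : ∀ k : K, uu (ι k) ∈ M.comap pr := by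
      intro k
      rw [Subgroup.mem_comap, ← map_uu, ← slToPSL_eq]
      exact hHM' (hrange ⟨_, rfl⟩)
    have hmemB : ∀ k : K, ll (ι k) ∈ M.comap pr := by
      intro k
      rw [Subgroup.mem_comap, ← map_ll, ← slToPSL_eq]
      exact hHM' (hrange ⟨_, rfl⟩)
    have hu : uu (1 : F) ∈ M.comap pr := by simpa using hmemA 1
    have hl : ll (1 : F) ∈ M.comap pr := by simpa using hmemB 1
    rcases structure_of_lift p hp2 hneg hu hl with ⟨S, hSA, hSB, hshape⟩ | ⟨hp3, hA3, hL120⟩
    · letI := ι.toAlgebra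
      have halg : ∀ k : K, algebraMap K F k = ι k := fun _ => rfl
      have hmem : ∀ k : K, algebraMap K F k ∈ S := fun k => (hSA _).mpr (hmemA k)
      have hfr : Module.finrank K F = 2 := by
        have h1 := Module.card_eq_pow_finrank (K := K) (V := F)
        rw [hF, hK] at h1
        exact (Nat.pow_right_injective hq2 h1).symm
      haveI := IntermediateField.isSimpleOrder_of_finrank_prime K F (hfr ▸ Nat.prime_two)
      rcases eq_bot_or_eq_top (S.toIntermediateField hmem) with hb | ht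
      · exfalso
        have hSK : ∀ a, a ∈ S → ∃ k : K, ι k = a := by
          intro a ha
          have : a ∈ S.toIntermediateField hmem := ha
          rw [hb, IntermediateField.mem_bot] at this
          exact this
        apply hHM.not_ge
        intro x hx
        obtain ⟨g, rfl⟩ := pr_surjective x
        exact pr_mem_pglSub_of_shape ι S hSK g (hshape g hx)
      · have hall : ∀ a : F, a ∈ S := by
          intro a
          have : a ∈ S.toIntermediateField hmem := by rw [ht]; exact IntermediateField.mem_top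
          exact this
        have hLtop : M.comap pr = ⊤ :=
          eq_top_of_all (fun a => (hSA a).mp (hall a)) (fun b => (hSB b).mp (hall b))
        rw [eq_top_iff]
        intro x _
        obtain ⟨g, rfl⟩ := pr_surjective x
        have : g ∈ M.comap pr := by rw [hLtop]; exact Subgroup.mem_top _
        exact this
    · exfalso
      have hinj : Function.Injective (fun k : K => (⟨ι k, hmemA k⟩ : ↥(AA (M.comap pr)))) := by
        intro a b h
        exact ι.injective (congrArg Subtype.val h)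
      have hle := Nat.card_le_card_of_injective _ hinj
      rw [hA3, Nat.card_eq_fintype_card, hK] at hle
      have hq3' : q = 3 := by omega
      have hM60 : Nat.card M = 60 := by
        have := card_comap_pr hodd M
        rw [hL120] at this
        omega
      obtain ⟨e⟩ := pglSub_equiv ι hsq
      have hH : Nat.card (pglSub ι) = 24 := by
        rw [Nat.card_congr e.toEquiv, card_PGL, hK, hq3']
        norm_num
      have hdvd := Subgroup.card_dvd_of_le hHM'
      rw [hH, hM60] at hdvd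
      norm_num at hdvd

end finite

end Cfsg.Agent.Lib.H5.PSL2SubfieldMax
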