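import Mathlib
import Cfsg.Agent.Lib.H1.DicksonBridge

/-!
# Realizing subgroups of `SL₂(F)` over the field of traces

For a finite field `F`, a subfield `S` and a subgroup `H ≤ SL₂(F)` all of whose traces lie in `S`
and which contains two elements whose commutator has trace `≠ 2` (absolute irreducibility),
there is `g ∈ GL₂(F)` with `g H g⁻¹ ≤ SL₂(S)`; more generally `g z g⁻¹ ∈ c · M₂(S)` for any matrix
`z` with `tr (h z) ∈ c · S` for all `h ∈ H`.
-/

set_option autoImplicit false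
set_option linter.style.haveILetI false

namespace Cfsg.Agent.Lib.H5.SL2Realize

open Matrix Cfsg.Agent.Lib.H1.DicksonBridge

variable {F : Type*} [Field F]

local notation "SL2" => Matrix.SpecialLinearGroup (Fin 2) F
local notation "M2" => Matrix (Fin 2) (Fin 2) F

/-- for a singular `2 × 2` matrix `a`: `a x a = tr (a x) a` -/
theorem rank_one_identity (a x : M2) (ha : a.det = 0) : a * x * a = (a * x).trace • a := by
  rw [Matrix.det_fin_two] at ha
  ext i j
  fin_cases i <;> fin_cases j <;>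
    simp only [Matrix.mul_apply, Fin.sum_univ_two, Matrix.trace_fin_two, Matrix.smul_apply,
      smul_eq_mul, Fin.zero_eta, Fin.mk_one, Fin.isValue]
  · linear_combination (-(x 1 1)) * ha
  · linear_combination (x 0 1) * ha
  · linear_combination (x 1 0) * ha
  · linear_combination (-(x 0 0)) * ha

/-- `2 det x = (tr x)² - tr (x²)` -/
theorem two_mul_det (x : M2) : 2 * x.det = x.trace ^ 2 - (x * x).trace := by
  rw [Matrix.det_fin_two, Matrix.trace_fin_two, Matrix.trace_fin_two]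
  simp only [Matrix.mul_apply, Fin.sum_univ_two]
  ring

/-- a finite noncommutative ring of `2 × 2` matrices contains a nonzero singular matrix -/
theorem exists_det_zero [Finite F] (A : Subring M2) {x y : M2} (hx : x ∈ A) (hy : y ∈ A)
    (hxy : x * y ≠ y * x) : ∃ a ∈ A, a ≠ 0 ∧ a.det = 0 := by
  by_contra hcon
  push Not at hcon
  haveI : NoZeroDivisors A := ⟨fun {a b} hab => by
    by_contra h
    push Not at h
    have ha := hcon a a.2 (fun h0 => h.1 (Subtype.ext h0))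
    have hb := hcon b b.2 (fun h0 => h.2 (Subtype.ext h0))
    have : ((a : M2) * (b : M2)).det = 0 := by
      rw [← Subring.coe_mul, hab]; simp
    rw [Matrix.det_mul] at this
    rcases mul_eq_zero.mp this with h0 | h0
    · exact ha h0
    · exact hb h0⟩
  haveI : IsDomain A := NoZeroDivisors.to_isDomain A
  have hf := Finite.isDomain_to_isField A
  exact hxy (congrArg Subtype.val (hf.mul_comm ⟨x, hx⟩ ⟨y, hy⟩))

/-- two elements of `SL₂` with a common (right) eigenvector have commutator of trace `2` -/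
theorem trace_comm_of_common_right (h1 h2 : SL2) (v : Fin 2 → F) (hv : v ≠ 0) (c1 c2 : F)
    (e1 : (h1 : M2).mulVec v = c1 • v) (e2 : (h2 : M2).mulVec v = c2 • v) :
    ((h1 * h2 * h1⁻¹ * h2⁻¹ : SL2) : M2).trace = 2 := by
  have hc : ∀ (h : SL2) (c : F), (h : M2).mulVec v = c • v → c ≠ 0 ∧
      ((h⁻¹ : SL2) : M2).mulVec v = c⁻¹ • v := by
    intro h c e
    have h0 : ((h⁻¹ : SL2) : M2).mulVec ((h : M2).mulVec v) = v := by
      rw [Matrix.mulVec_mulVec, ← Matrix.SpecialLinearGroup.coe_mul, inv_mul_cancel]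
      simp
    have hc0 : c ≠ 0 := by
      rintro rfl
      rw [e, zero_smul, Matrix.mulVec_zero] at h0
      exact hv h0.symm
    refine ⟨hc0, ?_⟩
    rw [e, Matrix.mulVec_smul] at h0
    calc ((h⁻¹ : SL2) : M2).mulVec v
        = c⁻¹ • (c • ((h⁻¹ : SL2) : M2).mulVec v) := by
          rw [smul_smul, inv_mul_cancel₀ hc0, one_smul]
      _ = c⁻¹ • v := by rw [h0]
  obtain ⟨hc1, e1'⟩ := hc h1 c1 e1
  obtain ⟨hc2, e2'⟩ := hc h2 c2 e2
  have hfix : ((h1 * h2 * h1⁻¹ * h2⁻¹ : SL2) : M2).mulVec v = v := by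
    have hexp : ((h1 * h2 * h1⁻¹ * h2⁻¹ : SL2) : M2).mulVec v =
        (h1 : M2).mulVec ((h2 : M2).mulVec (((h1⁻¹ : SL2) : M2).mulVec
          (((h2⁻¹ : SL2) : M2).mulVec v))) := by
      simp only [Matrix.SpecialLinearGroup.coe_mul, Matrix.mulVec_mulVec, mul_assoc]
    rw [hexp]
    simp only [Matrix.mulVec_smul, e1, e2, e1', e2', smul_smul]
    have : c2⁻¹ * c1⁻¹ * c2 * c1 = 1 := by field_simp
    rw [this, one_smul]
  exact tr_eq_two_of_fixed _ v hv hfix

/-- an element of `SL₂` fixing a nonzero row vector has trace `2` -/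
theorem trace_eq_two_of_fixed_left (g : SL2) (v : Fin 2 → F) (hv : v ≠ 0)
    (h : Matrix.vecMul v (g : M2) = v) : (g : M2).trace = 2 := by
  have h1 : ((⟨(g : M2)ᵀ, by rw [Matrix.det_transpose]; exact g.2⟩ : SL2) : M2).mulVec v = v := by
    show ((g : M2)ᵀ).mulVec v = v
    rw [Matrix.mulVec_transpose]; exact h
  have := tr_eq_two_of_fixed _ v hv h1
  calc (g : M2).trace = ((g : M2)ᵀ).trace := (Matrix.trace_transpose _).symm
    _ = 2 := this

/-- two elements of `SL₂` with a common left eigenvector have commutator of trace `2` -/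
theorem trace_comm_of_common_left (h1 h2 : SL2) (v : Fin 2 → F) (hv : v ≠ 0) (c1 c2 : F)
    (e1 : Matrix.vecMul v (h1 : M2) = c1 • v) (e2 : Matrix.vecMul v (h2 : M2) = c2 • v) :
    ((h1 * h2 * h1⁻¹ * h2⁻¹ : SL2) : M2).trace = 2 := by
  have hc : ∀ (h : SL2) (c : F), Matrix.vecMul v (h : M2) = c • v → c ≠ 0 ∧
      Matrix.vecMul v ((h⁻¹ : SL2) : M2) = c⁻¹ • v := by
    intro h c e
    have h0 : Matrix.vecMul (Matrix.vecMul v (h : M2)) ((h⁻¹ : SL2) : M2) = v := by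
      rw [Matrix.vecMul_vecMul, ← Matrix.SpecialLinearGroup.coe_mul, mul_inv_cancel]
      simp
    have hc0 : c ≠ 0 := by
      rintro rfl
      rw [e, zero_smul, Matrix.zero_vecMul] at h0
      exact hv h0.symm
    refine ⟨hc0, ?_⟩
    rw [e, Matrix.smul_vecMul] at h0
    calc Matrix.vecMul v ((h⁻¹ : SL2) : M2)
        = c⁻¹ • (c • Matrix.vecMul v ((h⁻¹ : SL2) : M2)) := by
          rw [smul_smul, inv_mul_cancel₀ hc0, one_smul]
      _ = c⁻¹ • v := by rw [h0]
  obtain ⟨hc1, e1'⟩ := hc h1 c1 e1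
  obtain ⟨hc2, e2'⟩ := hc h2 c2 e2
  have hfix : Matrix.vecMul v ((h1 * h2 * h1⁻¹ * h2⁻¹ : SL2) : M2) = v := by
    have hexp : Matrix.vecMul v ((h1 * h2 * h1⁻¹ * h2⁻¹ : SL2) : M2) =
        Matrix.vecMul (Matrix.vecMul (Matrix.vecMul (Matrix.vecMul v (h1 : M2)) (h2 : M2))
          ((h1⁻¹ : SL2) : M2)) ((h2⁻¹ : SL2) : M2) := by
      simp only [Matrix.SpecialLinearGroup.coe_mul, Matrix.vecMul_vecMul, mul_assoc]
    rw [hexp]
    simp only [Matrix.smul_vecMul, e1, e2, e1', e2', smul_smul]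
    have : c1 * c2 * c1⁻¹ * c2⁻¹ = 1 := by field_simp
    rw [this, one_smul]
  exact trace_eq_two_of_fixed_left _ v hv hfix

/-- the submonoid of matrices of a subgroup of `SL₂(F)` -/
def matMonoid (H : Subgroup SL2) : Submonoid M2 where
  carrier := {m | ∃ h ∈ H, (h : M2) = m}
  mul_mem' := by
    rintro _ _ ⟨a, ha, rfl⟩ ⟨b, hb, rfl⟩
    exact ⟨a * b, H.mul_mem ha hb, by simp⟩
  one_mem' := ⟨1, H.one_mem, by simp⟩

/-- the `S`-algebra spanned by `H` -/
def alg (S : Subfield F) (H : Subgroup SL2) : Subalgebra S M2 :=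
  Algebra.adjoin S (matMonoid H : Set M2)

theorem mem_alg_iff (S : Subfield F) (H : Subgroup SL2) (z : M2) :
    z ∈ alg S H ↔ z ∈ Submodule.span S (matMonoid H : Set M2) := by
  rw [alg, ← Subalgebra.mem_toSubmodule, Algebra.adjoin_eq_span, Submonoid.closure_eq]

theorem coe_mem_alg (S : Subfield F) {H : Subgroup SL2} {h : SL2} (hh : h ∈ H) :
    (h : M2) ∈ alg S H :=
  Algebra.subset_adjoin ⟨h, hh, rfl⟩

/-- traces against the algebra -/
theorem trace_mul_mem (S : Subfield F) (H : Subgroup SL2) {c : F} {z : M2}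
    (hz : ∀ h ∈ H, ∃ s ∈ S, ((h : M2) * z).trace = c * s) {w : M2} (hw : w ∈ alg S H) :
    ∃ s ∈ S, (w * z).trace = c * s := by
  rw [mem_alg_iff] at hw
  induction hw using Submodule.span_induction with
  | mem x hx =>
    obtain ⟨h, hh, rfl⟩ := hx
    exact hz h hh
  | zero => exact ⟨0, S.zero_mem, by simp⟩
  | add x y _ _ hx hy =>
    obtain ⟨s, hs, e⟩ := hx
    obtain ⟨t, ht, e'⟩ := hy
    exact ⟨s + t, S.add_mem hs ht, by rw [Matrix.add_mul, Matrix.trace_add, e, e']; ring⟩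
  | smul r x _ hx =>
    obtain ⟨s, hs, e⟩ := hx
    refine ⟨(r : F) * s, S.mul_mem r.2 hs, ?_⟩
    rw [Matrix.smul_mul, Matrix.trace_smul, e]
    show (r : F) * (c * s) = c * ((r : F) * s)
    ring

theorem mulVec_ne_zero (h : SL2) {v : Fin 2 → F} (hv : v ≠ 0) : (h : M2).mulVec v ≠ 0 := by
  intro h0
  apply hv
  have : ((h⁻¹ : SL2) : M2).mulVec ((h : M2).mulVec v) = v := by
    rw [Matrix.mulVec_mulVec, ← Matrix.SpecialLinearGroup.coe_mul, inv_mul_cancel]
    simp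
  rw [← this, h0, Matrix.mulVec_zero]

theorem vecMul_ne_zero (h : SL2) {v : Fin 2 → F} (hv : v ≠ 0) : Matrix.vecMul v (h : M2) ≠ 0 := by
  intro h0
  apply hv
  have : Matrix.vecMul (Matrix.vecMul v (h : M2)) ((h⁻¹ : SL2) : M2) = v := by
    rw [Matrix.vecMul_vecMul, ← Matrix.SpecialLinearGroup.coe_mul, mul_inv_cancel]
    simp
  rw [← this, h0, Matrix.zero_vecMul]

/-- entries of the inverse of an invertible `2 × 2` matrix over `S` -/
theorem inv_entries_mem (S : Subfield F) (T : M2) (hT : ∀ i j, T i j ∈ S) (i j : Fin 2) :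
    T⁻¹ i j ∈ S := by
  have hdet : T.det ∈ S := by
    rw [Matrix.det_fin_two]
    exact S.sub_mem (S.mul_mem (hT 0 0) (hT 1 1)) (S.mul_mem (hT 0 1) (hT 1 0))
  rw [Matrix.inv_def, Ring.inverse_eq_inv', Matrix.adjugate_fin_two, Matrix.smul_apply, smul_eq_mul]
  apply S.mul_mem (S.inv_mem hdet)
  fin_cases i <;> fin_cases j
  · exact hT 1 1
  · exact S.neg_mem (hT 0 1)
  · exact S.neg_mem (hT 1 0)
  · exact hT 0 0

/-- **Realization over the field of traces** -/
theorem exists_conj [Finite F] (S : Subfield F) (H : Subgroup SL2)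
    (htr : ∀ h ∈ H, (h : M2).trace ∈ S) {h1 h2 : SL2} (hh1 : h1 ∈ H) (hh2 : h2 ∈ H)
    (hκ : ((h1 * h2 * h1⁻¹ * h2⁻¹ : SL2) : M2).trace ≠ 2) :
    ∃ g : (M2)ˣ, ∀ (z : M2) (c : F), (∀ h ∈ H, ∃ s ∈ S, ((h : M2) * z).trace = c * s) →
      ∀ i j, ∃ s ∈ S, ((g : M2) * z * ((g⁻¹ : (M2)ˣ) : M2)) i j = c * s := by
  have hnc : (h1 : M2) * (h2 : M2) ≠ (h2 : M2) * (h1 : M2) := by
    intro h
    apply hκ
    have h12 : h1 * h2 = h2 * h1 := Subtype.ext (by simpa using h)
    have h' : h1 * h2 * h1⁻¹ * h2⁻¹ = 1 := by rw [h12]; group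
    rw [h']
    simp [Matrix.trace_fin_two]
  obtain ⟨a, haA, ha0, hadet⟩ := exists_det_zero (alg S H).toSubring
    (coe_mem_alg S hh1) (coe_mem_alg S hh2) hnc
  have haA' : a ∈ alg S H := haA
  obtain ⟨l, k, hlk⟩ : ∃ l k, a l k ≠ 0 := by
    by_contra hcon
    push Not at hcon
    exact ha0 (by ext i j; exact hcon i j)
  obtain ⟨v, hv⟩ : ∃ v : Fin 2 → F, v = fun i => a i k := ⟨_, rfl⟩
  have hv0 : v ≠ 0 := fun h => hlk (by have := congrFun h l; rw [hv] at this; exact this)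
  obtain ⟨φ, hφ⟩ : ∃ φ : Fin 2 → F, φ = fun j => a l j := ⟨_, rfl⟩
  have hφ0 : φ ≠ 0 := fun h => hlk (by have := congrFun h k; rw [hφ] at this; exact this)
  obtain ⟨x₂, hx₂H, hx₂⟩ : ∃ x₂ ∈ H,
      ((x₂ : M2).mulVec v) 0 * v 1 - ((x₂ : M2).mulVec v) 1 * v 0 ≠ 0 := by
    by_contra hcon
    push Not at hcon
    obtain ⟨c1, -, e1⟩ := exists_smul_of_det_eq_zero v _ hv0 (mulVec_ne_zero h1 hv0) (hcon h1 hh1)
    obtain ⟨c2, -, e2⟩ := exists_smul_of_det_eq_zero v _ hv0 (mulVec_ne_zero h2 hv0) (hcon h2 hh2)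
    exact hκ (trace_comm_of_common_right h1 h2 v hv0 c1 c2 e1 e2)
  obtain ⟨y₂, hy₂H, hy₂⟩ : ∃ y₂ ∈ H,
      (Matrix.vecMul φ (y₂ : M2)) 0 * φ 1 - (Matrix.vecMul φ (y₂ : M2)) 1 * φ 0 ≠ 0 := by
    by_contra hcon
    push Not at hcon
    obtain ⟨c1, -, e1⟩ := exists_smul_of_det_eq_zero φ _ hφ0 (vecMul_ne_zero h1 hφ0) (hcon h1 hh1)
    obtain ⟨c2, -, e2⟩ := exists_smul_of_det_eq_zero φ _ hφ0 (vecMul_ne_zero h2 hφ0) (hcon h2 hh2)
    exact hκ (trace_comm_of_common_left h1 h2 φ hφ0 c1 c2 e1 e2)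
  obtain ⟨X, hX⟩ : ∃ X : Fin 2 → M2, X = ![1, (x₂ : M2)] := ⟨_, rfl⟩
  obtain ⟨Y, hY⟩ : ∃ Y : Fin 2 → M2, Y = ![1, (y₂ : M2)] := ⟨_, rfl⟩
  have hXA : ∀ j, X j ∈ alg S H := by
    intro j
    rw [hX]
    fin_cases j
    · exact (alg S H).one_mem
    · exact coe_mem_alg S hx₂H
  have hYA : ∀ j, Y j ∈ alg S H := by
    intro j
    rw [hY]
    fin_cases j
    · exact (alg S H).one_mem
    · exact coe_mem_alg S hy₂H
  obtain ⟨G, hG⟩ : ∃ G : M2, G = Matrix.of fun i j => (a * Y i) l j := ⟨_, rfl⟩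
  obtain ⟨P, hP⟩ : ∃ P : M2, P = Matrix.of fun i j => (X j * a) i k := ⟨_, rfl⟩
  obtain ⟨T, hT⟩ : ∃ T : M2 → M2, T = fun z => Matrix.of fun i j => (a * (Y i * z * X j)).trace :=
    ⟨_, rfl⟩
  have hGzP : ∀ z : M2, G * z * P = a l k • T z := by
    intro z
    ext i j
    have e1 : (G * z * P) i j = ((a * Y i) * z * (X j * a)) l k := by
      rw [hG, hP]
      simp only [Matrix.mul_apply, Fin.sum_univ_two, Matrix.of_apply]
    have e2 : (a * Y i) * z * (X j * a) = a * (Y i * z * X j) * a := by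
      simp only [mul_assoc]
    rw [e1, e2, rank_one_identity _ _ hadet, hT]
    simp only [Matrix.smul_apply, smul_eq_mul, Matrix.of_apply]
    ring
  have hGdet : G.det ≠ 0 := by
    rw [Matrix.det_fin_two, hG]
    simp only [Matrix.of_apply, hY, Matrix.cons_val_zero, Matrix.cons_val_one, mul_one]
    intro h0
    apply hy₂
    rw [hφ]
    simp only [Matrix.vecMul, dotProduct, Fin.sum_univ_two, Matrix.mul_apply] at h0 ⊢
    linear_combination -h0
  have hPdet : P.det ≠ 0 := by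
    rw [Matrix.det_fin_two, hP]
    simp only [Matrix.of_apply, hX, Matrix.cons_val_zero, Matrix.cons_val_one, one_mul]
    intro h0
    apply hx₂
    rw [hv]
    simp only [Matrix.mulVec, dotProduct, Fin.sum_univ_two, Matrix.mul_apply] at h0 ⊢
    linear_combination -h0
  -- entries of `T z`
  have hTz : ∀ (z : M2) (c : F), (∀ h ∈ H, ∃ s ∈ S, ((h : M2) * z).trace = c * s) →
      ∀ i j, ∃ s ∈ S, T z i j = c * s := by
    intro z c hz i j
    have hw : X j * a * Y i ∈ alg S H :=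
      (alg S H).mul_mem ((alg S H).mul_mem (hXA j) haA') (hYA i)
    obtain ⟨s, hs, e⟩ := trace_mul_mem S H hz hw
    refine ⟨s, hs, ?_⟩
    rw [hT]
    simp only [Matrix.of_apply]
    rw [← e]
    calc (a * (Y i * z * X j)).trace = ((a * Y i * z) * X j).trace := by
          simp only [mul_assoc]
      _ = (X j * (a * Y i * z)).trace := Matrix.trace_mul_comm _ _
      _ = (X j * a * Y i * z).trace := by simp only [mul_assoc]
  have hT1 : ∀ i j, T 1 i j ∈ S := by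
    intro i j
    obtain ⟨s, hs, e⟩ := hTz 1 1 (fun h hh => ⟨_, htr h hh, by rw [mul_one, one_mul]⟩) i j
    rw [e, one_mul]; exact hs
  have hGP : G * P = a l k • T 1 := by
    have := hGzP 1
    rwa [mul_one] at this
  have hT1det : (T 1).det ≠ 0 := by
    intro h0
    have : (G * P).det = 0 := by
      rw [hGP, Matrix.det_smul, h0, mul_zero]
    rw [Matrix.det_mul] at this
    rcases mul_eq_zero.mp this with h | h
    · exact hGdet h
    · exact hPdet h
  refine ⟨Matrix.GeneralLinearGroup.mkOfDetNeZero G hGdet, fun z c hz i j => ?_⟩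
  have hGu : ((Matrix.GeneralLinearGroup.mkOfDetNeZero G hGdet : (M2)ˣ) : M2) = G := rfl
  have hGinv : (((Matrix.GeneralLinearGroup.mkOfDetNeZero G hGdet)⁻¹ : (M2)ˣ) : M2) = G⁻¹ := by
    rw [Matrix.coe_units_inv, hGu]
  rw [hGu, hGinv]
  have hGi : G⁻¹ * G = 1 := Matrix.nonsing_inv_mul _ (isUnit_iff_ne_zero.mpr hGdet)
  have hkey : (G * z * G⁻¹) * T 1 = T z := by
    have h1 : (G * z * G⁻¹) * (a l k • T 1) = a l k • T z := by
      rw [← hGP, ← hGzP z]
      calc G * z * G⁻¹ * (G * P) = G * z * (G⁻¹ * G) * P := by simp only [mul_assoc]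
        _ = G * z * P := by rw [hGi, mul_one]
    rw [Matrix.mul_smul] at h1
    have h2 := congrArg (fun M : M2 => (a l k)⁻¹ • M) h1
    simp only [smul_smul, inv_mul_cancel₀ hlk, one_smul] at h2
    exact h2
  have hT1i : T 1 * (T 1)⁻¹ = 1 := Matrix.mul_nonsing_inv _ (isUnit_iff_ne_zero.mpr hT1det)
  have hfin : G * z * G⁻¹ = T z * (T 1)⁻¹ := by
    calc G * z * G⁻¹ = G * z * G⁻¹ * (T 1 * (T 1)⁻¹) := by rw [hT1i, mul_one]
      _ = (G * z * G⁻¹ * T 1) * (T 1)⁻¹ := by rw [← mul_assoc]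
      _ = T z * (T 1)⁻¹ := by rw [hkey]
  rw [hfin, Matrix.mul_apply, Fin.sum_univ_two]
  obtain ⟨s0, hs0, e0⟩ := hTz z c hz i 0
  obtain ⟨s1, hs1, e1⟩ := hTz z c hz i 1
  refine ⟨s0 * (T 1)⁻¹ 0 j + s1 * (T 1)⁻¹ 1 j,
    S.add_mem (S.mul_mem hs0 (inv_entries_mem S _ hT1 0 j))
      (S.mul_mem hs1 (inv_entries_mem S _ hT1 1 j)), ?_⟩
  rw [e0, e1]; ring

end Cfsg.Agent.Lib.H5.SL2Realize
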