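import Mathlib
import Cfsg.Agent.Lib.H5.PSL2Torus

/-!
# Traces of elements of `SL₂(F)` whose image in `PSL₂(F)` has small order
-/

set_option autoImplicit false
set_option linter.style.haveILetI false

namespace Cfsg.Agent.Lib.H5.SL2Traces

open Matrix Cfsg.Agent.Lib.H5.PSL2Torus

variable {F : Type*} [Field F]

local notation "SL2" => Matrix.SpecialLinearGroup (Fin 2) F
local notation "M2" => Matrix (Fin 2) (Fin 2) F
local notation "PSL2" => Matrix.ProjectiveSpecialLinearGroup (Fin 2) F

/-- the sequence `u₀ = 0, u₁ = 1, uₙ₊₂ = t uₙ₊₁ - uₙ` -/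
def uSeq (t : F) : ℕ → F
  | 0 => 0
  | 1 => 1
  | (n + 2) => t * uSeq t (n + 1) - uSeq t n

theorem uSeq_two (t : F) : uSeq t 2 = t := by simp [uSeq]

theorem uSeq_three (t : F) : uSeq t 3 = t ^ 2 - 1 := by simp [uSeq]; ring

theorem uSeq_four (t : F) : uSeq t 4 = t ^ 3 - 2 * t := by simp [uSeq]; ring

theorem uSeq_five (t : F) : uSeq t 5 = t ^ 4 - 3 * t ^ 2 + 1 := by simp [uSeq]; ring

/-- Cayley–Hamilton in `SL₂` -/
theorem cayley (g : SL2) : (g : M2) * (g : M2) = (g : M2).trace • (g : M2) - 1 := by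
  have hdet := g.det_coe
  rw [Matrix.det_fin_two] at hdet
  ext i j
  fin_cases i <;> fin_cases j <;>
    simp only [Matrix.mul_apply, Fin.sum_univ_two, Matrix.trace_fin_two, Matrix.smul_apply,
      smul_eq_mul, Matrix.sub_apply, Matrix.one_apply_eq, Matrix.one_apply_ne, Fin.zero_eta,
      Fin.mk_one, Fin.isValue, ne_eq, zero_ne_one, one_ne_zero, not_false_eq_true, sub_zero]
  · linear_combination (-1 : F) * hdet
  · ring
  · ring
  · linear_combination (-1 : F) * hdet

theorem pow_succ_eq (g : SL2) (n : ℕ) : (g : M2) ^ (n + 1) =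
    uSeq (g : M2).trace (n + 1) • (g : M2) - uSeq (g : M2).trace n • (1 : M2) := by
  induction n with
  | zero => simp [uSeq]
  | succ n ih =>
    rw [pow_succ, ih, Matrix.sub_mul, Matrix.smul_mul, Matrix.smul_mul, cayley, Matrix.one_mul]
    show _ = ((g : M2).trace * uSeq (g : M2).trace (n + 1) - uSeq (g : M2).trace n) • (g : M2) - _
    rw [smul_sub, sub_smul, smul_smul, mul_comm]
    abel

/-- a scalar matrix of determinant one is central -/
theorem pr_eq_one_of_scalar (g : SL2) (c : F) (h : (g : M2) = c • (1 : M2)) : pr g = 1 := by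
  rw [pr_eq_one_iff, Matrix.SpecialLinearGroup.mem_center_iff]
  refine ⟨c, ?_, ?_⟩
  · have hdet := g.det_coe
    rw [h, Matrix.det_smul, Matrix.det_one, mul_one] at hdet
    exact hdet
  · rw [h, Matrix.scalar_apply, Matrix.smul_one_eq_diagonal]

/-- central elements have trace `± 2` -/
theorem trace_of_pr_eq_one (g : SL2) (h : pr g = 1) :
    (g : M2).trace = 2 ∨ (g : M2).trace = -2 := by
  rw [pr_eq_one_iff, Matrix.SpecialLinearGroup.mem_center_iff] at h
  obtain ⟨r, hr, hg⟩ := h
  rw [Fintype.card_fin] at hr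
  have hr' : r = 1 ∨ r = -1 := by
    have : (r - 1) * (r + 1) = 0 := by linear_combination hr
    rcases mul_eq_zero.mp this with h | h
    · left; linear_combination h
    · right; linear_combination h
  rw [← hg, Matrix.scalar_apply, Matrix.trace_fin_two, Matrix.diagonal_apply_eq,
    Matrix.diagonal_apply_eq]
  rcases hr' with rfl | rfl
  · left; norm_num
  · right; norm_num

/-- if `(pr g)ⁿ⁺¹ = 1` then `uₙ₊₁(tr g) = 0` or `pr g = 1` -/
theorem uSeq_eq_zero_of_pow (g : SL2) (n : ℕ) (hn : pr g ^ (n + 1) = 1) :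
    uSeq (g : M2).trace (n + 1) = 0 ∨ pr g = 1 := by
  rw [← map_pow, pr_eq_one_iff, Matrix.SpecialLinearGroup.mem_center_iff] at hn
  obtain ⟨r, -, hg⟩ := hn
  by_cases hu : uSeq (g : M2).trace (n + 1) = 0
  · exact Or.inl hu
  right
  have h1 : ((g ^ (n + 1) : SL2) : M2) = (g : M2) ^ (n + 1) := by
    simp
  rw [h1, pow_succ_eq, Matrix.scalar_apply, ← Matrix.smul_one_eq_diagonal] at hg
  apply pr_eq_one_of_scalar g ((uSeq (g : M2).trace (n + 1))⁻¹ * (r + uSeq (g : M2).trace n))
  have h2 : uSeq (g : M2).trace (n + 1) • (g : M2) =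
      (r + uSeq (g : M2).trace n) • (1 : M2) := by
    rw [add_smul, hg]; abel
  calc (g : M2) = (uSeq (g : M2).trace (n + 1))⁻¹ • (uSeq (g : M2).trace (n + 1) • (g : M2)) := by
        rw [smul_smul, inv_mul_cancel₀ hu, one_smul]
    _ = _ := by rw [h2, smul_smul]

theorem trace_cases_two (g : SL2) (h : pr g ^ 2 = 1) :
    (g : M2).trace = 0 ∨ (g : M2).trace = 2 ∨ (g : M2).trace = -2 := by
  rcases uSeq_eq_zero_of_pow g 1 h with h0 | h0
  · rw [uSeq_two] at h0; exact Or.inl h0
  · exact Or.inr (trace_of_pr_eq_one g h0)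

theorem trace_cases_three (g : SL2) (h : pr g ^ 3 = 1) :
    (g : M2).trace = 1 ∨ (g : M2).trace = -1 ∨ (g : M2).trace = 2 ∨ (g : M2).trace = -2 := by
  rcases uSeq_eq_zero_of_pow g 2 h with h0 | h0
  · rw [uSeq_three] at h0
    have : ((g : M2).trace - 1) * ((g : M2).trace + 1) = 0 := by linear_combination h0
    rcases mul_eq_zero.mp this with h | h
    · left; linear_combination h
    · right; left; linear_combination h
  · exact Or.inr (Or.inr (trace_of_pr_eq_one g h0))

theorem trace_cases_four (g : SL2) (h : pr g ^ 4 = 1) :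
    (g : M2).trace = 0 ∨ (g : M2).trace ^ 2 = 2 ∨ (g : M2).trace = 2 ∨ (g : M2).trace = -2 := by
  rcases uSeq_eq_zero_of_pow g 3 h with h0 | h0
  · rw [uSeq_four] at h0
    have : (g : M2).trace * ((g : M2).trace ^ 2 - 2) = 0 := by linear_combination h0
    rcases mul_eq_zero.mp this with h | h
    · left; exact h
    · right; left; linear_combination h
  · exact Or.inr (Or.inr (trace_of_pr_eq_one g h0))

theorem trace_cases_five (g : SL2) (h : pr g ^ 5 = 1) :
    (g : M2).trace ^ 2 + (g : M2).trace - 1 = 0 ∨ (g : M2).trace ^ 2 - (g : M2).trace - 1 = 0 ∨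
      (g : M2).trace = 2 ∨ (g : M2).trace = -2 := by
  rcases uSeq_eq_zero_of_pow g 4 h with h0 | h0
  · rw [uSeq_five] at h0
    have : ((g : M2).trace ^ 2 + (g : M2).trace - 1) *
        ((g : M2).trace ^ 2 - (g : M2).trace - 1) = 0 := by linear_combination h0
    rcases mul_eq_zero.mp this with h | h
    · left; exact h
    · right; left; exact h
  · exact Or.inr (Or.inr (trace_of_pr_eq_one g h0))

end Cfsg.Agent.Lib.H5.SL2Traces
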