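import Mathlib
import Cfsg.Agent.Lib.H5.SL2Realize
import Cfsg.Agent.Lib.H5.SL2Traces
import Cfsg.Agent.Lib.H5.FrobFix
import Cfsg.Agent.Lib.H5.PSL2MaxTwo
import Cfsg.Agent.Lib.H5.PSL2SubfieldPGLMax

/-!
# Maximal subgroups of `PSL₂(q)`: realization of irreducible maximal subgroups over subfields
-/

set_option autoImplicit false
set_option linter.style.haveILetI false

namespace Cfsg.Agent.Lib.H5.PSL2MaxExc

open Matrix Cfsg.Agent.Lib.H5.PSL2Torus Cfsg.Agent.Lib.H1.DicksonBridge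
  Cfsg.Agent.Lib.H5.SL2Realize Cfsg.Agent.Lib.H5.SL2Traces Cfsg.Agent.Lib.H5.PSL2MaxTwo
  Cfsg.Agent.Lib.H4.Dickson

variable {F : Type*} [Field F] [Fintype F]

local notation "SL2" => Matrix.SpecialLinearGroup (Fin 2) F
local notation "M2" => Matrix (Fin 2) (Fin 2) F
local notation "PSL2" => Matrix.ProjectiveSpecialLinearGroup (Fin 2) F

/-- lifts of a pair whose commutator is an involution have commutator of trace `0` -/
theorem trace_comm_eq_zero {h1 h2 : SL2}
    (hc1 : pr h1 * pr h2 * (pr h1)⁻¹ * (pr h2)⁻¹ ≠ (1 : PSL2))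
    (hc2 : (pr h1 * pr h2 * (pr h1)⁻¹ * (pr h2)⁻¹ : PSL2) ^ 2 = 1) :
    ((h1 * h2 * h1⁻¹ * h2⁻¹ : SL2) : M2).trace = 0 := by
  have e : pr (h1 * h2 * h1⁻¹ * h2⁻¹) = pr h1 * pr h2 * (pr h1)⁻¹ * (pr h2)⁻¹ := by
    simp only [map_mul, map_inv]
  rw [← e] at hc1 hc2
  rcases uSeq_eq_zero_of_pow _ 1 hc2 with h | h
  · rwa [uSeq_two] at h
  · exact absurd h hc1

/-- images of maximal subgroups under isomorphisms are maximal -/
theorem isCoatom_map_equiv {G H : Type*} [Group G] [Group H] (f : G ≃* H) {K : Subgroup G}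
    (hK : IsCoatom K) : IsCoatom (K.map f.toMonoidHom) :=
  (OrderIso.isCoatom_iff f.mapSubgroup K).mpr hK

/-- **Realization of an irreducible maximal subgroup**: if the traces of (the lifts of) a maximal
subgroup `M` lie in `S` then `S = ⊤` or the lift of `M` is conjugate to `SL₂(S)`. -/
theorem coatom_realize (M : Subgroup PSL2) (hM : IsCoatom M) (S : Subfield F)
    (htr : ∀ h : SL2, pr h ∈ M → (h : M2).trace ∈ S)
    {x y : PSL2} (hx : x ∈ M) (hy : y ∈ M) (hc1 : x * y * x⁻¹ * y⁻¹ ≠ 1)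
    (hc2 : (x * y * x⁻¹ * y⁻¹) ^ 2 = 1) (h2 : (2 : F) ≠ 0) :
    S = ⊤ ∨ ∃ g : (M2)ˣ, (M.comap pr).map (cj g).toMonoidHom = subSL S := by
  obtain ⟨h1, rfl⟩ := pr_surjective x
  obtain ⟨h2', rfl⟩ := pr_surjective y
  have hκ : ((h1 * h2' * h1⁻¹ * h2'⁻¹ : SL2) : M2).trace ≠ 2 := by
    rw [trace_comm_eq_zero hc1 hc2]
    exact fun h => h2 h.symm
  obtain ⟨g, hg⟩ := exists_conj S (M.comap pr) (fun h hh => htr h hh)
    (show h1 ∈ M.comap pr from hx) (show h2' ∈ M.comap pr from hy) hκ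
  have hle : (M.comap pr).map (cj g).toMonoidHom ≤ subSL S := by
    rintro _ ⟨z, hz, rfl⟩
    rw [mem_subSL_iff]
    intro i j
    obtain ⟨s, hs, e⟩ := hg (z : M2) 1 (fun h hh => ⟨_, htr (h * z) (by
      show pr (h * z) ∈ M
      rw [map_mul]; exact M.mul_mem hh hz), by
        rw [one_mul, Matrix.SpecialLinearGroup.coe_mul]⟩) i j
    rw [one_mul] at e
    show ((cj g z : SL2) : M2) i j ∈ S
    rw [cj_coe, e]; exact hs
  have hco : IsCoatom ((M.comap pr).map (cj g).toMonoidHom) :=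
    isCoatom_map_equiv (cj g) (Subgroup.isCoatom_comap_of_surjective pr_surjective hM)
  rcases eq_or_lt_of_le hle with h | h
  · exact Or.inr ⟨g, h⟩
  · left
    have htop := hco.2 _ h
    have : (⊤ : Subfield F) ≤ S := by
      apply le_of_subSL_le
      rw [htop]; exact le_top
    exact top_le_iff.mp this

/-- a matrix of `SL₂(F)` which is a scalar multiple of a matrix over `S` gives an element of
`PGL₂(S) ∩ PSL₂(F)` -/
theorem pr_mem_pglSub_of_entries (S : Subfield F) (w : SL2) (c : F) (s : Fin 2 → Fin 2 → F)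
    (hs : ∀ i j, s i j ∈ S) (he : ∀ i j, (w : M2) i j = c * s i j) :
    pr w ∈ PSL2SubfieldMax.pglSub (S.subtype : ↥S →+* F) := by
  have hdet := det_eq w
  rw [he 0 0, he 1 1, he 0 1, he 1 0] at hdet
  have hc : c ≠ 0 := by
    rintro rfl
    simp at hdet
  obtain ⟨γ0, hγ0⟩ : ∃ γ0 : Matrix (Fin 2) (Fin 2) S, γ0 = Matrix.of fun i j => ⟨s i j, hs i j⟩ :=
    ⟨_, rfl⟩
  have hγdet : γ0.det ≠ 0 := by
    intro h0
    rw [Matrix.det_fin_two, hγ0] at h0
    simp only [Matrix.of_apply] at h0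
    have h1 := congrArg (Subtype.val : ↥S → F) h0
    simp only [Subfield.coe_sub, Subfield.coe_mul, ZeroMemClass.coe_zero] at h1
    have : c ^ 2 * (s 0 0 * s 1 1 - s 0 1 * s 1 0) = 1 := by linear_combination hdet
    rw [h1, mul_zero] at this
    exact zero_ne_one this
  rw [PSL2SubfieldMax.pr_mem_pglSub_iff']
  refine ⟨Matrix.GeneralLinearGroup.mkOfDetNeZero γ0 hγdet, Units.mk0 c hc, fun i j => ?_⟩
  rw [Units.val_mk0, he i j, mul_comm]
  congr 1
  show (S.subtype : ↥S →+* F) (γ0 i j) = s i j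
  rw [hγ0]
  rfl

/-- **Realization of a maximal subgroup with an irreducible subgroup of index two** inside
`PGL₂(S)` -/
theorem coatom_realize_pgl (M : Subgroup PSL2) (hM : IsCoatom M) (A : Subgroup PSL2)
    (hAM : A ≤ M) (S : Subfield F) (c : F)
    (htrA : ∀ h : SL2, pr h ∈ A → (h : M2).trace ∈ S)
    (htrM : ∀ h : SL2, pr h ∈ M → pr h ∉ A → ∃ s ∈ S, (h : M2).trace = c * s)
    {x y : PSL2} (hx : x ∈ A) (hy : y ∈ A) (hc1 : x * y * x⁻¹ * y⁻¹ ≠ 1)
    (hc2 : (x * y * x⁻¹ * y⁻¹) ^ 2 = 1) (h2 : (2 : F) ≠ 0) :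
    PSL2SubfieldMax.pglSub (S.subtype : ↥S →+* F) = ⊤ ∨
    ∃ g : (M2)ˣ, (M.comap pr).map (cj g).toMonoidHom =
      (PSL2SubfieldMax.pglSub (S.subtype : ↥S →+* F)).comap pr := by
  obtain ⟨h1, rfl⟩ := pr_surjective x
  obtain ⟨h2', rfl⟩ := pr_surjective y
  have hκ : ((h1 * h2' * h1⁻¹ * h2'⁻¹ : SL2) : M2).trace ≠ 2 := by
    rw [trace_comm_eq_zero hc1 hc2]
    exact fun h => h2 h.symm
  obtain ⟨g, hg⟩ := exists_conj S (A.comap pr) (fun h hh => htrA h hh)
    (show h1 ∈ A.comap pr from hx) (show h2' ∈ A.comap pr from hy) hκ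
  have hle : (M.comap pr).map (cj g).toMonoidHom ≤
      (PSL2SubfieldMax.pglSub (S.subtype : ↥S →+* F)).comap pr := by
    rintro _ ⟨z, hz, rfl⟩
    rw [Subgroup.mem_comap]
    have hzM : pr z ∈ M := hz
    by_cases hzA : pr z ∈ A
    · have := hg (z : M2) 1 (fun h hh => ⟨_, htrA (h * z) (by
        rw [map_mul]; exact A.mul_mem hh hzA), by
          rw [one_mul, Matrix.SpecialLinearGroup.coe_mul]⟩)
      choose s hs he using this
      exact pr_mem_pglSub_of_entries S _ 1 s hs (fun i j => by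
        show ((cj g z : SL2) : M2) i j = 1 * s i j
        rw [cj_coe]; exact he i j)
    · have := hg (z : M2) c (fun h hh => by
        have hhA : pr h ∈ A := hh
        have h3 : pr (h * z) ∉ A := by
          intro hcon
          apply hzA
          rw [map_mul] at hcon
          have := A.mul_mem (A.inv_mem hhA) hcon
          rwa [inv_mul_cancel_left] at this
        have h4 : pr (h * z) ∈ M := by
          rw [map_mul]; exact M.mul_mem (hAM hhA) hzM
        obtain ⟨s, hs, e⟩ := htrM (h * z) h4 h3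
        exact ⟨s, hs, by rw [← Matrix.SpecialLinearGroup.coe_mul]; exact e⟩)
      choose s hs he using this
      exact pr_mem_pglSub_of_entries S _ c s hs (fun i j => by
        show ((cj g z : SL2) : M2) i j = c * s i j
        rw [cj_coe]; exact he i j)
  have hco : IsCoatom ((M.comap pr).map (cj g).toMonoidHom) :=
    isCoatom_map_equiv (cj g) (Subgroup.isCoatom_comap_of_surjective pr_surjective hM)
  rcases eq_or_lt_of_le hle with h | h
  · exact Or.inr ⟨g, h⟩
  · left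
    have htop := hco.2 _ h
    have := congrArg (Subgroup.map (pr (F := F))) htop
    rwa [Subgroup.map_comap_eq_self_of_surjective pr_surjective, ← MonoidHom.range_eq_map,
      MonoidHom.range_eq_top.mpr pr_surjective] at this

end Cfsg.Agent.Lib.H5.PSL2MaxExc
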