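import Mathlib
import Cfsg.Agent.Lib.H5.PSL2MaxExc
import Cfsg.Agent.Lib.H5.PSL2PrimeMax
import Cfsg.Agent.Lib.H5.PSL2DihOddMax

/-!
# Maximal subgroups `A₄`, `S₄`, `A₅` of `PSL₂(q)`: the field of definition
-/

set_option autoImplicit false
set_option linter.style.haveILetI false

namespace Cfsg.Agent.Lib.H5.PSL2MaxExc

open Matrix Cfsg.Agent.Lib.H5.PSL2Torus Cfsg.Agent.Lib.H1.DicksonBridge
  Cfsg.Agent.Lib.H5.SL2Realize Cfsg.Agent.Lib.H5.SL2Traces Cfsg.Agent.Lib.H5.PSL2MaxTwo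
  Cfsg.Agent.Lib.H4.Dickson Cfsg.Agent.Lib.H5.FrobFix

variable {F : Type*} [Field F] [Fintype F]

local notation "SL2" => Matrix.SpecialLinearGroup (Fin 2) F
local notation "M2" => Matrix (Fin 2) (Fin 2) F
local notation "PSL2" => Matrix.ProjectiveSpecialLinearGroup (Fin 2) F

set_option maxRecDepth 100000 in
theorem alt4_pow' : ∀ g : Equiv.Perm (Fin 4), Equiv.Perm.sign g = 1 →
    (g ^ 2 = 1 ∨ g ^ 3 = 1) := by decide

set_option maxRecDepth 100000 in
theorem odd4_pow : ∀ g : Equiv.Perm (Fin 4), Equiv.Perm.sign g ≠ 1 → g ^ 4 = 1 := by decide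

set_option maxRecDepth 100000 in
theorem exists_pair4 : ∃ x y : Equiv.Perm (Fin 4), Equiv.Perm.sign x = 1 ∧
    Equiv.Perm.sign y = 1 ∧ x * y * x⁻¹ * y⁻¹ ≠ 1 ∧ (x * y * x⁻¹ * y⁻¹) ^ 2 = 1 := by decide

set_option maxRecDepth 100000 in
theorem exists_pair5 : ∃ x y : Equiv.Perm (Fin 5), Equiv.Perm.sign x = 1 ∧
    Equiv.Perm.sign y = 1 ∧ x * y * x⁻¹ * y⁻¹ ≠ 1 ∧ (x * y * x⁻¹ * y⁻¹) ^ 2 = 1 := by decide

/-- transfer of a commutator pair along an isomorphism -/
theorem pair_of_equiv {X : Type*} [Group X] (M : Subgroup PSL2) (e : M ≃* X) (x₀ y₀ : X)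
    (h1 : x₀ * y₀ * x₀⁻¹ * y₀⁻¹ ≠ 1) (h2 : (x₀ * y₀ * x₀⁻¹ * y₀⁻¹) ^ 2 = 1) :
    ((e.symm x₀ : M) : PSL2) * (e.symm y₀ : M) * ((e.symm x₀ : M) : PSL2)⁻¹ *
      ((e.symm y₀ : M) : PSL2)⁻¹ ≠ 1 ∧
    (((e.symm x₀ : M) : PSL2) * (e.symm y₀ : M) * ((e.symm x₀ : M) : PSL2)⁻¹ *
      ((e.symm y₀ : M) : PSL2)⁻¹) ^ 2 = 1 := by
  refine ⟨?_, ?_⟩
  · intro h
    apply h1
    have h' : e.symm x₀ * e.symm y₀ * (e.symm x₀)⁻¹ * (e.symm y₀)⁻¹ = 1 := Subtype.ext h
    have := congrArg e h'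
    simpa using this
  · have h' : (e.symm x₀ * e.symm y₀ * (e.symm x₀)⁻¹ * (e.symm y₀)⁻¹) ^ 2 = 1 := by
      have := congrArg e.symm h2
      simpa using this
    exact congrArg Subtype.val h'

/-- transfer of a commutator pair along an isomorphism -/
theorem exists_pair_of_equiv {X : Type*} [Group X] (M : Subgroup PSL2) (e : M ≃* X) (x₀ y₀ : X)
    (h1 : x₀ * y₀ * x₀⁻¹ * y₀⁻¹ ≠ 1) (h2 : (x₀ * y₀ * x₀⁻¹ * y₀⁻¹) ^ 2 = 1) :
    ∃ x y : PSL2, x ∈ M ∧ y ∈ M ∧ x * y * x⁻¹ * y⁻¹ ≠ 1 ∧ (x * y * x⁻¹ * y⁻¹) ^ 2 = 1 :=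
  ⟨(e.symm x₀ : M), (e.symm y₀ : M), (e.symm x₀).2, (e.symm y₀).2,
    (pair_of_equiv M e x₀ y₀ h1 h2).1, (pair_of_equiv M e x₀ y₀ h1 h2).2⟩

/-- transfer of a power relation -/
theorem pow_eq_one_of_equiv {X : Type*} [Group X] (M : Subgroup PSL2) (e : M ≃* X) {m : PSL2}
    (hm : m ∈ M) (n : ℕ) (h : (e ⟨m, hm⟩) ^ n = 1) : m ^ n = 1 := by
  have h1 : e (⟨m, hm⟩ ^ n) = e 1 := by rw [map_pow, h, map_one]
  have := e.injective h1
  exact congrArg Subtype.val this

variable (p : ℕ) [Fact p.Prime] [CharP F p]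

omit [Fintype F] in
theorem orderOf_uu_one : orderOf (uu (1 : F)) = p := by
  apply orderOf_eq_prime
  · rw [← uu_nsmul, nsmul_eq_mul, mul_one, CharP.cast_eq_zero, uu_zero]
  · intro h
    have := congrArg (fun z : SL2 => (z : M2) 0 1) h
    simp at this

/-- the lift of a `p'`-subgroup is not conjugate to a subgroup containing `u(1)` -/
theorem not_conj_of_uu_mem (hodd : Odd (Fintype.card F)) (M : Subgroup PSL2)
    (hpM : ¬ p ∣ Nat.card M) (X : Subgroup SL2) (hu : uu (1 : F) ∈ X) (g : (M2)ˣ)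
    (h : (M.comap pr).map (cj g).toMonoidHom = X) : False := by
  have hp : p.Prime := Fact.out
  rw [← h] at hu
  obtain ⟨z, hz, hzu⟩ := hu
  have hoz : orderOf z = p := by
    rw [← orderOf_uu_one (F := F) p, ← hzu]
    exact (orderOf_injective (cj g).toMonoidHom (cj g).injective z).symm
  have h1 : p ∣ Nat.card (M.comap (pr (F := F))) := by
    rw [← hoz]
    exact Subgroup.orderOf_dvd_natCard _ hz
  rw [PSL2SubfieldMax.card_comap_pr hodd] at h1
  rcases (Nat.Prime.dvd_mul hp).mp h1 with h2 | h2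
  · have hp2 : p = 2 := (Nat.prime_dvd_prime_iff_eq hp Nat.prime_two).mp h2
    have : (2 : F) = 0 := by
      have := CharP.cast_eq_zero F p
      rw [hp2] at this
      exact_mod_cast this
    exact Cfsg.Agent.Lib.H12.two_ne_zero_of_odd hodd this
  · exact hpM h2

omit [Fintype F] in
theorem uu_one_entries (S : Subfield F) (i j : Fin 2) : ((uu (1 : F) : SL2) : M2) i j ∈ S := by
  fin_cases i <;> fin_cases j
  · exact S.one_mem
  · exact S.one_mem
  · exact S.zero_mem
  · exact S.one_mem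

/-- the lift of a `p'`-subgroup is not conjugate to `SL₂(S)` -/
theorem not_conj_subSL (hodd : Odd (Fintype.card F)) (M : Subgroup PSL2)
    (hpM : ¬ p ∣ Nat.card M) (S : Subfield F) (g : (M2)ˣ)
    (h : (M.comap pr).map (cj g).toMonoidHom = subSL S) : False :=
  not_conj_of_uu_mem p hodd M hpM _ ((mem_subSL_iff S _).mpr (uu_one_entries S)) g h

/-- the lift of a `p'`-subgroup is not conjugate to `PGL₂(S) ∩ PSL₂(F)` -/
theorem not_conj_pglSub (hodd : Odd (Fintype.card F)) (M : Subgroup PSL2)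
    (hpM : ¬ p ∣ Nat.card M) (S : Subfield F) (g : (M2)ˣ)
    (h : (M.comap pr).map (cj g).toMonoidHom =
      (PSL2SubfieldMax.pglSub (S.subtype : ↥S →+* F)).comap pr) : False :=
  not_conj_of_uu_mem p hodd M hpM _
    (pr_mem_pglSub_of_entries S _ 1 (fun i j => ((uu (1 : F) : SL2) : M2) i j)
      (uu_one_entries S) (fun i j => (one_mul _).symm)) g h

omit [Fintype F] in
theorem two_mem (S : Subfield F) : (2 : F) ∈ S := by
  have : (2 : F) = 1 + 1 := by norm_num
  rw [this]; exact S.add_mem S.one_mem S.one_mem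

omit [Fintype F] in
theorem trace_mem_of_pow_two (S : Subfield F) (h : SL2) (hh : pr h ^ 2 = 1) :
    (h : M2).trace ∈ S := by
  rcases trace_cases_two h hh with t | t | t <;> rw [t]
  · exact S.zero_mem
  · exact two_mem S
  · exact S.neg_mem (two_mem S)

omit [Fintype F] in
theorem trace_mem_of_pow_three (S : Subfield F) (h : SL2) (hh : pr h ^ 3 = 1) :
    (h : M2).trace ∈ S := by
  rcases trace_cases_three h hh with t | t | t | t <;> rw [t]
  · exact S.one_mem
  · exact S.neg_mem S.one_mem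
  · exact two_mem S
  · exact S.neg_mem (two_mem S)

omit [Fintype F] in
theorem trace_mem_of_pow_five (h : SL2) (hh : pr h ^ 5 = 1) :
    (h : M2).trace ∈ frobFix (F := F) p 2 := by
  rcases trace_cases_five h hh with t | t | t | t
  · apply quad_root_mem p (b := 1) (c := -1) (frobFix p 1).one_mem
      ((frobFix p 1).neg_mem (frobFix p 1).one_mem)
    linear_combination t
  · apply quad_root_mem p (b := -1) (c := -1) ((frobFix p 1).neg_mem (frobFix p 1).one_mem)
      ((frobFix p 1).neg_mem (frobFix p 1).one_mem)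
    linear_combination t
  · rw [t]; exact two_mem _
  · rw [t]; exact (frobFix p 2).neg_mem (two_mem _)

omit [Fintype F] in
theorem trace_mem_of_pow_five' (h2 : (2 : F) ≠ 0) {c : F} (hc : c ∈ frobFix (F := F) p 1)
    (hc5 : c ^ 2 = 5) (h : SL2) (hh : pr h ^ 5 = 1) :
    (h : M2).trace ∈ frobFix (F := F) p 1 := by
  have h2m : (2 : F) ∈ frobFix (F := F) p 1 := two_mem _
  have hi : (2 : F)⁻¹ ∈ frobFix (F := F) p 1 := (frobFix p 1).inv_mem h2m
  rcases trace_cases_five h hh with t | t | t | t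
  · have : (2 * (h : M2).trace + 1 - c) * (2 * (h : M2).trace + 1 + c) = 0 := by
      linear_combination 4 * t - hc5
    rcases mul_eq_zero.mp this with h' | h'
    · have e : (h : M2).trace = (c - 1) * 2⁻¹ := by
        field_simp; linear_combination h'
      rw [e]
      exact (frobFix p 1).mul_mem ((frobFix p 1).sub_mem hc (frobFix p 1).one_mem) hi
    · have e : (h : M2).trace = (-c - 1) * 2⁻¹ := by
        field_simp; linear_combination h'
      rw [e]
      exact (frobFix p 1).mul_mem ((frobFix p 1).sub_mem ((frobFix p 1).neg_mem hc)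
        (frobFix p 1).one_mem) hi
  · have : (2 * (h : M2).trace - 1 - c) * (2 * (h : M2).trace - 1 + c) = 0 := by
      linear_combination 4 * t - hc5
    rcases mul_eq_zero.mp this with h' | h'
    · have e : (h : M2).trace = (c + 1) * 2⁻¹ := by
        field_simp; linear_combination h'
      rw [e]
      exact (frobFix p 1).mul_mem ((frobFix p 1).add_mem hc (frobFix p 1).one_mem) hi
    · have e : (h : M2).trace = (-c + 1) * 2⁻¹ := by
        field_simp; linear_combination h'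
      rw [e]
      exact (frobFix p 1).mul_mem ((frobFix p 1).add_mem ((frobFix p 1).neg_mem hc)
        (frobFix p 1).one_mem) hi
  · rw [t]; exact h2m
  · rw [t]; exact (frobFix p 1).neg_mem h2m

/-- **a maximal `A₄` prime to `p` forces `q = p`** -/
theorem card_eq_of_A4 (hodd : Odd (Fintype.card F)) (M : Subgroup PSL2) (hM : IsCoatom M)
    (hpM : ¬ p ∣ Nat.card M) (e : M ≃* alternatingGroup (Fin 4)) : Fintype.card F = p := by
  have h2F : (2 : F) ≠ 0 := Cfsg.Agent.Lib.H12.two_ne_zero_of_odd hodd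
  obtain ⟨x₀, y₀, hx₀, hy₀, h1, h2⟩ := exists_pair4
  obtain ⟨x, y, hx, hy, hc1, hc2⟩ := exists_pair_of_equiv M e
    ⟨x₀, Equiv.Perm.mem_alternatingGroup.mpr hx₀⟩ ⟨y₀, Equiv.Perm.mem_alternatingGroup.mpr hy₀⟩
    (fun h => h1 (by simpa using congrArg Subtype.val h))
    (Subtype.ext (by simpa using h2))
  have htr : ∀ h : SL2, pr h ∈ M → (h : M2).trace ∈ frobFix (F := F) p 1 := by
    intro h hh
    rcases alt4_pow' (e ⟨pr h, hh⟩ : Equiv.Perm (Fin 4))
      (Equiv.Perm.mem_alternatingGroup.mp (e ⟨pr h, hh⟩).2) with h' | h'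
    · exact trace_mem_of_pow_two _ h
        (pow_eq_one_of_equiv M e hh 2 (Subtype.ext (by simpa using h')))
    · exact trace_mem_of_pow_three _ h
        (pow_eq_one_of_equiv M e hh 3 (Subtype.ext (by simpa using h')))
  rcases coatom_realize M hM (frobFix p 1) htr hx hy hc1 hc2 h2F with h | ⟨g, hg⟩
  · exact card_eq_of_frobFix_one_eq_top p h
  · exact (not_conj_subSL p hodd M hpM _ g hg).elim

omit [Fintype F] in
/-- if `p ≡ ± 1 (mod 5)` then `5` is a square in the prime field -/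
theorem exists_sqrt_five (hp2 : p ≠ 2) (hp : p % 5 = 1 ∨ p % 5 = 4) :
    ∃ c : F, c ∈ frobFix (F := F) p 1 ∧ c ^ 2 = 5 := by
  haveI : Fact (Nat.Prime 5) := ⟨by norm_num⟩
  have h1 : IsSquare ((p : ℕ) : ZMod 5) := by
    rw [← ZMod.natCast_mod p 5]
    rcases hp with h | h <;> rw [h]
    · exact ⟨1, by norm_num⟩
    · exact ⟨2, by norm_num⟩
  have h2 := (ZMod.exists_sq_eq_prime_iff_of_mod_four_eq_one (p := 5) (q := p) (by norm_num)
    hp2).mp h1
  obtain ⟨c0, hc0⟩ := h2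
  refine ⟨ZMod.castHom (dvd_refl p) F c0, castHom_mem p c0, ?_⟩
  rw [pow_two, ← map_mul, ← hc0, map_natCast]
  norm_num

/-- the lift of a subgroup of order `60` is not conjugate to `SL₂(S)` unless `p = 5` -/
theorem not_conj_subSL_A5 (hodd : Odd (Fintype.card F)) (M : Subgroup PSL2)
    (hcard : Nat.card M = 60) (hp5 : p ≠ 5) (S : Subfield F) (g : (M2)ˣ)
    (h : (M.comap pr).map (cj g).toMonoidHom = subSL S) : False := by
  have hp : p.Prime := Fact.out
  haveI : Fintype S := Fintype.ofFinite S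
  have h1 : Nat.card (subSL S) = Fintype.card S * (Fintype.card S ^ 2 - 1) := by
    rw [← Nat.card_congr (subSLEquiv S).toEquiv, Cfsg.Agent.Lib.H12.card_SL2]
  have h2 : Nat.card ((M.comap (pr (F := F))).map (cj g).toMonoidHom) = 120 := by
    rw [← Nat.card_congr ((M.comap (pr (F := F))).equivMapOfInjective (cj g).toMonoidHom
      (cj g).injective).toEquiv, PSL2SubfieldMax.card_comap_pr hodd, hcard]
  rw [h, h1] at h2
  have hs5 : Fintype.card S = 5 := by
    have hle : Fintype.card S ≤ 5 := by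
      by_contra hlt
      push Not at hlt
      have h6 : 6 ≤ Fintype.card S := hlt
      have : 6 * (6 ^ 2 - 1) ≤ Fintype.card S * (Fintype.card S ^ 2 - 1) :=
        Nat.mul_le_mul h6 (Nat.sub_le_sub_right (Nat.pow_le_pow_left h6 2) 1)
      omega
    interval_cases (Fintype.card S) <;> omega
  have h5 : ((5 : ℕ) : F) = 0 := by
    have h' : (S.subtype : ↥S →+* F) ((Fintype.card S : ℕ) : ↥S) = 0 := by
      rw [Nat.cast_card_eq_zero, map_zero]
    rw [map_natCast, hs5] at h'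
    exact h'
  rw [CharP.cast_eq_zero_iff F p] at h5
  exact hp5 ((Nat.prime_dvd_prime_iff_eq hp (by norm_num)).mp h5)

/-- **a maximal `A₅` forces `q = p` or `q = p²`**, `p ≠ 5` -/
theorem card_cases_of_A5 (hodd : Odd (Fintype.card F)) (M : Subgroup PSL2) (hM : IsCoatom M)
    (hp5 : p ≠ 5) (e : M ≃* alternatingGroup (Fin 5)) :
    Fintype.card F = p ∨ (Fintype.card F = p ^ 2 ∧ (p % 10 = 3 ∨ p % 10 = 7)) := by
  have hp : p.Prime := Fact.out
  have h2F : (2 : F) ≠ 0 := Cfsg.Agent.Lib.H12.two_ne_zero_of_odd hodd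
  have hp2 : p ≠ 2 := by
    rintro rfl
    apply h2F
    have := CharP.cast_eq_zero F 2
    exact_mod_cast this
  have hcard : Nat.card M = 60 := by
    rw [Nat.card_congr e.toEquiv, PSL2PrimeMax.card_alt_five]
  obtain ⟨x₀, y₀, hx₀, hy₀, h1, h2⟩ := exists_pair5
  obtain ⟨x, y, hx, hy, hc1, hc2⟩ := exists_pair_of_equiv M e
    ⟨x₀, Equiv.Perm.mem_alternatingGroup.mpr hx₀⟩ ⟨y₀, Equiv.Perm.mem_alternatingGroup.mpr hy₀⟩
    (fun h => h1 (by simpa using congrArg Subtype.val h))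
    (Subtype.ext (by simpa using h2))
  have hpow : ∀ h : SL2, pr h ∈ M → pr h ^ 2 = 1 ∨ pr h ^ 3 = 1 ∨ pr h ^ 5 = 1 := by
    intro h hh
    rcases PSL2DihOddMax.alt5_pow (e ⟨pr h, hh⟩ : Equiv.Perm (Fin 5))
      (Equiv.Perm.mem_alternatingGroup.mp (e ⟨pr h, hh⟩).2) with h' | h' | h'
    · exact Or.inl (pow_eq_one_of_equiv M e hh 2 (Subtype.ext (by simpa using h')))
    · exact Or.inr (Or.inl (pow_eq_one_of_equiv M e hh 3 (Subtype.ext (by simpa using h'))))
    · exact Or.inr (Or.inr (pow_eq_one_of_equiv M e hh 5 (Subtype.ext (by simpa using h'))))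
  have htr : ∀ h : SL2, pr h ∈ M → (h : M2).trace ∈ frobFix (F := F) p 2 := by
    intro h hh
    rcases hpow h hh with h' | h' | h'
    · exact trace_mem_of_pow_two _ h h'
    · exact trace_mem_of_pow_three _ h h'
    · exact trace_mem_of_pow_five p h h'
  rcases coatom_realize M hM (frobFix p 2) htr hx hy hc1 hc2 h2F with h | ⟨g, hg⟩
  swap
  · exact (not_conj_subSL_A5 p hodd M hcard hp5 _ g hg).elim
  rcases card_eq_of_frobFix_two_eq_top p h with hq | hq
  · exact Or.inl hq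
  by_cases hp10 : p % 10 = 3 ∨ p % 10 = 7
  · exact Or.inr ⟨hq, hp10⟩
  exfalso
  have hpodd : p % 2 = 1 := by
    rcases hp.eq_two_or_odd with h | h
    · exact absurd h hp2
    · exact h
  have hp5' : p % 5 ≠ 0 := by
    intro h0
    exact hp5 ((Nat.prime_dvd_prime_iff_eq (by norm_num) hp).mp (Nat.dvd_of_mod_eq_zero h0)).symm
  have hp14 : p % 5 = 1 ∨ p % 5 = 4 := by omega
  obtain ⟨c, hc, hc5⟩ := exists_sqrt_five (F := F) p hp2 hp14
  have htr' : ∀ h : SL2, pr h ∈ M → (h : M2).trace ∈ frobFix (F := F) p 1 := by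
    intro h hh
    rcases hpow h hh with h' | h' | h'
    · exact trace_mem_of_pow_two _ h h'
    · exact trace_mem_of_pow_three _ h h'
    · exact trace_mem_of_pow_five' p h2F hc hc5 h h'
  rcases coatom_realize M hM (frobFix p 1) htr' hx hy hc1 hc2 h2F with h | ⟨g, hg⟩
  · have := card_eq_of_frobFix_one_eq_top p h
    rw [hq] at this
    have h3 : p < p ^ 2 := by nlinarith [hp.two_le]
    omega
  · exact not_conj_subSL_A5 p hodd M hcard hp5 _ g hg

/-- the order of `PGL₂(S) ∩ PSL₂(F)` is at most `|PGL₂(S)|` -/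
theorem card_pglSub_le (S : Subfield F) :
    Nat.card (PSL2SubfieldMax.pglSub (S.subtype : ↥S →+* F)) ≤
      Nat.card S * (Nat.card S ^ 2 - 1) := by
  haveI : Fintype S := Fintype.ofFinite S
  rw [Nat.card_eq_fintype_card (α := S), ← PSL2Subfield.card_PGL (K := S)]
  haveI : Finite (Matrix.ProjGenLinGroup (Fin 2) S) := by
    unfold Matrix.ProjGenLinGroup; infer_instance
  haveI : Finite (Matrix.ProjGenLinGroup.map (n := Fin 2) (S.subtype : ↥S →+* F)).range :=
    Finite.of_equiv _ (MonoidHom.ofInjective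
      (PSL2Subfield.pglMap_injective (S.subtype : ↥S →+* F))).toEquiv
  have h1 : Nat.card (PSL2SubfieldMax.pglSub (S.subtype : ↥S →+* F)) ≤
      Nat.card (Matrix.ProjGenLinGroup.map (n := Fin 2) (S.subtype : ↥S →+* F)).range := by
    apply Nat.card_le_card_of_injective
      (fun x : PSL2SubfieldMax.pglSub (S.subtype : ↥S →+* F) =>
        (⟨Matrix.ProjectiveSpecialLinearGroup.toPGL (x : PSL2), x.2⟩ :
          (Matrix.ProjGenLinGroup.map (n := Fin 2) (S.subtype : ↥S →+* F)).range))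
    intro x y hxy
    have := congrArg Subtype.val hxy
    exact Subtype.ext (Matrix.ProjectiveSpecialLinearGroup.toPGL_injective this)
  have h2 : Nat.card (Matrix.ProjGenLinGroup.map (n := Fin 2) (S.subtype : ↥S →+* F)).range =
      Nat.card (Matrix.ProjGenLinGroup (Fin 2) S) :=
    (Nat.card_congr (MonoidHom.ofInjective
      (PSL2Subfield.pglMap_injective (S.subtype : ↥S →+* F))).toEquiv).symm
  rw [h2] at h1
  exact h1

/-- **a maximal `S₄` prime to `p` forces `q = p`** -/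
theorem card_eq_of_S4 (hodd : Odd (Fintype.card F)) (M : Subgroup PSL2) (hM : IsCoatom M)
    (hpM : ¬ p ∣ Nat.card M) (e : M ≃* Equiv.Perm (Fin 4)) : Fintype.card F = p := by
  have hp : p.Prime := Fact.out
  have h2F : (2 : F) ≠ 0 := Cfsg.Agent.Lib.H12.two_ne_zero_of_odd hodd
  obtain ⟨x₀, y₀, hx₀, hy₀, h1, h2⟩ := exists_pair4
  obtain ⟨A, hA⟩ : ∃ A : Subgroup PSL2,
      A = ((alternatingGroup (Fin 4)).comap e.toMonoidHom).map M.subtype := ⟨_, rfl⟩
  have hmemA : ∀ m : PSL2, m ∈ A ↔ ∃ hm : m ∈ M, Equiv.Perm.sign (e ⟨m, hm⟩) = 1 := by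
    intro m
    rw [hA]
    constructor
    · rintro ⟨m', hm', rfl⟩
      exact ⟨m'.2, Equiv.Perm.mem_alternatingGroup.mp hm'⟩
    · rintro ⟨hm, hs⟩
      exact ⟨⟨m, hm⟩, Equiv.Perm.mem_alternatingGroup.mpr hs, rfl⟩
  have hAM : A ≤ M := fun m hm => ((hmemA m).mp hm).1
  obtain ⟨hc1, hc2⟩ := pair_of_equiv M e x₀ y₀ h1 h2
  obtain ⟨c, hc⟩ : ∃ c : F, ∀ t : F, t ^ 2 = 2 → t = c ∨ t = -c := by
    by_cases hex : ∃ c : F, c ^ 2 = 2
    · obtain ⟨c, hc⟩ := hex
      refine ⟨c, fun t ht => ?_⟩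
      have : (t - c) * (t + c) = 0 := by linear_combination ht - hc
      rcases mul_eq_zero.mp this with h | h
      · left; linear_combination h
      · right; linear_combination h
    · exact ⟨0, fun t ht => (hex ⟨t, ht⟩).elim⟩
  have hxA : (e.symm x₀ : PSL2) ∈ A := (hmemA _).mpr ⟨(e.symm x₀).2, by simpa using hx₀⟩
  have hyA : (e.symm y₀ : PSL2) ∈ A := (hmemA _).mpr ⟨(e.symm y₀).2, by simpa using hy₀⟩
  have htrA : ∀ h : SL2, pr h ∈ A → (h : M2).trace ∈ frobFix (F := F) p 1 := by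
    intro h hh
    obtain ⟨hm, hs⟩ := (hmemA _).mp hh
    rcases alt4_pow' (e ⟨pr h, hm⟩) hs with h' | h'
    · exact trace_mem_of_pow_two _ h (pow_eq_one_of_equiv M e hm 2 h')
    · exact trace_mem_of_pow_three _ h (pow_eq_one_of_equiv M e hm 3 h')
  have htrM : ∀ h : SL2, pr h ∈ M → pr h ∉ A →
      ∃ s ∈ frobFix (F := F) p 1, (h : M2).trace = c * s := by
    intro h hm hnA
    have hs : Equiv.Perm.sign (e ⟨pr h, hm⟩) ≠ 1 := fun hs => hnA ((hmemA _).mpr ⟨hm, hs⟩)
    have h4 := pow_eq_one_of_equiv M e hm 4 (odd4_pow _ hs)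
    have hne : pr h ≠ 1 := by
      intro h1'
      apply hs
      have : (⟨pr h, hm⟩ : M) = 1 := Subtype.ext h1'
      rw [this, map_one, map_one]
    rcases uSeq_eq_zero_of_pow h 3 h4 with h0 | h0
    · rw [uSeq_four] at h0
      have : (h : M2).trace * ((h : M2).trace ^ 2 - 2) = 0 := by linear_combination h0
      rcases mul_eq_zero.mp this with h' | h'
      · exact ⟨0, (frobFix p 1).zero_mem, by rw [h', mul_zero]⟩
      · rcases hc _ (by linear_combination h') with h'' | h''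
        · exact ⟨1, (frobFix p 1).one_mem, by rw [h'', mul_one]⟩
        · exact ⟨-1, (frobFix p 1).neg_mem (frobFix p 1).one_mem, by rw [h'']; ring⟩
    · exact absurd h0 hne
  rcases coatom_realize_pgl M hM A hAM (frobFix p 1) c htrA htrM hxA hyA hc1 hc2 h2F with
    h | ⟨g, hg⟩
  swap
  · exact (not_conj_pglSub p hodd M hpM _ g hg).elim
  -- `pglSub = ⊤`: compare orders
  have h3 := card_pglSub_le (frobFix (F := F) p 1)
  rw [h, Subgroup.card_top] at h3
  have h4 := card_frobFix_le (F := F) p 1 one_ne_zero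
  rw [pow_one] at h4
  have h5 := PSL2PrimeMax.two_mul_card hodd
  obtain ⟨m, hm, hq⟩ := FiniteField.card F p
  by_contra hne
  have hm2 : 2 ≤ (m : ℕ) := by
    by_contra hlt
    push Not at hlt
    have : (m : ℕ) = 1 := by have := m.pos; omega
    apply hne
    rw [hq, this, pow_one]
  have hq2 : p ^ 2 ≤ Fintype.card F := by
    rw [hq]; exact Nat.pow_le_pow_right hp.pos hm2
  have hs1 : 1 ≤ Nat.card (frobFix (F := F) p 1) := Nat.card_pos
  have h6 : Nat.card (frobFix (F := F) p 1) * (Nat.card (frobFix (F := F) p 1) ^ 2 - 1) ≤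
      p * (p ^ 2 - 1) :=
    Nat.mul_le_mul h4 (Nat.sub_le_sub_right (Nat.pow_le_pow_left h4 2) 1)
  have hp2 := hp.two_le
  have h7 : 2 * (p * (p ^ 2 - 1)) < Fintype.card F * (Fintype.card F ^ 2 - 1) := by
    have ha : 2 * p ≤ Fintype.card F := by nlinarith
    have hb : p ^ 2 - 1 < Fintype.card F ^ 2 - 1 := by
      have : p ^ 2 < Fintype.card F ^ 2 := by nlinarith
      have hp1 : 1 ≤ p ^ 2 := Nat.one_le_pow _ _ hp.pos
      omega
    calc 2 * (p * (p ^ 2 - 1)) = (2 * p) * (p ^ 2 - 1) := by ring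
      _ ≤ Fintype.card F * (p ^ 2 - 1) := Nat.mul_le_mul_right _ ha
      _ < Fintype.card F * (Fintype.card F ^ 2 - 1) :=
        Nat.mul_lt_mul_of_pos_left hb (by omega)
  omega

end Cfsg.Agent.Lib.H5.PSL2MaxExc
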