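import Mathlib
import Cfsg.Agent.S3377

set_option autoImplicit false

/-!
# `A₅` from generators

Elements `a`, `b` with `a³ = b⁵ = (ab)² = 1` and `ab ≠ 1` generate a copy of `A₅`.
-/

namespace Cfsg.Agent.Lib.H5.A5Recog

variable {G : Type*} [Group G]

theorem exists_A5_of_gens (a b : G) (ha : a ^ 3 = 1) (hb : b ^ 5 = 1) (hab : (a * b) ^ 2 = 1)
    (hne : a * b ≠ 1) : ∃ H : Subgroup G, Nonempty (H ≃* alternatingGroup (Fin 5)) := by
  obtain ⟨e⟩ := Cfsg.Agent.S3377.result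
  obtain ⟨f, hf0, hf1⟩ : ∃ f : Fin 2 → G, f 0 = a ∧ f 1 = b := ⟨![a, b], rfl, rfl⟩
  have hf : ∀ r ∈ ({FreeGroup.of (0 : Fin 2) ^ 3, FreeGroup.of (1 : Fin 2) ^ 5,
      (FreeGroup.of (0 : Fin 2) * FreeGroup.of 1) ^ 2} : Set (FreeGroup (Fin 2))),
      FreeGroup.lift f r = 1 := by
    intro r hr
    rcases hr with rfl | rfl | rfl
    · simp only [map_pow, FreeGroup.lift_apply_of, hf0]
      exact ha
    · simp only [map_pow, FreeGroup.lift_apply_of, hf1]
      exact hb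
    · simp only [map_pow, map_mul, FreeGroup.lift_apply_of, hf0, hf1]
      exact hab
  obtain ⟨φ, hφ⟩ : ∃ φ : PresentedGroup ({FreeGroup.of (0 : Fin 2) ^ 3, FreeGroup.of (1 : Fin 2) ^ 5,
      (FreeGroup.of (0 : Fin 2) * FreeGroup.of 1) ^ 2} : Set (FreeGroup (Fin 2))) →* G,
      ∀ i, φ (PresentedGroup.of i) = f i :=
    ⟨PresentedGroup.toGroup hf, fun i => PresentedGroup.toGroup.of hf⟩
  obtain ⟨ψ, hψ⟩ : ∃ ψ : alternatingGroup (Fin 5) →* G, ψ = φ.comp e.symm.toMonoidHom := ⟨_, rfl⟩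
  have hker : ψ.ker = ⊥ := by
    rcases (MonoidHom.normal_ker ψ).eq_bot_or_eq_top with h | h
    · exact h
    · exfalso
      apply hne
      have h1 : ψ (e (PresentedGroup.of 0 * PresentedGroup.of 1)) = 1 := by
        rw [← MonoidHom.mem_ker, h]; trivial
      rw [hψ] at h1
      simp only [MonoidHom.coe_comp, MulEquiv.coe_toMonoidHom, Function.comp_apply,
        MulEquiv.symm_apply_apply, map_mul, hφ, hf0, hf1] at h1
      exact h1
  have hinj : Function.Injective ψ := (MonoidHom.ker_eq_bot_iff ψ).mp hker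
  exact ⟨ψ.range, ⟨(MonoidHom.ofInjective hinj).symm⟩⟩

end Cfsg.Agent.Lib.H5.A5Recog
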