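import Mathlib
import Cfsg.Agent.Lib.H5.A5Recog
import Cfsg.Agent.Lib.H5.PSL2Klein
import Cfsg.Agent.Lib.H12.SL2Odd

set_option autoImplicit false

/-!
# `A₅` inside `PSL₂(q)` when `5 ∣ q (q² - 1)`
-/

namespace Cfsg.Agent.Lib.H5.PSL2A5

open Matrix Cfsg.Agent.Lib.H12 Cfsg.Agent.Lib.H5.PSL2Klein

variable {F : Type*} [Field F]

local notation "SL2" => Matrix.SpecialLinearGroup (Fin 2) F
local notation "M2" => Matrix (Fin 2) (Fin 2) F
local notation "PSL2" => Matrix.ProjectiveSpecialLinearGroup (Fin 2) F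

/-! ### Powers of an element of `SL₂` in terms of its trace -/

theorem mul_span (G : M2) (t : F) (hG : G * G = t • G - 1) (α β : F) :
    G * (α • G + β • (1 : M2)) = (α * t + β) • G + (-α) • (1 : M2) := by
  rw [mul_add, mul_smul_comm, mul_smul_comm, hG, mul_one]
  module

theorem pow_three_of_trace (g : SL2) (ht : (g : M2).trace = -1) : g ^ 3 = 1 := by
  have hc := m2_cayley (g : M2) g.det_coe
  rw [ht] at hc
  have e1 : (g : M2) = (1 : F) • (g : M2) + (0 : F) • (1 : M2) := by module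
  have e2 : (g : M2) * (g : M2) = (1 * (-1) + 0 : F) • (g : M2) + (-1 : F) • (1 : M2) := by
    nth_rewrite 2 [e1]
    exact mul_span _ _ hc _ _
  have e3 : (g : M2) * ((g : M2) * (g : M2)) =
      ((1 * (-1) + 0) * (-1) + -1 : F) • (g : M2) + (-(1 * (-1) + 0) : F) • (1 : M2) := by
    rw [e2]
    exact mul_span _ _ hc _ _
  apply Subtype.ext
  have : g ^ 3 = g * (g * g) := by simp only [pow_succ, pow_zero, one_mul, mul_assoc]
  rw [this, Matrix.SpecialLinearGroup.coe_mul, Matrix.SpecialLinearGroup.coe_mul, e3,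
    Matrix.SpecialLinearGroup.coe_one]
  norm_num

theorem pow_five_of_trace (g : SL2) (τ : F) (ht : (g : M2).trace = τ) (hτ : τ ^ 2 + τ - 1 = 0) :
    g ^ 5 = 1 := by
  have hc := m2_cayley (g : M2) g.det_coe
  rw [ht] at hc
  have e1 : (g : M2) = (1 : F) • (g : M2) + (0 : F) • (1 : M2) := by module
  obtain ⟨α₂, hα₂⟩ : ∃ α₂ : F, α₂ = 1 * τ + 0 := ⟨_, rfl⟩
  obtain ⟨β₂, hβ₂⟩ : ∃ β₂ : F, β₂ = -1 := ⟨_, rfl⟩
  have e2 : (g : M2) * (g : M2) = α₂ • (g : M2) + β₂ • (1 : M2) := by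
    nth_rewrite 2 [e1]
    rw [hα₂, hβ₂]
    exact mul_span _ _ hc _ _
  obtain ⟨α₃, hα₃⟩ : ∃ α₃ : F, α₃ = α₂ * τ + β₂ := ⟨_, rfl⟩
  obtain ⟨β₃, hβ₃⟩ : ∃ β₃ : F, β₃ = -α₂ := ⟨_, rfl⟩
  have e3 : (g : M2) * ((g : M2) * (g : M2)) = α₃ • (g : M2) + β₃ • (1 : M2) := by
    rw [e2, hα₃, hβ₃]
    exact mul_span _ _ hc _ _
  obtain ⟨α₄, hα₄⟩ : ∃ α₄ : F, α₄ = α₃ * τ + β₃ := ⟨_, rfl⟩
  obtain ⟨β₄, hβ₄⟩ : ∃ β₄ : F, β₄ = -α₃ := ⟨_, rfl⟩
  have e4 : (g : M2) * ((g : M2) * ((g : M2) * (g : M2))) = α₄ • (g : M2) + β₄ • (1 : M2) := by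
    rw [e3, hα₄, hβ₄]
    exact mul_span _ _ hc _ _
  have e5 : (g : M2) * ((g : M2) * ((g : M2) * ((g : M2) * (g : M2)))) =
      (α₄ * τ + β₄) • (g : M2) + (-α₄) • (1 : M2) := by
    rw [e4]
    exact mul_span _ _ hc _ _
  have h1 : α₄ * τ + β₄ = 0 := by
    rw [hβ₄, hα₄, hβ₃, hα₃, hβ₂, hα₂]
    linear_combination (τ ^ 2 - τ - 1) * hτ
  have h3 : -α₄ = 1 := by
    rw [hα₄, hβ₃, hα₃, hβ₂, hα₂]
    linear_combination (1 - τ) * hτ
  apply Subtype.ext
  have : g ^ 5 = g * (g * (g * (g * g))) := by simp only [pow_succ, pow_zero, one_mul, mul_assoc]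
  rw [this]
  simp only [Matrix.SpecialLinearGroup.coe_mul]
  rw [e5, h1, h3, zero_smul, one_smul, zero_add, Matrix.SpecialLinearGroup.coe_one]

/-! ### The golden ratio in a finite field -/

theorem exists_omega [Fintype F] (n : ℕ) (hF : Fintype.card F = 2 ^ n) (hn : Even n) :
    ∃ w : F, w ^ 2 + w + 1 = 0 := by
  classical
  haveI : Fact (Nat.Prime 3) := ⟨Nat.prime_three⟩
  have hdvd : 3 ∣ Nat.card Fˣ := by
    rw [Nat.card_eq_fintype_card, Fintype.card_units, hF]
    obtain ⟨k, rfl⟩ := hn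
    have hmod : 2 ^ (k + k) % 3 = 1 := by
      rw [← two_mul, pow_mul]
      norm_num [Nat.pow_mod]
    have hpos : 1 ≤ 2 ^ (k + k) := Nat.one_le_two_pow
    omega
  obtain ⟨ω, hω⟩ := exists_prime_orderOf_dvd_card' 3 hdvd
  obtain ⟨w, hw⟩ : ∃ w : F, w = (ω : F) := ⟨_, rfl⟩
  have hw3 : w ^ 3 = 1 := by
    have := pow_orderOf_eq_one ω
    rw [hω] at this
    rw [hw, ← Units.val_pow_eq_pow_val, this, Units.val_one]
  have hw1 : w ≠ 1 := by
    intro h1
    have : ω = 1 := Units.ext (by rw [← hw, h1, Units.val_one])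
    rw [this, orderOf_one] at hω
    omega
  refine ⟨w, ?_⟩
  have h1 : (w - 1) * (w ^ 2 + w + 1) = 0 := by linear_combination hw3
  rcases mul_eq_zero.mp h1 with h | h
  · exact absurd (sub_eq_zero.mp h) hw1
  · exact h

theorem exists_tau [Fintype F]
    (h5 : 5 ∣ Fintype.card F * (Fintype.card F ^ 2 - 1)) : ∃ τ : F, τ ^ 2 + τ - 1 = 0 := by
  classical
  obtain ⟨n, hp, hq⟩ := FiniteField.card F (ringChar F)
  by_cases h5F : (5 : F) = 0
  · exact ⟨2, by linear_combination h5F⟩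
  have hp5 : ringChar F ≠ 5 := by
    intro h
    apply h5F
    have := CharP.cast_eq_zero F (ringChar F)
    rw [h] at this
    exact_mod_cast this
  have hcop : Nat.Coprime 5 (Fintype.card F) := by
    rw [hq]
    apply Nat.Coprime.pow_right
    rw [Nat.coprime_primes Nat.prime_five hp]
    exact fun h => hp5 h.symm
  have h5' : 5 ∣ Fintype.card F ^ 2 - 1 := hcop.dvd_of_dvd_mul_left h5
  by_cases h2F : (2 : F) = 0
  · -- characteristic two
    have hp2 : ringChar F = 2 := by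
      have : ((2 : ℕ) : F) = 0 := by exact_mod_cast h2F
      have hd := (ringChar.spec F 2).mp this
      exact (Nat.prime_dvd_prime_iff_eq hp Nat.prime_two).mp hd
    rw [hp2] at hq
    have hn : Even (n : ℕ) := by
      rw [← Nat.not_odd_iff_even]
      rintro ⟨k, hk⟩
      rw [hq, hk, ← pow_mul] at h5'
      have hmod : 2 ^ ((2 * k + 1) * 2) % 5 = 4 := by
        have : (2 * k + 1) * 2 = 4 * k + 2 := by ring
        rw [this, pow_add, pow_mul]
        norm_num [Nat.mul_mod, Nat.pow_mod]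
      have hpos : 1 ≤ 2 ^ ((2 * k + 1) * 2) := Nat.one_le_two_pow
      omega
    obtain ⟨w, hw⟩ := exists_omega (n : ℕ) hq hn
    exact ⟨w, by linear_combination hw - h2F⟩
  · -- odd characteristic different from five
    have hp2 : ringChar F ≠ 2 := by
      intro h
      apply h2F
      have := CharP.cast_eq_zero F (ringChar F)
      rw [h] at this
      exact_mod_cast this
    have hqodd : Fintype.card F % 2 = 1 := FiniteField.odd_card_of_char_ne_two hp2
    have hq5 : Fintype.card F % 5 = 1 ∨ Fintype.card F % 5 = 4 := by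
      have h1 : Fintype.card F ^ 2 % 5 = (Fintype.card F % 5) ^ 2 % 5 := Nat.pow_mod _ _ _
      have hpos : 1 ≤ Fintype.card F ^ 2 := Nat.one_le_pow _ _ Fintype.card_pos
      have h3 : Fintype.card F ^ 2 % 5 = 1 := by omega
      rw [h1] at h3
      have h4 : Fintype.card F % 5 < 5 := Nat.mod_lt _ (by norm_num)
      interval_cases hr : Fintype.card F % 5 <;> simp_all
    haveI : Fact (Nat.Prime 5) := ⟨Nat.prime_five⟩
    have hsq : IsSquare ((5 : ℕ) : F) := by
      rw [FiniteField.isSquare_odd_prime_iff hp2 (by norm_num)]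
      intro hneg
      rw [quadraticChar_neg_one_iff_not_isSquare] at hneg
      apply hneg
      have hχ : ((ZMod.χ₄ (Fintype.card F : ZMod 4) : ℤ) : ZMod 5) = 1 ∨
          ((ZMod.χ₄ (Fintype.card F : ZMod 4) : ℤ) : ZMod 5) = -1 := by
        rw [ZMod.χ₄_nat_eq_if_mod_four]
        have : ¬ Fintype.card F % 2 = 0 := by omega
        rw [if_neg this]
        split_ifs
        · left; norm_num
        · right; norm_num
      have hqz : ((Fintype.card F : ℕ) : ZMod 5) = 1 ∨ ((Fintype.card F : ℕ) : ZMod 5) = -1 := by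
        rw [← ZMod.natCast_mod]
        rcases hq5 with h | h
        · left; rw [h]; rfl
        · right; rw [h]; rfl
      have hm1 : IsSquare (-1 : ZMod 5) := ⟨2, by rfl⟩
      rcases hχ with h1 | h1 <;> rcases hqz with h3 | h3 <;> rw [h1, h3]
      · rw [one_mul]; exact IsSquare.one
      · rw [one_mul]; exact hm1
      · rw [mul_one]; exact hm1
      · rw [neg_mul_neg, one_mul]; exact IsSquare.one
    obtain ⟨s, hs⟩ := hsq
    refine ⟨(s - 1) / 2, ?_⟩
    have hs' : s * s = 5 := by rw [← hs]; norm_num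
    field_simp
    linear_combination hs'

theorem exists_ab [Fintype F] (τ : F) (hτ : τ ^ 2 + τ - 1 = 0) :
    ∃ a b : F, a ^ 2 + a + b ^ 2 + τ * b + 1 = 0 := by
  by_cases h2F : (2 : F) = 0
  · exact ⟨τ, 0, by linear_combination hτ + h2F⟩
  · have hodd : Odd (Fintype.card F) := by
      rw [Nat.odd_iff]
      apply FiniteField.odd_card_of_char_ne_two
      intro hc
      apply h2F
      have := CharP.cast_eq_zero F (ringChar F)
      rw [hc] at this
      exact_mod_cast this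
    have h4 : (4 : F) ≠ 0 := by
      have : (4 : F) = 2 * 2 := by norm_num
      rw [this]; exact mul_ne_zero h2F h2F
    obtain ⟨x, y, hxy⟩ := binary_form_universal hodd 1 0 1 ((1 + τ ^ 2) / 4 - 1)
      (by intro h; apply h4; linear_combination (-1 : F) * h)
    refine ⟨x - 1 / 2, y - τ / 2, ?_⟩
    field_simp
    field_simp at hxy
    linear_combination hxy

/-! ### The subgroup -/

theorem j0_not_mem_center : (j0 : SL2) ∉ Subgroup.center SL2 := by
  intro h
  have h1 : ((j0 : SL2) : M2) 0 1 = 1 := by simp [j0]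
  rcases Cfsg.Agent.Lib.H12.sl2_center_cases _ h with h' | h'
  · rw [h'] at h1
    simp at h1
  · rw [h'] at h1
    simp at h1

theorem exists_A5 [Fintype F]
    (h5 : 5 ∣ Fintype.card F * (Fintype.card F ^ 2 - 1)) :
    ∃ H : Subgroup PSL2, Nonempty (H ≃* alternatingGroup (Fin 5)) := by
  obtain ⟨τ, hτ⟩ := exists_tau h5
  obtain ⟨a, b, hab⟩ := exists_ab τ hτ
  obtain ⟨y, hy⟩ : ∃ y : SL2, (y : M2) = !![a, b; b + τ, -1 - a] :=
    ⟨⟨!![a, b; b + τ, -1 - a], by rw [Matrix.det_fin_two]; simp; linear_combination (-1 : F) * hab⟩, rfl⟩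
  have hytr : (y : M2).trace = -1 := by
    rw [hy, Matrix.trace_fin_two]; simp
  have hztr : ((j0 * y : SL2) : M2).trace = τ := by
    rw [Matrix.SpecialLinearGroup.coe_mul, hy]
    show ((!![0, 1; -1, 0] : M2) * !![a, b; b + τ, -1 - a]).trace = τ
    rw [Matrix.mul_fin_two, Matrix.trace_fin_two]
    simp
  have hy3 := pow_three_of_trace y hytr
  have hz5 := pow_five_of_trace (j0 * y) τ hztr hτ
  apply Cfsg.Agent.Lib.H5.A5Recog.exists_A5_of_gens (QuotientGroup.mk y : PSL2)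
    (QuotientGroup.mk (j0 * y)⁻¹)
  · rw [← QuotientGroup.mk_pow, hy3]; rfl
  · rw [← QuotientGroup.mk_pow, inv_pow, hz5, inv_one]; rfl
  · rw [← QuotientGroup.mk_mul, ← QuotientGroup.mk_pow]
    have : (y * (j0 * y)⁻¹) ^ 2 = (j0 * j0)⁻¹ := by group
    rw [this, j0_mul_self]
    exact (QuotientGroup.eq_one_iff _).mpr
      (Subgroup.inv_mem _ Cfsg.Agent.Lib.H12.sl2_neg_one_mem_center)
  · rw [← QuotientGroup.mk_mul]
    intro h
    have h1 := (QuotientGroup.eq_one_iff _).mp h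
    have : y * (j0 * y)⁻¹ = j0⁻¹ := by group
    rw [this] at h1
    exact j0_not_mem_center (by simpa using Subgroup.inv_mem _ h1)

end Cfsg.Agent.Lib.H5.PSL2A5
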