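import Mathlib
import Cfsg.Agent.Lib.H5.PSL2KleinNorm
import Cfsg.Agent.Lib.H5.A4Recog
import Cfsg.Agent.Lib.H5.PSL2A5
import Cfsg.Agent.Lib.H5.PSL2PrimeMax

/-!
# Maximal `A₄` in `PSL₂(p)`: congruence conditions via Klein four-subgroups
-/

set_option autoImplicit false
set_option linter.style.haveILetI false

namespace Cfsg.Agent.Lib.H5.PSL2MaxKlein

open Cfsg.Agent.Lib.H5.KleinCount

section Generic

variable {G : Type*} [Group G]

set_option maxRecDepth 100000 in
theorem alt4_invol : ∀ g : Equiv.Perm (Fin 4), Equiv.Perm.sign g = 1 → g * g = 1 →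
    g = 1 ∨ g = Equiv.swap 0 1 * Equiv.swap 2 3 ∨ g = Equiv.swap 0 2 * Equiv.swap 1 3 ∨
      g = (Equiv.swap 0 1 * Equiv.swap 2 3) * (Equiv.swap 0 2 * Equiv.swap 1 3) := by decide

set_option maxRecDepth 100000 in
theorem alt4_ab : Equiv.Perm.sign (Equiv.swap (0 : Fin 4) 1 * Equiv.swap 2 3) = 1 ∧
    Equiv.Perm.sign (Equiv.swap (0 : Fin 4) 2 * Equiv.swap 1 3) = 1 ∧
    (Equiv.swap (0 : Fin 4) 1 * Equiv.swap 2 3) * (Equiv.swap 0 1 * Equiv.swap 2 3) = 1 ∧
    (Equiv.swap (0 : Fin 4) 2 * Equiv.swap 1 3) * (Equiv.swap 0 2 * Equiv.swap 1 3) = 1 ∧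
    (Equiv.swap (0 : Fin 4) 1 * Equiv.swap 2 3) * (Equiv.swap 0 2 * Equiv.swap 1 3) =
      (Equiv.swap 0 2 * Equiv.swap 1 3) * (Equiv.swap 0 1 * Equiv.swap 2 3) ∧
    (Equiv.swap (0 : Fin 4) 1 * Equiv.swap 2 3) ≠ 1 ∧
    (Equiv.swap (0 : Fin 4) 2 * Equiv.swap 1 3) ≠ 1 ∧
    (Equiv.swap (0 : Fin 4) 2 * Equiv.swap 1 3) ≠ (Equiv.swap 0 1 * Equiv.swap 2 3) := by decide

/-- a subgroup isomorphic to `A₄` normalizes a Klein four-subgroup which it contains -/
theorem exists_klein_of_A4 (M : Subgroup G) (e : M ≃* alternatingGroup (Fin 4)) :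
    ∃ V : Subgroup G, IsKleinFour V ∧ V ≤ M ∧ M ≤ Subgroup.normalizer (V : Set G) := by
  obtain ⟨hsa, hsb, haa, hbb, hab, ha1, hb1, hba⟩ := alt4_ab
  obtain ⟨f, hf⟩ : ∃ f : alternatingGroup (Fin 4) →* G, f = M.subtype.comp e.symm.toMonoidHom :=
    ⟨_, rfl⟩
  have hfinj : Function.Injective f := by
    rw [hf]
    exact M.subtype_injective.comp e.symm.injective
  have hfM : ∀ z, f z ∈ M := fun z => by rw [hf]; exact (e.symm z).2
  have hfe : ∀ (w : G) (hw : w ∈ M), f (e ⟨w, hw⟩) = w := by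
    intro w hw
    rw [hf]
    show ((e.symm (e ⟨w, hw⟩) : M) : G) = w
    rw [e.symm_apply_apply]
  obtain ⟨a', ha'⟩ : ∃ a' : alternatingGroup (Fin 4),
      (a' : Equiv.Perm (Fin 4)) = Equiv.swap 0 1 * Equiv.swap 2 3 :=
    ⟨⟨_, Equiv.Perm.mem_alternatingGroup.mpr hsa⟩, rfl⟩
  obtain ⟨b', hb'⟩ : ∃ b' : alternatingGroup (Fin 4),
      (b' : Equiv.Perm (Fin 4)) = Equiv.swap 0 2 * Equiv.swap 1 3 :=
    ⟨⟨_, Equiv.Perm.mem_alternatingGroup.mpr hsb⟩, rfl⟩
  have haa' : a' * a' = 1 := Subtype.ext (by rw [Subgroup.coe_mul, ha']; exact haa)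
  have hbb' : b' * b' = 1 := Subtype.ext (by rw [Subgroup.coe_mul, hb']; exact hbb)
  have hab' : a' * b' = b' * a' := Subtype.ext (by
    rw [Subgroup.coe_mul, Subgroup.coe_mul, ha', hb']; exact hab)
  have ha1' : a' ≠ 1 := fun h => ha1 (by rw [← ha', h]; rfl)
  have hb1' : b' ≠ 1 := fun h => hb1 (by rw [← hb', h]; rfl)
  have hba' : b' ≠ a' := fun h => hba (by rw [← ha', ← hb', h])
  have h1 : f a' * f b' = f b' * f a' := by rw [← map_mul, hab', map_mul]
  have h2 : f a' * f a' = 1 := by rw [← map_mul, haa', map_one]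
  have h3 : f b' * f b' = 1 := by rw [← map_mul, hbb', map_one]
  have h4 : f a' ≠ 1 := fun h => ha1' (hfinj (by rw [h, map_one]))
  have h5 : f b' ≠ 1 := fun h => hb1' (hfinj (by rw [h, map_one]))
  have h6 : f b' ≠ f a' := fun h => hba' (hfinj h)
  have hV := isKleinFour_kleinSub h1 h2 h3 h4 h5 h6
  have hVM : kleinSub (f a') (f b') h1 h2 h3 ≤ M := by
    intro v hv
    rcases (mem_kleinSub h1 h2 h3 v).mp hv with rfl | rfl | rfl | rfl
    · exact M.one_mem
    · exact hfM _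
    · exact hfM _
    · exact M.mul_mem (hfM _) (hfM _)
  have hchar : ∀ w : G, w ∈ M → w * w = 1 → w ∈ kleinSub (f a') (f b') h1 h2 h3 := by
    intro w hw hww
    have hs := Equiv.Perm.mem_alternatingGroup.mp (e ⟨w, hw⟩).2
    have hsq : ((e ⟨w, hw⟩ : alternatingGroup (Fin 4)) : Equiv.Perm (Fin 4)) *
        (e ⟨w, hw⟩ : alternatingGroup (Fin 4)) = 1 := by
      have : (⟨w, hw⟩ : M) * ⟨w, hw⟩ = 1 := Subtype.ext hww
      rw [← Subgroup.coe_mul, ← map_mul, this, map_one]; rfl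
    rw [mem_kleinSub, ← hfe w hw]
    rcases alt4_invol _ hs hsq with h | h | h | h
    · left
      have : e ⟨w, hw⟩ = 1 := Subtype.ext h
      rw [this, map_one]
    · right; left
      have : e ⟨w, hw⟩ = a' := Subtype.ext (by rw [h, ha'])
      rw [this]
    · right; right; left
      have : e ⟨w, hw⟩ = b' := Subtype.ext (by rw [h, hb'])
      rw [this]
    · right; right; right
      have : e ⟨w, hw⟩ = a' * b' := Subtype.ext (by rw [h, Subgroup.coe_mul, ha', hb'])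
      rw [this, map_mul]
  haveI : Finite (kleinSub (f a') (f b') h1 h2 h3) :=
    Nat.finite_of_card_ne_zero (by rw [hV.card_four]; norm_num)
  refine ⟨_, hV, hVM, fun m hm => ?_⟩
  apply A4Recog.mem_normalizer_of_conj_mem
  intro v hv
  apply hchar
  · exact M.mul_mem (M.mul_mem hm (hVM hv)) (M.inv_mem hm)
  · have hvv : v * v = 1 := by
      rcases (mem_kleinSub h1 h2 h3 v).mp hv with rfl | rfl | rfl | rfl
      · simp
      · exact h2
      · exact h3
      · calc f a' * f b' * (f a' * f b') = f a' * (f b' * f a') * f b' := by group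
          _ = f a' * (f a' * f b') * f b' := by rw [h1]
          _ = (f a' * f a') * (f b' * f b') := by group
          _ = 1 := by rw [h2, h3, one_mul]
    calc m * v * m⁻¹ * (m * v * m⁻¹) = m * (v * v) * m⁻¹ := by group
      _ = 1 := by rw [hvv]; group

/-- in a finite group of order divisible by `8`, the normalizer of a subgroup of order `4` has
order divisible by `8` -/
theorem eight_dvd_card_normalizer [Finite G] (V : Subgroup G) (hV : Nat.card V = 4)
    (h8 : 8 ∣ Nat.card G) : 8 ∣ Nat.card (Subgroup.normalizer (V : Set G)) := by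
  haveI : Fact (Nat.Prime 2) := ⟨Nat.prime_two⟩
  have hVp : IsPGroup 2 V := IsPGroup.of_card (n := 2) (by rw [hV]; norm_num)
  obtain ⟨P, hP⟩ := hVp.exists_le_sylow
  have h8P : 2 ^ 3 ∣ Nat.card P := P.pow_dvd_card_of_pow_dvd_card (by norm_num; exact h8)
  obtain ⟨V', hV'⟩ : ∃ V' : Subgroup P, V' = V.subgroupOf P := ⟨_, rfl⟩
  have hcV' : Nat.card V' = 4 := by
    rw [hV', Nat.card_congr (Subgroup.subgroupOfEquivOfLe hP).toEquiv, hV]
  have hmap : V'.map (P : Subgroup G).subtype = V := by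
    rw [hV']; exact Subgroup.map_subgroupOf_eq_of_le hP
  have hlt : V' < ⊤ := by
    rw [lt_top_iff_ne_top]
    intro h
    have : Nat.card V' = Nat.card P := by rw [h, Subgroup.card_top]
    rw [hcV'] at this
    rw [← this] at h8P
    norm_num at h8P
  haveI : Group.IsNilpotent P := P.isPGroup'.isNilpotent
  have hnc := normalizerCondition_of_isNilpotent (G := P) V' hlt
  obtain ⟨k, hk⟩ := (P.isPGroup'.to_subgroup (Subgroup.normalizer (V' : Set P))).exists_card_eq
  have h4 : 4 ∣ Nat.card (Subgroup.normalizer (V' : Set P)) := by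
    rw [← hcV']
    exact Subgroup.card_dvd_of_le Subgroup.le_normalizer
  have hne : Nat.card (Subgroup.normalizer (V' : Set P)) ≠ 4 := by
    intro h
    have := Subgroup.eq_of_le_of_card_ge (Subgroup.le_normalizer (H := V')) (by rw [h, hcV'])
    exact hnc.ne this
  have h8N : 8 ∣ Nat.card (Subgroup.normalizer (V' : Set P)) := by
    rw [hk] at h4 hne ⊢
    have hk3 : 3 ≤ k := by
      by_contra hlt
      push Not at hlt
      interval_cases k <;> omega
    exact (pow_dvd_pow 2 hk3 : 2 ^ 3 ∣ 2 ^ k)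
  have hle : (Subgroup.normalizer (V' : Set P)).map (P : Subgroup G).subtype ≤
      Subgroup.normalizer (V : Set G) := by
    have := Subgroup.le_normalizer_map (H := V') (P : Subgroup G).subtype
    rwa [hmap] at this
  have hcm : Nat.card ((Subgroup.normalizer (V' : Set P)).map (P : Subgroup G).subtype) =
      Nat.card (Subgroup.normalizer (V' : Set P)) :=
    Subgroup.card_map_of_injective (P : Subgroup G).subtype_injective
  exact (hcm ▸ h8N).trans (Subgroup.card_dvd_of_le hle)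

set_option maxRecDepth 100000 in
theorem alt5_abc : Equiv.Perm.sign (Equiv.swap (0 : Fin 5) 1 * Equiv.swap 2 3) = 1 ∧
    Equiv.Perm.sign (Equiv.swap (0 : Fin 5) 2 * Equiv.swap 1 3) = 1 ∧
    Equiv.Perm.sign (Equiv.swap (0 : Fin 5) 1 * Equiv.swap 1 2) = 1 ∧
    (Equiv.swap (0 : Fin 5) 1 * Equiv.swap 2 3) * (Equiv.swap 0 1 * Equiv.swap 2 3) = 1 ∧
    (Equiv.swap (0 : Fin 5) 2 * Equiv.swap 1 3) * (Equiv.swap 0 2 * Equiv.swap 1 3) = 1 ∧
    (Equiv.swap (0 : Fin 5) 1 * Equiv.swap 2 3) * (Equiv.swap 0 2 * Equiv.swap 1 3) =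
      (Equiv.swap 0 2 * Equiv.swap 1 3) * (Equiv.swap 0 1 * Equiv.swap 2 3) ∧
    (Equiv.swap (0 : Fin 5) 1 * Equiv.swap 2 3) ≠ 1 ∧
    (Equiv.swap (0 : Fin 5) 2 * Equiv.swap 1 3) ≠ 1 ∧
    (Equiv.swap (0 : Fin 5) 2 * Equiv.swap 1 3) ≠ (Equiv.swap 0 1 * Equiv.swap 2 3) ∧
    (Equiv.swap (0 : Fin 5) 1 * Equiv.swap 1 2) ^ 3 = 1 ∧
    (Equiv.swap (0 : Fin 5) 1 * Equiv.swap 1 2) ≠ 1 := by decide

set_option maxRecDepth 100000 in
theorem alt5_conj :
    ((Equiv.swap (0 : Fin 5) 1 * Equiv.swap 1 2) * (Equiv.swap 0 1 * Equiv.swap 2 3) *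
        (Equiv.swap (0 : Fin 5) 1 * Equiv.swap 1 2)⁻¹ =
      (Equiv.swap 0 2 * Equiv.swap 1 3) ∨
     (Equiv.swap (0 : Fin 5) 1 * Equiv.swap 1 2) * (Equiv.swap 0 1 * Equiv.swap 2 3) *
        (Equiv.swap (0 : Fin 5) 1 * Equiv.swap 1 2)⁻¹ =
      (Equiv.swap 0 1 * Equiv.swap 2 3) * (Equiv.swap 0 2 * Equiv.swap 1 3)) ∧
    ((Equiv.swap (0 : Fin 5) 1 * Equiv.swap 1 2) * (Equiv.swap 0 2 * Equiv.swap 1 3) *
        (Equiv.swap (0 : Fin 5) 1 * Equiv.swap 1 2)⁻¹ =
      (Equiv.swap 0 1 * Equiv.swap 2 3) ∨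
     (Equiv.swap (0 : Fin 5) 1 * Equiv.swap 1 2) * (Equiv.swap 0 2 * Equiv.swap 1 3) *
        (Equiv.swap (0 : Fin 5) 1 * Equiv.swap 1 2)⁻¹ =
      (Equiv.swap 0 1 * Equiv.swap 2 3) * (Equiv.swap 0 2 * Equiv.swap 1 3)) := by decide

/-- a subgroup isomorphic to `A₅` contains a Klein four-subgroup normalized by an element of
order three -/
theorem exists_klein_of_A5 (K : Subgroup G) (e : K ≃* alternatingGroup (Fin 5)) :
    ∃ W : Subgroup G, IsKleinFour W ∧ W ≤ K ∧
      ∃ c ∈ K, orderOf c = 3 ∧ c ∈ Subgroup.normalizer (W : Set G) := by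
  obtain ⟨hsa, hsb, hsc, haa, hbb, hab, ha1, hb1, hba, hc3, hc1⟩ := alt5_abc
  obtain ⟨hca, hcb⟩ := alt5_conj
  obtain ⟨f, hf⟩ : ∃ f : alternatingGroup (Fin 5) →* G, f = K.subtype.comp e.symm.toMonoidHom :=
    ⟨_, rfl⟩
  have hfinj : Function.Injective f := by
    rw [hf]
    exact K.subtype_injective.comp e.symm.injective
  have hfK : ∀ z, f z ∈ K := fun z => by rw [hf]; exact (e.symm z).2
  obtain ⟨a', ha'⟩ : ∃ a' : alternatingGroup (Fin 5),
      (a' : Equiv.Perm (Fin 5)) = Equiv.swap 0 1 * Equiv.swap 2 3 :=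
    ⟨⟨_, Equiv.Perm.mem_alternatingGroup.mpr hsa⟩, rfl⟩
  obtain ⟨b', hb'⟩ : ∃ b' : alternatingGroup (Fin 5),
      (b' : Equiv.Perm (Fin 5)) = Equiv.swap 0 2 * Equiv.swap 1 3 :=
    ⟨⟨_, Equiv.Perm.mem_alternatingGroup.mpr hsb⟩, rfl⟩
  obtain ⟨c', hc'⟩ : ∃ c' : alternatingGroup (Fin 5),
      (c' : Equiv.Perm (Fin 5)) = Equiv.swap 0 1 * Equiv.swap 1 2 :=
    ⟨⟨_, Equiv.Perm.mem_alternatingGroup.mpr hsc⟩, rfl⟩
  have haa' : a' * a' = 1 := Subtype.ext (by rw [Subgroup.coe_mul, ha']; exact haa)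
  have hbb' : b' * b' = 1 := Subtype.ext (by rw [Subgroup.coe_mul, hb']; exact hbb)
  have hab' : a' * b' = b' * a' := Subtype.ext (by
    rw [Subgroup.coe_mul, Subgroup.coe_mul, ha', hb']; exact hab)
  have ha1' : a' ≠ 1 := fun h => ha1 (by rw [← ha', h]; rfl)
  have hb1' : b' ≠ 1 := fun h => hb1 (by rw [← hb', h]; rfl)
  have hba' : b' ≠ a' := fun h => hba (by rw [← ha', ← hb', h])
  have hc3' : c' ^ 3 = 1 := Subtype.ext (by rw [Subgroup.coe_pow, hc']; exact hc3)
  have hc1' : c' ≠ 1 := fun h => hc1 (by rw [← hc', h]; rfl)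
  have hca' : c' * a' * c'⁻¹ = b' ∨ c' * a' * c'⁻¹ = a' * b' := by
    rcases hca with h | h
    · left; exact Subtype.ext (by
        rw [Subgroup.coe_mul, Subgroup.coe_mul, Subgroup.coe_inv, ha', hb', hc']; exact h)
    · right; exact Subtype.ext (by
        rw [Subgroup.coe_mul, Subgroup.coe_mul, Subgroup.coe_mul, Subgroup.coe_inv, ha', hb', hc']
        exact h)
  have hcb' : c' * b' * c'⁻¹ = a' ∨ c' * b' * c'⁻¹ = a' * b' := by
    rcases hcb with h | h
    · left; exact Subtype.ext (by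
        rw [Subgroup.coe_mul, Subgroup.coe_mul, Subgroup.coe_inv, ha', hb', hc']; exact h)
    · right; exact Subtype.ext (by
        rw [Subgroup.coe_mul, Subgroup.coe_mul, Subgroup.coe_mul, Subgroup.coe_inv, ha', hb', hc']
        exact h)
  have h1 : f a' * f b' = f b' * f a' := by rw [← map_mul, hab', map_mul]
  have h2 : f a' * f a' = 1 := by rw [← map_mul, haa', map_one]
  have h3 : f b' * f b' = 1 := by rw [← map_mul, hbb', map_one]
  have h4 : f a' ≠ 1 := fun h => ha1' (hfinj (by rw [h, map_one]))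
  have h5 : f b' ≠ 1 := fun h => hb1' (hfinj (by rw [h, map_one]))
  have h6 : f b' ≠ f a' := fun h => hba' (hfinj h)
  have hV := isKleinFour_kleinSub h1 h2 h3 h4 h5 h6
  have hVK : kleinSub (f a') (f b') h1 h2 h3 ≤ K := by
    intro v hv
    rcases (mem_kleinSub h1 h2 h3 v).mp hv with rfl | rfl | rfl | rfl
    · exact K.one_mem
    · exact hfK _
    · exact hfK _
    · exact K.mul_mem (hfK _) (hfK _)
  haveI : Finite (kleinSub (f a') (f b') h1 h2 h3) :=
    Nat.finite_of_card_ne_zero (by rw [hV.card_four]; norm_num)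
  have hoc : orderOf (f c') = 3 := by
    rw [orderOf_injective f hfinj]
    haveI : Fact (Nat.Prime 3) := ⟨Nat.prime_three⟩
    exact orderOf_eq_prime hc3' hc1'
  have hfa : f c' * f a' * (f c')⁻¹ ∈ kleinSub (f a') (f b') h1 h2 h3 := by
    rw [← map_inv, ← map_mul, ← map_mul, mem_kleinSub]
    rcases hca' with h | h
    · rw [h]; right; right; left; rfl
    · rw [h, map_mul]; right; right; right; rfl
  have hfb : f c' * f b' * (f c')⁻¹ ∈ kleinSub (f a') (f b') h1 h2 h3 := by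
    rw [← map_inv, ← map_mul, ← map_mul, mem_kleinSub]
    rcases hcb' with h | h
    · rw [h]; right; left; rfl
    · rw [h, map_mul]; right; right; right; rfl
  refine ⟨_, hV, hVK, f c', hfK _, hoc, ?_⟩
  apply A4Recog.mem_normalizer_of_conj_mem
  intro v hv
  rcases (mem_kleinSub h1 h2 h3 v).mp hv with rfl | rfl | rfl | rfl
  · rw [mul_one, mul_inv_cancel]; exact Subgroup.one_mem _
  · exact hfa
  · exact hfb
  · have : f c' * (f a' * f b') * (f c')⁻¹ =
        (f c' * f a' * (f c')⁻¹) * (f c' * f b' * (f c')⁻¹) := by group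
    rw [this]
    exact Subgroup.mul_mem _ hfa hfb

end Generic

section PSL

open Cfsg.Agent.Lib.H5.PSL2KleinNorm Cfsg.Agent.Lib.H5.PSL2Klein Cfsg.Agent.Lib.H5.PSL2KleinConj

variable {F : Type*} [Field F] [Fintype F]

local notation "SL2" => Matrix.SpecialLinearGroup (Fin 2) F
local notation "PSL2" => Matrix.ProjectiveSpecialLinearGroup (Fin 2) F

/-- if `8` divides `|PSL₂(q)|` then the normalizer of a Klein four-subgroup has order `24` -/
theorem card_normalizer_of_eight_dvd (hodd : Odd (Fintype.card F)) (V : Subgroup PSL2)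
    (hV : IsKleinFour V) (h8 : 8 ∣ Nat.card PSL2) :
    Nat.card (Subgroup.normalizer (V : Set PSL2)) = 24 := by
  rcases card_normalizer_klein hodd V hV with h | h
  · have := eight_dvd_card_normalizer V hV.card_four h8
    rw [h] at this
    omega
  · exact h

/-- if the normalizer of a Klein four-subgroup has order `12` then all Klein four-subgroups are
conjugate -/
theorem all_klein_conj (hodd : Odd (Fintype.card F)) (V : Subgroup PSL2) (hV : IsKleinFour V)
    (h12 : Nat.card (Subgroup.normalizer (V : Set PSL2)) = 12) (W : Subgroup PSL2)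
    (hW : IsKleinFour W) : ∃ g : PSL2, W = V.map (MulAut.conj g).toMonoidHom := by
  have h1 := ConjSubgroupCount.card_eq_card_conj_mul_card_normalizer V
  have h2 := twelve_mul_card_klein (F := F) hodd
  rw [h12] at h1
  have hc : Nat.card {W : Subgroup PSL2 // IsKleinFour W} =
      Nat.card {W : Subgroup PSL2 // ∃ g : PSL2, W = V.map (MulAut.conj g).toMonoidHom} := by
    omega
  obtain ⟨f, hf⟩ : ∃ f : {W : Subgroup PSL2 // ∃ g : PSL2, W = V.map (MulAut.conj g).toMonoidHom} →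
      {W : Subgroup PSL2 // IsKleinFour W}, ∀ x, (f x).1 = x.1 :=
    ⟨fun W => ⟨W.1, by obtain ⟨g, hg⟩ := W.2; rw [hg]; exact isKleinFour_map_conj' hV g⟩,
      fun _ => rfl⟩
  have hinj : Function.Injective f := by
    intro x y h
    apply Subtype.ext
    rw [← hf x, ← hf y, h]
  haveI : Finite {W : Subgroup PSL2 // IsKleinFour W} := Subtype.finite
  have hbij := hinj.bijective_of_nat_card_le hc.le
  obtain ⟨x, hx⟩ := hbij.2 ⟨W, hW⟩
  obtain ⟨g, hg⟩ := x.2
  refine ⟨g, ?_⟩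
  rw [← hg, ← hf x, hx]

end PSL

end Cfsg.Agent.Lib.H5.PSL2MaxKlein
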