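import Mathlib
import Cfsg.Agent.Lib.H5.PSL2MinIndex
import Cfsg.Agent.Lib.H12.BorelMcKay
import Cfsg.Agent.Lib.H23.BurnsidePQ

/-!
# Solvable subgroups of `PSL₂(q)`

Dihedral groups, the Borel subgroups and the groups of order `12`, `24` are solvable; `A₅` and
`PSL₂(K)`, `|K| ≥ 4`, are not.
-/

set_option autoImplicit false
set_option linter.style.haveILetI false

namespace Cfsg.Agent.Lib.H5.PSL2Solvable

open Matrix Cfsg.Agent.Lib.H12 Cfsg.Agent.Lib.H5.PSL2Torus Cfsg.Agent.Lib.H5.PSL2Borel
  Cfsg.Agent.Lib.H5

section general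

/-- the sign character of a dihedral group -/
def dihedralSign (k : ℕ) : DihedralGroup k →* Multiplicative (ZMod 2) where
  toFun x := match x with
    | DihedralGroup.r _ => 1
    | DihedralGroup.sr _ => Multiplicative.ofAdd 1
  map_one' := rfl
  map_mul' := by
    rintro (i | i) (j | j)
    · rfl
    · rfl
    · rfl
    · show (1 : Multiplicative (ZMod 2)) = Multiplicative.ofAdd 1 * Multiplicative.ofAdd 1
      rw [← ofAdd_add]
      rfl

/-- dihedral groups are solvable -/
theorem isSolvable_dihedral (k : ℕ) : Group.IsSolvable (DihedralGroup k) := by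
  haveI : Group.IsSolvable (dihedralSign k).ker := by
    apply Group.isSolvable_of_comm
    rintro ⟨a, ha⟩ ⟨b, hb⟩
    apply Subtype.ext
    show a * b = b * a
    rw [MonoidHom.mem_ker] at ha hb
    rcases a with i | i
    · rcases b with j | j
      · rw [DihedralGroup.r_mul_r, DihedralGroup.r_mul_r, add_comm]
      · exfalso
        have : (Multiplicative.ofAdd (1 : ZMod 2)) = 1 := hb
        revert this; decide
    · exfalso
      have : (Multiplicative.ofAdd (1 : ZMod 2)) = 1 := ha
      revert this; decide
  exact Group.isSolvable_of_ker_le_range (dihedralSign k).ker.subtype (dihedralSign k)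
    (by rw [Subgroup.range_subtype])

theorem isSolvable_of_mulEquiv {G H : Type*} [Group G] [Group H] (e : G ≃* H)
    [Group.IsSolvable H] : Group.IsSolvable G :=
  Group.isSolvable_of_isSolvable_injective (f := e.toMonoidHom) e.injective

theorem isSolvable_of_le {G : Type*} [Group G] {H K : Subgroup G} (h : H ≤ K)
    [Group.IsSolvable K] : Group.IsSolvable H :=
  Group.isSolvable_of_isSolvable_injective (f := Subgroup.inclusion h)
    (Subgroup.inclusion_injective h)

theorem isSolvable_of_isCyclic {G : Type*} [Group G] [IsCyclic G] : Group.IsSolvable G := by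
  letI := IsCyclic.commGroup (α := G)
  infer_instance

theorem isSolvable_of_card_twelve {G : Type*} [Group G] (h : Nat.card G = 12) :
    Group.IsSolvable G := by
  haveI : Finite G := Nat.finite_of_card_ne_zero (by rw [h]; norm_num)
  exact Cfsg.Agent.Lib.H23.isSolvable_of_card_eq_prime_pow_mul_prime_pow 2 3 2 1 Nat.prime_two
    Nat.prime_three (by rw [h]; norm_num)

theorem isSolvable_of_card_twentyfour {G : Type*} [Group G] (h : Nat.card G = 24) :
    Group.IsSolvable G := by
  haveI : Finite G := Nat.finite_of_card_ne_zero (by rw [h]; norm_num)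
  exact Cfsg.Agent.Lib.H23.isSolvable_of_card_eq_prime_pow_mul_prime_pow 2 3 3 1 Nat.prime_two
    Nat.prime_three (by rw [h]; norm_num)

theorem isSolvable_of_card_six {G : Type*} [Group G] (h : Nat.card G = 6) :
    Group.IsSolvable G := by
  haveI : Finite G := Nat.finite_of_card_ne_zero (by rw [h]; norm_num)
  exact Cfsg.Agent.Lib.H23.isSolvable_of_card_eq_prime_pow_mul_prime_pow 2 3 1 1 Nat.prime_two
    Nat.prime_three (by rw [h]; norm_num)

/-- `A₅` is not solvable -/
theorem not_isSolvable_alt_five : ¬ Group.IsSolvable (alternatingGroup (Fin 5)) := by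
  intro h
  haveI := alternatingGroup.isSimpleGroup_five
  have hc := (IsSimpleGroup.comm_iff_isSolvable (G := alternatingGroup (Fin 5))).mpr h
  have h1 : (c[0, 1, 2] : Equiv.Perm (Fin 5)) ∈ alternatingGroup (Fin 5) :=
    Equiv.Perm.mem_alternatingGroup.mpr (by decide)
  have h2 : (c[0, 1, 3] : Equiv.Perm (Fin 5)) ∈ alternatingGroup (Fin 5) :=
    Equiv.Perm.mem_alternatingGroup.mpr (by decide)
  have := congrArg Subtype.val (hc ⟨_, h1⟩ ⟨_, h2⟩)
  revert this
  simp only [Subgroup.coe_mul]
  decide

end general

variable {F : Type*} [Field F] [Fintype F]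

local notation "SL2" => Matrix.SpecialLinearGroup (Fin 2) F
local notation "M2" => Matrix (Fin 2) (Fin 2) F
local notation "PSL2" => Matrix.ProjectiveSpecialLinearGroup (Fin 2) F

/-- the Borel subgroup of `SL₂` is solvable -/
theorem isSolvable_borelSL : Group.IsSolvable (borelSL F) := by
  haveI : Group.IsSolvable (borelDiag F).ker :=
    Group.isSolvable_of_comm (fun a b => Subtype.ext (by
      rw [Subgroup.coe_mul, Subgroup.coe_mul]
      exact ker_borelDiag_comm a.1 a.2 b.1 b.2))
  exact Group.isSolvable_of_ker_le_range (borelDiag F).ker.subtype (borelDiag F)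
    (by rw [Subgroup.range_subtype])

/-- the Borel subgroup of `PSL₂` is solvable -/
theorem isSolvable_prB : Group.IsSolvable (prB F) := by
  haveI := isSolvable_borelSL (F := F)
  exact Group.isSolvable_of_surjective (f := (pr (F := F)).subgroupMap (borelSL F))
    (MonoidHom.subgroupMap_surjective _ _)

variable (p : ℕ) [Fact p.Prime] [CharP F p]

/-- the normalizer of a Sylow `p`-subgroup of `PSL₂(F)` is solvable -/
theorem isSolvable_normalizer_sylow (P : Sylow p PSL2) :
    Group.IsSolvable (Subgroup.normalizer ((P : Subgroup PSL2) : Set PSL2)) := by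
  obtain ⟨g, hg⟩ := MulAction.exists_smul_eq PSL2 (prUSylow (F := F) p) P
  have h1 : (P : Subgroup PSL2) = (prU F).map (MulAut.conj g).toMonoidHom := by
    rw [← hg, Sylow.coe_subgroup_smul, coe_prUSylow, Subgroup.pointwise_smul_def]
    rfl
  rw [h1, ← Subgroup.map_equiv_normalizer_eq, normalizer_prU]
  haveI := isSolvable_prB (F := F)
  exact Group.isSolvable_of_surjective
    (f := ((MulAut.conj g).toMonoidHom).subgroupMap (prB F))
    (MonoidHom.subgroupMap_surjective _ _)

/-- the normalizer of a Sylow `p`-subgroup of `SL₂(F)` is solvable -/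
theorem isSolvable_normalizer_sylow_sl (P : Sylow p SL2) :
    Group.IsSolvable (Subgroup.normalizer ((P : Subgroup SL2) : Set SL2)) := by
  obtain ⟨g, hg⟩ := MulAction.exists_smul_eq SL2 (Cfsg.Agent.Lib.H2.SL2.USylow (F := F) p) P
  have h1 : (P : Subgroup SL2) =
      (Cfsg.Agent.Lib.H2.SL2.U F).map (MulAut.conj g).toMonoidHom := by
    rw [← hg, Sylow.coe_subgroup_smul, Cfsg.Agent.Lib.H2.SL2.coe_USylow,
      Subgroup.pointwise_smul_def]
    rfl
  rw [h1, ← Subgroup.map_equiv_normalizer_eq, SylTITools.normalizer_U]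
  haveI := isSolvable_borelSL (F := F)
  exact Group.isSolvable_of_surjective
    (f := ((MulAut.conj g).toMonoidHom).subgroupMap (borelSL F))
    (MonoidHom.subgroupMap_surjective _ _)

end Cfsg.Agent.Lib.H5.PSL2Solvable
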