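import Mathlib
import Cfsg.Agent.Lib.H5.PSL2Solvable
import Cfsg.Agent.Lib.H5.DicksonOddGen2
import Cfsg.Agent.Lib.H5.PSL2DihOddMax

/-!
# Proper subgroups of `PSL₂(q)` are solvable when `q` has no intermediate subfields and
`5 ∤ |PSL₂(q)|` (or `q = 5`)
-/

set_option autoImplicit false
set_option linter.style.haveILetI false

namespace Cfsg.Agent.Lib.H5.PSL2MinSimple

open Matrix Cfsg.Agent.Lib.H12 Cfsg.Agent.Lib.H5.PSL2Torus Cfsg.Agent.Lib.H5.PSL2Borel
  Cfsg.Agent.Lib.H5 Cfsg.Agent.Lib.H5.PSL2Solvable Cfsg.Agent.Lib.H4.Dickson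

variable {F : Type*} [Field F] [Fintype F]

local notation "SL2" => Matrix.SpecialLinearGroup (Fin 2) F
local notation "M2" => Matrix (Fin 2) (Fin 2) F
local notation "PSL2" => Matrix.ProjectiveSpecialLinearGroup (Fin 2) F

theorem card_top_subfield : Nat.card (⊤ : Subfield F) = Fintype.card F := by
  rw [← Nat.card_eq_fintype_card]
  exact Nat.card_congr Subfield.topEquiv.toEquiv

theorem subfield_eq_top_of_card (S : Subfield F) (h : Nat.card S = Fintype.card F) : S = ⊤ := by
  have h1 : S.toSubring.toAddSubgroup = ⊤ := by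
    apply AddSubgroup.eq_top_of_card_eq
    rw [Nat.card_eq_fintype_card (α := F), ← h]
    rfl
  rw [eq_top_iff]
  intro x _
  have : x ∈ S.toSubring.toAddSubgroup := by rw [h1]; exact AddSubgroup.mem_top x
  exact this

/-- the subfields of a field of order `p ^ r`, `r` prime or `1` -/
theorem subfield_cases (p r : ℕ) [Fact p.Prime] [CharP F p] (hr : r = 1 ∨ r.Prime)
    (hF : Fintype.card F = p ^ r) (S : Subfield F) : S = ⊤ ∨ (Nat.card S = p ∧ r.Prime) := by
  have hpp : p.Prime := Fact.out
  haveI : Fintype S := Fintype.ofFinite S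
  haveI : CharP S p := Subfield.charP S p
  obtain ⟨a, -, ha⟩ := FiniteField.card S p
  have hFS : Fintype.card F = Fintype.card S ^ Module.finrank S F :=
    Module.card_eq_pow_finrank (K := S) (V := F)
  rw [hF, ha, ← pow_mul] at hFS
  have hra : r = (a : ℕ) * Module.finrank S F := Nat.pow_right_injective hpp.two_le hFS
  have hadvd : (a : ℕ) ∣ r := ⟨_, hra⟩
  have hcases : (a : ℕ) = r ∨ ((a : ℕ) = 1 ∧ r.Prime) := by
    rcases hr with h1 | hrp
    · left
      rw [h1] at hadvd ⊢
      exact Nat.dvd_one.mp hadvd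
    · rcases (Nat.dvd_prime hrp).mp hadvd with h | h
      · exact Or.inr ⟨h, hrp⟩
      · exact Or.inl h
  rcases hcases with h | ⟨h, hrp⟩
  · left
    apply subfield_eq_top_of_card
    rw [Nat.card_eq_fintype_card, ha, h, hF]
  · right
    refine ⟨?_, hrp⟩
    rw [Nat.card_eq_fintype_card, ha, h, pow_one]

/-- `PSL₂(F)` is never commutative -/
theorem not_comm_psl2 : ¬ (∀ a b : PSL2, a * b = b * a) := by
  intro h
  have h1 := h (pr (uu 1)) (pr (ll 1))
  rw [← map_mul, ← map_mul] at h1
  rcases (pr_eq_pr_iff _ _).mp h1 with h2 | h2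
  · have := congrArg (fun z : SL2 => (z : M2) 0 0) h2
    simp only [mul_apply_00, uu_00, uu_01, uu_10, ll_00, ll_10, ll_01] at this
    have h0 : (1 : F) = 0 := by linear_combination -this
    exact one_ne_zero h0
  · have e00 := congrArg (fun z : SL2 => (z : M2) 0 0) h2
    have e01 := congrArg (fun z : SL2 => (z : M2) 0 1) h2
    simp only [Matrix.SpecialLinearGroup.coe_neg,
      Matrix.neg_apply, mul_apply_00, mul_apply_01, uu_00, uu_01, uu_10, uu_11, ll_00, ll_10,
      ll_01, ll_11] at e00 e01
    have h0 : (1 : F) = 0 := by linear_combination e00 - e01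
    exact one_ne_zero h0

/-- proper subgroups of `SL₂(2^r)`, `r` prime, are solvable -/
theorem proper_solvable_two (h2 : (2 : F) = 0)
    (hsub : ∀ S : Subfield F, S = ⊤ ∨ Nat.card S < 4) (L : Subgroup SL2) (hL : L ≠ ⊤) :
    Group.IsSolvable L := by
  haveI : Fact (Nat.Prime 2) := ⟨Nat.prime_two⟩
  haveI := DicksonTwo.charP_two h2
  rcases DicksonTwo.classify2 h2 L with ⟨-, hcyc, -⟩ | ⟨heven, hsyl⟩ | ⟨x, -, -, ⟨e⟩, -, -⟩ |
    ⟨Θ, S, hS4, hLS⟩
  · exact isSolvable_of_isCyclic
  · obtain ⟨P, hP⟩ := SylTITools.le_normalizer_of_card_sylow_eq_one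
      (SL2Cov.sl2_sylTI (F := F) (p := 2) (Or.inr h2)) L heven.two_dvd hsyl
    haveI := isSolvable_normalizer_sylow_sl 2 P
    exact isSolvable_of_le hP
  · haveI := isSolvable_dihedral (Nat.card (cent x))
    exact isSolvable_of_mulEquiv e
  · exfalso
    rcases hsub S with hS | hS
    · apply hL
      have htop : L.map Θ.toMonoidHom = ⊤ := by
        rw [hLS, eq_top_iff]
        intro g _
        show g ∈ PSL2MaxTwo.subSL S
        rw [PSL2MaxTwo.mem_subSL_iff, hS]
        exact fun i j => Subfield.mem_top _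
      rw [eq_top_iff]
      intro g _
      have : Θ g ∈ L.map Θ.toMonoidHom := by rw [htop]; exact Subgroup.mem_top _
      obtain ⟨g', hg', hgg⟩ := this
      have : g' = g := Θ.injective hgg
      rw [← this]; exact hg'
    · omega

/-- proper subgroups of `PSL₂(2^r)`, `r` prime, are solvable -/
theorem proper_solvable_two' (h2 : (2 : F) = 0)
    (hsub : ∀ S : Subfield F, S = ⊤ ∨ Nat.card S < 4) (H : Subgroup PSL2) (hH : H ≠ ⊤) :
    Group.IsSolvable H := by
  have hL : H.comap (pr (F := F)) ≠ ⊤ := by
    intro h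
    apply hH
    rw [eq_top_iff]
    intro x _
    obtain ⟨g, rfl⟩ := pr_surjective x
    have : g ∈ H.comap pr := by rw [h]; exact Subgroup.mem_top _
    exact this
  haveI := proper_solvable_two h2 hsub _ hL
  exact Group.isSolvable_of_surjective (f := (pr (F := F)).subgroupComap H)
    (MonoidHom.subgroupComap_surjective_of_surjective pr H pr_surjective)

/-- proper subgroups of `PSL₂(q)`, `q` odd without intermediate subfields, `5 ∤ |PSL₂(q)|` or
`q = 5` -/
theorem proper_solvable_odd (p : ℕ) [Fact p.Prime] [CharP F p] (hodd : Odd (Fintype.card F))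
    (hsub : ∀ S : Subfield F, S = ⊤ ∨ Nat.card S = 3)
    (h5 : ¬ 5 ∣ Fintype.card F * (Fintype.card F ^ 2 - 1) ∨ p = 5)
    (H : Subgroup PSL2) (hH : H ≠ ⊤) : Group.IsSolvable H := by
  have hpp : p.Prime := Fact.out
  have h2F : (2 : F) ≠ 0 := two_ne_zero_of_odd hodd
  have hp2 : p ≠ 2 := by
    rintro rfl
    apply h2F
    have := CharP.cast_eq_zero F 2
    exact_mod_cast this
  have hq2 : 2 ≤ Fintype.card F := Fintype.one_lt_card
  obtain ⟨q, hqdef⟩ : ∃ q, q = Fintype.card F := ⟨_, rfl⟩
  have hG := PSL2PrimeMax.two_mul_card hodd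
  rw [← hqdef] at h5 hq2 hG
  have hid := PSL2A5SqMax.card_identity q (by omega)
  have hMle : Nat.card H ≤ Nat.card PSL2 := Subgroup.card_le_card_group H
  have hMlt : Nat.card H < Nat.card PSL2 := by
    apply lt_of_le_of_ne hMle
    intro h
    exact hH (Subgroup.eq_top_of_card_eq _ h)
  have hHG : Nat.card H ∣ Nat.card PSL2 := Subgroup.card_subgroup_dvd_card H
  -- a subgroup of order `60` is impossible unless `p = 5`
  have h60 : Nat.card H = 60 → p = 5 := by
    intro h
    rcases h5 with h5 | h5
    · exfalso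
      apply h5
      rw [← hG]
      rw [h] at hHG
      exact Dvd.dvd.mul_left ((by norm_num : 5 ∣ 60).trans hHG) _
    · exact h5
  by_cases hpH : p ∣ Nat.card H
  · have hpos : 0 < Nat.card (Sylow p (H.comap (pr (F := F)))) := Nat.card_pos
    rcases Nat.lt_or_ge 1 (Nat.card (Sylow p (H.comap (pr (F := F))))) with h1 | h1
    · have hneg : (-1 : SL2) ∈ H.comap pr := by
        rw [Subgroup.mem_comap, PSL2SubfieldMax.pr_neg_one]; exact H.one_mem
      have hcL := PSL2SubfieldMax.card_comap_pr hodd H
      rcases DicksonOddGen.card_of_two_sylow p hp2 (H.comap pr) hneg h1 with ⟨S, hc⟩ | ⟨h3, hc⟩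
      · rw [hcL] at hc
        rcases hsub S with hS | hS
        · exfalso
          rw [hS, card_top_subfield, ← hqdef] at hc
          rcases hc with hc | hc
          · rw [hid, ← hG] at hc
            omega
          · have : (1 + q) * (q * (2 * (q - 1))) = 2 * ((1 + q) * (q * (q - 1))) := by ring
            rw [this, hid, ← hG] at hc
            omega
        · rw [hS] at hc
          norm_num at hc
          rcases hc with hc | hc
          · exact isSolvable_of_card_twelve (by omega)
          · exact isSolvable_of_card_twentyfour (by omega)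
      · exfalso
        rw [hcL] at hc
        have := h60 (by omega)
        omega
    · have hs : Function.Surjective ((pr (F := F)).subgroupComap H) :=
        MonoidHom.subgroupComap_surjective_of_surjective pr H pr_surjective
      have hle := Nat.card_le_card_of_surjective _ (Sylow.mapSurjective_surjective hs p)
      have hposM : 0 < Nat.card (Sylow p H) := Nat.card_pos
      obtain ⟨P, hP⟩ := PSL2Borel.le_normalizer_of_card_sylow_eq_one p H hpH (by omega)
      haveI := isSolvable_normalizer_sylow p P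
      exact isSolvable_of_le hP
  · rcases PSL2PPrime.classify_of_coprime p hodd H hpH with ⟨hc, -⟩ | ⟨k, -, ⟨e⟩⟩ | ⟨⟨e⟩⟩ |
      ⟨⟨e⟩⟩ | ⟨⟨e⟩⟩
    · exact isSolvable_of_isCyclic
    · haveI := isSolvable_dihedral k
      exact isSolvable_of_mulEquiv e
    · exact isSolvable_of_card_twelve
        (by rw [Nat.card_congr e.toEquiv, PSL2PrimeMax.card_alt_four])
    · exact isSolvable_of_card_twentyfour
        (by rw [Nat.card_congr e.toEquiv, PSL2PrimeMax.card_perm_four])
    · exfalso
      have hc : Nat.card H = 60 := by rw [Nat.card_congr e.toEquiv, PSL2PrimeMax.card_alt_five]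
      have := h60 hc
      apply hpH
      rw [this, hc]
      norm_num

end Cfsg.Agent.Lib.H5.PSL2MinSimple
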