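import Mathlib
import Cfsg.Prelude.Def_CaseTheorems
import Cfsg.Agent.Lib.H5.PSL2MinSimple
import Cfsg.Agent.Lib.H5.PSL2Subfield
import Cfsg.Agent.Lib.H5.PSL2A5
import Cfsg.Agent.Lib.H2.PSLCard

/-!
# `PSL₂(q)` is minimal simple iff `q` is on Thompson's list
-/

set_option autoImplicit false
set_option linter.style.haveILetI false

namespace Cfsg.Agent.Lib.H5.PSL2MinSimple

open Matrix Cfsg.Agent.Lib.H12 Cfsg.Agent.Lib.H5.PSL2Torus Cfsg.Agent.Lib.H5
  Cfsg.Agent.Lib.H5.PSL2Solvable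

variable {F : Type*} [Field F] [Fintype F]

local notation "SL2" => Matrix.SpecialLinearGroup (Fin 2) F
local notation "M2" => Matrix (Fin 2) (Fin 2) F
local notation "PSL2" => Matrix.ProjectiveSpecialLinearGroup (Fin 2) F

theorem card_psl2_le : Nat.card PSL2 ≤ Fintype.card F * (Fintype.card F ^ 2 - 1) := by
  have h := Cfsg.Agent.Lib.H2.card_PSL2_mul (F := F)
  have hpos : 0 < Nat.gcd 2 (Fintype.card F - 1) := Nat.gcd_pos_of_pos_left _ (by norm_num)
  rw [← h]
  exact Nat.le_mul_of_pos_left _ hpos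

theorem le_two_mul_card_psl2 :
    Fintype.card F * (Fintype.card F ^ 2 - 1) ≤ 2 * Nat.card PSL2 := by
  have h := Cfsg.Agent.Lib.H2.card_PSL2_mul (F := F)
  have hle : Nat.gcd 2 (Fintype.card F - 1) ≤ 2 := Nat.le_of_dvd (by norm_num) (Nat.gcd_dvd_left _ _)
  rw [← h]
  exact Nat.mul_le_mul_right _ hle

/-- a proper subfield subgroup is not solvable -/
theorem not_minimal_of_subfield {K : Type*} [Field K] [Fintype K] (ι : K →+* F)
    (hK4 : 4 ≤ Fintype.card K) (hlt : Fintype.card K < Fintype.card F) :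
    ¬ Cfsg.IsMinimalSimple PSL2 := by
  rintro ⟨-, -, hsol⟩
  obtain ⟨H, ⟨e⟩⟩ := PSL2Subfield.exists_PSL ι
  have hcard : Nat.card H < Nat.card PSL2 := by
    rw [Nat.card_congr e.toEquiv]
    letI := ι.toAlgebra
    have hFK : Fintype.card F = Fintype.card K ^ Module.finrank K F :=
      Module.card_eq_pow_finrank (K := K) (V := F)
    obtain ⟨k, hk⟩ : ∃ k, k = Fintype.card K := ⟨_, rfl⟩
    obtain ⟨q, hq⟩ : ∃ q, q = Fintype.card F := ⟨_, rfl⟩
    have h1 := card_psl2_le (F := K)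
    have h2 := le_two_mul_card_psl2 (F := F)
    rw [← hk] at h1 hK4 hlt hFK
    rw [← hq] at h2 hlt hFK
    have hm2 : 2 ≤ Module.finrank K F := by
      by_contra hlt'
      push Not at hlt'
      have : k ^ Module.finrank K F ≤ k ^ 1 := Nat.pow_le_pow_right (by omega) (by omega)
      rw [← hFK, pow_one] at this
      omega
    have hqk : k ^ 2 ≤ q := by
      rw [hFK]; exact Nat.pow_le_pow_right (by omega) hm2
    obtain ⟨A, hA⟩ : ∃ A, A = k ^ 2 - 1 := ⟨_, rfl⟩
    have hk16 : 16 ≤ k ^ 2 := by nlinarith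
    have hA15 : 15 ≤ A := by omega
    have hqA : A ≤ q ^ 2 - 1 := by
      have : q ≤ q ^ 2 := by nlinarith
      omega
    rw [← hA] at h1
    have h3 : k ^ 2 * A ≤ q * (q ^ 2 - 1) := Nat.mul_le_mul hqk hqA
    have h4 : 2 * (k * A) < k ^ 2 * A := by nlinarith
    omega
  have hH : H ≠ ⊤ := by
    rintro rfl
    rw [Subgroup.card_top] at hcard
    exact lt_irrefl _ hcard
  haveI := hsol H hH
  haveI : Group.IsSolvable (Matrix.ProjectiveSpecialLinearGroup (Fin 2) K) :=
    isSolvable_of_mulEquiv e.symm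
  haveI : IsSimpleGroup (Matrix.ProjectiveSpecialLinearGroup (Fin 2) K) :=
    Matrix.ProjectiveSpecialLinearGroup.rank_two_simple
      (by rw [Nat.card_eq_fintype_card]; exact hK4)
  exact not_comm_psl2 (F := K) (IsSimpleGroup.comm_iff_isSolvable.mpr inferInstance)

/-- a proper subgroup `A₅` -/
theorem not_minimal_of_A5 (h5 : 5 ∣ Fintype.card F * (Fintype.card F ^ 2 - 1))
    (hq : 7 ≤ Fintype.card F) : ¬ Cfsg.IsMinimalSimple PSL2 := by
  rintro ⟨-, -, hsol⟩
  obtain ⟨H, ⟨e⟩⟩ := PSL2A5.exists_A5 h5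
  have hcard : Nat.card H < Nat.card PSL2 := by
    rw [Nat.card_congr e.toEquiv, PSL2PrimeMax.card_alt_five]
    have h2 := le_two_mul_card_psl2 (F := F)
    have : 48 ≤ Fintype.card F ^ 2 - 1 := by
      have : 49 ≤ Fintype.card F ^ 2 := by nlinarith
      omega
    have : 7 * 48 ≤ Fintype.card F * (Fintype.card F ^ 2 - 1) := Nat.mul_le_mul hq this
    omega
  have hH : H ≠ ⊤ := by
    rintro rfl
    rw [Subgroup.card_top] at hcard
    exact lt_irrefl _ hcard
  haveI := hsol H hH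
  exact not_isSolvable_alt_five (isSolvable_of_mulEquiv e.symm)

/-- `PSL₂(2)` and `PSL₂(3)` are not simple -/
theorem not_minimal_small (hq : Fintype.card F = 2 ∨ Fintype.card F = 3) :
    ¬ Cfsg.IsMinimalSimple PSL2 := by
  rintro ⟨hs, -, -⟩
  have h := Cfsg.Agent.Lib.H2.card_PSL2_mul (F := F)
  haveI : Group.IsSolvable PSL2 := by
    rcases hq with hq | hq
    · rw [hq] at h
      norm_num at h
      exact isSolvable_of_card_six h
    · rw [hq] at h
      norm_num at h
      exact isSolvable_of_card_twelve (by omega)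
  exact not_comm_psl2 (F := F) (IsSimpleGroup.comm_iff_isSolvable.mpr inferInstance)

theorem not_five_dvd_of_mod {q : ℕ} (hq : q % 5 = 2 ∨ q % 5 = 3) : ¬ 5 ∣ q * (q ^ 2 - 1) := by
  intro h
  have hq2 : q ^ 2 % 5 = 4 := by
    rw [Nat.pow_mod]
    rcases hq with h | h <;> rw [h]
  have hpos : 1 ≤ q ^ 2 := by
    have : 0 < q := by
      rcases Nat.eq_zero_or_pos q with h0 | h0
      · subst h0; omega
      · exact h0
    exact Nat.one_le_pow _ _ this
  rcases (Nat.Prime.dvd_mul Nat.prime_five).mp h with h1 | h1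
  · omega
  · omega

theorem five_dvd_of_mod {q : ℕ} (hq : q % 5 = 1 ∨ q % 5 = 4) : 5 ∣ q * (q ^ 2 - 1) := by
  have hq2 : q ^ 2 % 5 = 1 := by
    rw [Nat.pow_mod]
    rcases hq with h | h <;> rw [h]
  apply Dvd.dvd.mul_left
  omega

theorem charP_of_card_pow {p r : ℕ} (hp : p.Prime) (hr : r ≠ 0) (hF : Fintype.card F = p ^ r) :
    CharP F p := by
  obtain ⟨n, hp', hn⟩ := FiniteField.card F (ringChar F)
  have h1 : ringChar F ∣ p ^ r := by
    rw [← hF, hn]; exact dvd_pow_self _ n.ne_zero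
  have : ringChar F = p := (Nat.prime_dvd_prime_iff_eq hp' hp).mp (hp'.dvd_of_dvd_pow h1)
  rw [← this]
  exact ringChar.charP F

end Cfsg.Agent.Lib.H5.PSL2MinSimple
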