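import Mathlib
import Cfsg.Agent.Lib.H5.PSL2MaxExc2
import Cfsg.Agent.Lib.H5.PSL2MaxKlein
import Cfsg.Agent.Lib.H5.PSL2MinSimple2

/-!
# Maximal subgroups `A₄`, `S₄`, `A₅` of `PSL₂(q)`: the congruence conditions
-/

set_option autoImplicit false
set_option linter.style.haveILetI false

namespace Cfsg.Agent.Lib.H5.PSL2MaxExc

open Matrix Cfsg.Agent.Lib.H5.PSL2Torus Cfsg.Agent.Lib.H5.PSL2MaxKlein

variable {F : Type*} [Field F] [Fintype F]

local notation "SL2" => Matrix.SpecialLinearGroup (Fin 2) F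
local notation "M2" => Matrix (Fin 2) (Fin 2) F
local notation "PSL2" => Matrix.ProjectiveSpecialLinearGroup (Fin 2) F

theorem sixteen_dvd_of_mod {p : ℕ} (h : p % 8 = 1 ∨ p % 8 = 7) : 16 ∣ p ^ 2 - 1 := by
  have h16 : p % 16 = 1 ∨ p % 16 = 7 ∨ p % 16 = 9 ∨ p % 16 = 15 := by omega
  have h1 : p ^ 2 % 16 = 1 := by
    rw [Nat.pow_mod]
    rcases h16 with h | h | h | h <;> rw [h]
  exact Nat.dvd_of_mod_eq_zero (Nat.sub_mod_eq_zero_of_mod_eq (by rw [h1]))

theorem mod_eight_of_sixteen_dvd {p : ℕ} (hodd : p % 2 = 1) (h : 16 ∣ p ^ 2 - 1) :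
    p % 8 = 1 ∨ p % 8 = 7 := by
  by_contra hcon
  have h16 : p % 16 = 3 ∨ p % 16 = 5 ∨ p % 16 = 11 ∨ p % 16 = 13 := by omega
  have h1 : p ^ 2 % 16 = 9 := by
    rw [Nat.pow_mod]
    rcases h16 with h | h | h | h <;> rw [h]
  have h2 : 1 ≤ p ^ 2 := Nat.one_le_pow _ _ (by omega)
  omega

variable (p : ℕ) [Fact p.Prime] [CharP F p]

/-- **congruence conditions for a maximal `A₄` in `PSL₂(p)`** -/
theorem A4_conditions (hodd : Odd (Fintype.card F)) (h5 : 5 ≤ Fintype.card F)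
    (hq : Fintype.card F = p) (M : Subgroup PSL2) (hM : IsCoatom M)
    (e : M ≃* alternatingGroup (Fin 4)) :
    (p % 8 = 3 ∨ p % 8 = 5) ∧ ¬ (p % 10 = 1 ∨ p % 10 = 9) := by
  have hp : p.Prime := Fact.out
  obtain ⟨V, hV, hVM, hMN⟩ := exists_klein_of_A4 M e
  have hcG := PSL2PrimeMax.two_mul_card hodd
  rw [hq] at hcG h5
  have hpodd : p % 2 = 1 := by
    rw [hq] at hodd; exact Nat.odd_iff.mp hodd
  have hG60 : 60 ≤ Nat.card PSL2 := by
    have h1 : 5 * (5 ^ 2 - 1) ≤ p * (p ^ 2 - 1) :=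
      Nat.mul_le_mul h5 (Nat.sub_le_sub_right (Nat.pow_le_pow_left h5 2) 1)
    omega
  have hcM : Nat.card M = 12 := by
    rw [Nat.card_congr e.toEquiv, PSL2PrimeMax.card_alt_four]
  have hNtop : Subgroup.normalizer (V : Set PSL2) ≠ ⊤ := by
    intro h
    have h1 := PSL2KleinNorm.card_normalizer_klein hodd V hV
    rw [h, Subgroup.card_top] at h1
    omega
  have hMeq : M = Subgroup.normalizer (V : Set PSL2) := by
    rcases eq_or_lt_of_le hMN with h | h
    · exact h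
    · exact absurd (hM.2 _ h) hNtop
  have h12 : Nat.card (Subgroup.normalizer (V : Set PSL2)) = 12 := by rw [← hMeq, hcM]
  constructor
  · by_contra hcon
    have h8 : p % 8 = 1 ∨ p % 8 = 7 := by omega
    obtain ⟨k, hk⟩ := sixteen_dvd_of_mod h8
    have h8G : 8 ∣ Nat.card PSL2 := ⟨p * k, by
      rw [hk] at hcG
      have : 2 * Nat.card PSL2 = 2 * (8 * (p * k)) := by rw [hcG]; ring
      exact Nat.eq_of_mul_eq_mul_left (by norm_num) this⟩
    have := card_normalizer_of_eight_dvd hodd V hV h8G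
    omega
  · intro hp10
    have hp11 : 11 ≤ p := by
      by_contra hlt
      push Not at hlt
      have : p = 9 := by omega
      rw [this] at hp
      norm_num at hp
    have h5dvd : 5 ∣ Fintype.card F * (Fintype.card F ^ 2 - 1) := by
      rw [hq]
      exact PSL2MinSimple.five_dvd_of_mod (by omega)
    obtain ⟨K, ⟨e'⟩⟩ := PSL2A5.exists_A5 h5dvd
    obtain ⟨W, hW, hWK, c, hcK, hc3, hcN⟩ := exists_klein_of_A5 K e'
    obtain ⟨g, hg⟩ := all_klein_conj hodd V hV h12 W hW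
    have hNW : Subgroup.normalizer (W : Set PSL2) =
        (Subgroup.normalizer (V : Set PSL2)).map (MulAut.conj g).toMonoidHom := by
      rw [hg, Subgroup.map_equiv_normalizer_eq]
    have hcNW : Nat.card (Subgroup.normalizer (W : Set PSL2)) = 12 := by
      rw [hNW, Subgroup.card_map_of_injective (MulAut.conj g).injective, h12]
    have hX4 : 4 ∣ Nat.card (K ⊓ Subgroup.normalizer (W : Set PSL2) : Subgroup PSL2) := by
      rw [← hW.card_four]
      exact Subgroup.card_dvd_of_le (le_inf hWK Subgroup.le_normalizer)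
    have hX3 : 3 ∣ Nat.card (K ⊓ Subgroup.normalizer (W : Set PSL2) : Subgroup PSL2) := by
      rw [← hc3]
      exact Subgroup.orderOf_dvd_natCard _ (Subgroup.mem_inf.mpr ⟨hcK, hcN⟩)
    have hX12 : 12 ∣ Nat.card (K ⊓ Subgroup.normalizer (W : Set PSL2) : Subgroup PSL2) :=
      Nat.Coprime.mul_dvd_of_dvd_of_dvd (by norm_num : Nat.Coprime 4 3) hX4 hX3
    have hXeq : (K ⊓ Subgroup.normalizer (W : Set PSL2) : Subgroup PSL2) =
        Subgroup.normalizer (W : Set PSL2) := by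
      apply Subgroup.eq_of_le_of_card_ge inf_le_right
      rw [hcNW]
      exact Nat.le_of_dvd Nat.card_pos hX12
    have hNK : Subgroup.normalizer (W : Set PSL2) ≤ K := by
      rw [← hXeq]; exact inf_le_left
    have hM'K : M.map (MulAut.conj g).toMonoidHom ≤ K := by
      rw [hMeq, ← hNW]; exact hNK
    have hM'co : IsCoatom (M.map (MulAut.conj g).toMonoidHom) :=
      isCoatom_map_equiv (MulAut.conj g) hM
    have hcK : Nat.card K = 60 := by
      rw [Nat.card_congr e'.toEquiv, PSL2PrimeMax.card_alt_five]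
    have hcM' : Nat.card (M.map (MulAut.conj g).toMonoidHom) = 12 := by
      rw [Subgroup.card_map_of_injective (MulAut.conj g).injective, hcM]
    rcases eq_or_lt_of_le hM'K with h | h
    · rw [h] at hcM'; omega
    · have := hM'co.2 _ h
      rw [this, Subgroup.card_top] at hcK
      have h1 : 11 * (11 ^ 2 - 1) ≤ p * (p ^ 2 - 1) :=
        Nat.mul_le_mul hp11 (Nat.sub_le_sub_right (Nat.pow_le_pow_left hp11 2) 1)
      omega

/-- **the `A₄` case of the list of maximal subgroups** -/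
theorem A4_disjunct (hodd : Odd (Fintype.card F)) (h5 : 5 ≤ Fintype.card F)
    (M : Subgroup PSL2) (hM : IsCoatom M) (hpM : ¬ p ∣ Nat.card M)
    (e : M ≃* alternatingGroup (Fin 4)) :
    Fintype.card F = p ∧ (p % 8 = 3 ∨ p % 8 = 5) ∧ ¬ (p % 10 = 1 ∨ p % 10 = 9) := by
  have hq := card_eq_of_A4 p hodd M hM hpM e
  exact ⟨hq, A4_conditions p hodd h5 hq M hM e⟩

/-- **the `S₄` case of the list of maximal subgroups** -/
theorem S4_disjunct (hodd : Odd (Fintype.card F)) (M : Subgroup PSL2) (hM : IsCoatom M)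
    (hpM : ¬ p ∣ Nat.card M) (e : M ≃* Equiv.Perm (Fin 4)) :
    Fintype.card F = p ∧ (p % 8 = 1 ∨ p % 8 = 7) := by
  have hp : p.Prime := Fact.out
  have hq := card_eq_of_S4 p hodd M hM hpM e
  refine ⟨hq, ?_⟩
  have hcG := PSL2PrimeMax.two_mul_card hodd
  rw [hq] at hcG
  have hpodd : p % 2 = 1 := by
    rw [hq] at hodd; exact Nat.odd_iff.mp hodd
  have hcM : Nat.card M = 24 := by
    rw [Nat.card_congr e.toEquiv, PSL2PrimeMax.card_perm_four]
  have h24 : 24 ∣ Nat.card PSL2 := hcM ▸ Subgroup.card_subgroup_dvd_card M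
  have h16 : 16 ∣ (p ^ 2 - 1) * p := by
    obtain ⟨k, hk⟩ := h24
    rw [hk] at hcG
    exact ⟨3 * k, by rw [mul_comm, ← hcG]; ring⟩
  have hcop : Nat.Coprime 16 p := by
    have h2p : Nat.Coprime 2 p := (Nat.coprime_primes Nat.prime_two hp).mpr (by omega)
    exact (h2p.pow_left 4)
  exact mod_eight_of_sixteen_dvd hpodd (hcop.dvd_of_dvd_mul_right h16)

/-- **the `A₅` case of the list of maximal subgroups** -/
theorem A5_disjunct (hodd : Odd (Fintype.card F)) (M : Subgroup PSL2) (hM : IsCoatom M)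
    (hp5 : p ≠ 5) (e : M ≃* alternatingGroup (Fin 5)) :
    (Fintype.card F % 10 = 1 ∨ Fintype.card F % 10 = 9) ∧
    (Fintype.card F = p ∨ (Fintype.card F = p ^ 2 ∧ (p % 10 = 3 ∨ p % 10 = 7))) := by
  have hp : p.Prime := Fact.out
  refine ⟨?_, card_cases_of_A5 p hodd M hM hp5 e⟩
  have hcG := PSL2PrimeMax.two_mul_card hodd
  have hcM : Nat.card M = 60 := by
    rw [Nat.card_congr e.toEquiv, PSL2PrimeMax.card_alt_five]
  have h60 : 60 ∣ Nat.card PSL2 := hcM ▸ Subgroup.card_subgroup_dvd_card M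
  have h5 : 5 ∣ Fintype.card F * (Fintype.card F ^ 2 - 1) := by
    obtain ⟨k, hk⟩ := h60
    rw [hk] at hcG
    exact ⟨24 * k, by rw [← hcG]; ring⟩
  have hq5 : Fintype.card F % 5 ≠ 0 := by
    intro h0
    obtain ⟨m, -, hm⟩ := FiniteField.card F p
    have h5q : 5 ∣ p ^ (m : ℕ) := by rw [← hm]; exact Nat.dvd_of_mod_eq_zero h0
    have := (Nat.prime_dvd_prime_iff_eq (by norm_num) hp).mp
      ((by norm_num : Nat.Prime 5).dvd_of_dvd_pow h5q)
    exact hp5 this.symm
  have hq23 : ¬ (Fintype.card F % 5 = 2 ∨ Fintype.card F % 5 = 3) := fun h =>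
    PSL2MinSimple.not_five_dvd_of_mod h h5
  have hqodd : Fintype.card F % 2 = 1 := Nat.odd_iff.mp hodd
  omega

end Cfsg.Agent.Lib.H5.PSL2MaxExc
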