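import Mathlib
import Cfsg.Agent.Lib.H5.PSL2MaxExc2
import Cfsg.Agent.Lib.H5.DicksonFull
import Cfsg.Agent.S0805
import Cfsg.Agent.Lib.H5.PSL2MinSimple

/-!
# Maximal subgroups of `PSL₂(q)`, `q` odd: the subfield subgroups
-/

set_option autoImplicit false
set_option linter.style.haveILetI false

namespace Cfsg.Agent.Lib.H5.PSL2MaxSub

open Matrix Cfsg.Agent.Lib.H5.PSL2Torus Cfsg.Agent.Lib.H5.PSL2MaxTwo
  Cfsg.Agent.Lib.H4.Dickson Cfsg.Agent.Lib.H5.FrobFix Cfsg.Agent.Lib.H5.DicksonOdd
  Cfsg.Agent.Lib.H5.PSL2MaxExc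

variable {F : Type*} [Field F] [Fintype F]

local notation "SL2" => Matrix.SpecialLinearGroup (Fin 2) F
local notation "M2" => Matrix (Fin 2) (Fin 2) F
local notation "PSL2" => Matrix.ProjectiveSpecialLinearGroup (Fin 2) F

/-- if `SL₂(S)` is maximal in `SL₂(F)` then `[F : S]` is prime -/
theorem finrank_prime_of_isCoatom_subSL (S : Subfield F) (hL' : IsCoatom (subSL S)) :
    (Module.finrank S F).Prime := by
  have hE : ∀ E : IntermediateField S F, E = ⊥ ∨ E = ⊤ := by
    intro E
    have hSE : S ≤ E.toSubfield := by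
      intro a ha
      exact E.algebraMap_mem ⟨a, ha⟩
    rcases hL'.le_iff.1 (subSL_mono hSE) with h | h
    · right
      rw [eq_top_iff]
      intro a _
      have : (⊤ : Subfield F) ≤ E.toSubfield := by
        apply le_of_subSL_le
        rw [h]
        exact le_top
      exact this (Subfield.mem_top a)
    · left
      rw [eq_bot_iff]
      intro a ha
      have : a ∈ S := le_of_subSL_le h.le ha
      rw [IntermediateField.mem_bot]
      exact ⟨⟨a, this⟩, rfl⟩
  have hne : (⊥ : IntermediateField S F) ≠ ⊤ := by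
    intro h
    apply hL'.1
    rw [eq_top_iff]
    intro g _
    rw [mem_subSL_iff]
    intro i j
    have : (g : M2) i j ∈ (⊥ : IntermediateField S F) := by
      rw [h]; exact IntermediateField.mem_top
    rw [IntermediateField.mem_bot] at this
    obtain ⟨s, hs⟩ := this
    rw [← hs]
    exact s.2
  exact finrank_prime_of_simple S hE hne

theorem card_subSL (S : Subfield F) :
    Nat.card (subSL S) = Nat.card S * (Nat.card S ^ 2 - 1) := by
  haveI : Fintype S := Fintype.ofFinite S
  rw [← Nat.card_congr (subSLEquiv S).toEquiv, Cfsg.Agent.Lib.H12.card_SL2,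
    Nat.card_eq_fintype_card]

theorem card_pow_finrank (S : Subfield F) :
    Fintype.card F = Nat.card S ^ Module.finrank S F := by
  haveI : Fintype S := Fintype.ofFinite S
  rw [Module.card_eq_pow_finrank (K := S) (V := F), Nat.card_eq_fintype_card]

/-- `SL₂(S)` is not maximal in `SL₂(F)` when `[F : S] = 2`, `q` odd -/
theorem not_isCoatom_subSL_of_finrank_two (hodd : Odd (Fintype.card F)) (S : Subfield F)
    (h2 : Module.finrank S F = 2) : ¬ IsCoatom (subSL S) := by
  intro hco
  haveI : Fintype S := Fintype.ofFinite S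
  have hq := card_pow_finrank S
  rw [h2, Nat.card_eq_fintype_card] at hq
  have hsq := Cfsg.Agent.S0805.exists_sqrt (S.subtype : ↥S →+* F) hodd 2 (by decide) hq.symm
  obtain ⟨e⟩ := PSL2SubfieldMax.pglSub_equiv (S.subtype : ↥S →+* F) hsq
  have hcP : Nat.card (PSL2SubfieldMax.pglSub (S.subtype : ↥S →+* F)) =
      Fintype.card S * (Fintype.card S ^ 2 - 1) := by
    rw [Nat.card_congr e.toEquiv, PSL2Subfield.card_PGL]
  have hcX := PSL2SubfieldMax.card_comap_pr hodd (PSL2SubfieldMax.pglSub (S.subtype : ↥S →+* F))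
  rw [hcP] at hcX
  have hle : subSL S ≤ (PSL2SubfieldMax.pglSub (S.subtype : ↥S →+* F)).comap pr := by
    intro g hg
    rw [mem_subSL_iff] at hg
    exact pr_mem_pglSub_of_entries S g 1 (fun i j => (g : M2) i j) hg
      (fun i j => (one_mul _).symm)
  have hs2 : 2 ≤ Fintype.card S := Fintype.one_lt_card
  have hpos : 0 < Fintype.card S * (Fintype.card S ^ 2 - 1) := by
    apply Nat.mul_pos (by omega)
    have : 2 ^ 2 ≤ Fintype.card S ^ 2 := Nat.pow_le_pow_left hs2 2
    omega
  rcases hco.le_iff.1 hle with h | h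
  · -- `X = ⊤`: compare orders
    rw [h, Subgroup.card_top, Cfsg.Agent.Lib.H12.card_SL2, hq] at hcX
    have h1 : Fintype.card S * (Fintype.card S ^ 2 - 1) * 2 <
        Fintype.card S ^ 2 * ((Fintype.card S ^ 2) ^ 2 - 1) := by
      have ha : Fintype.card S * 2 ≤ Fintype.card S ^ 2 := by nlinarith
      have hb : Fintype.card S ^ 2 - 1 < (Fintype.card S ^ 2) ^ 2 - 1 := by
        have h4 : 4 ≤ Fintype.card S ^ 2 := by nlinarith
        have : Fintype.card S ^ 2 < (Fintype.card S ^ 2) ^ 2 := by nlinarith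
        omega
      calc Fintype.card S * (Fintype.card S ^ 2 - 1) * 2
          = (Fintype.card S * 2) * (Fintype.card S ^ 2 - 1) := by ring
        _ ≤ Fintype.card S ^ 2 * (Fintype.card S ^ 2 - 1) := Nat.mul_le_mul_right _ ha
        _ < Fintype.card S ^ 2 * ((Fintype.card S ^ 2) ^ 2 - 1) :=
          Nat.mul_lt_mul_of_pos_left hb (by nlinarith)
    omega
  · have h1 := card_subSL S
    rw [← h, hcX, Nat.card_eq_fintype_card] at h1
    omega

/-- a maximal subgroup of `SL₂(F)` containing `SL₂(S)` with index two, of normalizer shape,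
forces `|F| = |S|²` -/
theorem card_eq_sq_of_shape (p : ℕ) [Fact p.Prime] [CharP F p] (hodd : Odd (Fintype.card F)) (S : Subfield F) (L' : Subgroup SL2)
    (hco : IsCoatom L') (hshape : ∀ g ∈ L', Shape S g)
    (hc : Nat.card L' = 2 * (Nat.card S * (Nat.card S ^ 2 - 1))) :
    Fintype.card F = Nat.card S ^ 2 := by
  have hp : p.Prime := Fact.out
  have h2F : (2 : F) ≠ 0 := Cfsg.Agent.Lib.H12.two_ne_zero_of_odd hodd
  have hp2 : p ≠ 2 := by
    rintro rfl
    apply h2F
    have := CharP.cast_eq_zero F 2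
    exact_mod_cast this
  haveI : Fintype S := Fintype.ofFinite S
  obtain ⟨j, -, hsj⟩ := FiniteField.card S p
  have hS : Nat.card S = p ^ (j : ℕ) := by rw [Nat.card_eq_fintype_card, hsj]
  have hs2 : 2 ≤ Nat.card S := by
    rw [Nat.card_eq_fintype_card]; exact Fintype.one_lt_card
  have hpos : 0 < Nat.card S * (Nat.card S ^ 2 - 1) := by
    apply Nat.mul_pos (by omega)
    have : 2 ^ 2 ≤ Nat.card S ^ 2 := Nat.pow_le_pow_left hs2 2
    omega
  -- `L'` is not contained in `SL₂(S)`
  have hnle : ¬ L' ≤ subSL S := by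
    intro hle
    have := Subgroup.card_le_of_le hle
    rw [hc, card_subSL] at this
    omega
  have hSle : ∀ x ∈ S, x ∈ frobFix (F := F) p (2 * j) := fun x hx =>
    sqrt_mem_frobFix p hp2 S j hS (S.pow_mem hx 2)
  have hle : L' ≤ subSL (frobFix (F := F) p (2 * j)) := by
    intro g hg
    rw [mem_subSL_iff]
    obtain ⟨d, hd, hd2, h00, h10, h01, h11⟩ := hshape g hg
    have hdm : d ∈ frobFix (F := F) p (2 * j) := sqrt_mem_frobFix p hp2 S j hS hd2
    have hdi : d⁻¹ ∈ frobFix (F := F) p (2 * j) := (frobFix p (2 * j)).inv_mem hdm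
    intro i k
    fin_cases i <;> fin_cases k
    · show (g : M2) 0 0 ∈ _
      have : (g : M2) 0 0 = (g : M2) 0 0 * d⁻¹ * d := by field_simp
      rw [this]; exact (frobFix p (2 * j)).mul_mem (hSle _ h00) hdm
    · show (g : M2) 0 1 ∈ _
      have : (g : M2) 0 1 = (g : M2) 0 1 * d * d⁻¹ := by field_simp
      rw [this]; exact (frobFix p (2 * j)).mul_mem (hSle _ h01) hdi
    · show (g : M2) 1 0 ∈ _
      have : (g : M2) 1 0 = (g : M2) 1 0 * d⁻¹ * d := by field_simp
      rw [this]; exact (frobFix p (2 * j)).mul_mem (hSle _ h10) hdm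
    · show (g : M2) 1 1 ∈ _
      have : (g : M2) 1 1 = (g : M2) 1 1 * d * d⁻¹ := by field_simp
      rw [this]; exact (frobFix p (2 * j)).mul_mem (hSle _ h11) hdi
  rcases hco.le_iff.1 hle with h | h
  · -- the field of `s²` elements is everything
    have htop : frobFix (F := F) p (2 * j) = ⊤ := by
      apply top_le_iff.mp
      apply le_of_subSL_le
      rw [h]; exact le_top
    have hj0 : (j : ℕ) ≠ 0 := j.pos.ne'
    have hle' := card_le_of_frobFix_eq_top p (2 * j) (by omega) htop
    have hq := card_pow_finrank S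
    have hr2 : 2 ≤ Module.finrank S F := by
      by_contra hlt
      push Not at hlt
      have hr1 : Module.finrank S F = 1 := by
        have : 0 < Module.finrank S F := Module.finrank_pos
        omega
      rw [hr1, pow_one] at hq
      apply hnle
      intro g _
      rw [mem_subSL_iff]
      intro i k
      have : S = ⊤ := Cfsg.Agent.Lib.H5.PSL2MinSimple.subfield_eq_top_of_card S hq.symm
      rw [this]; exact Subfield.mem_top _
    have h1 : Nat.card S ^ 2 ≤ Fintype.card F := by
      rw [hq]; exact Nat.pow_le_pow_right (by omega) hr2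
    have h3 : p ^ (2 * (j : ℕ)) = Nat.card S ^ 2 := by rw [hS, ← pow_mul, mul_comm]
    omega
  · -- `L' = SL₂(S₂)`: then `S₂ ≤ S`
    exfalso
    apply hnle
    rw [← h]
    apply subSL_mono
    intro d hd
    have hu : uu d ∈ L' := by
      rw [← h, mem_subSL_iff]
      intro i k
      fin_cases i <;> fin_cases k
      · exact (frobFix p (2 * j)).one_mem
      · exact hd
      · exact (frobFix p (2 * j)).zero_mem
      · exact (frobFix p (2 * j)).one_mem
    obtain ⟨e, he, -, h00, -, h01, h11⟩ := hshape _ hu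
    rw [uu_00, one_mul] at h00
    rw [uu_01] at h01
    have heS : e ∈ S := by
      have := S.inv_mem h00
      rwa [inv_inv] at this
    have : d = d * e * e⁻¹ := by field_simp
    rw [this]
    exact S.mul_mem h01 h00

/-- **maximal subgroups of `PSL₂(q)`, `q` odd, with more than one Sylow `p`-subgroup** -/
theorem subfield_case (p : ℕ) [Fact p.Prime] [CharP F p] (hodd : Odd (Fintype.card F))
    (M : Subgroup PSL2) (hM : IsCoatom M) (h1 : 1 < Nat.card (Sylow p M)) :
    (∃ (S : Subfield F) (r : ℕ), r.Prime ∧ Odd r ∧ Fintype.card F = Nat.card S ^ r ∧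
      Nonempty (M ≃* Matrix.ProjectiveSpecialLinearGroup (Fin 2) S)) ∨
    (∃ S : Subfield F, Fintype.card F = Nat.card S ^ 2 ∧
      Nonempty (M ≃* Matrix.ProjGenLinGroup (Fin 2) S)) ∨
    (p = 3 ∧ Nonempty (M ≃* alternatingGroup (Fin 5))) := by
  have hpp : p.Prime := Fact.out
  have h2F : (2 : F) ≠ 0 := Cfsg.Agent.Lib.H12.two_ne_zero_of_odd hodd
  have hp2 : p ≠ 2 := by
    rintro rfl
    apply h2F
    have := CharP.cast_eq_zero F 2
    exact_mod_cast this
  have hneg : (-1 : SL2) ∈ M.comap pr := by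
    rw [Subgroup.mem_comap, PSL2SubfieldMax.pr_neg_one]; exact M.one_mem
  have hL2 : 1 < Nat.card (Sylow p (M.comap (pr (F := F)))) := by
    have hs : Function.Surjective ((pr (F := F)).subgroupComap M) :=
      MonoidHom.subgroupComap_surjective_of_surjective pr M pr_surjective
    have := Nat.card_le_card_of_surjective _ (Sylow.mapSurjective_surjective hs p)
    omega
  have hcL := PSL2SubfieldMax.card_comap_pr hodd M
  have hmap : (M.comap (pr (F := F))).map pr = M :=
    Subgroup.map_comap_eq_self_of_surjective pr_surjective M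
  rcases DicksonOddGen3.structure_of_two_sylow p hp2 (M.comap pr) hneg hL2 with
    ⟨Θ, S, hle, hshape, hc⟩ | ⟨h3, hc⟩
  · haveI : Fintype S := Fintype.ofFinite S
    obtain ⟨L', hL'⟩ : ∃ L' : Subgroup SL2, L' = (M.comap pr).map Θ.toMonoidHom := ⟨_, rfl⟩
    rw [← hL'] at hle hshape
    have hco : IsCoatom L' := by
      rw [hL']
      exact isCoatom_map_equiv Θ (Subgroup.isCoatom_comap_of_surjective pr_surjective hM)
    have hcL' : Nat.card L' = Nat.card (M.comap (pr (F := F))) := by
      rw [hL']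
      exact (Nat.card_congr
        ((M.comap pr).equivMapOfInjective Θ.toMonoidHom Θ.injective).toEquiv).symm
    obtain ⟨e₁⟩ := PSL2Iso.equiv_map_pr Θ (M.comap (pr (F := F)))
    rw [← hL'] at e₁
    have e₀ : M ≃* ↥((M.comap (pr (F := F))).map pr) := (MulEquiv.subgroupCongr hmap).symm
    have hs1 : 1 ≤ Nat.card S := Nat.card_pos
    have hid := PSL2A5SqMax.card_identity (Nat.card S) hs1
    have hR : Nat.card (subSL S) = Nat.card S * (Nat.card S ^ 2 - 1) := card_subSL S
    rcases hc with hc | hc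
    · -- `PSL₂(S)`
      left
      rw [hid] at hc
      have heq : subSL S = L' :=
        Subgroup.eq_of_le_of_card_ge hle (by rw [hR, hcL', hc])
      obtain ⟨e₂⟩ := PSL2Iso.map_pr_subSL_equiv S
      have e₃ : ↥(L'.map (pr (F := F))) ≃* ↥((subSL S).map (pr (F := F))) :=
        MulEquiv.subgroupCongr (by rw [← heq])
      rw [← heq] at hco
      have hr := finrank_prime_of_isCoatom_subSL S hco
      have hr2 : Module.finrank S F ≠ 2 := fun h =>
        not_isCoatom_subSL_of_finrank_two hodd S h hco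
      refine ⟨S, Module.finrank S F, hr, ?_, card_pow_finrank S,
        ⟨((e₀.trans e₁).trans e₃).trans e₂⟩⟩
      rcases hr.eq_two_or_odd' with h | h
      · exact absurd h hr2
      · exact h
    · -- `PGL₂(S)`
      right; left
      have hc' : Nat.card L' = 2 * (Nat.card S * (Nat.card S ^ 2 - 1)) := by
        rw [hcL', hc, ← hid]; ring
      have hneg' : (-1 : SL2) ∈ L' := by
        rw [hL', ← DicksonOddGen.equiv_neg_one p hp2 Θ]
        exact Subgroup.mem_map_of_mem _ hneg
      obtain ⟨e₂⟩ := PSL2PGLRecog.equiv_PGL hodd S L' hneg' hshape hc'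
      exact ⟨S, card_eq_sq_of_shape p hodd S L' hco hshape hc', ⟨(e₀.trans e₁).trans e₂⟩⟩
  · -- the exceptional case: `A₅`
    subst h3
    right; right
    rw [hcL] at hc
    exact ⟨rfl, PSL2CharThree.alt_five_of_card hodd M (by omega)⟩

end Cfsg.Agent.Lib.H5.PSL2MaxSub
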