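import Mathlib
import Cfsg.Agent.Lib.H5.Metacyclic2
import Cfsg.Agent.Lib.H22.UniqueInvolution
import Cfsg.Agent.Lib.H22.MaxClass2
import Cfsg.Agent.Lib.H25.AutTwoGroup

/-!
# Metacyclic 2-groups with an automorphism of odd order, II (helper5)
-/

set_option autoImplicit false

universe u

namespace Cfsg.Agent.Lib.H5.MC2

open Subgroup
open scoped commutatorElement

section Induced

variable {X : Type*} [Group X]

/-- The automorphism induced on the quotient by an invariant normal subgroup. -/
noncomputable def ind (K : Subgroup X) [K.Normal] (α : MulAut X)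
    (h : K.map α.toMonoidHom = K) : MulAut (X ⧸ K) :=
  QuotientGroup.congr K K α h

theorem ind_mk (K : Subgroup X) [K.Normal] (α : MulAut X) (h : K.map α.toMonoidHom = K) (x : X) :
    ind K α h (x : X ⧸ K) = ((α x : X) : X ⧸ K) := rfl

theorem ind_pow_mk (K : Subgroup X) [K.Normal] (α : MulAut X) (h : K.map α.toMonoidHom = K)
    (j : ℕ) (x : X) : ((ind K α h) ^ j) (x : X ⧸ K) = (((α ^ j) x : X) : X ⧸ K) := by
  induction j generalizing x with
  | zero => rfl
  | succ j ih => rw [pow_succ', MulAut.mul_apply, ih, pow_succ', MulAut.mul_apply, ind_mk]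

theorem ind_odd [Finite X] (K : Subgroup X) [K.Normal] (α : MulAut X)
    (h : K.map α.toMonoidHom = K) (hodd : Odd (orderOf α)) : Odd (orderOf (ind K α h)) := by
  apply Odd.of_dvd_nat hodd
  apply orderOf_dvd_of_pow_eq_one
  ext q
  induction q using QuotientGroup.induction_on with
  | H x => rw [ind_pow_mk, pow_orderOf_eq_one]; rfl

theorem ind_ne_one [Finite X] (K : Subgroup X) [K.Normal] (α : MulAut X)
    (h : K.map α.toMonoidHom = K) (hodd : Odd (orderOf α)) (hne : α ≠ 1)
    (hfix : ∀ k ∈ K, α k = k) (h2 : ∀ k ∈ K, ∃ m : ℕ, k ^ 2 ^ m = 1) : ind K α h ≠ 1 := by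
  intro h1
  apply hne
  ext t
  rw [MulAut.one_apply]
  have hmem : t⁻¹ * α t ∈ K := by
    have h3 : ind K α h (t : X ⧸ K) = (t : X ⧸ K) := by rw [h1]; rfl
    rw [ind_mk] at h3
    exact QuotientGroup.eq.mp h3.symm
  exact AZ.fix_of_stable α hodd t (hfix _ hmem) (h2 _ hmem)

theorem map_eq_of_fix (K : Subgroup X) (α : MulAut X) (hfix : ∀ k ∈ K, α k = k) :
    K.map α.toMonoidHom = K := by
  ext y
  constructor
  · rintro ⟨k, hk, rfl⟩
    have : α k = k := hfix k hk
    show α k ∈ K
    rw [this]
    exact hk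
  · intro hy
    exact ⟨y, hy, hfix y hy⟩

end Induced

/-- Version of `abelian_case` for a group with a commutativity hypothesis. -/
theorem abelian_case' {X : Type*} [Group X] [Finite X] (hcomm : ∀ a b : X, a * b = b * a)
    (hX : IsPGroup 2 X)
    (hm : Cfsg.IsMetacyclic X) (α : MulAut X) (hodd : Odd (orderOf α)) (hne : α ≠ 1) :
    ∃ n : ℕ, n ≠ 0 ∧ (∃ x : X, orderOf x = 2 ^ n ∧ zpowers x ⊓ zpowers (α x) = ⊥) ∧
      (∀ g : X, g ^ 2 ^ n = 1) ∧
      (∀ u v : X, u ≠ 1 → u * u = 1 → v ≠ 1 → v * v = 1 → ∃ k : ℕ, (α ^ k) u = v) ∧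
      Nonempty (X ≃* Multiplicative (ZMod (2 ^ n)) × Multiplicative (ZMod (2 ^ n))) := by
  letI : CommGroup X := { ‹Group X› with mul_comm := hcomm }
  exact abelian_case hX hm α hodd hne

/-- The quotient by the commutator subgroup is commutative. -/
theorem quot_comm {X : Type*} [Group X] (a b : X ⧸ commutator X) : a * b = b * a := by
  induction a using QuotientGroup.induction_on with
  | H a =>
    induction b using QuotientGroup.induction_on with
    | H b =>
      rw [← QuotientGroup.mk_mul, ← QuotientGroup.mk_mul]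
      apply QuotientGroup.eq.mpr
      have h : (a * b)⁻¹ * (b * a) = ⁅b⁻¹, a⁻¹⁆ := by
        rw [commutatorElement_def]; group
      rw [h, _root_.commutator_def]
      exact Subgroup.commutator_mem_commutator (mem_top _) (mem_top _)

/-- If all elements are involutions the commutator subgroup is trivial. -/
theorem commutator_eq_bot_of_comm {X : Type*} [Group X] (h : ∀ a b : X, a * b = b * a) :
    commutator X = ⊥ := by
  rw [_root_.commutator_def, Subgroup.commutator_eq_bot_iff_le_centralizer]
  intro a _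
  rw [Subgroup.mem_centralizer_iff]
  intro b _
  exact h b a

/-- **Case A**: metacyclic `2`-groups with commutator subgroup of order two and a nontrivial
automorphism of odd order are quaternion of order eight. -/
theorem caseA {X : Type u} [Group X] [Finite X] (hX : IsPGroup 2 X) (hm : Cfsg.IsMetacyclic X)
    (hc : Nat.card (commutator X) = 2) (α : MulAut X) (hodd : Odd (orderOf α)) (hne : α ≠ 1) :
    Nat.card X = 8 ∧ Nonempty (X ≃* QuaternionGroup 2) := by
  have : Fact (Nat.Prime 2) := ⟨Nat.prime_two⟩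
  -- the nontrivial element `z` of `X'`
  obtain ⟨⟨z, hzmem⟩, hz1', huniq⟩ := (Nat.card_eq_two_iff' (1 : commutator X)).mp hc
  have hz1 : z ≠ 1 := fun h => hz1' (Subtype.ext h)
  have hzall : ∀ g ∈ commutator X, g = 1 ∨ g = z := by
    intro g hg
    by_cases h : g = 1
    · exact Or.inl h
    · right
      have := huniq ⟨g, hg⟩ (fun h' => h (congrArg Subtype.val h'))
      exact congrArg Subtype.val this
  have hzz : z * z = 1 := by
    rcases hzall _ (mul_mem hzmem hzmem) with h | h
    · exact h
    · exact absurd (mul_left_cancel (h.trans (mul_one z).symm)) hz1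
  have hzcen : ∀ g : X, z * g = g * z := by
    intro g
    have hn : (commutator X).Normal := inferInstance
    rcases hzall _ (hn.conj_mem z hzmem g) with h | h
    · exfalso
      apply hz1
      have : g * z = g := by
        have := congrArg (· * g) h
        simpa using this
      exact mul_left_cancel (this.trans (mul_one g).symm)
    · have := congrArg (· * g) h
      simpa using this.symm
  have hcen : ∀ c ∈ commutator X, ∀ g : X, c * g = g * c := by
    intro c hc g
    rcases hzall c hc with rfl | rfl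
    · rw [one_mul, mul_one]
    · exact hzcen g
  have hsq : ∀ c ∈ commutator X, c * c = 1 := by
    intro c hc
    rcases hzall c hc with rfl | rfl
    · rw [one_mul]
    · exact hzz
  have hchar : (commutator X).Characteristic := by
    rw [_root_.commutator_def]; infer_instance
  have hαmem : ∀ g ∈ commutator X, α g ∈ commutator X := by
    intro g hg
    have := Subgroup.characteristic_iff_map_eq.mp hchar α
    rw [← this]
    exact ⟨g, hg, rfl⟩
  have hαz : α z = z := by
    rcases hzall _ (hαmem z hzmem) with h | h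
    · exfalso
      apply hz1
      apply α.injective
      rw [h, map_one]
    · exact h
  have hfixK : ∀ k ∈ commutator X, α k = k := by
    intro k hk
    rcases hzall k hk with rfl | rfl
    · exact map_one α
    · exact hαz
  have hmap : (commutator X).map α.toMonoidHom = commutator X := map_eq_of_fix _ α hfixK
  have h2pow : ∀ k : X, ∃ m : ℕ, k ^ 2 ^ m = 1 := fun k => hX k
  -- the induced automorphism of the abelianization
  obtain ⟨β, hβ⟩ : ∃ β : MulAut (X ⧸ commutator X), β = ind (commutator X) α hmap := ⟨_, rfl⟩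
  have hβodd : Odd (orderOf β) := hβ ▸ ind_odd _ α hmap hodd
  have hβne : β ≠ 1 := hβ ▸ ind_ne_one _ α hmap hodd hne hfixK (fun k _ => h2pow k)
  have hβmk : ∀ x : X, β (x : X ⧸ commutator X) = ((α x : X) : X ⧸ commutator X) := by
    intro x; rw [hβ]; rfl
  have hβpow : ∀ (j : ℕ) (x : X),
      (β ^ j) (x : X ⧸ commutator X) = (((α ^ j) x : X) : X ⧸ commutator X) := by
    intro j x; rw [hβ]; exact ind_pow_mk _ α hmap j x
  have hQ2 : IsPGroup 2 (X ⧸ commutator X) := hX.to_quotient _
  obtain ⟨n, hn0, ⟨xb, hxbn, hdisj⟩, hexp, htrans, ⟨e⟩⟩ :=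
    abelian_case' quot_comm hQ2 (isMetacyclic_quotient hm _) β hβodd hβne
  -- squares are central
  have hsqc : ∀ a b : X, (a * a) * b = b * (a * a) := by
    intro a b
    obtain ⟨c, hcdef⟩ : ∃ c : X, c = ⁅a, b⁆ := ⟨_, rfl⟩
    have hcm : c ∈ commutator X := by
      rw [hcdef, _root_.commutator_def]
      exact Subgroup.commutator_mem_commutator (mem_top _) (mem_top _)
    have e1 : a * b = c * (b * a) := by rw [hcdef, commutatorElement_def]; group
    have h1 := hcen c hcm a
    have h2 := hsq c hcm
    calc a * a * b = a * (a * b) := mul_assoc _ _ _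
      _ = a * (c * (b * a)) := by rw [← e1]
      _ = (a * c) * (b * a) := (mul_assoc _ _ _).symm
      _ = (c * a) * (b * a) := by rw [h1]
      _ = c * ((a * b) * a) := by simp only [mul_assoc]
      _ = c * ((c * (b * a)) * a) := by rw [← e1]
      _ = (c * c) * (b * (a * a)) := by simp only [mul_assoc]
      _ = b * (a * a) := by rw [h2, one_mul]
  -- `α` fixes the center elementwise
  have hcenter_inv : ∀ g ∈ center X, α g ∈ center X := by
    intro g hg
    rw [Subgroup.mem_center_iff] at hg ⊢
    intro y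
    obtain ⟨y', rfl⟩ := α.surjective y
    rw [← map_mul, ← map_mul, hg y']
  -- the elementary abelian subgroup `Ω₁(Z(X))`
  let E₀ : Subgroup X :=
    { carrier := {g | g ∈ center X ∧ g * g = 1}
      one_mem' := ⟨one_mem _, one_mul 1⟩
      mul_mem' := by
        rintro a b ⟨ha, ha2⟩ ⟨hb, hb2⟩
        refine ⟨mul_mem ha hb, ?_⟩
        have hab : b * a = a * b := (Subgroup.mem_center_iff.mp ha b)
        calc a * b * (a * b) = a * (b * a) * b := by simp only [mul_assoc]
          _ = a * (a * b) * b := by rw [hab]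
          _ = (a * a) * (b * b) := by simp only [mul_assoc]
          _ = 1 := by rw [ha2, hb2, one_mul]
      inv_mem' := by
        rintro a ⟨ha, ha2⟩
        refine ⟨inv_mem ha, ?_⟩
        rw [← mul_inv_rev, ha2, inv_one] }
  have hE₀mem : ∀ g : X, g ∈ E₀ ↔ g ∈ center X ∧ g * g = 1 := fun g => Iff.rfl
  have hE₀4 : Nat.card E₀ ≤ 4 := card_le_four_of_exp_two hm E₀ (fun t ht => ht.2)
  have hzc : z ∈ center X := by
    rw [Subgroup.mem_center_iff]
    intro g
    exact (hzcen g).symm
  have hzE : z ∈ E₀ := ⟨hzc, hzz⟩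
  have hfixinv : ∀ g ∈ center X, g * g = 1 → α g = g := by
    intro g hg hgg
    by_cases hg1 : g = 1
    · rw [hg1, map_one]
    by_cases hgz : g = z
    · rw [hgz, hαz]
    have hgE : g ∈ E₀ := ⟨hg, hgg⟩
    have hgzE : g * z ∈ E₀ := mul_mem hgE hzE
    have hαgE : α g ∈ E₀ := ⟨hcenter_inv g hg, by rw [← map_mul, hgg, map_one]⟩
    have h4 := R2.mem_of_card_le_four hE₀4 (one_mem E₀) hzE hgE hgzE hαgE
      (Ne.symm hz1) (Ne.symm hg1)
      (by
        intro h
        apply hgz
        have h' : g * z = z * z := by rw [hzz, ← h]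
        exact mul_right_cancel h')
      (Ne.symm hgz)
      (by
        intro h
        apply hg1
        have h' : 1 * z = g * z := by rw [one_mul]; exact h
        exact (mul_right_cancel h').symm)
      (by
        intro h
        apply hz1
        have h' : g * 1 = g * z := by rw [mul_one]; exact h
        exact (mul_left_cancel h').symm)
    rcases h4 with h | h | h | h
    · exfalso
      apply hg1
      apply α.injective
      rw [h, map_one]
    · exfalso
      apply hgz
      apply α.injective
      rw [h, hαz]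
    · exact h
    · apply AutOdd.fix_of_sq_fix α hodd
      rw [h, map_mul, h, hαz, mul_assoc, hzz, mul_one]
  have hfixcenter : ∀ g ∈ center X, α g = g :=
    AutOdd.fix_of_fix_involutions α hodd (center X)
      (fun a ha b _ => (Subgroup.mem_center_iff.mp ha b).symm) hcenter_inv
      (fun g _ => h2pow g) hfixinv
  -- `n = 1`
  have hn1 : n = 1 := by
    obtain ⟨x, rfl⟩ := QuotientGroup.mk_surjective xb
    have hxx : x * x ∈ center X := by
      rw [Subgroup.mem_center_iff]
      intro g
      exact (hsqc x g).symm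
    have h1 : α (x * x) = x * x := hfixcenter _ hxx
    have h3 : ((x : X ⧸ commutator X)) ^ 2 ∈
        zpowers (x : X ⧸ commutator X) ⊓ zpowers (β (x : X ⧸ commutator X)) := by
      refine ⟨Subgroup.pow_mem _ (mem_zpowers _) 2, ?_⟩
      have h4 : ((x : X ⧸ commutator X)) ^ 2 = (β (x : X ⧸ commutator X)) ^ 2 := by
        rw [← map_pow, pow_two, ← QuotientGroup.mk_mul, hβmk, h1]
      rw [h4]
      exact Subgroup.pow_mem _ (mem_zpowers _) 2
    rw [hdisj, Subgroup.mem_bot] at h3
    have h5 : 2 ^ n ∣ 2 := hxbn ▸ orderOf_dvd_of_pow_eq_one h3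
    have h6 : 2 ^ n ≤ 2 := Nat.le_of_dvd (by norm_num) h5
    have h7 : n < 2 := by
      by_contra hcon
      push Not at hcon
      have : 2 ^ 2 ≤ 2 ^ n := Nat.pow_le_pow_right (by norm_num) hcon
      omega
    omega
  subst hn1
  -- order of `X`
  have hQ4 : Nat.card (X ⧸ commutator X) = 4 := by
    rw [Nat.card_congr e.toEquiv, Nat.card_prod]
    have : Nat.card (Multiplicative (ZMod (2 ^ 1))) = 2 := by
      rw [Nat.card_congr Multiplicative.toAdd, Nat.card_zmod]; norm_num
    rw [this]
  have hX8 : Nat.card X = 8 := by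
    rw [Subgroup.card_eq_card_quotient_mul_card_subgroup (commutator X), hQ4, hc]
  -- unique involution
  have huinv : ∀ u : X, u ≠ 1 → u * u = 1 → u = z := by
    intro u hu1 huu
    by_contra huz
    have hunot : u ∉ commutator X := by
      intro h
      rcases hzall u h with h' | h'
      · exact hu1 h'
      · exact huz h'
    have hub1 : (u : X ⧸ commutator X) ≠ 1 := by
      intro h
      exact hunot ((QuotientGroup.eq_one_iff u).mp h)
    have hubb : (u : X ⧸ commutator X) * (u : X ⧸ commutator X) = 1 := by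
      rw [← QuotientGroup.mk_mul, huu]; rfl
    have hall : ∀ g : X, g * g = 1 := by
      intro g
      by_cases hg : g ∈ commutator X
      · exact hsq g hg
      · have hgb1 : (g : X ⧸ commutator X) ≠ 1 := by
          intro h
          exact hg ((QuotientGroup.eq_one_iff g).mp h)
        have hgbb : (g : X ⧸ commutator X) * (g : X ⧸ commutator X) = 1 := by
          have := hexp (g : X ⧸ commutator X)
          rw [pow_one, pow_two] at this
          exact this
        obtain ⟨k, hk⟩ := htrans _ _ hub1 hubb hgb1 hgbb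
        rw [hβpow] at hk
        have hmem : ((α ^ k) u)⁻¹ * g ∈ commutator X := QuotientGroup.eq.mp hk
        obtain ⟨c, hcdef⟩ : ∃ c : X, c = ((α ^ k) u)⁻¹ * g := ⟨_, rfl⟩
        rw [← hcdef] at hmem
        obtain ⟨w, hw⟩ : ∃ w : X, w = (α ^ k) u := ⟨_, rfl⟩
        have hg' : g = w * c := by rw [hcdef, hw, mul_inv_cancel_left]
        have hww : w * w = 1 := by rw [hw, ← map_mul, huu, map_one]
        have h1 := hcen c hmem w
        calc g * g = w * c * (w * c) := by rw [hg']
          _ = w * (c * w) * c := by simp only [mul_assoc]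
          _ = w * (w * c) * c := by rw [h1]
          _ = (w * w) * (c * c) := by simp only [mul_assoc]
          _ = 1 := by rw [hww, hsq c hmem, one_mul]
    have hcomm : ∀ a b : X, a * b = b * a := by
      intro a b
      have h1 := hall (a * b)
      have h2 := hall a
      have h3 := hall b
      have ha : a⁻¹ = a := by rw [inv_eq_iff_mul_eq_one]; exact h2
      have hb : b⁻¹ = b := by rw [inv_eq_iff_mul_eq_one]; exact h3
      have : (a * b)⁻¹ = a * b := by rw [inv_eq_iff_mul_eq_one]; exact h1
      rw [← this, mul_inv_rev, ha, hb]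
    have := commutator_eq_bot_of_comm hcomm
    rw [this] at hzmem
    exact hz1 (Subgroup.mem_bot.mp hzmem)
  have hsub2 : ∀ H : Subgroup X, Nat.card H = 2 → H = zpowers z := by
    intro H hH
    obtain ⟨⟨h, hhmem⟩, hh1, -⟩ := (Nat.card_eq_two_iff' (1 : H)).mp hH
    have hh1' : h ≠ 1 := fun h' => hh1 (Subtype.ext h')
    have hh2 : h * h = 1 := by
      have := pow_card_eq_one' (G := H) (x := ⟨h, hhmem⟩)
      rw [hH, pow_two] at this
      exact congrArg Subtype.val this
    have hhz : h = z := huinv h hh1' hh2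
    subst hhz
    symm
    apply Subgroup.eq_of_le_of_card_ge
    · rw [Subgroup.zpowers_le]; exact hhmem
    · rw [hH, Nat.card_zpowers]
      have : orderOf h = 2 := orderOf_eq_prime (by rw [pow_two]; exact hzz) hz1
      rw [this]
  have huniq2 : Cfsg.Agent.Lib.H22.AtMostOneOrderP 2 X := by
    intro H K hH hK
    rw [hsub2 H hH, hsub2 K hK]
  refine ⟨hX8, ?_⟩
  rcases Cfsg.Agent.Lib.H22.cyclic_or_quaternion_of_atMostOne hX huniq2 with hcyc | ⟨m, hm1, ⟨e'⟩⟩
  · exfalso
    have hcomm : ∀ a b : X, a * b = b * a := by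
      intro a b
      obtain ⟨g, hg⟩ := hcyc.exists_generator
      obtain ⟨i, rfl⟩ := Subgroup.mem_zpowers_iff.mp (hg a)
      obtain ⟨j, rfl⟩ := Subgroup.mem_zpowers_iff.mp (hg b)
      exact (Commute.zpow_zpow_self g i j).eq
    have := commutator_eq_bot_of_comm hcomm
    rw [this] at hzmem
    exact hz1 (Subgroup.mem_bot.mp hzmem)
  · have hcardQ : Nat.card X = 4 * 2 ^ m := by
      rw [Nat.card_congr e'.toEquiv, Nat.card_eq_fintype_card]
      have : NeZero (2 ^ m) := ⟨by positivity⟩
      exact QuaternionGroup.card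
    rw [hX8] at hcardQ
    have hm' : m = 1 := by
      have h2m : 2 ^ m = 2 ^ 1 := by omega
      exact Nat.pow_right_injective (le_refl 2) h2m
    subst hm'
    exact ⟨e'⟩

/-- `2`-groups of maximal class and order at least `16` have a `2`-group of automorphisms. -/
theorem aut_maxClass {X : Type u} [Group X] [Finite X] (n : ℕ) (hn : 1 ≤ n)
    (hcard : Nat.card X = 2 ^ (n + 3)) (hidx : (commutator X).index = 4) :
    IsPGroup 2 (MulAut X) := by
  have : Fact (Nat.Prime 2) := ⟨Nat.prime_two⟩
  obtain ⟨a, y, hD, hcen⟩ := Cfsg.Agent.Lib.H22.exists_maxClassData n X hcard hidx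
  have hX : IsPGroup 2 X := IsPGroup.of_card hcard
  have hidx2 := hD.index_zpowers
  apply Cfsg.Agent.Lib.H25.isPGroup_mulAut_of_cyclic_index_two hX a hidx2
  intro x hx
  have hxx : x * x ∈ zpowers a := (mul_mem_iff_of_index_two hidx2).mpr Iff.rfl
  have hxxc : x * x ∈ center X := by
    rw [Subgroup.mem_center_iff]
    intro g
    by_cases hg : g ∈ zpowers a
    · obtain ⟨i, rfl⟩ := Subgroup.mem_zpowers_iff.mp hg
      obtain ⟨j, hj⟩ := Subgroup.mem_zpowers_iff.mp hxx
      rw [← hj]
      exact (Commute.zpow_zpow_self a i j).eq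
    · have hm : x⁻¹ * g ∈ zpowers a :=
        (mul_mem_iff_of_index_two hidx2).mpr
          ⟨fun h => absurd (inv_mem_iff.mp h) hx, fun h => absurd h hg⟩
      obtain ⟨m, hmdef⟩ : ∃ m : X, m = x⁻¹ * g := ⟨_, rfl⟩
      rw [← hmdef] at hm
      have hg' : g = x * m := by rw [hmdef, mul_inv_cancel_left]
      have hcm : m * (x * x) = (x * x) * m := by
        obtain ⟨i, hi⟩ := Subgroup.mem_zpowers_iff.mp hm
        obtain ⟨j, hj⟩ := Subgroup.mem_zpowers_iff.mp hxx
        rw [← hi, ← hj]
        exact (Commute.zpow_zpow_self a i j).eq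
      rw [hg']
      calc x * m * (x * x) = x * (m * (x * x)) := mul_assoc _ _ _
        _ = x * ((x * x) * m) := by rw [hcm]
        _ = x * x * (x * m) := by simp only [mul_assoc]
  rw [hcen] at hxxc
  obtain ⟨k, hk⟩ := Subgroup.mem_zpowers_iff.mp hxxc
  have hx4 : x ^ 4 = 1 := by
    have e : x ^ 4 = (x * x) * (x * x) := by
      rw [show (4 : ℕ) = 2 + 2 from rfl, pow_add, pow_two]
    rw [e, ← hk, ← zpow_add, ← two_mul, zpow_mul, zpow_two, hD.zz_sq, one_zpow]
  have h1 : orderOf x ≤ 4 := Nat.le_of_dvd (by norm_num) (orderOf_dvd_of_pow_eq_one hx4)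
  rw [hD.orderOf_a]
  have h2 : 2 ^ 3 ≤ 2 ^ (n + 2) := Nat.pow_le_pow_right (by norm_num) (by omega)
  omega

/-- **Metacyclic `2`-groups whose automorphism group is not a `2`-group** are quaternion of order
eight or homocyclic of rank two. -/
theorem main {X : Type u} [Group X] [Finite X] (hX : IsPGroup 2 X) (hm : Cfsg.IsMetacyclic X)
    (hA : ¬ IsPGroup 2 (MulAut X)) :
    Nonempty (X ≃* QuaternionGroup 2) ∨
      ∃ n : ℕ, Nonempty (X ≃* Multiplicative (ZMod (2 ^ n)) × Multiplicative (ZMod (2 ^ n))) := by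
  have : Fact (Nat.Prime 2) := ⟨Nat.prime_two⟩
  obtain ⟨α, hodd, hne⟩ : ∃ α : MulAut X, Odd (orderOf α) ∧ α ≠ 1 := by
    by_contra hcon
    push Not at hcon
    exact hA (AutOdd.isPGroup_two_of_odd_trivial hcon)
  by_cases hab : ∀ a b : X, a * b = b * a
  · obtain ⟨n, -, -, -, -, he⟩ := abelian_case' hab hX hm α hodd hne
    exact Or.inr ⟨n, he⟩
  -- the nonabelian case
  have hX'ne : commutator X ≠ ⊥ := by
    intro h
    apply hab
    intro a b
    have h1 : ⁅a, b⁆ ∈ commutator X := by
      rw [_root_.commutator_def]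
      exact Subgroup.commutator_mem_commutator (mem_top _) (mem_top _)
    rw [h, Subgroup.mem_bot] at h1
    exact commutatorElement_eq_one_iff_mul_comm.mp h1
  have hm' := hm
  obtain ⟨N, hN, hNc, hQc⟩ := hm'
  have hle : commutator X ≤ N := by
    letI : CommGroup (X ⧸ N) := IsCyclic.commGroup
    have h1 := Abelianization.commutator_subset_ker (QuotientGroup.mk' N)
    rwa [QuotientGroup.ker_mk'] at h1
  have hX'c : IsCyclic (commutator X) :=
    isCyclic_of_injective (Subgroup.inclusion hle) (Subgroup.inclusion_injective hle)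
  obtain ⟨⟨c, hcmem⟩, hcgen⟩ := hX'c.exists_generator
  have hzp : commutator X = zpowers c := by
    apply le_antisymm
    · intro g hg
      obtain ⟨i, hi⟩ := Subgroup.mem_zpowers_iff.mp (hcgen ⟨g, hg⟩)
      rw [Subgroup.mem_zpowers_iff]
      refine ⟨i, ?_⟩
      have h1 := congrArg Subtype.val hi
      rw [Subgroup.coe_zpow] at h1
      exact h1
    · rw [Subgroup.zpowers_le]; exact hcmem
  obtain ⟨r, hr⟩ := (IsPGroup.iff_orderOf.mp hX) c
  have hr0 : r ≠ 0 := by
    intro h
    rw [h, pow_zero, orderOf_eq_one_iff] at hr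
    apply hX'ne
    rw [hzp, hr, Subgroup.zpowers_one_eq_bot]
  have hcardX' : Nat.card (commutator X) = 2 ^ r := by rw [hzp, Nat.card_zpowers, hr]
  have hchar : (commutator X).Characteristic := by
    rw [_root_.commutator_def]; infer_instance
  have hαmem : ∀ g ∈ commutator X, α g ∈ commutator X := by
    intro g hg
    have h1 := Subgroup.characteristic_iff_map_eq.mp hchar α
    rw [← h1]
    exact ⟨g, hg, rfl⟩
  -- `α` fixes `X'` elementwise
  have hfixX' : ∀ g ∈ commutator X, α g = g := by
    apply AutOdd.fix_of_fix_involutions α hodd (commutator X)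
    · intro a ha b hb
      rw [hzp] at ha hb
      obtain ⟨i, rfl⟩ := Subgroup.mem_zpowers_iff.mp ha
      obtain ⟨j, rfl⟩ := Subgroup.mem_zpowers_iff.mp hb
      exact (Commute.zpow_zpow_self c i j).eq
    · exact hαmem
    · intro g _
      exact hX g
    · intro g hg hgg
      by_cases hg1 : g = 1
      · rw [hg1, map_one]
      have hαg := hαmem g hg
      rw [hzp] at hg hαg
      have e1 := eq_pow_of_mem_zpowers c r hr0 hr g hg hg1 hgg
      have e2 := eq_pow_of_mem_zpowers c r hr0 hr (α g) hαg
        (fun h => hg1 (α.injective (h.trans (map_one α).symm)))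
        (by rw [← map_mul, hgg, map_one])
      rw [e2, ← e1]
  by_cases hr1 : r = 1
  · left
    rw [hr1, pow_one] at hcardX'
    exact (caseA hX hm hcardX' α hodd hne).2
  exfalso
  have hr2 : 2 ≤ r := by omega
  -- the subgroup `K = ⟨c²⟩`
  obtain ⟨K, hKdef⟩ : ∃ K : Subgroup X, K = zpowers (c * c) := ⟨_, rfl⟩
  have hccK : c * c ∈ K := by rw [hKdef]; exact mem_zpowers _
  have hKle : K ≤ commutator X := by
    rw [hKdef, Subgroup.zpowers_le]
    exact mul_mem hcmem hcmem
  have hKn : K.Normal := by
    constructor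
    intro k hk g
    rw [hKdef] at hk ⊢
    obtain ⟨i, rfl⟩ := Subgroup.mem_zpowers_iff.mp hk
    have hconj : g * c * g⁻¹ ∈ zpowers c := by
      rw [← hzp]
      exact (inferInstance : (commutator X).Normal).conj_mem c hcmem g
    obtain ⟨j, hj⟩ := Subgroup.mem_zpowers_iff.mp hconj
    have h1 : g * (c * c) ^ i * g⁻¹ = (g * (c * c) * g⁻¹) ^ i := by rw [conj_zpow]
    have h2 : g * (c * c) * g⁻¹ = (g * c * g⁻¹) * (g * c * g⁻¹) := by group
    have h3 : (c * c) ^ j = c ^ j * c ^ j := (Commute.refl c).mul_zpow j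
    rw [h1, h2, ← hj, ← h3]
    exact Subgroup.zpow_mem _ (Subgroup.zpow_mem _ (mem_zpowers _) j) i
  have hfixK : ∀ k ∈ K, α k = k := fun k hk => hfixX' k (hKle hk)
  have hmapK : K.map α.toMonoidHom = K := map_eq_of_fix K α hfixK
  have hβodd := ind_odd K α hmapK hodd
  have hβne := ind_ne_one K α hmapK hodd hne hfixK (fun k _ => hX k)
  have hQ2 : IsPGroup 2 (X ⧸ K) := hX.to_quotient K
  have hQm : Cfsg.IsMetacyclic (X ⧸ K) := isMetacyclic_quotient hm K
  have hocc : orderOf (c * c) = 2 ^ (r - 1) := by
    rw [← pow_two, orderOf_pow_of_dvd (by norm_num) (by rw [hr]; exact dvd_pow_self 2 hr0), hr]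
    have e : 2 ^ r = 2 ^ (r - 1) * 2 := by rw [← pow_succ]; congr 1; omega
    rw [e, Nat.mul_div_cancel _ (by norm_num)]
  have hcardK : Nat.card K = 2 ^ (r - 1) := by rw [hKdef, Nat.card_zpowers, hocc]
  have hcK : c ∉ K := by
    intro h
    have h1 : zpowers c ≤ K := by rw [Subgroup.zpowers_le]; exact h
    have h2 := Subgroup.card_le_of_le h1
    rw [Nat.card_zpowers, hr, hcardK] at h2
    have e : 2 ^ r = 2 ^ (r - 1) * 2 := by rw [← pow_succ]; congr 1; omega
    have h3 : 0 < 2 ^ (r - 1) := by positivity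
    omega
  have hcommQ : Nat.card (commutator (X ⧸ K)) = 2 := by
    have hcomm_map : commutator (X ⧸ K) = (commutator X).map (QuotientGroup.mk' K) := by
      rw [_root_.commutator_def, _root_.commutator_def, Subgroup.map_commutator,
        Subgroup.map_top_of_surjective _ (QuotientGroup.mk'_surjective K)]
    rw [hcomm_map, hzp, MonoidHom.map_zpowers, Nat.card_zpowers]
    apply orderOf_eq_prime
    · rw [← map_pow, pow_two]
      exact (QuotientGroup.eq_one_iff _).mpr hccK
    · intro h
      exact hcK ((QuotientGroup.eq_one_iff _).mp h)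
  have h8 := (caseA hQ2 hQm hcommQ (ind K α hmapK) hβodd hβne).1
  have hcardX : Nat.card X = 2 ^ ((r - 1) + 3) := by
    rw [Subgroup.card_eq_card_quotient_mul_card_subgroup K, h8, hcardK, pow_add]
    ring
  have hidx : (commutator X).index = 4 := by
    have h1 := Subgroup.card_mul_index (commutator X)
    rw [hcardX', hcardX] at h1
    have e : 2 ^ ((r - 1) + 3) = 2 ^ r * 4 := by
      have : (r - 1) + 3 = r + 2 := by omega
      rw [this, pow_add]
      norm_num
    rw [e] at h1
    exact Nat.eq_of_mul_eq_mul_left (by positivity) h1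
  exact hA (aut_maxClass (r - 1) (by omega) hcardX hidx)

end Cfsg.Agent.Lib.H5.MC2
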