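import Mathlib
import Cfsg.Agent.Lib.H4.SLKDefs

set_option autoImplicit false
open Polynomial

/-!
# S2479 piece P03 (helper4 architect): multiplicativity of `nd` in the modulus.
-/

namespace Cfsg.Agent.Lib.H5.SLK

open Cfsg.Agent.Lib.H12.Cls Cfsg.Agent.Lib.H4.SLK

universe u v

/-- determinant along a short exact sequence of vector spaces with compatible endomorphisms -/
theorem det_of_exact {F : Type*} [Field F] {A V B : Type*} [AddCommGroup A] [Module F A]
    [AddCommGroup V] [Module F V] [Module.Finite F V] [AddCommGroup B] [Module F B]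
    (i : A →ₗ[F] V) (q : V →ₗ[F] B) (a : A →ₗ[F] A) (e : V →ₗ[F] V) (b : B →ₗ[F] B)
    (hi : Function.Injective i) (hq : Function.Surjective q)
    (hex : ∀ v, q v = 0 ↔ ∃ x, i x = v)
    (hia : ∀ x, e (i x) = i (a x)) (hqb : ∀ v, q (e v) = b (q v)) :
    LinearMap.det e = LinearMap.det a * LinearMap.det b := by
  classical
  have hW : LinearMap.range i = LinearMap.ker q := by
    ext v
    rw [LinearMap.mem_range, LinearMap.mem_ker, hex]
  have he : LinearMap.range i ≤ (LinearMap.range i).comap e := by
    rintro _ ⟨x, rfl⟩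
    exact ⟨a x, (hia x).symm⟩
  rw [LinearMap.det_eq_det_mul_det (LinearMap.range i) e he]
  congr 1
  · -- the restriction
    let ε : A ≃ₗ[F] LinearMap.range i := LinearEquiv.ofInjective i hi
    have h1 : e.restrict he = ε.toLinearMap ∘ₗ a ∘ₗ ε.symm.toLinearMap := by
      apply LinearMap.ext
      intro w
      obtain ⟨x, rfl⟩ := ε.surjective w
      apply Subtype.ext
      simp only [LinearMap.coe_comp, LinearEquiv.coe_coe, Function.comp_apply,
        LinearEquiv.symm_apply_apply]
      show e (i x) = i (a x)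
      exact hia x
    rw [h1, LinearMap.det_conj]
  · -- the quotient
    let δ : (V ⧸ LinearMap.range i) ≃ₗ[F] B :=
      (Submodule.quotEquivOfEq _ _ hW).trans (q.quotKerEquivOfSurjective hq)
    have hδ : ∀ v : V, δ (Submodule.Quotient.mk v) = q v := fun v => rfl
    have h2 : (LinearMap.range i).mapQ (LinearMap.range i) e he
        = δ.symm.toLinearMap ∘ₗ b ∘ₗ δ.symm.symm.toLinearMap := by
      apply LinearMap.ext
      intro w
      induction w using Submodule.Quotient.induction_on with
      | H v =>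
        simp only [LinearMap.coe_comp, LinearEquiv.coe_coe, Function.comp_apply,
          LinearEquiv.symm_symm]
        rw [Submodule.mapQ_apply, hδ, ← hqb, ← hδ (e v), LinearEquiv.symm_apply_apply]
    rw [h2, LinearMap.det_conj]

variable {F : Type u} [Field F]

theorem mem_span_singleton_iff' (g x : F[X]) : x ∈ (F[X] ∙ g) ↔ ∃ a : F[X], a * g = x := by
  rw [Submodule.mem_span_singleton]
  rfl

/-- ND5 -/
theorem nd_quot_mul (g h : F[X]) (hg : g.Monic) (hh : h.Monic) (p : F[X]) :
    nd (F[X] ⧸ (F[X] ∙ (g * h))) p = nd (F[X] ⧸ (F[X] ∙ g)) p * nd (F[X] ⧸ (F[X] ∙ h)) p := by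
  classical
  have hg0 : g ≠ 0 := hg.ne_zero
  have : Module.Finite F (F[X] ⧸ (F[X] ∙ (g * h))) := (hg.mul hh).finite_quotient
  -- multiplication by `g`
  have hle1 : (F[X] ∙ h) ≤ (F[X] ∙ (g * h)).comap (LinearMap.lsmul F[X] F[X] g) := by
    intro x hx
    obtain ⟨c, rfl⟩ := (mem_span_singleton_iff' h x).1 hx
    rw [Submodule.mem_comap, mem_span_singleton_iff']
    refine ⟨c, ?_⟩
    rw [LinearMap.lsmul_apply, smul_eq_mul]
    ring
  have hle2 : (F[X] ∙ (g * h)) ≤ (F[X] ∙ g).comap (LinearMap.id : F[X] →ₗ[F[X]] F[X]) := by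
    intro x hx
    obtain ⟨c, rfl⟩ := (mem_span_singleton_iff' (g * h) x).1 hx
    rw [Submodule.mem_comap, mem_span_singleton_iff']
    refine ⟨c * h, ?_⟩
    rw [LinearMap.id_apply]
    ring
  let i' : (F[X] ⧸ (F[X] ∙ h)) →ₗ[F[X]] (F[X] ⧸ (F[X] ∙ (g * h))) :=
    Submodule.mapQ _ _ (LinearMap.lsmul F[X] F[X] g) hle1
  let q' : (F[X] ⧸ (F[X] ∙ (g * h))) →ₗ[F[X]] (F[X] ⧸ (F[X] ∙ g)) :=
    Submodule.mapQ _ _ LinearMap.id hle2
  have hi'mk : ∀ x : F[X], i' (Submodule.Quotient.mk x) = Submodule.Quotient.mk (g * x) := fun x => rfl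
  have hq'mk : ∀ x : F[X], q' (Submodule.Quotient.mk x) = Submodule.Quotient.mk x := fun x => rfl
  have hi : Function.Injective (i'.restrictScalars F) := by
    show Function.Injective i'
    rw [injective_iff_map_eq_zero]
    intro y hy
    induction y using Submodule.Quotient.induction_on with
    | H x =>
      rw [hi'mk, Submodule.Quotient.mk_eq_zero, mem_span_singleton_iff'] at hy
      obtain ⟨c, hc⟩ := hy
      rw [Submodule.Quotient.mk_eq_zero, mem_span_singleton_iff']
      refine ⟨c, ?_⟩
      apply mul_left_cancel₀ hg0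
      rw [← hc]; ring
  have hq : Function.Surjective (q'.restrictScalars F) := by
    show Function.Surjective q'
    intro y
    induction y using Submodule.Quotient.induction_on with
    | H x => exact ⟨Submodule.Quotient.mk x, hq'mk x⟩
  have hex : ∀ v, (q'.restrictScalars F) v = 0 ↔ ∃ x, (i'.restrictScalars F) x = v := by
    intro v
    show q' v = 0 ↔ ∃ x, i' x = v
    induction v using Submodule.Quotient.induction_on with
    | H x =>
      rw [hq'mk, Submodule.Quotient.mk_eq_zero, mem_span_singleton_iff']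
      constructor
      · rintro ⟨c, rfl⟩
        refine ⟨Submodule.Quotient.mk c, ?_⟩
        rw [hi'mk, mul_comm g c]
      · rintro ⟨y, hy⟩
        induction y using Submodule.Quotient.induction_on with
        | H c =>
          rw [hi'mk] at hy
          have h0 : (Submodule.Quotient.mk (g * c - x) : F[X] ⧸ (F[X] ∙ (g * h))) = 0 := by
            rw [Submodule.Quotient.mk_sub, hy, sub_self]
          rw [Submodule.Quotient.mk_eq_zero, mem_span_singleton_iff'] at h0
          obtain ⟨d, hd⟩ := h0
          refine ⟨c - d * h, ?_⟩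
          have : x = g * c - d * (g * h) := by rw [hd]; ring
          rw [this]; ring
  have key : nd (F[X] ⧸ (F[X] ∙ (g * h))) p
      = nd (F[X] ⧸ (F[X] ∙ h)) p * nd (F[X] ⧸ (F[X] ∙ g)) p := by
    unfold nd
    refine det_of_exact (i'.restrictScalars F) (q'.restrictScalars F) _ _ _ hi hq hex ?_ ?_
    · intro x
      show p • i' x = i' (p • x)
      rw [map_smul]
    · intro v
      show q' (p • v) = p • q' v
      rw [map_smul]
  rw [key, mul_comm]

end Cfsg.Agent.Lib.H5.SLK
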