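import Mathlib
import Cfsg.Agent.Lib.H4.SLKDefs

set_option autoImplicit false

/-!
# S2479 piece P12 (helper4 architect): the abstract splitting bound.
-/

namespace Cfsg.Agent.Lib.H5.SLK

/-- SP1 : abstract splitting bound -/
theorem card_fiber_le_index {S G A : Type*} [Group S] [Group G] [CommGroup A] [Finite A]
    (ι : S →* G) (hι : Function.Injective ι) (δ : G →* A) (hker : ι.range = δ.ker) (x : S)
    (D : Subgroup A) (hD : ∀ a ∈ D, ∃ y : G, Commute y (ι x) ∧ δ y = a) :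
    Nat.card {c : ConjClasses S // ConjClasses.map ι c = ConjClasses.mk (ι x)} ≤ D.index := by
  classical
  obtain ⟨D', hD'⟩ : ∃ D' : Subgroup A,
      D' = (Subgroup.centralizer ({ι x} : Set G)).map δ := ⟨_, rfl⟩
  have hDD' : D ≤ D' := by
    intro a ha
    obtain ⟨y, hy, rfl⟩ := hD a ha
    rw [hD']
    exact Subgroup.mem_map_of_mem δ (Subgroup.mem_centralizer_singleton_iff.2 hy)
  have hidx : D'.index ≤ D.index :=
    Nat.le_of_dvd (Nat.pos_of_ne_zero Subgroup.index_ne_zero_of_finite)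
      (Subgroup.index_dvd_of_le hDD')
  refine le_trans ?_ hidx
  rw [Subgroup.index_eq_card]
  have hrep : ∀ c : {c : ConjClasses S // ConjClasses.map ι c = ConjClasses.mk (ι x)},
      ∃ s : S, ∃ t : G, ConjClasses.mk s = c.1 ∧ t * ι s * t⁻¹ = ι x := by
    rintro ⟨c, hc⟩
    obtain ⟨s, rfl⟩ := ConjClasses.mk_surjective c
    have h1 : ConjClasses.mk (ι s) = ConjClasses.mk (ι x) := hc
    rw [ConjClasses.mk_eq_mk_iff_isConj, isConj_iff] at h1
    obtain ⟨t, ht⟩ := h1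
    exact ⟨s, t, rfl, ht⟩
  choose sf tf hs ht using hrep
  apply Nat.card_le_card_of_injective (fun c => (QuotientGroup.mk (δ (tf c)) : A ⧸ D'))
  intro c c' hcc'
  apply Subtype.ext
  rw [← hs c, ← hs c', ConjClasses.mk_eq_mk_iff_isConj, isConj_iff]
  have h2 : (δ (tf c))⁻¹ * δ (tf c') ∈ D' := QuotientGroup.eq.1 hcc'
  rw [hD'] at h2
  obtain ⟨z, hz, hδz⟩ := Subgroup.mem_map.1 h2
  have hz' : z * ι x = ι x * z := Subgroup.mem_centralizer_singleton_iff.1 hz
  obtain ⟨w, hw⟩ : ∃ w : G, w = (tf c')⁻¹ * z * tf c := ⟨_, rfl⟩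
  have hδw : δ w = 1 := by
    rw [hw, map_mul, map_mul, map_inv, hδz, mul_comm (δ (tf c))⁻¹ (δ (tf c'))]
    group
  have hwr : w ∈ ι.range := by rw [hker]; exact MonoidHom.mem_ker.2 hδw
  obtain ⟨u, hu⟩ := hwr
  refine ⟨u, ?_⟩
  apply hι
  have e1 : ι (sf c) = (tf c)⁻¹ * ι x * tf c := by rw [← ht c]; group
  have e2 : ι (sf c') = (tf c')⁻¹ * ι x * tf c' := by rw [← ht c']; group
  have hzx : z * ι x * z⁻¹ = ι x := by rw [hz', mul_inv_cancel_right]
  calc ι (u * sf c * u⁻¹) = w * ι (sf c) * w⁻¹ := by rw [map_mul, map_mul, map_inv, hu]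
    _ = (tf c')⁻¹ * (z * ι x * z⁻¹) * tf c' := by rw [e1, hw]; group
    _ = ι (sf c') := by rw [hzx, e2]

end Cfsg.Agent.Lib.H5.SLK
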