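import Mathlib
import Cfsg.Agent.Lib.H4.SLKDefs

set_option autoImplicit false

/-!
# S2479 piece P13 (helper4 architect): index of a subgroup of a cyclic group containing powers.
-/

namespace Cfsg.Agent.Lib.H5.SLK

/-- SP2 -/
theorem index_dvd_gcd {A : Type*} [CommGroup A] [Finite A] [IsCyclic A] (J : Finset ℕ)
    (D : Subgroup A) (hD : ∀ j ∈ J, ∀ a : A, a ^ j ∈ D) :
    D.index ∣ Nat.gcd (Nat.card A) (J.gcd id) := by
  apply Nat.dvd_gcd (Subgroup.index_dvd_card D)
  apply Finset.dvd_gcd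
  intro j hj
  show D.index ∣ j
  have hcyc : IsCyclic (A ⧸ D) := inferInstance
  have h1 : Monoid.exponent (A ⧸ D) = Nat.card (A ⧸ D) := IsCyclic.exponent_eq_card
  rw [Subgroup.index_eq_card, ← h1]
  apply Monoid.exponent_dvd_of_forall_pow_eq_one
  intro x
  obtain ⟨a, rfl⟩ := QuotientGroup.mk_surjective x
  rw [← QuotientGroup.mk_pow]
  exact (QuotientGroup.eq_one_iff _).2 (hD j hj a)

end Cfsg.Agent.Lib.H5.SLK
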