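import Mathlib
import Cfsg.Prelude.Def_KGroupFacts
import Cfsg.Agent.Lib.H28.G23M.Words

set_option autoImplicit false

/-!
# S2101 piece AB: the abstract argument for `M(G₂(3)) = C₃` (presented group, bound, model, lifting).
-/

namespace Cfsg.Agent.Lib.H5.G23M

open Cfsg.Agent.Lib.H28.G23M

section basics

variable {G : Type*} [Group G]

theorem ab_lv_congr {x y : ℕ → G} (h : ∀ i < 12, x i = y i) (l : ℕ) : lv x l = lv y l := by
  unfold lv
  have hl : l % 12 < 12 := Nat.mod_lt _ (by norm_num)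
  rw [h _ hl]

theorem ab_ev_congr {x y : ℕ → G} (h : ∀ i < 12, x i = y i) (w : List ℕ) : ev x w = ev y w := by
  induction w with
  | nil => rfl
  | cons l w ih => rw [ev_cons, ev_cons, ih, ab_lv_congr h]

theorem ab_ev_c0 (x : ℕ → G) : ev x [0, 4, 12, 16] = x 0 * x 4 * (x 0)⁻¹ * (x 4)⁻¹ := by
  rw [ev_cons, ev_cons, ev_cons, ev_single]
  have h0 : lv x 0 = x 0 := lv_of_lt x (by norm_num)
  have h4 : lv x 4 = x 4 := lv_of_lt x (by norm_num)
  have h12 : lv x 12 = (x 0)⁻¹ := by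
    have := lv_linv x 0
    rw [h0] at this
    exact this
  have h16 : lv x 16 = (x 4)⁻¹ := by
    have := lv_linv x 4
    rw [h4] at this
    exact this
  rw [h0, h4, h12, h16]
  group

theorem ab_c0_mem : ([0, 4, 12, 16] : List ℕ) ∈ cenL := by
  unfold cenL
  exact List.mem_cons_self

/-- `a b a⁻¹ b⁻¹` central and `b ^ 3 = 1` give `(a b a⁻¹ b⁻¹) ^ 3 = 1`. -/
theorem ab_comm_pow_three (a b : G) (hc : ∀ g : G, (a * b * a⁻¹ * b⁻¹) * g = g * (a * b * a⁻¹ * b⁻¹))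
    (hb : b ^ 3 = 1) : (a * b * a⁻¹ * b⁻¹) ^ 3 = 1 := by
  set c := a * b * a⁻¹ * b⁻¹ with hcdef
  have h1 : a * b * a⁻¹ = c * b := by rw [hcdef]; group
  have h2 : (a * b * a⁻¹) ^ 3 = 1 := by
    rw [conj_pow, hb, mul_one, mul_inv_cancel]
  rw [h1] at h2
  have hcb : Commute c b := hc b
  rw [hcb.mul_pow, hb, mul_one] at h2
  exact h2

/-- a surjection from `ZMod n` onto a group generated by an element of order dividing `n` -/
theorem ab_exists_surj_zmod {E : Type*} [Group E] (n : ℕ) (z : E) (hz : z ^ n = 1)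
    (hgen : ∀ y : E, y ∈ Subgroup.zpowers z) :
    ∃ f : Multiplicative (ZMod n) →* E, Function.Surjective f := by
  let g : ℤ →+ Additive E := zmultiplesHom (Additive E) (Additive.ofMul z)
  have hg : g n = 0 := by
    show (n : ℤ) • Additive.ofMul z = 0
    rw [natCast_zsmul, ← ofMul_pow, hz]
    rfl
  let f0 : ZMod n →+ Additive E := ZMod.lift n ⟨g, hg⟩
  refine ⟨AddMonoidHom.toMultiplicativeLeft f0, ?_⟩
  intro y
  obtain ⟨k, hk⟩ := Subgroup.mem_zpowers_iff.mp (hgen y)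
  refine ⟨Multiplicative.ofAdd ((k : ℤ) : ZMod n), ?_⟩
  show Additive.toMul (f0 ((k : ℤ) : ZMod n)) = y
  have : f0 ((k : ℤ) : ZMod n) = g k := ZMod.lift_coe n ⟨g, hg⟩ k
  rw [this]
  show Additive.toMul (k • Additive.ofMul z) = y
  rw [← ofMul_zpow, hk]
  rfl

end basics

/-! ## the presented group -/

/-- the generators in the free group -/
def abxF : ℕ → FreeGroup (Fin 12) := fun i => if h : i < 12 then FreeGroup.of ⟨i, h⟩ else 1

/-- the relators -/
def abRels : Set (FreeGroup (Fin 12)) := {r | ∃ w ∈ relL, r = ev abxF w}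

/-- the presented group -/
abbrev abP : Type := PresentedGroup abRels

/-- its generators -/
def abx : ℕ → abP := fun i => PresentedGroup.mk abRels (abxF i)

theorem abx_of (i : Fin 12) : abx (i : ℕ) = PresentedGroup.of i := by
  unfold abx abxF
  rw [dif_pos i.2]
  rfl

theorem abx_rels : Rels abx := by
  apply rels_of_ev_eq_one
  intro w hw
  have h := map_ev (PresentedGroup.mk abRels) abxF w
  have h2 : ev (fun i => PresentedGroup.mk abRels (abxF i)) w = ev abx w := rfl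
  rw [← h2, ← h]
  exact PresentedGroup.one_of_mem ⟨w, hw, rfl⟩

theorem abx_closure : Subgroup.closure {g : abP | ∃ i < 12, g = abx i} = ⊤ := by
  rw [eq_top_iff, ← PresentedGroup.closure_range_of abRels]
  apply Subgroup.closure_mono
  rintro _ ⟨i, rfl⟩
  exact ⟨(i : ℕ), i.2, (abx_of i).symm⟩

section hom

variable {Γ : Type*} [Group Γ]

theorem ab_lift_ev (y : ℕ → Γ) (w : List ℕ) :
    FreeGroup.lift (fun i : Fin 12 => y i) (ev abxF w) = ev y w := by
  rw [map_ev]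
  apply ab_ev_congr
  intro i hi
  show FreeGroup.lift (fun i : Fin 12 => y i) (abxF i) = y i
  unfold abxF
  rw [dif_pos hi, FreeGroup.lift_apply_of]

theorem ab_lift_rels {y : ℕ → Γ} (hy : Rels y) :
    ∀ r ∈ abRels, FreeGroup.lift (fun i : Fin 12 => y i) r = 1 := by
  rintro _ ⟨w, hw, rfl⟩
  rw [ab_lift_ev]
  exact hy.ev_eq_one w hw

/-- the homomorphism `x i ↦ y i` -/
noncomputable def abHom {y : ℕ → Γ} (hy : Rels y) : abP →* Γ :=
  PresentedGroup.toGroup (ab_lift_rels hy)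

theorem abHom_abx {y : ℕ → Γ} (hy : Rels y) {i : ℕ} (hi : i < 12) : abHom hy (abx i) = y i := by
  have := abx_of ⟨i, hi⟩
  simp only at this
  rw [this]
  exact PresentedGroup.toGroup.of (ab_lift_rels hy)

theorem abHom_ev {y : ℕ → Γ} (hy : Rels y) (w : List ℕ) : abHom hy (ev abx w) = ev y w := by
  rw [map_ev]
  apply ab_ev_congr
  intro i hi
  exact abHom_abx hy hi

end hom

theorem ab_card_zmod3 : Nat.card (Multiplicative (ZMod 3)) = 3 := by
  rw [Nat.card_eq_fintype_card, Fintype.card_multiplicative, ZMod.card]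

theorem main_abstract {G : Type} [Group G] [Finite G] (hcard : Nat.card G = 4245696)
    (X : ℕ → G) (hgen : Subgroup.closure {g : G | ∃ i < 12, g = X i} = ⊤) (hX : Rels X)
    (hXc : ∀ c ∈ cenL, ev X c = 1)
    (hbound : ∀ (Γ : Type) [Group Γ] (x : ℕ → Γ), Subgroup.closure {g : Γ | ∃ i < 12, g = x i} = ⊤ → Rels x →
      Finite Γ ∧ Nat.card Γ ≤ 12737088)
    (hmodel : ∃ (M : Type) (_ : Group M) (y : ℕ → M), Rels y ∧ ev y [0, 4, 12, 16] ≠ 1)
    (hlift : ∀ (Γ : Type) [Group Γ] [Finite Γ] (σ : Γ →* G), Cfsg.IsStemExtension σ →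
      ∃ x : ℕ → Γ, (∀ i < 12, σ (x i) = X i) ∧ Rels x) :
    Cfsg.HasCyclicSchurMultiplier G 3 := by
  classical
  have : Fact (Nat.Prime 3) := ⟨by norm_num⟩
  obtain ⟨hPfin, hPcard⟩ := hbound abP abx abx_closure abx_rels
  -- the covering map
  set π : abP →* G := abHom hX with hπ
  have hπx : ∀ i < 12, π (abx i) = X i := fun i hi => abHom_abx hX hi
  have hπs : Function.Surjective π := by
    rw [← MonoidHom.range_eq_top, eq_top_iff, ← hgen, Subgroup.closure_le]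
    rintro g ⟨i, hi, rfl⟩
    exact ⟨abx i, hπx i hi⟩
  -- the central element
  set c₀ : abP := ev abx [0, 4, 12, 16] with hc₀
  have hc₀ker : c₀ ∈ π.ker := by
    rw [MonoidHom.mem_ker, hc₀, hπ, abHom_ev]
    exact hXc _ ab_c0_mem
  have hc₀comm : ∀ g : abP, c₀ * g = g * c₀ := by
    intro g
    have hg : g ∈ Subgroup.centralizer ({c₀} : Set abP) := by
      have : (⊤ : Subgroup abP) ≤ Subgroup.centralizer ({c₀} : Set abP) := by
        rw [← abx_closure, Subgroup.closure_le]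
        rintro _ ⟨q, hq, rfl⟩
        rw [SetLike.mem_coe, Subgroup.mem_centralizer_iff]
        intro h hh
        rw [Set.mem_singleton_iff] at hh
        subst hh
        exact abx_rels.cen _ ab_c0_mem q hq
      exact this (Subgroup.mem_top g)
    rw [Subgroup.mem_centralizer_iff] at hg
    exact hg c₀ rfl
  have hc₀cen : c₀ ∈ Subgroup.center abP := by
    rw [Subgroup.mem_center_iff]
    intro g
    exact (hc₀comm g).symm
  have hc₀ne : c₀ ≠ 1 := by
    obtain ⟨M, instM, y, hy, hne⟩ := hmodel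
    intro h1
    apply hne
    have := abHom_ev hy [0, 4, 12, 16]
    rw [← hc₀, h1, map_one] at this
    exact this.symm
  have hc₀eq : c₀ = abx 0 * abx 4 * (abx 0)⁻¹ * (abx 4)⁻¹ := ab_ev_c0 abx
  have hc₀3 : c₀ ^ 3 = 1 := by
    rw [hc₀eq]
    apply ab_comm_pow_three
    · rw [← hc₀eq]; exact hc₀comm
    · exact abx_rels.cube 4 (by norm_num)
  have hord : orderOf c₀ = 3 := orderOf_eq_prime hc₀3 hc₀ne
  -- the kernel
  have hkercard : Nat.card π.ker * Nat.card G = Nat.card abP := by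
    rw [Subgroup.card_eq_card_quotient_mul_card_subgroup π.ker,
      Nat.card_congr (QuotientGroup.quotientKerEquivOfSurjective π hπs).toEquiv, mul_comm]
  have hker3 : Nat.card π.ker ≤ 3 := by
    have h1 : Nat.card π.ker * 4245696 ≤ 12737088 := by
      rw [← hcard, hkercard]
      exact hPcard
    omega
  have hzle : Subgroup.zpowers c₀ ≤ π.ker := by
    rw [Subgroup.zpowers_le]
    exact hc₀ker
  have hkerfin : Finite π.ker := inferInstance
  have hker : π.ker = Subgroup.zpowers c₀ := by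
    symm
    apply Subgroup.eq_of_le_of_card_ge hzle
    rw [Nat.card_zpowers, hord]
    exact hker3
  have hkercard3 : Nat.card π.ker = 3 := by rw [hker, Nat.card_zpowers, hord]
  constructor
  · refine ⟨abP, inferInstance, hPfin, π, ⟨hπs, ?_, ?_⟩, ?_⟩
    · rw [hker, Subgroup.zpowers_le]
      exact hc₀cen
    · rw [hker, Subgroup.zpowers_le, hc₀eq]
      have := Subgroup.commutator_mem_commutator (Subgroup.mem_top (abx 0)) (Subgroup.mem_top (abx 4))
      rw [commutatorElement_def] at this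
      exact this
    · exact ⟨mulEquivOfPrimeCardEq (p := 3) hkercard3 ab_card_zmod3⟩
  · intro Γ _ _ σ hσ
    obtain ⟨x', hx'σ, hx'⟩ := hlift Γ σ hσ
    obtain ⟨hσs, hσc, hσd⟩ := hσ
    set φ : abP →* Γ := abHom hx' with hφ
    have hσφ : ∀ p : abP, σ (φ p) = π p := by
      have : σ.comp φ = π := by
        apply PresentedGroup.ext
        intro i
        rw [← abx_of i]
        show σ (φ (abx i)) = π (abx i)
        rw [hφ, abHom_abx hx' i.2, hx'σ _ i.2, hπx _ i.2]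
      intro p
      rw [← this]
      rfl
    -- every element is a central kernel element times an image
    have hdecomp : ∀ γ : Γ, ∃ k ∈ σ.ker, ∃ p : abP, γ = k * φ p := by
      intro γ
      obtain ⟨p, hp⟩ := hπs (σ γ)
      refine ⟨γ * (φ p)⁻¹, ?_, p, by group⟩
      rw [MonoidHom.mem_ker, map_mul, map_inv, hσφ, hp, mul_inv_cancel]
    have hcomm : commutator Γ ≤ φ.range := by
      rw [commutator_def, Subgroup.commutator_le]
      intro g₁ _ g₂ _
      obtain ⟨k₁, hk₁, p₁, rfl⟩ := hdecomp g₁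
      obtain ⟨k₂, hk₂, p₂, rfl⟩ := hdecomp g₂
      have hc1 := Subgroup.mem_center_iff.mp (hσc hk₁)
      have hc2 := Subgroup.mem_center_iff.mp (hσc hk₂)
      refine ⟨p₁ * p₂ * p₁⁻¹ * p₂⁻¹, ?_⟩
      rw [map_mul, map_mul, map_mul, map_inv, map_inv, commutatorElement_def]
      have e1 : (k₁ * φ p₁)⁻¹ = (φ p₁)⁻¹ * k₁⁻¹ := mul_inv_rev _ _
      have e2 : (k₂ * φ p₂)⁻¹ = (φ p₂)⁻¹ * k₂⁻¹ := mul_inv_rev _ _
      rw [e1, e2]
      have c1 : ∀ g : Γ, g * k₁ = k₁ * g := hc1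
      have c2 : ∀ g : Γ, g * k₂ = k₂ * g := hc2
      calc φ p₁ * φ p₂ * (φ p₁)⁻¹ * (φ p₂)⁻¹
          = k₁ * k₁⁻¹ * (k₂ * k₂⁻¹) * (φ p₁ * φ p₂ * (φ p₁)⁻¹ * (φ p₂)⁻¹) := by group
        _ = k₁ * φ p₁ * (k₂ * φ p₂) * ((φ p₁)⁻¹ * k₁⁻¹) * ((φ p₂)⁻¹ * k₂⁻¹) := by
          have c1' : ∀ g : Γ, g * k₁⁻¹ = k₁⁻¹ * g := fun g => by
            have := c1 (k₁⁻¹ * g * k₁⁻¹)
            calc g * k₁⁻¹ = k₁ * (k₁⁻¹ * g * k₁⁻¹) := by group
              _ = (k₁⁻¹ * g * k₁⁻¹) * k₁ := (c1 _).symm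
              _ = k₁⁻¹ * g := by group
          have c2' : ∀ g : Γ, g * k₂⁻¹ = k₂⁻¹ * g := fun g => by
            calc g * k₂⁻¹ = k₂ * (k₂⁻¹ * g * k₂⁻¹) := by group
              _ = (k₂⁻¹ * g * k₂⁻¹) * k₂ := (c2 _).symm
              _ = k₂⁻¹ * g := by group
          -- move all the central factors to the left
          have s1 : k₁ * φ p₁ * (k₂ * φ p₂) * ((φ p₁)⁻¹ * k₁⁻¹) * ((φ p₂)⁻¹ * k₂⁻¹)
              = k₁ * φ p₁ * (k₂ * φ p₂) * ((φ p₁)⁻¹ * k₁⁻¹) * (k₂⁻¹ * (φ p₂)⁻¹) := by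
            rw [c2' (φ p₂)⁻¹]
          rw [s1]
          have s2 : k₁ * φ p₁ * (k₂ * φ p₂) * ((φ p₁)⁻¹ * k₁⁻¹) * (k₂⁻¹ * (φ p₂)⁻¹)
              = k₁ * φ p₁ * (k₂ * φ p₂) * (k₁⁻¹ * (φ p₁)⁻¹) * (k₂⁻¹ * (φ p₂)⁻¹) := by
            rw [c1' (φ p₁)⁻¹]
          rw [s2]
          have s3 : k₁ * φ p₁ * (k₂ * φ p₂) * (k₁⁻¹ * (φ p₁)⁻¹) * (k₂⁻¹ * (φ p₂)⁻¹)
              = k₁ * (φ p₁ * k₂) * φ p₂ * k₁⁻¹ * ((φ p₁)⁻¹ * k₂⁻¹) * (φ p₂)⁻¹ := by group
          rw [s3, c2 (φ p₁), c2' (φ p₁)⁻¹]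
          have s4 : k₁ * (k₂ * φ p₁) * φ p₂ * k₁⁻¹ * (k₂⁻¹ * (φ p₁)⁻¹) * (φ p₂)⁻¹
              = k₁ * k₂ * (φ p₁ * φ p₂ * k₁⁻¹) * k₂⁻¹ * (φ p₁)⁻¹ * (φ p₂)⁻¹ := by group
          rw [s4, c1' (φ p₁ * φ p₂)]
          have s5 : k₁ * k₂ * (k₁⁻¹ * (φ p₁ * φ p₂)) * k₂⁻¹ * (φ p₁)⁻¹ * (φ p₂)⁻¹
              = k₁ * (k₂ * k₁⁻¹) * (φ p₁ * φ p₂ * k₂⁻¹) * (φ p₁)⁻¹ * (φ p₂)⁻¹ := by group
          rw [s5, c2' (φ p₁ * φ p₂), c1' k₂]
          group
    have hkerle : σ.ker ≤ φ.range := le_trans hσd hcomm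
    set z : Γ := φ c₀ with hz
    have hzker : z ∈ σ.ker := by
      rw [MonoidHom.mem_ker, hz, hσφ]
      exact hc₀ker
    have hz3 : z ^ 3 = 1 := by rw [hz, ← map_pow, hc₀3, map_one]
    have hall : ∀ k ∈ σ.ker, k ∈ Subgroup.zpowers z := by
      intro k hk
      obtain ⟨p, rfl⟩ := hkerle hk
      have hp : p ∈ π.ker := by
        rw [MonoidHom.mem_ker, ← hσφ]
        exact hk
      rw [hker] at hp
      obtain ⟨n, rfl⟩ := Subgroup.mem_zpowers_iff.mp hp
      rw [map_zpow]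
      exact Subgroup.zpow_mem_zpowers z n
    apply ab_exists_surj_zmod 3 (⟨z, hzker⟩ : σ.ker)
    · apply Subtype.ext
      rw [Subgroup.coe_pow, Subgroup.coe_one]
      exact hz3
    · rintro ⟨k, hk⟩
      obtain ⟨n, hn⟩ := Subgroup.mem_zpowers_iff.mp (hall k hk)
      rw [Subgroup.mem_zpowers_iff]
      refine ⟨n, Subtype.ext ?_⟩
      rw [Subgroup.coe_zpow]
      exact hn

end Cfsg.Agent.Lib.H5.G23M
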