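import Mathlib
import Cfsg.Prelude.Def_KGroupFacts
import Cfsg.Agent.Lib.H28.O73M.Words
import Cfsg.Agent.Lib.H5.G23AB

set_option autoImplicit false

/-!
# S2095 piece AB6: the abstract argument for `M(Ω₇(3)) = C₆` (presented group, bound, two models, lifting).
-/

namespace Cfsg.Agent.Lib.H5.O73M

open Cfsg.Agent.Lib.H28.O73M
open Cfsg.Agent.Lib.H5.G23M (ab_comm_pow_three ab_exists_surj_zmod)

section basics

variable {G : Type*} [Group G]

theorem ab6_ev_c3 (x : ℕ → G) : ev x [0, 4, 18, 22] = x 0 * x 4 * (x 0)⁻¹ * (x 4)⁻¹ := by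
  rw [ev_cons, ev_cons, ev_cons, ev_single]
  have h0 : lv x 0 = x 0 := lv_of_lt x (by norm_num)
  have h4 : lv x 4 = x 4 := lv_of_lt x (by norm_num)
  have h18 : lv x 18 = (x 0)⁻¹ := by
    have := lv_linv x 0
    rw [h0] at this
    exact this
  have h22 : lv x 22 = (x 4)⁻¹ := by
    have := lv_linv x 4
    rw [h4] at this
    exact this
  rw [h0, h4, h18, h22]
  group

theorem ab6_c3_mem : ([0, 4, 18, 22] : List ℕ) ∈ cenL := by
  unfold cenL
  exact List.mem_cons_self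

theorem ab6_c6_mem : ([2, 30, 9, 33, 2, 30, 9, 33] : List ℕ) ∈ cenL := by decide

theorem ab6_gen_comm : ∀ i < 18, ∃ s ∈ stL, s.2.2 = i := by decide

/-- commutators modulo a central kernel are images -/
theorem ab6_commutator_le_range {P Γ H : Type*} [Group P] [Group Γ] [Group H] (σ : Γ →* H) (φ : P →* Γ)
    (π : P →* H) (hσφ : ∀ p : P, σ (φ p) = π p) (hπs : Function.Surjective π)
    (hσc : σ.ker ≤ Subgroup.center Γ) : commutator Γ ≤ φ.range := by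
  have hdecomp : ∀ γ : Γ, ∃ k ∈ σ.ker, ∃ p : P, γ = k * φ p := by
    intro γ
    obtain ⟨p, hp⟩ := hπs (σ γ)
    refine ⟨γ * (φ p)⁻¹, ?_, p, by group⟩
    rw [MonoidHom.mem_ker, map_mul, map_inv, hσφ, hp, mul_inv_cancel]
  rw [commutator_def, Subgroup.commutator_le]
  intro g₁ _ g₂ _
  obtain ⟨k₁, hk₁, p₁, rfl⟩ := hdecomp g₁
  obtain ⟨k₂, hk₂, p₂, rfl⟩ := hdecomp g₂
  have hc1 := Subgroup.mem_center_iff.mp (hσc hk₁)
  have hc2 := Subgroup.mem_center_iff.mp (hσc hk₂)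
  refine ⟨p₁ * p₂ * p₁⁻¹ * p₂⁻¹, ?_⟩
  rw [map_mul, map_mul, map_mul, map_inv, map_inv, commutatorElement_def]
  have e1 : (k₁ * φ p₁)⁻¹ = (φ p₁)⁻¹ * k₁⁻¹ := mul_inv_rev _ _
  have e2 : (k₂ * φ p₂)⁻¹ = (φ p₂)⁻¹ * k₂⁻¹ := mul_inv_rev _ _
  rw [e1, e2]
  have c1 : ∀ g : Γ, g * k₁ = k₁ * g := hc1
  have c2 : ∀ g : Γ, g * k₂ = k₂ * g := hc2
  calc φ p₁ * φ p₂ * (φ p₁)⁻¹ * (φ p₂)⁻¹
      = k₁ * k₁⁻¹ * (k₂ * k₂⁻¹) * (φ p₁ * φ p₂ * (φ p₁)⁻¹ * (φ p₂)⁻¹) := by group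
    _ = k₁ * φ p₁ * (k₂ * φ p₂) * ((φ p₁)⁻¹ * k₁⁻¹) * ((φ p₂)⁻¹ * k₂⁻¹) := by
      have c1' : ∀ g : Γ, g * k₁⁻¹ = k₁⁻¹ * g := fun g => by
        calc g * k₁⁻¹ = k₁ * (k₁⁻¹ * g * k₁⁻¹) := by group
          _ = (k₁⁻¹ * g * k₁⁻¹) * k₁ := (c1 _).symm
          _ = k₁⁻¹ * g := by group
      have c2' : ∀ g : Γ, g * k₂⁻¹ = k₂⁻¹ * g := fun g => by
        calc g * k₂⁻¹ = k₂ * (k₂⁻¹ * g * k₂⁻¹) := by group
          _ = (k₂⁻¹ * g * k₂⁻¹) * k₂ := (c2 _).symm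
          _ = k₂⁻¹ * g := by group
      have s1 : k₁ * φ p₁ * (k₂ * φ p₂) * ((φ p₁)⁻¹ * k₁⁻¹) * ((φ p₂)⁻¹ * k₂⁻¹)
          = k₁ * φ p₁ * (k₂ * φ p₂) * ((φ p₁)⁻¹ * k₁⁻¹) * (k₂⁻¹ * (φ p₂)⁻¹) := by
        rw [c2' (φ p₂)⁻¹]
      rw [s1]
      have s2 : k₁ * φ p₁ * (k₂ * φ p₂) * ((φ p₁)⁻¹ * k₁⁻¹) * (k₂⁻¹ * (φ p₂)⁻¹)
          = k₁ * φ p₁ * (k₂ * φ p₂) * (k₁⁻¹ * (φ p₁)⁻¹) * (k₂⁻¹ * (φ p₂)⁻¹) := by
        rw [c1' (φ p₁)⁻¹]
      rw [s2]
      have s3 : k₁ * φ p₁ * (k₂ * φ p₂) * (k₁⁻¹ * (φ p₁)⁻¹) * (k₂⁻¹ * (φ p₂)⁻¹)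
          = k₁ * (φ p₁ * k₂) * φ p₂ * k₁⁻¹ * ((φ p₁)⁻¹ * k₂⁻¹) * (φ p₂)⁻¹ := by group
      rw [s3, c2 (φ p₁), c2' (φ p₁)⁻¹]
      have s4 : k₁ * (k₂ * φ p₁) * φ p₂ * k₁⁻¹ * (k₂⁻¹ * (φ p₁)⁻¹) * (φ p₂)⁻¹
          = k₁ * k₂ * (φ p₁ * φ p₂ * k₁⁻¹) * k₂⁻¹ * (φ p₁)⁻¹ * (φ p₂)⁻¹ := by group
      rw [s4, c1' (φ p₁ * φ p₂)]
      have s5 : k₁ * k₂ * (k₁⁻¹ * (φ p₁ * φ p₂)) * k₂⁻¹ * (φ p₁)⁻¹ * (φ p₂)⁻¹
          = k₁ * (k₂ * k₁⁻¹) * (φ p₁ * φ p₂ * k₂⁻¹) * (φ p₁)⁻¹ * (φ p₂)⁻¹ := by group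
      rw [s5, c2' (φ p₁ * φ p₂), c1' k₂]
      group

end basics

/-! ## the presented group -/

/-- the generators in the free group -/
def ab6xF : ℕ → FreeGroup (Fin 18) := fun i => if h : i < 18 then FreeGroup.of ⟨i, h⟩ else 1

/-- the relators -/
def ab6Rels : Set (FreeGroup (Fin 18)) := {r | ∃ w ∈ relL, r = ev ab6xF w}

/-- the presented group -/
abbrev ab6P : Type := PresentedGroup ab6Rels

/-- its generators -/
def ab6x : ℕ → ab6P := fun i => PresentedGroup.mk ab6Rels (ab6xF i)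

theorem ab6x_of (i : Fin 18) : ab6x (i : ℕ) = PresentedGroup.of i := by
  unfold ab6x ab6xF
  rw [dif_pos i.2]
  rfl

theorem ab6x_rels : Rels ab6x := by
  apply rels_of_ev_eq_one
  intro w hw
  have h := map_ev (PresentedGroup.mk ab6Rels) ab6xF w
  have h2 : ev (fun i => PresentedGroup.mk ab6Rels (ab6xF i)) w = ev ab6x w := rfl
  rw [← h2, ← h]
  exact PresentedGroup.one_of_mem ⟨w, hw, rfl⟩

theorem ab6x_closure : Subgroup.closure {g : ab6P | ∃ i < 18, g = ab6x i} = ⊤ := by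
  rw [eq_top_iff, ← PresentedGroup.closure_range_of ab6Rels]
  apply Subgroup.closure_mono
  rintro _ ⟨i, rfl⟩
  exact ⟨(i : ℕ), i.2, (ab6x_of i).symm⟩

section hom

variable {Γ : Type*} [Group Γ]

theorem ab6_lift_ev (y : ℕ → Γ) (w : List ℕ) :
    FreeGroup.lift (fun i : Fin 18 => y i) (ev ab6xF w) = ev y w := by
  rw [map_ev]
  apply ev_congr
  intro i hi
  show FreeGroup.lift (fun i : Fin 18 => y i) (ab6xF i) = y i
  unfold ab6xF
  rw [dif_pos hi, FreeGroup.lift_apply_of]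

theorem ab6_lift_rels {y : ℕ → Γ} (hy : Rels y) :
    ∀ r ∈ ab6Rels, FreeGroup.lift (fun i : Fin 18 => y i) r = 1 := by
  rintro _ ⟨w, hw, rfl⟩
  rw [ab6_lift_ev]
  exact hy.ev_eq_one w hw

/-- the homomorphism `x i ↦ y i` -/
noncomputable def ab6Hom {y : ℕ → Γ} (hy : Rels y) : ab6P →* Γ :=
  PresentedGroup.toGroup (ab6_lift_rels hy)

theorem ab6Hom_x {y : ℕ → Γ} (hy : Rels y) {i : ℕ} (hi : i < 18) : ab6Hom hy (ab6x i) = y i := by
  have := ab6x_of ⟨i, hi⟩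
  simp only at this
  rw [this]
  exact PresentedGroup.toGroup.of (ab6_lift_rels hy)

theorem ab6Hom_ev {y : ℕ → Γ} (hy : Rels y) (w : List ℕ) : ab6Hom hy (ev ab6x w) = ev y w := by
  rw [map_ev]
  apply ev_congr
  intro i hi
  exact ab6Hom_x hy hi

end hom

theorem ab6_card_zmod6 : Nat.card (Multiplicative (ZMod 6)) = 6 := by
  rw [Nat.card_eq_fintype_card, Fintype.card_multiplicative, ZMod.card]

/-- **AB6**. -/
theorem main_abstract6 {G : Type} [Group G] [Finite G] (hcard : Nat.card G = 4585351680)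
    (X : ℕ → G) (hgen : Subgroup.closure {g : G | ∃ i < 18, g = X i} = ⊤) (hX : Rels X)
    (hXc : ∀ c ∈ cenL, ev X c = 1)
    (hbound : ∀ (Γ : Type) [Group Γ] (x : ℕ → Γ), Subgroup.closure {g : Γ | ∃ i < 18, g = x i} = ⊤ → Rels x →
      Finite Γ ∧ Nat.card Γ ≤ 27512110080)
    (hmodel3 : ∃ (M : Type) (_ : Group M) (y : ℕ → M), Rels y ∧ ev y [0, 4, 18, 22] ≠ 1)
    (hmodel2 : ∃ (M : Type) (_ : Group M) (y : ℕ → M), Rels y ∧ ev y [2, 30, 9, 33, 2, 30, 9, 33] ^ 3 ≠ 1)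
    (hlift : ∀ (Γ : Type) [Group Γ] [Finite Γ] (σ : Γ →* G), Cfsg.IsStemExtension σ →
      ∃ x : ℕ → Γ, (∀ i < 18, σ (x i) = X i) ∧ Rels x) :
    Cfsg.HasCyclicSchurMultiplier G 6 := by
  classical
  have : Fact (Nat.Prime 3) := ⟨by norm_num⟩
  have : Fact (Nat.Prime 2) := ⟨by norm_num⟩
  obtain ⟨hPfin, hPcard⟩ := hbound ab6P ab6x ab6x_closure ab6x_rels
  -- the covering map
  set π : ab6P →* G := ab6Hom hX with hπ
  have hπx : ∀ i < 18, π (ab6x i) = X i := fun i hi => ab6Hom_x hX hi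
  have hπs : Function.Surjective π := by
    rw [← MonoidHom.range_eq_top, eq_top_iff, ← hgen, Subgroup.closure_le]
    rintro g ⟨i, hi, rfl⟩
    exact ⟨ab6x i, hπx i hi⟩
  -- words of `cenL` are central and in the kernel
  have hcen : ∀ c ∈ cenL, ∀ g : ab6P, ev ab6x c * g = g * ev ab6x c := by
    intro c hc g
    have hg : g ∈ Subgroup.centralizer ({ev ab6x c} : Set ab6P) := by
      have : (⊤ : Subgroup ab6P) ≤ Subgroup.centralizer ({ev ab6x c} : Set ab6P) := by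
        rw [← ab6x_closure, Subgroup.closure_le]
        rintro _ ⟨q, hq, rfl⟩
        rw [SetLike.mem_coe, Subgroup.mem_centralizer_iff]
        intro h hh
        rw [Set.mem_singleton_iff] at hh
        subst hh
        exact ab6x_rels.cen _ hc q hq
      exact this (Subgroup.mem_top g)
    rw [Subgroup.mem_centralizer_iff] at hg
    exact hg _ rfl
  have hker_of : ∀ c ∈ cenL, ev ab6x c ∈ π.ker := by
    intro c hc
    rw [MonoidHom.mem_ker, hπ, ab6Hom_ev]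
    exact hXc _ hc
  -- the element of order three
  set c₃ : ab6P := ev ab6x [0, 4, 18, 22] with hc₃
  have hc₃ker : c₃ ∈ π.ker := hker_of _ ab6_c3_mem
  have hc₃comm : ∀ g : ab6P, c₃ * g = g * c₃ := hcen _ ab6_c3_mem
  have hc₃ne : c₃ ≠ 1 := by
    obtain ⟨M, instM, y, hy, hne⟩ := hmodel3
    intro h1
    apply hne
    have := ab6Hom_ev hy [0, 4, 18, 22]
    rw [← hc₃, h1, map_one] at this
    exact this.symm
  have hc₃eq : c₃ = ab6x 0 * ab6x 4 * (ab6x 0)⁻¹ * (ab6x 4)⁻¹ := ab6_ev_c3 ab6x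
  have hc₃3 : c₃ ^ 3 = 1 := by
    rw [hc₃eq]
    apply ab_comm_pow_three
    · rw [← hc₃eq]; exact hc₃comm
    · exact ab6x_rels.cube 4 (by norm_num)
  have hord3 : orderOf c₃ = 3 := orderOf_eq_prime hc₃3 hc₃ne
  -- the element with nontrivial cube
  set c₆ : ab6P := ev ab6x [2, 30, 9, 33, 2, 30, 9, 33] with hc₆
  have hc₆ker : c₆ ∈ π.ker := hker_of _ ab6_c6_mem
  have hc₆comm : ∀ g : ab6P, c₆ * g = g * c₆ := hcen _ ab6_c6_mem
  have hc₆ne : c₆ ^ 3 ≠ 1 := by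
    obtain ⟨M, instM, y, hy, hne⟩ := hmodel2
    intro h1
    apply hne
    have := ab6Hom_ev hy [2, 30, 9, 33, 2, 30, 9, 33]
    rw [← this, ← hc₆, ← map_pow, h1, map_one]
  -- the kernel has order six
  have hkercard : Nat.card π.ker * Nat.card G = Nat.card ab6P := by
    rw [Subgroup.card_eq_card_quotient_mul_card_subgroup π.ker,
      Nat.card_congr (QuotientGroup.quotientKerEquivOfSurjective π hπs).toEquiv, mul_comm]
  have hker6 : Nat.card π.ker ≤ 6 := by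
    have h1 : Nat.card π.ker * 4585351680 ≤ 27512110080 := by
      rw [← hcard, hkercard]
      exact hPcard
    omega
  have hkerfin : Finite π.ker := inferInstance
  have hkpos : 0 < Nat.card π.ker := Nat.card_pos
  have h3dvd : 3 ∣ Nat.card π.ker := by
    have := Subgroup.orderOf_dvd_natCard π.ker hc₃ker
    rwa [hord3] at this
  have hkne3 : Nat.card π.ker ≠ 3 := by
    intro h3
    apply hc₆ne
    have : (⟨c₆, hc₆ker⟩ : π.ker) ^ 3 = 1 := by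
      rw [← h3]; exact pow_card_eq_one'
    have := congrArg Subtype.val this
    simpa using this
  have hk6 : Nat.card π.ker = 6 := by
    obtain ⟨m, hm⟩ := h3dvd
    have : m = 1 ∨ m = 2 := by omega
    rcases this with rfl | rfl
    · exact absurd hm hkne3
    · exact hm
  have hc₆6 : c₆ ^ 6 = 1 := by
    have : (⟨c₆, hc₆ker⟩ : π.ker) ^ 6 = 1 := by
      rw [← hk6]; exact pow_card_eq_one'
    have := congrArg Subtype.val this
    simpa using this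
  have hord2 : orderOf (c₆ ^ 3) = 2 := by
    apply orderOf_eq_prime _ hc₆ne
    rw [← pow_mul]
    exact hc₆6
  -- the generator of the kernel
  set z : ab6P := c₃ * c₆ ^ 3 with hz
  have hzcomm : ∀ g : ab6P, z * g = g * z := by
    intro g
    have h6 : Commute (c₆ ^ 3) g := (show Commute c₆ g from hc₆comm g).pow_left 3
    have h3 : Commute c₃ g := hc₃comm g
    exact (h3.mul_left h6).eq
  have hzker : z ∈ π.ker := π.ker.mul_mem hc₃ker (π.ker.pow_mem hc₆ker 3)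
  have hordz : orderOf z = 6 := by
    have hcm : Commute c₃ (c₆ ^ 3) := hc₃comm _
    rw [hz, hcm.orderOf_mul_eq_mul_orderOf_of_coprime (by rw [hord3, hord2]; norm_num), hord3, hord2]
  have hzle : Subgroup.zpowers z ≤ π.ker := by
    rw [Subgroup.zpowers_le]
    exact hzker
  have hker : π.ker = Subgroup.zpowers z := by
    symm
    apply Subgroup.eq_of_le_of_card_ge hzle
    rw [Nat.card_zpowers, hordz, hk6]
  have hz6 : z ^ 6 = 1 := by rw [← hordz]; exact pow_orderOf_eq_one z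
  -- `P` is perfect
  have hperf : commutator ab6P = ⊤ := by
    rw [eq_top_iff, ← ab6x_closure, Subgroup.closure_le]
    rintro _ ⟨i, hi, rfl⟩
    obtain ⟨s, hs, rfl⟩ := ab6_gen_comm i hi
    rw [← ab6x_rels.st s hs]
    have := Subgroup.commutator_mem_commutator (Subgroup.mem_top (ab6x s.1))
      (Subgroup.mem_top (ab6x s.2.1))
    rw [commutatorElement_def] at this
    exact this
  constructor
  · refine ⟨ab6P, inferInstance, hPfin, π, ⟨hπs, ?_, ?_⟩, ?_⟩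
    · rw [hker, Subgroup.zpowers_le, Subgroup.mem_center_iff]
      intro g
      exact (hzcomm g).symm
    · rw [hperf]; exact le_top
    · have hcyc : IsCyclic π.ker := by
        apply isCyclic_of_orderOf_eq_card (⟨z, hzker⟩ : π.ker)
        rw [hk6, ← hordz]
        exact Subgroup.orderOf_mk z hzker
      exact ⟨mulEquivOfCyclicCardEq (by rw [hk6, ab6_card_zmod6])⟩
  · intro Γ _ _ σ hσ
    obtain ⟨x', hx'σ, hx'⟩ := hlift Γ σ hσ
    obtain ⟨hσs, hσc, hσd⟩ := hσ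
    set φ : ab6P →* Γ := ab6Hom hx' with hφ
    have hσφ : ∀ p : ab6P, σ (φ p) = π p := by
      have : σ.comp φ = π := by
        apply PresentedGroup.ext
        intro i
        rw [← ab6x_of i]
        show σ (φ (ab6x i)) = π (ab6x i)
        rw [hφ, ab6Hom_x hx' i.2, hx'σ _ i.2, hπx _ i.2]
      intro p
      rw [← this]
      rfl
    have hcomm : commutator Γ ≤ φ.range := ab6_commutator_le_range σ φ π hσφ hπs hσc
    have hkerle : σ.ker ≤ φ.range := le_trans hσd hcomm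
    set w : Γ := φ z with hw
    have hwker : w ∈ σ.ker := by
      rw [MonoidHom.mem_ker, hw, hσφ]
      exact hzker
    have hw6 : w ^ 6 = 1 := by rw [hw, ← map_pow, hz6, map_one]
    have hall : ∀ k ∈ σ.ker, k ∈ Subgroup.zpowers w := by
      intro k hk
      obtain ⟨p, rfl⟩ := hkerle hk
      have hp : p ∈ π.ker := by
        rw [MonoidHom.mem_ker, ← hσφ]
        exact hk
      rw [hker] at hp
      obtain ⟨n, rfl⟩ := Subgroup.mem_zpowers_iff.mp hp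
      rw [map_zpow]
      exact Subgroup.zpow_mem_zpowers w n
    apply ab_exists_surj_zmod 6 (⟨w, hwker⟩ : σ.ker)
    · apply Subtype.ext
      rw [Subgroup.coe_pow, Subgroup.coe_one]
      exact hw6
    · rintro ⟨k, hk⟩
      obtain ⟨n, hn⟩ := Subgroup.mem_zpowers_iff.mp (hall k hk)
      rw [Subgroup.mem_zpowers_iff]
      refine ⟨n, Subtype.ext ?_⟩
      rw [Subgroup.coe_zpow]
      exact hn

end Cfsg.Agent.Lib.H5.O73M
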