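import Mathlib
import Cfsg.Prelude.Def_Transfer
import Cfsg.Prelude.Def_Local
import Cfsg.Prelude.Def_LocalEven
import Cfsg.Prelude.Def_PLocal
import Cfsg.Agent.Lib.H14.NPCG7
import Cfsg.Agent.Lib.H19.PLength

/-!
# S4411 piece T: Thompson's refinement of Frobenius' normal `p`-complement criterion.

If `X` has no normal `p`-complement (`p` odd or `X` is `S₄`-free) then some characteristic subgroup `K`
of a Sylow `p`-subgroup is normalized but not centralized by an element of order prime to `p`.
-/

set_option autoImplicit false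

namespace Cfsg.Agent.Lib.H5.AutQ

open Cfsg.Agent.Lib Cfsg.Agent.Lib.L0 Cfsg.Agent.Lib.H14.NPCG

universe u

/-- `K ≤ T` is characteristic in `T` -/
def CharIn {X : Type*} [Group X] (K T : Subgroup X) : Prop :=
  K ≤ T ∧ (K.subgroupOf T).Characteristic

/-- the conclusion, inside the ambient group -/
def Bad (p : ℕ) {X : Type*} [Group X] (T : Subgroup X) : Prop :=
  ∃ K : Subgroup X, CharIn K T ∧ ∃ x : X, x ∈ Subgroup.normalizer (K : Set X) ∧
    x ∉ Subgroup.centralizer (K : Set X) ∧ (orderOf x).Coprime p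

/-! ## characteristic subgroups: transport -/

theorem tq_char_map_equiv {R R' : Type*} [Group R] [Group R'] (ψ : R' ≃* R)
    (A' : Subgroup R') (hA : A'.Characteristic) : (A'.map ψ.toMonoidHom).Characteristic := by
  rw [Subgroup.characteristic_iff_map_eq]
  intro ϕ
  rw [Subgroup.map_map]
  have h1 : (ϕ.toMonoidHom.comp ψ.toMonoidHom) =
      ψ.toMonoidHom.comp ((ψ.trans ϕ).trans ψ.symm).toMonoidHom := by
    ext x
    simp
  rw [h1, ← Subgroup.map_map, (Subgroup.characteristic_iff_map_eq.1 hA) _]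

theorem CharIn.map {X Y : Type*} [Group X] [Group Y] (f : X →* Y) (hf : Function.Injective f)
    {K T : Subgroup X} (h : CharIn K T) : CharIn (K.map f) (T.map f) := by
  refine ⟨Subgroup.map_mono h.1, ?_⟩
  have e : (K.map f).subgroupOf (T.map f)
      = (K.subgroupOf T).map (T.equivMapOfInjective f hf).toMonoidHom := by
    ext y
    rw [Subgroup.mem_subgroupOf, Subgroup.mem_map]
    constructor
    · rintro ⟨k, hk, hky⟩
      refine ⟨⟨k, h.1 hk⟩, Subgroup.mem_subgroupOf.mpr hk, ?_⟩
      apply Subtype.ext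
      show ((T.equivMapOfInjective f hf ⟨k, h.1 hk⟩ : ↥(T.map f)) : Y) = (y : Y)
      rw [Subgroup.coe_equivMapOfInjective_apply]
      exact hky
    · rintro ⟨t, ht, rfl⟩
      refine ⟨(t : X), Subgroup.mem_subgroupOf.mp ht, ?_⟩
      show f (t : X) = ((T.equivMapOfInjective f hf t : ↥(T.map f)) : Y)
      rw [Subgroup.coe_equivMapOfInjective_apply]
  rw [e]
  exact tq_char_map_equiv _ _ h.2

theorem charIn_zOf {X : Type*} [Group X] (T : Subgroup X) : CharIn (zOf T) T := by
  refine ⟨zOf_le T, ?_⟩
  have : (zOf T).subgroupOf T = Subgroup.center ↥T := by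
    rw [zOf_eq_map_center]
    exact Subgroup.comap_map_eq_self_of_injective T.subtype_injective _
  rw [this]
  infer_instance

theorem charIn_J {X : Type*} [Group X] (T : Subgroup X) :
    CharIn (Cfsg.thompsonSubgroupAOf T) T := by
  refine ⟨thompsonSubgroupAOf_le T, ?_⟩
  have htop : (⊤ : Subgroup ↥T).map T.subtype = T := by
    rw [← MonoidHom.range_eq_map, Subgroup.range_subtype]
  have h1 : Cfsg.thompsonSubgroupAOf T
      = (Cfsg.thompsonSubgroupAOf (⊤ : Subgroup ↥T)).map T.subtype := by
    have := thompsonSubgroupAOf_map T.subtype (⊤ : Subgroup ↥T)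
      (fun a _ b _ hab => T.subtype_injective hab)
    rw [htop] at this
    exact this
  have h2 : (Cfsg.thompsonSubgroupAOf T).subgroupOf T
      = Cfsg.thompsonSubgroupAOf (⊤ : Subgroup ↥T) := by
    rw [h1]
    exact Subgroup.comap_map_eq_self_of_injective T.subtype_injective _
  rw [h2, Subgroup.characteristic_iff_map_eq]
  intro φ
  have := thompsonSubgroupAOf_map φ.toMonoidHom (⊤ : Subgroup ↥T)
    (fun a _ b _ hab => φ.injective hab)
  rw [Subgroup.map_top_of_surjective _ φ.surjective] at this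
  exact this.symm

/-! ## generation by a Sylow subgroup and the `p'`-elements -/

theorem eq_top_of_sylow_le {X : Type*} [Group X] [Finite X] {p : ℕ} [Fact p.Prime] (S : Sylow p X)
    (C : Subgroup X) (hS : (S : Subgroup X) ≤ C)
    (hC : ∀ x : X, (orderOf x).Coprime p → x ∈ C) : C = ⊤ := by
  apply Subgroup.eq_top_of_le_card
  apply Nat.le_of_dvd Nat.card_pos
  rw [← Nat.factorization_prime_le_iff_dvd Nat.card_pos.ne' Nat.card_pos.ne']
  intro q hq
  have : Fact q.Prime := ⟨hq⟩
  rw [← Nat.Prime.pow_dvd_iff_le_factorization hq Nat.card_pos.ne']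
  by_cases hqp : q = p
  · subst hqp
    rw [← Sylow.card_eq_multiplicity S]
    exact Subgroup.card_dvd_of_le hS
  · obtain ⟨Q⟩ : Nonempty (Sylow q X) := inferInstance
    have hQC : (Q : Subgroup X) ≤ C := by
      intro x hx
      apply hC
      obtain ⟨k, hk⟩ := (IsPGroup.iff_orderOf.mp Q.isPGroup') ⟨x, hx⟩
      have hk' : orderOf x = q ^ k := by
        rw [← hk]; exact (Subgroup.orderOf_mk x hx).symm
      rw [hk']
      apply Nat.Coprime.pow_left
      exact (Nat.coprime_primes hq Fact.out).mpr hqp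
    rw [← Sylow.card_eq_multiplicity Q]
    exact Subgroup.card_dvd_of_le hQC

/-- the `p'`-part: `x ^ p ^ N` has order prime to `p` -/
theorem coprime_orderOf_pow {X : Type*} [Group X] [Finite X] (p : ℕ) [Fact p.Prime] (x : X) :
    (orderOf (x ^ p ^ (Nat.card X).factorization p)).Coprime p := by
  have h1 : (x ^ p ^ (Nat.card X).factorization p) ^ (Nat.card X / p ^ (Nat.card X).factorization p)
      = 1 := by
    rw [← pow_mul, Nat.ordProj_mul_ordCompl_eq_self]
    exact pow_card_eq_one'
  have h2 := orderOf_dvd_of_pow_eq_one h1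
  have h3 : (Nat.card X / p ^ (Nat.card X).factorization p).Coprime p :=
    (Nat.coprime_ordCompl Fact.out Nat.card_pos.ne').symm
  exact Nat.Coprime.coprime_dvd_left h2 h3

/-! ## a central `p`-subgroup can be factored out -/

theorem npc_of_central_quotient {X : Type u} [Group X] [Finite X] {p : ℕ} [Fact p.Prime]
    (Z : Subgroup X) [Z.Normal] (hZc : Z ≤ Subgroup.center X) (hZp : IsPGroup p Z)
    (h : Cfsg.HasNormalPComplement p (X ⧸ Z)) : Cfsg.HasNormalPComplement p X := by
  obtain ⟨Mb, hMbn, hpMb, k, hk⟩ := HasNormalPComplement.exists_normal h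
  have hsurj : Function.Surjective (QuotientGroup.mk' Z) := QuotientGroup.mk'_surjective Z
  set M : Subgroup X := Mb.comap (QuotientGroup.mk' Z) with hM
  have hMn : M.Normal := Subgroup.Normal.comap hMbn _
  have hMidx : M.index = p ^ k := by
    rw [hM, Subgroup.index_comap_of_surjective _ hsurj, hk]
  have hZM : Z ≤ M := by
    intro z hz
    rw [hM, Subgroup.mem_comap, QuotientGroup.mk'_apply, (QuotientGroup.eq_one_iff z).mpr hz]
    exact Mb.one_mem
  -- `Z` is a central Sylow `p`-subgroup of `M`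
  have hZMp : IsPGroup p (Z.subgroupOf M) := hZp.comap_subtype
  have hrel : (Z.subgroupOf M).index = Nat.card Mb := by
    have h2 := Subgroup.relIndex_ker (QuotientGroup.mk' Z) (K := M)
    rw [hM, Subgroup.map_comap_eq_self_of_surjective hsurj, QuotientGroup.ker_mk'] at h2
    exact h2
  have hnd : ¬ p ∣ (Z.subgroupOf M).index := by rw [hrel]; exact hpMb
  let P : Sylow p M := hZMp.toSylow hnd
  have hPc : Subgroup.normalizer ((P : Subgroup M) : Set M) ≤ Subgroup.centralizer (P : Set M) := by
    intro g _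
    rw [Subgroup.mem_centralizer_iff]
    intro z hz
    have hz' : (z : X) ∈ Z := Subgroup.mem_subgroupOf.mp hz
    have := Subgroup.mem_center_iff.mp (hZc hz') (g : X)
    apply Subtype.ext
    exact this.symm
  have hMnpc : Cfsg.HasNormalPComplement p M :=
    hasNormalPComplement_of_normalizer_le_centralizer P hPc
  obtain ⟨M₀, hM₀n, hpM₀, j, hj⟩ := HasNormalPComplement.exists_normal hMnpc
  have hcop : Nat.Coprime (Nat.card M₀) M₀.index := by
    rw [hj]
    exact Nat.Coprime.pow_right j
      ((Nat.Prime.coprime_iff_not_dvd Fact.out).mpr hpM₀).symm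
  have hWn : (M₀.map M.subtype).Normal := normal_map_subtype_of_coprime M M₀ hcop
  apply hasNormalPComplement_of_normal (M₀.map M.subtype)
  · rw [Nat.card_congr (Subgroup.equivMapOfInjective M₀ M.subtype M.subtype_injective).symm.toEquiv]
    exact hpM₀
  · refine ⟨j + k, ?_⟩
    rw [Subgroup.index_map_subtype, hj, hMidx, pow_add]

/-! ## the subgroup step -/

theorem Bad.of_subgroup {X : Type*} [Group X] [Finite X] {p : ℕ} [Fact p.Prime] (S : Sylow p X)
    (Y : Subgroup X) (hSY : (S : Subgroup X) ≤ Y)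
    (h : Bad p ((S.subtype hSY : Sylow p Y) : Subgroup Y)) : Bad p (S : Subgroup X) := by
  obtain ⟨K', hK', x', hxN, hxC, hxo⟩ := h
  rw [Sylow.coe_subtype] at hK'
  have h1 := hK'.map Y.subtype Y.subtype_injective
  rw [Subgroup.map_subgroupOf_eq_of_le hSY] at h1
  refine ⟨K'.map Y.subtype, h1, (x' : X), ?_, ?_, ?_⟩
  · exact Subgroup.le_normalizer_map Y.subtype (Subgroup.mem_map_of_mem _ hxN)
  · intro hc
    apply hxC
    rw [Subgroup.mem_centralizer_iff] at hc ⊢
    intro k hk
    apply Subtype.ext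
    exact hc (k : X) (Subgroup.mem_map_of_mem Y.subtype hk)
  · rw [Subgroup.orderOf_coe]
    exact hxo

/-! ## the quotient step -/

theorem charIn_comap_of_quotient {X : Type*} [Group X] (S : Subgroup X) [hZn : (zOf S).Normal]
    (Kb : Subgroup (X ⧸ zOf S))
    (hKb : CharIn Kb (S.map (QuotientGroup.mk' (zOf S)))) :
    CharIn (Kb.comap (QuotientGroup.mk' (zOf S))) S := by
  set Z := zOf S with hZ
  set mk := QuotientGroup.mk' Z with hmk
  have hKS : Kb.comap mk ≤ S := by
    intro k hk
    have h1 : mk k ∈ S.map mk := hKb.1 (Subgroup.mem_comap.mp hk)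
    obtain ⟨s, hs, hsk⟩ := Subgroup.mem_map.mp h1
    have h2 : s⁻¹ * k ∈ Z := QuotientGroup.eq.mp hsk
    have h3 : k = s * (s⁻¹ * k) := by group
    rw [h3]
    exact S.mul_mem hs (zOf_le S h2)
  refine ⟨hKS, ?_⟩
  -- the restriction of `mk` to `S`
  let πS : ↥S →* ↥(S.map mk) := mk.subgroupMap S
  have hπs : Function.Surjective πS := mk.subgroupMap_surjective S
  have hker : πS.ker = Subgroup.center ↥S := by
    ext s
    rw [MonoidHom.mem_ker, Subgroup.mem_center_iff]
    constructor
    · intro h1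
      have h2 : mk (s : X) = 1 := congrArg Subtype.val h1
      have h3 : (s : X) ∈ Z := (QuotientGroup.eq_one_iff (s : X)).mp h2
      intro t
      apply Subtype.ext
      exact (mem_zOf.mp h3).2 t t.2
    · intro h1
      apply Subtype.ext
      show mk (s : X) = 1
      rw [hmk, QuotientGroup.mk'_apply, QuotientGroup.eq_one_iff, hZ, mem_zOf]
      refine ⟨s.2, ?_⟩
      intro t ht
      exact congrArg Subtype.val (h1 ⟨t, ht⟩)
  let θ : ↥S ⧸ Subgroup.center ↥S ≃* ↥(S.map mk) :=
    (QuotientGroup.quotientMulEquivOfEq hker.symm).trans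
      (QuotientGroup.quotientKerEquivOfSurjective πS hπs)
  have hθ : ∀ s : ↥S, θ (QuotientGroup.mk s) = πS s := fun s => rfl
  set O : Subgroup (↥S ⧸ Subgroup.center ↥S) :=
    (Kb.subgroupOf (S.map mk)).map θ.symm.toMonoidHom with hO
  have hOc : O.Characteristic := tq_char_map_equiv θ.symm _ hKb.2
  have hchar := H19.comap_mk'_characteristic (Subgroup.center ↥S) inferInstance O hOc
  have e : (Kb.comap mk).subgroupOf S = O.comap (QuotientGroup.mk' (Subgroup.center ↥S)) := by
    ext s
    rw [Subgroup.mem_subgroupOf, Subgroup.mem_comap, Subgroup.mem_comap, hO,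
      Subgroup.mem_map_equiv, MulEquiv.symm_symm]
    show mk (s : X) ∈ Kb ↔ θ (QuotientGroup.mk s) ∈ Kb.subgroupOf (S.map mk)
    rw [hθ, Subgroup.mem_subgroupOf]
    rfl
  rw [e]
  exact hchar

/-! ## the induction -/

theorem main_aux {p : ℕ} [hp : Fact p.Prime] :
    ∀ (n : ℕ) (X : Type u) [Group X] [Finite X], Nat.card X = n → SFourGood p X →
      ∀ S : Sylow p X, ¬ Cfsg.HasNormalPComplement p X → Bad p (S : Subgroup X) := by
  intro n
  induction n using Nat.strong_induction_on with
  | _ n ih =>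
  intro X _ _ hn hgood S hnpc
  have hLH := thompsonAHyp_localHypG (p := p)
  have hpX : p ∣ Nat.card X := by
    by_contra h
    exact hnpc (hasNormalPComplement_of_not_dvd h)
  have hSne : (S : Subgroup X) ≠ ⊥ := S.ne_bot_of_dvd_card hpX
  set Z : Subgroup X := zOf (S : Subgroup X) with hZ
  set J : Subgroup X := Cfsg.thompsonSubgroupAOf (S : Subgroup X) with hJ
  have hZne : Z ≠ ⊥ := zOf_ne_bot (S : Subgroup X) S.isPGroup' hSne
  have hSC : (S : Subgroup X) ≤ Subgroup.centralizer (Z : Set X) := by
    intro s hs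
    rw [Subgroup.mem_centralizer_iff]
    intro z hz
    exact ((mem_zOf.mp hz).2 s hs).symm
  have hSN : (S : Subgroup X) ≤ Subgroup.normalizer (J : Set X) :=
    Subgroup.le_normalizer.trans (normalizer_le_normalizer_thompsonSubgroupAOf (S : Subgroup X))
  have hZJ : Z ≤ J :=
    (zOf_le_centerThompsonAOf (S : Subgroup X)).trans
      (centerThompsonAOf_le_thompsonSubgroupAOf (S : Subgroup X))
  -- the subgroup step
  have hsub : ∀ Y : Subgroup X, (S : Subgroup X) ≤ Y → Y ≠ ⊤ →
      ¬ Cfsg.HasNormalPComplement p Y → Bad p (S : Subgroup X) := by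
    intro Y hSY hYtop hYnpc
    apply Bad.of_subgroup S Y hSY
    have hlt : Nat.card Y < n := by rw [← hn]; exact card_lt_card_of_ne_top hYtop
    exact ih _ hlt Y rfl (hLH.good_injective Y.subtype Y.subtype_injective hgood)
      (S.subtype hSY) hYnpc
  by_cases hC : Subgroup.centralizer (Z : Set X) = ⊤
  · -- `Z` is central: pass to the quotient
    have hZc : Z ≤ Subgroup.center X := by
      intro z hz
      rw [Subgroup.mem_center_iff]
      intro g
      have hg : g ∈ Subgroup.centralizer (Z : Set X) := by rw [hC]; exact Subgroup.mem_top g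
      exact ((Subgroup.mem_centralizer_iff.mp hg) z hz).symm
    have hZn : Z.Normal := by
      constructor
      intro z hz g
      have := Subgroup.mem_center_iff.mp (hZc hz) g
      have e : g * z * g⁻¹ = z := by rw [this]; group
      rw [e]; exact hz
    have hZp : IsPGroup p Z := S.isPGroup'.to_le (zOf_le _)
    have hQnpc : ¬ Cfsg.HasNormalPComplement p (X ⧸ Z) :=
      fun h => hnpc (npc_of_central_quotient Z hZc hZp h)
    have hlt : Nat.card (X ⧸ Z) < n := by rw [← hn]; exact card_quotient_lt_of_ne_bot hZne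
    have hsurj : Function.Surjective (QuotientGroup.mk' Z) := QuotientGroup.mk'_surjective Z
    obtain ⟨Kb, hKb, xb, hxN, hxC, hxo⟩ := ih _ hlt (X ⧸ Z) rfl (hLH.good_quotient Z hgood)
      (S.mapSurjective hsurj) hQnpc
    rw [Sylow.coe_mapSurjective] at hKb
    have hK : CharIn (Kb.comap (QuotientGroup.mk' Z)) (S : Subgroup X) :=
      charIn_comap_of_quotient (S : Subgroup X) Kb hKb
    obtain ⟨x₀, hx₀⟩ := hsurj xb
    set N := (Nat.card X).factorization p with hN
    have hcopN : (p ^ N).Coprime (orderOf xb) := Nat.Coprime.pow_left N hxo.symm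
    obtain ⟨a, ha⟩ := exists_pow_eq_self_of_coprime hcopN
    refine ⟨Kb.comap (QuotientGroup.mk' Z), hK, x₀ ^ p ^ N, ?_, ?_, coprime_orderOf_pow p x₀⟩
    · apply Subgroup.le_normalizer_comap (QuotientGroup.mk' Z)
      rw [Subgroup.mem_comap, map_pow, hx₀]
      exact Subgroup.pow_mem _ hxN _
    · intro hc
      apply hxC
      have h1 : xb ^ p ^ N ∈ Subgroup.centralizer (Kb : Set (X ⧸ Z)) := by
        rw [Subgroup.mem_centralizer_iff]
        intro yb hyb
        obtain ⟨y, rfl⟩ := hsurj yb
        have hy : y ∈ Kb.comap (QuotientGroup.mk' Z) := Subgroup.mem_comap.mpr hyb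
        have := (Subgroup.mem_centralizer_iff.mp hc) y hy
        rw [← hx₀, ← map_pow, ← map_mul, ← map_mul, this]
      rw [← ha]
      exact Subgroup.pow_mem _ h1 _
  · by_cases hJt : Subgroup.normalizer (J : Set X) = ⊤
    · by_cases hall : ∀ x : X, (orderOf x).Coprime p → x ∈ Subgroup.centralizer (J : Set X)
      · exfalso
        apply hC
        apply eq_top_of_sylow_le S _ hSC
        intro x hx
        exact Subgroup.centralizer_le hZJ (hall x hx)
      · push Not at hall
        obtain ⟨x, hxo, hxC⟩ := hall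
        refine ⟨J, charIn_J (S : Subgroup X), x, ?_, hxC, hxo⟩
        rw [hJt]; exact Subgroup.mem_top x
    · -- both proper
      by_cases hN1 : Cfsg.HasNormalPComplement p (Subgroup.normalizer (J : Set X))
      · by_cases hC1 : Cfsg.HasNormalPComplement p (Subgroup.centralizer (Z : Set X))
        · exact absurd (thompsonA_npc X S hgood hN1 hC1) hnpc
        · exact hsub _ hSC hC hC1
      · exact hsub _ hSN hJt hN1

theorem exists_char_not_pgroup {X : Type*} [Group X] [Finite X] {p : ℕ} [Fact p.Prime]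
    (hgood : p ≠ 2 ∨ ¬ Cfsg.Involves (Equiv.Perm (Fin 4)) X) (S : Sylow p X)
    (hn : ¬ Cfsg.HasNormalPComplement p X) :
    ∃ K : Subgroup ↥(S : Subgroup X), K.Characteristic ∧
      ∃ x : X, x ∈ Subgroup.normalizer ((K.map (S : Subgroup X).subtype : Subgroup X) : Set X) ∧
        x ∉ Subgroup.centralizer ((K.map (S : Subgroup X).subtype : Subgroup X) : Set X) ∧
        (orderOf x).Coprime p := by
  obtain ⟨K₀, ⟨hK₀S, hK₀c⟩, x, hxN, hxC, hxo⟩ := main_aux (Nat.card X) X rfl hgood S hn
  refine ⟨K₀.subgroupOf (S : Subgroup X), hK₀c, x, ?_, ?_, hxo⟩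
  · rw [Subgroup.map_subgroupOf_eq_of_le hK₀S]; exact hxN
  · rw [Subgroup.map_subgroupOf_eq_of_le hK₀S]; exact hxC

end Cfsg.Agent.Lib.H5.AutQ
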