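import Mathlib
import Cfsg.Prelude.Def_Blocks
import Cfsg.Prelude.Def_Characters
import Cfsg.Agent.Lib.H23.GagDefs

/-!
# S4561 piece PHI (`phi_surjective`, `ker_phi`) (helper5)
-/

set_option autoImplicit false

universe u

namespace Cfsg.Agent.Lib.H5.GAG

open Cfsg Cfsg.Agent.Lib.H23.Gag

section tw

variable {H₀ : Type u} [Group H₀] [Finite H₀] (p : ℕ) [Fact p.Prime]

/-- PHI.  `phi` is onto with kernel `Z*`. -/
theorem phi_surjective : Function.Surjective (Tw.phi H₀ p) := by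
  rintro ⟨⟨g, s⟩, m⟩
  refine ⟨⟨fun t => Quotient.out (g t), s, Multiplicative.toAdd m, 0⟩, ?_⟩
  refine Prod.ext ?_ rfl
  apply RegularWreathProduct.ext
  · funext t
    show ((Quotient.out (g t) : H₀) : H₀ ⧸ Subgroup.center H₀) = g t
    exact QuotientGroup.out_eq' (g t)
  · rfl

theorem ker_phi : (Tw.phi H₀ p).ker = Tw.zstar H₀ p := by
  ext x
  rw [MonoidHom.mem_ker, Tw.mem_zstar]
  constructor
  · intro h
    have h1 : (Tw.phi H₀ p x).1 = 1 := by rw [h]; rfl
    have h2 : (Tw.phi H₀ p x).2 = 1 := by rw [h]; rfl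
    have h3 : (Tw.phi H₀ p x).1.left = 1 := by rw [h1]; rfl
    have h4 : (Tw.phi H₀ p x).1.right = 1 := by rw [h1]; rfl
    refine ⟨h4, ?_, ?_⟩
    · have : Multiplicative.ofAdd x.v = 1 := h2
      simpa using this
    · intro t
      have h5 : ((x.f t : H₀) : H₀ ⧸ Subgroup.center H₀) = 1 := congrFun h3 t
      exact (QuotientGroup.eq_one_iff _).1 h5
  · rintro ⟨hs, hv, hf⟩
    refine Prod.ext ?_ ?_
    · apply RegularWreathProduct.ext
      · funext t
        show ((x.f t : H₀) : H₀ ⧸ Subgroup.center H₀) = 1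
        exact (QuotientGroup.eq_one_iff _).2 (hf t)
      · exact hs
    · show Multiplicative.ofAdd x.v = 1
      rw [hv]; rfl

end tw

end Cfsg.Agent.Lib.H5.GAG
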