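import Mathlib

set_option autoImplicit false

namespace Cfsg.Agent.Lib.H5.KZ

/-- (E2) a symmetric integer matrix with zero diagonal has even total sum. -/
theorem two_dvd_sum_symm {ι : Type*} [Fintype ι] (g : ι → ι → ℤ) (hsymm : ∀ i j, g i j = g j i)
    (hdiag : ∀ i, g i i = 0) : (2 : ℤ) ∣ ∑ i, ∑ j, g i j := by
  classical
  -- work modulo 2: the involution (i, j) ↦ (j, i) on off-diagonal pairs
  rw [← Finset.sum_product']
  have key : ((∑ x ∈ (Finset.univ : Finset ι) ×ˢ (Finset.univ : Finset ι), g x.1 x.2 : ℤ) : ZMod 2) = 0 := by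
    push_cast
    apply Finset.sum_involution (fun x _ => (x.2, x.1))
    · intro x _
      rw [hsymm x.1 x.2]
      have : ((g x.2 x.1 : ℤ) : ZMod 2) + ((g x.2 x.1 : ℤ) : ZMod 2) = 2 * ((g x.2 x.1 : ℤ) : ZMod 2) := by ring
      simp only [this]
      have h2 : (2 : ZMod 2) = 0 := by decide
      rw [h2, zero_mul]
    · intro x _ hx hfix
      apply hx
      have h1 : x.2 = x.1 := by
        have := congrArg Prod.fst hfix
        simpa using this
      have : g x.1 x.2 = 0 := by rw [h1]; exact hdiag x.1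
      rw [this]; simp
    · intro x _
      simp
    · intro x _
      rfl
  exact (ZMod.intCast_zmod_eq_zero_iff_dvd _ 2).mp key

end Cfsg.Agent.Lib.H5.KZ
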