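import Mathlib
import Cfsg.Agent.S4072
import Cfsg.Agent.Lib.H5.PSL2Borel

/-!
# S4073 piece MERS: if `PSL₂(F)`, `|F| = 2^f`, has all non-abelian subgroups self-normalizing
then `2^f - 1` is prime.
-/

set_option autoImplicit false

namespace Cfsg.Agent.Lib.H5.SNS

open Cfsg.Agent.S4072 (SN)
open Matrix Cfsg.Agent.Lib.H12 Cfsg.Agent.Lib.H5.PSL2Torus Cfsg.Agent.Lib.H5.PSL2Borel
  Cfsg.Agent.Lib.H2.SL2

variable {F : Type*} [Field F]

local notation "SL2" => Matrix.SpecialLinearGroup (Fin 2) F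
local notation "PSL2" => Matrix.ProjectiveSpecialLinearGroup (Fin 2) F

/-- the image in `PSL₂` of the upper triangular matrices with diagonal entry in `T`. -/
noncomputable def prT (T : Subgroup Fˣ) : Subgroup PSL2 :=
  ((T.comap (borelDiag F)).map (borelSL F).subtype).map pr

theorem mem_prT_of_mem (T : Subgroup Fˣ) {a : Fˣ} (ha : a ∈ T) (e : F) :
    pr ((borelMkSL (a, e) : borelSL F) : SL2) ∈ prT T := by
  refine ⟨_, ⟨borelMkSL (a, e), ?_, rfl⟩, rfl⟩
  rw [SetLike.mem_coe, Subgroup.mem_comap, borelDiag_borelMkSL]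
  exact ha

theorem neg_eq_self_of_two (h2 : (2 : F) = 0) (g : SL2) : -g = g := by
  apply Subtype.ext
  rw [Matrix.SpecialLinearGroup.coe_neg]
  ext i j
  rw [Matrix.neg_apply]
  have : (g : Matrix (Fin 2) (Fin 2) F) i j + (g : Matrix (Fin 2) (Fin 2) F) i j = 0 := by
    rw [← two_mul, h2, zero_mul]
  exact neg_eq_of_add_eq_zero_left this

theorem pr_injective_of_two (h2 : (2 : F) = 0) : Function.Injective (pr (F := F)) := by
  intro a b hab
  rcases (pr_eq_pr_iff a b).mp hab with h | h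
  · exact h.symm
  · rw [neg_eq_self_of_two h2] at h; exact h.symm

theorem mem_of_mem_prT (h2 : (2 : F) = 0) (T : Subgroup Fˣ) {a : Fˣ} {e : F}
    (h : pr ((borelMkSL (a, e) : borelSL F) : SL2) ∈ prT T) : a ∈ T := by
  obtain ⟨s, ⟨d, hd, rfl⟩, hs⟩ := h
  have h1 : ((borelSL F).subtype d : SL2) = ((borelMkSL (a, e) : borelSL F) : SL2) :=
    pr_injective_of_two h2 hs
  have h3 : d = borelMkSL (a, e) := Subtype.ext h1
  rw [SetLike.mem_coe, Subgroup.mem_comap, h3, borelDiag_borelMkSL] at hd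
  exact hd

theorem prB_le_normalizer_prT (T : Subgroup Fˣ) :
    prB F ≤ Subgroup.normalizer ((prT T : Subgroup PSL2) : Set PSL2) := by
  haveI : (T.comap (borelDiag F)).Normal := Subgroup.Normal.comap (Subgroup.normal_of_comm T) _
  have key : ∀ b : borelSL F, ∀ x ∈ prT T, pr (b : SL2) * x * (pr (b : SL2))⁻¹ ∈ prT T := by
    rintro b x ⟨s, ⟨d, hd, rfl⟩, rfl⟩
    refine ⟨_, ⟨b * d * b⁻¹, ?_, rfl⟩, ?_⟩
    · exact ‹(T.comap (borelDiag F)).Normal›.conj_mem d hd b
    · simp [map_mul, map_inv]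
  rintro x ⟨b, hb, rfl⟩
  rw [Subgroup.mem_normalizer_iff]
  intro y
  constructor
  · intro hy
    exact key ⟨b, hb⟩ y hy
  · intro hy
    have := key (⟨b, hb⟩ : borelSL F)⁻¹ _ hy
    simpa [mul_assoc] using this

theorem mersenne {F : Type*} [Field F] [Fintype F] (f : ℕ) (hf : 2 ≤ f)
    (hF : Fintype.card F = 2 ^ f)
    (h : SN (Matrix.ProjectiveSpecialLinearGroup (Fin 2) F)) : (2 ^ f - 1).Prime := by
  classical
  by_contra hnp
  have h4 : 4 ≤ 2 ^ f := by
    calc 4 = 2 ^ 2 := by norm_num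
      _ ≤ 2 ^ f := Nat.pow_le_pow_right (by norm_num) hf
  have hN2 : 2 ≤ 2 ^ f - 1 := by omega
  have hrp : (2 ^ f - 1).minFac.Prime := Nat.minFac_prime (by omega)
  have hrd : (2 ^ f - 1).minFac ∣ 2 ^ f - 1 := Nat.minFac_dvd _
  have hrlt : (2 ^ f - 1).minFac < 2 ^ f - 1 := (Nat.not_prime_iff_minFac_lt hN2).mp hnp
  generalize (2 ^ f - 1).minFac = r at hrp hrd hrlt
  have hcardU : Nat.card Fˣ = 2 ^ f - 1 := by
    rw [Nat.card_units, Nat.card_eq_fintype_card, hF]
  haveI : Fact r.Prime := ⟨hrp⟩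
  obtain ⟨t, ht⟩ := exists_prime_orderOf_dvd_card' (G := Fˣ) r (by rw [hcardU]; exact hrd)
  have h2 : (2 : F) = 0 := by
    have h0 : ((Fintype.card F : ℕ) : F) = 0 := FiniteField.cast_card_eq_zero F
    rw [hF] at h0
    push_cast at h0
    exact (pow_eq_zero_iff (by omega)).mp h0
  -- `r` is odd
  have hr2 : r ≠ 2 := by
    rintro rfl
    have : 2 ∣ 2 ^ f := dvd_pow_self 2 (by omega)
    omega
  set T : Subgroup Fˣ := Subgroup.zpowers t with hT
  have hTcard : Nat.card T = r := by rw [hT, Nat.card_zpowers, ht]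
  -- an element outside `T`
  obtain ⟨g, hg⟩ : ∃ g : Fˣ, g ∉ T := by
    by_contra hcon
    push_neg at hcon
    have : T = ⊤ := (Subgroup.eq_top_iff' T).mpr hcon
    rw [this, Subgroup.card_top, hcardU] at hTcard
    omega
  -- `prT T` is not abelian
  have hna : ¬ IsMulCommutative (prT T) := by
    intro hc
    have hu : pr ((borelMkSL ((1 : Fˣ), (1 : F)) : borelSL F) : Matrix.SpecialLinearGroup (Fin 2) F) ∈ prT T :=
      mem_prT_of_mem T T.one_mem 1
    have hd : pr ((borelMkSL (t, (0 : F)) : borelSL F) : Matrix.SpecialLinearGroup (Fin 2) F) ∈ prT T :=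
      mem_prT_of_mem T (Subgroup.mem_zpowers t) 0
    have hcomm := Cfsg.Agent.S4071.comm_of_isMulCommutative hc _ hu _ hd
    rw [← map_mul, ← map_mul, ← Subgroup.coe_mul, ← Subgroup.coe_mul, borelMkSL_mul,
      borelMkSL_mul] at hcomm
    have h1 := pr_injective_of_two h2 hcomm
    have h3 := borelMkSL_bijective.1 (Subtype.ext h1)
    have h5 := (Prod.mk.inj h3).2
    simp only [Units.val_one, one_mul, mul_zero, zero_add, mul_one, zero_mul, add_zero,
      inv_one] at h5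
    -- `t⁻¹ = t`
    have h6 : t ^ 2 = 1 := by
      apply Units.ext
      rw [Units.val_pow_eq_pow_val, pow_two, Units.val_one]
      nth_rewrite 1 [← h5]
      rw [← Units.val_mul, inv_mul_cancel, Units.val_one]
    have h7 := orderOf_dvd_of_pow_eq_one h6
    rw [ht] at h7
    exact hr2 ((Nat.prime_dvd_prime_iff_eq hrp Nat.prime_two).mp h7)
  have hN := h (prT T) hna
  have hx : pr ((borelMkSL (g, (0 : F)) : borelSL F) : Matrix.SpecialLinearGroup (Fin 2) F) ∈ prT T := by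
    rw [← SetLike.mem_coe, ← hN, SetLike.mem_coe]
    apply prB_le_normalizer_prT T
    rw [pr_mem_prB_iff]
    exact (borelMkSL (g, (0 : F))).2
  exact hg (mem_of_mem_prT h2 T hx)

end Cfsg.Agent.Lib.H5.SNS
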