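import Mathlib
import Cfsg.Agent.S4072
import Cfsg.Agent.S4071
import Cfsg.Agent.Lib.H5.SNSMERS
import Cfsg.Agent.Lib.H23.SNSTools

/-!
# S4073 piece CONV-BOREL: the normalizer of a Sylow 2-subgroup of `PSL₂(2^n)`, `2^n - 1` prime,
has all its non-abelian subgroups self-normalizing.
-/

set_option autoImplicit false

namespace Cfsg.Agent.Lib.H5.SNS

open Cfsg.Agent.S4072 (SN)
open Matrix Cfsg.Agent.Lib.H12 Cfsg.Agent.Lib.H5.PSL2Torus Cfsg.Agent.Lib.H5.PSL2Borel
  Cfsg.Agent.Lib.H2.SL2

/-- the diagonal torus inside the Borel subgroup, as a homomorphism. -/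
noncomputable def borelTorus (F : Type*) [Field F] : Fˣ →* borelSL F where
  toFun a := borelMkSL (a, 0)
  map_one' := by
    apply Subtype.ext
    apply Subtype.ext
    rw [borelMkSL_val]
    ext i j
    fin_cases i <;> fin_cases j <;> simp
  map_mul' a b := by
    rw [borelMkSL_mul]
    simp

theorem borelTorus_apply {F : Type*} [Field F] (a : Fˣ) : borelTorus F a = borelMkSL (a, 0) := rfl

theorem borelTorus_injective {F : Type*} [Field F] : Function.Injective (borelTorus F) := by
  intro a b hab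
  exact (Prod.mk.inj (borelMkSL_bijective.1 hab)).1

theorem two_pow_facts {n : ℕ} (hp : (2 ^ n - 1).Prime) : 3 ≤ 2 ^ n ∧ 2 ∣ 2 ^ n := by
  have h2 := hp.two_le
  have hn : n ≠ 0 := by
    rintro rfl
    simp at h2
  exact ⟨by omega, dvd_pow_self 2 hn⟩

/-- the Borel subgroup of `SL₂(2^n)`, `2^n - 1` prime, is an `SN`-group. -/
theorem sn_borelSL {F : Type*} [Field F] [Fintype F] (n : ℕ) (hF : Fintype.card F = 2 ^ n)
    (hp : (2 ^ n - 1).Prime) : SN ↥(borelSL F) := by
  classical
  obtain ⟨h3, h2dvd⟩ := two_pow_facts hp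
  intro H hH
  have hcardU : Nat.card Fˣ = 2 ^ n - 1 := by
    rw [Nat.card_units, Nat.card_eq_fintype_card, hF]
  haveI : Fact (2 ^ n - 1).Prime := ⟨hp⟩
  obtain ⟨g, hg⟩ := exists_prime_orderOf_dvd_card' (G := Fˣ) (2 ^ n - 1) (by rw [hcardU])
  have hg2 : g ^ 2 ≠ 1 := by
    intro h
    have := orderOf_dvd_of_pow_eq_one h
    rw [hg] at this
    have := Nat.le_of_dvd (by norm_num) this
    omega
  have hx : orderOf (borelTorus F g) = (2 ^ n - 1) ^ 1 := by
    rw [pow_one, orderOf_injective (borelTorus F) borelTorus_injective g, hg]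
  -- cardinalities
  have hker : Nat.card (borelDiag F).ker = 2 ^ n := by
    have h1 := (borelDiag F).ker.card_mul_index
    rw [index_ker_borelDiag, card_borelSL, hF] at h1
    have hpos : 0 < 2 ^ n - 1 := by omega
    exact Nat.eq_of_mul_eq_mul_right hpos (by rw [h1, mul_comm])
  have hcompl : (Subgroup.zpowers (borelTorus F g)).IsComplement' (borelDiag F).ker := by
    apply Subgroup.isComplement'_of_coprime
    · rw [Nat.card_zpowers, hx, pow_one, hker, card_borelSL, hF]
    · rw [Nat.card_zpowers, hx, pow_one, hker]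
      have : 2 ^ n = (2 ^ n - 1) + 1 := by omega
      rw [this]
      simp
  have hz : borelTorus F g ^ (2 ^ n - 1) ∈ Subgroup.center (borelSL F) := by
    rw [← map_pow, ← hg, pow_orderOf_eq_one, map_one]
    exact Subgroup.one_mem _
  have hfpf : ∀ a : borelSL F, a ∈ (borelDiag F).ker → a ≠ 1 →
      borelTorus F g * a * (borelTorus F g)⁻¹ ≠ a := by
    intro a ha ha1 heq
    obtain ⟨e, rfl⟩ := (mem_ker_borelDiag a).mp ha
    rw [← map_inv, borelTorus_apply, borelTorus_apply, borelMkSL_mul, borelMkSL_mul] at heq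
    have h5 := (Prod.mk.inj (borelMkSL_bijective.1 heq)).2
    simp only [mul_zero, zero_mul, add_zero, zero_add, inv_inv, mul_one, inv_one,
      Units.val_one] at h5
    -- `g * e * g = e`
    have he : e ≠ 0 := by
      rintro rfl
      apply ha1
      rw [← borelTorus_apply, map_one]
    apply hg2
    apply Units.ext
    rw [Units.val_pow_eq_pow_val, Units.val_one]
    have : ((g : F) ^ 2 - 1) * e = 0 := by
      have : (g : F) * e * (g : F) = e := h5
      linear_combination this
    rcases mul_eq_zero.mp this with h | h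
    · exact sub_eq_zero.mp h
    · exact absurd h he
  exact Cfsg.Agent.S4071.backward (borelTorus F g) (borelDiag F).ker (2 ^ n - 1) hp
    inferInstance ⟨⟨fun a b => Subtype.ext (ker_borelDiag_comm a.1 a.2 b.1 b.2)⟩⟩ 1 hx hcompl hz
    hfpf H hH

theorem two_eq_zero_of_card {F : Type*} [Field F] [Fintype F] {n : ℕ}
    (hF : Fintype.card F = 2 ^ n) (hn : n ≠ 0) : (2 : F) = 0 := by
  have h0 : ((Fintype.card F : ℕ) : F) = 0 := FiniteField.cast_card_eq_zero F
  rw [hF] at h0
  push_cast at h0
  exact (pow_eq_zero_iff hn).mp h0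

/-- the Borel subgroup of `PSL₂(2^n)`, `2^n - 1` prime, is an `SN`-group. -/
theorem sn_prB {F : Type*} [Field F] [Fintype F] (n : ℕ) (hF : Fintype.card F = 2 ^ n)
    (hp : (2 ^ n - 1).Prime) : SN ↥(prB F) := by
  have hn : n ≠ 0 := by
    rintro rfl
    have := hp.two_le
    simp at this
  have h2 := two_eq_zero_of_card hF hn
  exact Cfsg.Agent.Lib.H23.SNS.sn_of_equiv
    ((borelSL F).equivMapOfInjective pr (pr_injective_of_two h2)) (sn_borelSL n hF hp)

theorem sn_normalizer_sylow {F : Type*} [Field F] [Fintype F] (n : ℕ)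
    (hF : Fintype.card F = 2 ^ n) (hp : (2 ^ n - 1).Prime) [Fact (Nat.Prime 2)]
    (P : Sylow 2 (Matrix.ProjectiveSpecialLinearGroup (Fin 2) F)) :
    SN ↥(Subgroup.normalizer ((P : Subgroup (Matrix.ProjectiveSpecialLinearGroup (Fin 2) F)) :
      Set (Matrix.ProjectiveSpecialLinearGroup (Fin 2) F))) := by
  classical
  have hn : n ≠ 0 := by
    rintro rfl
    have := hp.two_le
    simp at this
  have h2 := two_eq_zero_of_card hF hn
  haveI : CharP F 2 := by
    obtain ⟨q, hq⟩ := CharP.exists F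
    have hq2 : q ∣ 2 := (CharP.cast_eq_zero_iff F q 2).mp (by exact_mod_cast h2)
    have hqp : q.Prime := by
      rcases CharP.char_is_prime_or_zero F q with h | h
      · exact h
      · subst h; simp at hq2
    have : q = 2 := (Nat.prime_dvd_prime_iff_eq hqp Nat.prime_two).mp hq2
    subst this
    exact hq
  obtain ⟨g, hg⟩ := MulAction.exists_smul_eq
    (Matrix.ProjectiveSpecialLinearGroup (Fin 2) F) (prUSylow (F := F) 2) P
  have hP : (P : Subgroup (Matrix.ProjectiveSpecialLinearGroup (Fin 2) F)) =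
      (prU F).map (MulAut.conj g).toMonoidHom := by
    rw [← hg, Sylow.coe_subgroup_smul, coe_prUSylow]
    rfl
  have hN : Subgroup.normalizer ((P : Subgroup (Matrix.ProjectiveSpecialLinearGroup (Fin 2) F)) :
      Set (Matrix.ProjectiveSpecialLinearGroup (Fin 2) F)) =
      (prB F).map (MulAut.conj g).toMonoidHom := by
    rw [hP, ← Subgroup.map_equiv_normalizer_eq, normalizer_prU]
  rw [hN]
  exact Cfsg.Agent.Lib.H23.SNS.sn_of_equiv ((MulAut.conj g).subgroupMap (prB F)) (sn_prB n hF hp)

end Cfsg.Agent.Lib.H5.SNS
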