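import Mathlib

/-!
# S4415, GOOD case: the permutation lemma (helper5)

`Γ = R ⋊ ⟨b⟩` acts transitively on a finite set `Ω` (the weight lines), `R` is a normal
`3'`-subgroup, `b` acts as a three-cycle.  Then `|Ω| ≤ 4`.

No five-cycle is computed: all conjugates of `b` lie in the coset `R b`, so for two conjugates
`c, c'` the permutation `c⁻¹ c'` comes from `R` and has order prime to `3`; it can neither be a
product of two disjoint three-cycles nor a three-cycle.
-/

set_option autoImplicit false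

namespace Cfsg.Agent.Lib.H5.S4415P

open Equiv

section perm

variable {Ω : Type*} [Fintype Ω] [DecidableEq Ω]

/-- an even nonidentity permutation moving at most three points is a three-cycle -/
theorem isThreeCycle_of_card_support_le_three {y : Perm Ω} (hy1 : y ≠ 1)
    (hsign : Perm.sign y = 1) (hcard : y.support.card ≤ 3) : y.IsThreeCycle := by
  have h0 : y.support.card ≠ 0 := by
    intro h
    exact hy1 (Perm.card_support_eq_zero.1 h)
  have h1 : y.support.card ≠ 1 := Perm.card_support_ne_one y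
  have h2 : y.support.card ≠ 2 := by
    intro h
    have hsw := Perm.card_support_eq_two.1 h
    have hs := hsw.sign_eq
    rw [hsign] at hs
    exact absurd hs (by decide)
  have h3 : y.support.card = 3 := by omega
  exact card_support_eq_three_iff.1 h3

/-- two different three-cycles whose supports share two points and which agree at a point moved
by the first: `c⁻¹ * c'` is a three-cycle -/
theorem isThreeCycle_inv_mul {c c' : Perm Ω} (hc : c.IsThreeCycle) (hc' : c'.IsThreeCycle)
    (hne : c ≠ c') (h2 : 2 ≤ (c.support ∩ c'.support).card) {a : Ω} (ha : a ∈ c.support)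
    (hag : c a = c' a) : (c⁻¹ * c').IsThreeCycle := by
  apply isThreeCycle_of_card_support_le_three
  · intro h
    exact hne (inv_mul_eq_one.1 h)
  · rw [map_mul, map_inv, hc.sign, hc'.sign]
    simp
  · have hsub : (c⁻¹ * c').support ⊆ (c.support ∪ c'.support).erase a := by
      intro x hx
      rw [Finset.mem_erase]
      constructor
      · rintro rfl
        rw [Perm.mem_support] at hx
        apply hx
        rw [Perm.mul_apply, ← hag]
        exact Perm.inv_eq_iff_eq.mpr rfl
      · have h := Perm.support_mul_le c⁻¹ c' hx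
        simpa [Perm.support_inv] using h
    have hcard_union : (c.support ∪ c'.support).card ≤ 4 := by
      have h := Finset.card_union_add_card_inter c.support c'.support
      rw [hc.card_support, hc'.card_support] at h
      omega
    have ha' : a ∈ c.support ∪ c'.support := Finset.mem_union_left _ ha
    calc (c⁻¹ * c').support.card ≤ ((c.support ∪ c'.support).erase a).card :=
          Finset.card_le_card hsub
      _ = (c.support ∪ c'.support).card - 1 := Finset.card_erase_of_mem ha'
      _ ≤ 3 := by omega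

end perm

section main

set_option linter.unusedSectionVars false

variable {Γ : Type*} [Group Γ] [Finite Γ] {Ω : Type*} [Fintype Ω] [DecidableEq Ω]
  (φ : Γ →* Equiv.Perm Ω) (R : Subgroup Γ) [hRn : R.Normal] (b : Γ)

/-- every conjugate of `b` is `ρ * b` with `ρ ∈ R` -/
theorem conj_mem (hgen : ∀ g : Γ, ∃ r ∈ R, ∃ k : ℕ, g = r * b ^ k) (g : Γ) :
    ∃ ρ ∈ R, g * b * g⁻¹ = ρ * b := by
  obtain ⟨r, hr, k, rfl⟩ := hgen g
  refine ⟨r * (b * r⁻¹ * b⁻¹), R.mul_mem hr (hRn.conj_mem _ (R.inv_mem hr) b), ?_⟩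
  group

/-- for two conjugates `γ, γ'` of `b` the quotient `γ⁻¹ γ'` lies in `R` -/
theorem inv_mul_conj_mem (hgen : ∀ g : Γ, ∃ r ∈ R, ∃ k : ℕ, g = r * b ^ k) (g g' : Γ) :
    (g * b * g⁻¹)⁻¹ * (g' * b * g'⁻¹) ∈ R := by
  obtain ⟨ρ, hρ, h1⟩ := conj_mem R b hgen g
  obtain ⟨ρ', hρ', h2⟩ := conj_mem R b hgen g'
  rw [h1, h2]
  have h3 : (ρ * b)⁻¹ * (ρ' * b) = b⁻¹ * (ρ⁻¹ * ρ') * b⁻¹⁻¹ := by group
  rw [h3]
  exact hRn.conj_mem _ (R.mul_mem (R.inv_mem hρ) hρ') b⁻¹

/-- an element of `R` whose image has order dividing `3` has trivial image -/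
theorem map_eq_one_of_pow_three (hR3 : ¬ 3 ∣ Nat.card R) {ρ : Γ} (hρ : ρ ∈ R)
    (h3 : (φ ρ) ^ 3 = 1) : φ ρ = 1 := by
  have h1 : orderOf (φ ρ) ∣ 3 := orderOf_dvd_of_pow_eq_one h3
  have h2 : orderOf (φ ρ) ∣ orderOf ρ := orderOf_map_dvd φ ρ
  have h3' : orderOf ρ ∣ Nat.card R := Subgroup.orderOf_dvd_natCard R hρ
  have h4 : orderOf (φ ρ) ∣ Nat.card R := h2.trans h3'
  rcases (Nat.dvd_prime Nat.prime_three).1 h1 with h | h
  · exact orderOf_eq_one_iff.1 h
  · exact absurd (h ▸ h4) hR3

/-- the support of the image of the conjugate `g b g⁻¹` -/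
def sup (g : Γ) : Finset Ω := (φ b).support.map (φ g).toEmbedding

theorem support_conj_eq (g : Γ) : (φ (g * b * g⁻¹)).support = sup φ b g := by
  rw [map_mul, map_mul, map_inv, Perm.support_conj]
  rfl

theorem isThreeCycle_conj (hb : (φ b).IsThreeCycle) (g : Γ) :
    (φ (g * b * g⁻¹)).IsThreeCycle := by
  rw [map_mul, map_mul, map_inv]
  unfold Perm.IsThreeCycle at hb ⊢
  rw [Perm.cycleType_conj]
  exact hb

theorem card_sup (hb : (φ b).IsThreeCycle) (g : Γ) : (sup φ b g).card = 3 := by
  rw [← support_conj_eq, (isThreeCycle_conj φ b hb g).card_support]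

/-- `c⁻¹ c'` is never a three-cycle for two conjugates -/
theorem not_isThreeCycle_inv_mul (hR3 : ¬ 3 ∣ Nat.card R)
    (hgen : ∀ g : Γ, ∃ r ∈ R, ∃ k : ℕ, g = r * b ^ k) (g g' : Γ) :
    ¬ ((φ (g * b * g⁻¹))⁻¹ * φ (g' * b * g'⁻¹)).IsThreeCycle := by
  intro h
  have hmem := inv_mul_conj_mem R b hgen g g'
  have heq : (φ (g * b * g⁻¹))⁻¹ * φ (g' * b * g'⁻¹) =
      φ ((g * b * g⁻¹)⁻¹ * (g' * b * g'⁻¹)) := by
    rw [map_mul φ (g * b * g⁻¹)⁻¹, map_inv]
  rw [heq] at h
  have h3 : (φ ((g * b * g⁻¹)⁻¹ * (g' * b * g'⁻¹))) ^ 3 = 1 := by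
    rw [← h.orderOf]
    exact pow_orderOf_eq_one _
  have h1 := map_eq_one_of_pow_three φ R hR3 hmem h3
  rw [h1] at h
  have := h.orderOf
  rw [orderOf_one] at this
  omega

/-- the supports of two conjugates share at least two points -/
theorem two_le_card_inter (hR3 : ¬ 3 ∣ Nat.card R)
    (hgen : ∀ g : Γ, ∃ r ∈ R, ∃ k : ℕ, g = r * b ^ k) (hb : (φ b).IsThreeCycle) (g g' : Γ) :
    2 ≤ (sup φ b g ∩ sup φ b g').card := by
  set c := φ (g * b * g⁻¹) with hc
  set c' := φ (g' * b * g'⁻¹) with hc'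
  have hc3 : c.IsThreeCycle := isThreeCycle_conj φ b hb g
  have hc'3 : c'.IsThreeCycle := isThreeCycle_conj φ b hb g'
  rw [← support_conj_eq, ← support_conj_eq, ← hc, ← hc']
  by_contra hlt
  have hlt' : (c.support ∩ c'.support).card ≤ 1 := by omega
  rcases Nat.le_one_iff_eq_zero_or_eq_one.1 hlt' with h0 | h1
  · -- disjoint supports
    have hdisj : Disjoint c.support c'.support := by
      rw [Finset.disjoint_iff_inter_eq_empty]
      exact Finset.card_eq_zero.1 h0
    have hd : Perm.Disjoint c c' := Perm.disjoint_iff_disjoint_support.2 hdisj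
    have hd' : Perm.Disjoint c⁻¹ c' := hd.inv_left
    have hord : orderOf (c⁻¹ * c') = 3 := by
      rw [hd'.orderOf, orderOf_inv, hc3.orderOf, hc'3.orderOf]
      rfl
    have hmem := inv_mul_conj_mem R b hgen g g'
    have heq : c⁻¹ * c' = φ ((g * b * g⁻¹)⁻¹ * (g' * b * g'⁻¹)) := by
      rw [map_mul φ (g * b * g⁻¹)⁻¹, map_inv]
    have h3 : (φ ((g * b * g⁻¹)⁻¹ * (g' * b * g'⁻¹))) ^ 3 = 1 := by
      rw [← heq, ← hord]
      exact pow_orderOf_eq_one _
    have h1 := map_eq_one_of_pow_three φ R hR3 hmem h3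
    rw [← heq] at h1
    rw [h1, orderOf_one] at hord
    omega
  · -- exactly one common point
    obtain ⟨p, hp⟩ := Finset.card_eq_one.1 h1
    have hpc : p ∈ c.support := (Finset.mem_inter.1 (hp ▸ Finset.mem_singleton_self p)).1
    have hpc' : p ∈ c'.support := (Finset.mem_inter.1 (hp ▸ Finset.mem_singleton_self p)).2
    -- `D`: the two points of `supp c` outside `supp c'`
    have hD : (c.support \ c'.support).card = 2 := by
      have h := Finset.card_sdiff_add_card_inter c.support c'.support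
      rw [h1, hc3.card_support] at h
      omega
    obtain ⟨u1, u2, hu12, hDeq⟩ := Finset.card_eq_two.1 hD
    have hfix : ∀ u ∈ c.support \ c'.support, c' u = u := by
      intro u hu
      have := (Finset.mem_sdiff.1 hu).2
      rwa [Perm.mem_support, not_not] at this
    have hfix' : ∀ u ∈ c.support \ c'.support, c'⁻¹ u = u := by
      intro u hu
      rw [Perm.inv_eq_iff_eq, hfix u hu]
    have hu1D : u1 ∈ c.support \ c'.support := by rw [hDeq]; simp
    have hu2D : u2 ∈ c.support \ c'.support := by rw [hDeq]; simp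
    have hsupp : ∀ v ∈ c.support, v = u1 ∨ v = u2 ∨ v = p := by
      intro v hv
      by_cases hv' : v ∈ c'.support
      · right; right
        have : v ∈ c.support ∩ c'.support := Finset.mem_inter.2 ⟨hv, hv'⟩
        rw [hp] at this
        exact Finset.mem_singleton.1 this
      · have : v ∈ c.support \ c'.support := Finset.mem_sdiff.2 ⟨hv, hv'⟩
        rw [hDeq] at this
        simp at this
        tauto
    -- the new conjugate `c'' = c' c c'⁻¹`
    set g'' := (g' * b * g'⁻¹) * g with hg''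
    have hc''eq : φ (g'' * b * g''⁻¹) = c' * c * c'⁻¹ := by
      rw [hc, hc', ← map_inv, ← map_mul, ← map_mul]
      congr 1
      rw [hg'']
      group
    set c'' := φ (g'' * b * g''⁻¹) with hc''
    have hc''3 : c''.IsThreeCycle := isThreeCycle_conj φ b hb g''
    have happ : ∀ u ∈ c.support \ c'.support, c'' u = c' (c u) := by
      intro u hu
      rw [hc''eq, Perm.mul_apply, Perm.mul_apply, hfix' u hu]
    -- a point `u ∈ D` with `c u ∈ D`
    have hex : ∃ u ∈ c.support \ c'.support, c u ∈ c.support \ c'.support := by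
      have hu1c : u1 ∈ c.support := (Finset.mem_sdiff.1 hu1D).1
      have hu2c : u2 ∈ c.support := (Finset.mem_sdiff.1 hu2D).1
      have h1m : c u1 ∈ c.support := Perm.apply_mem_support.2 hu1c
      have h2m : c u2 ∈ c.support := Perm.apply_mem_support.2 hu2c
      have h1ne : c u1 ≠ u1 := Perm.mem_support.1 hu1c
      have h2ne : c u2 ≠ u2 := Perm.mem_support.1 hu2c
      rcases hsupp _ h1m with h | h | h
      · exact absurd h h1ne
      · exact ⟨u1, hu1D, h ▸ hu2D⟩
      · rcases hsupp _ h2m with h' | h' | h'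
        · exact ⟨u2, hu2D, h' ▸ hu1D⟩
        · exact absurd h' h2ne
        · exfalso
          apply hu12
          apply c.injective
          rw [h, h']
    obtain ⟨u, huD, hcuD⟩ := hex
    have hag : c u = c'' u := by
      rw [happ u huD, hfix _ hcuD]
    have huc : u ∈ c.support := (Finset.mem_sdiff.1 huD).1
    -- `D ⊆ supp c ∩ supp c''`
    have hDsub : c.support \ c'.support ⊆ c.support ∩ c''.support := by
      intro v hv
      rw [Finset.mem_inter]
      refine ⟨(Finset.mem_sdiff.1 hv).1, ?_⟩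
      rw [Perm.mem_support, happ v hv]
      intro h
      have h' : c v = c'⁻¹ v := by
        rw [Perm.eq_inv_iff_eq]
        exact h
      rw [hfix' v hv] at h'
      exact (Perm.mem_support.1 (Finset.mem_sdiff.1 hv).1) h'
    have h2' : 2 ≤ (c.support ∩ c''.support).card := by
      rw [← hD]
      exact Finset.card_le_card hDsub
    have hne : c ≠ c'' := by
      intro h
      -- `c' p ∈ supp c''`
      have h1' : c' p ∈ c''.support := by
        have e1 : c'⁻¹ (c' p) = p := Perm.inv_eq_iff_eq.mpr rfl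
        rw [Perm.mem_support, hc''eq, Perm.mul_apply, Perm.mul_apply, e1]
        intro h2
        have := c'.injective h2
        exact (Perm.mem_support.1 hpc) this
      rw [← h] at h1'
      have h2 : c' p ∈ c'.support := Perm.apply_mem_support.2 hpc'
      have : c' p ∈ c.support ∩ c'.support := Finset.mem_inter.2 ⟨h1', h2⟩
      rw [hp] at this
      exact (Perm.mem_support.1 hpc') (Finset.mem_singleton.1 this)
    have h3c := isThreeCycle_inv_mul hc3 hc''3 hne h2' huc hag
    exact not_isThreeCycle_inv_mul φ R b hR3 hgen g g'' h3c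

theorem mem_sup_iff (g : Γ) (x : Ω) : x ∈ sup φ b g ↔ (φ g)⁻¹ x ∈ (φ b).support := by
  unfold sup
  rw [Finset.mem_map_equiv]
  rfl

theorem apply_mem_sup {g : Γ} {a : Ω} (ha : a ∈ (φ b).support) : φ g a ∈ sup φ b g := by
  rw [mem_sup_iff]
  have : (φ g)⁻¹ (φ g a) = a := Perm.inv_eq_iff_eq.mpr rfl
  rw [this]
  exact ha

/-- `φ h` maps `sup g` into `sup (h * g)` -/
theorem apply_mem_sup_mul {h g : Γ} {x : Ω} (hx : x ∈ sup φ b g) :
    φ h x ∈ sup φ b (h * g) := by
  rw [mem_sup_iff] at hx ⊢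
  rw [map_mul, mul_inv_rev, Perm.mul_apply]
  have : (φ h)⁻¹ (φ h x) = x := Perm.inv_eq_iff_eq.mpr rfl
  rw [this]
  exact hx

theorem sup_one : sup φ b 1 = (φ b).support := by
  ext x
  rw [mem_sup_iff, map_one, inv_one, Perm.one_apply]

/-- counting step: a `3`-set `A ∋ p`, a set `t ∌ p` meeting `A` in two points contains `A - p` -/
theorem erase_subset_of_two_le {A t : Finset Ω} {p : Ω} (hpA : p ∈ A) (hpt : p ∉ t)
    (hA : A.card = 3) (h2 : 2 ≤ (t ∩ A).card) : A.erase p ⊆ t := by
  have hsub : t ∩ A ⊆ A.erase p := by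
    intro v hv
    rw [Finset.mem_inter] at hv
    rw [Finset.mem_erase]
    refine ⟨?_, hv.2⟩
    rintro rfl
    exact hpt hv.1
  have hcard : (A.erase p).card = 2 := by
    rw [Finset.card_erase_of_mem hpA, hA]
  have heq : t ∩ A = A.erase p :=
    Finset.eq_of_subset_of_card_le hsub (by rw [hcard]; exact h2)
  rw [← heq]
  exact Finset.inter_subset_left

/-- **GOOD-PERM**: `Γ = R⟨b⟩` transitive on `Ω`, `R` a normal `3'`-subgroup, `b` a three-cycle
on `Ω`: then `|Ω| ≤ 4`. -/
theorem card_le_four (hR3 : ¬ 3 ∣ Nat.card R)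
    (hgen : ∀ g : Γ, ∃ r ∈ R, ∃ k : ℕ, g = r * b ^ k) (hb : (φ b).IsThreeCycle)
    (htrans : ∀ x y : Ω, ∃ g : Γ, φ g x = y) : Fintype.card Ω ≤ 4 := by
  by_contra hcard
  have h5 : 5 ≤ Fintype.card Ω := by omega
  have hI := two_le_card_inter φ R b hR3 hgen hb
  have hc3 := card_sup φ b hb
  have hne : (φ b).support.Nonempty := by
    rw [← Finset.card_pos, hb.card_support]
    norm_num
  obtain ⟨a0, ha0⟩ := hne
  have hs0c : (sup φ b 1).card = 3 := hc3 1
  -- two points outside `s0`
  have hout : 1 < (Finset.univ \ sup φ b 1).card := by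
    have h := Finset.card_sdiff_add_card_inter (Finset.univ : Finset Ω) (sup φ b 1)
    rw [Finset.univ_inter, hs0c, Finset.card_univ] at h
    omega
  obtain ⟨x, hx, y, hy, hxy⟩ := Finset.one_lt_card.1 hout
  have hx0 : x ∉ sup φ b 1 := (Finset.mem_sdiff.1 hx).2
  have hy0 : y ∉ sup φ b 1 := (Finset.mem_sdiff.1 hy).2
  obtain ⟨g1, hg1⟩ := htrans a0 x
  obtain ⟨g2, hg2⟩ := htrans a0 y
  have hx1 : x ∈ sup φ b g1 := hg1 ▸ apply_mem_sup φ b ha0
  have hy2 : y ∈ sup φ b g2 := hg2 ▸ apply_mem_sup φ b ha0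
  -- `E1 = s1 - x ⊆ s0`, `E2 = s2 - y ⊆ s0`
  have hE1 : (sup φ b g1).erase x ⊆ sup φ b 1 :=
    erase_subset_of_two_le hx1 hx0 (hc3 g1) (hI 1 g1)
  have hE2 : (sup φ b g2).erase y ⊆ sup φ b 1 :=
    erase_subset_of_two_le hy2 hy0 (hc3 g2) (hI 1 g2)
  have hE1c : ((sup φ b g1).erase x).card = 2 := by
    rw [Finset.card_erase_of_mem hx1, hc3 g1]
  have hE2c : ((sup φ b g2).erase y).card = 2 := by
    rw [Finset.card_erase_of_mem hy2, hc3 g2]
  have hx2 : x ∉ sup φ b g2 := by
    intro h
    exact hx0 (hE2 (Finset.mem_erase.2 ⟨hxy, h⟩))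
  have hE12 : (sup φ b g1).erase x ⊆ (sup φ b g2).erase y := by
    intro v hv
    rw [Finset.mem_erase]
    refine ⟨?_, erase_subset_of_two_le hx1 hx2 (hc3 g1) (hI g2 g1) hv⟩
    rintro rfl
    exact hy0 (hE1 hv)
  have hEeq : (sup φ b g1).erase x = (sup φ b g2).erase y :=
    Finset.eq_of_subset_of_card_le hE12 (by rw [hE1c, hE2c])
  -- every support contains `P = E1`
  have hP : ∀ g : Γ, (sup φ b g1).erase x ⊆ sup φ b g := by
    intro g p hp
    by_contra hpt
    have hp0 : p ∈ sup φ b 1 := hE1 hp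
    have hp1 : p ∈ sup φ b g1 := Finset.mem_of_mem_erase hp
    have hp2 : p ∈ sup φ b g2 := Finset.mem_of_mem_erase (hEeq ▸ hp)
    have h0 := erase_subset_of_two_le hp0 hpt hs0c (hI g 1)
    have h1 := erase_subset_of_two_le hp1 hpt (hc3 g1) (hI g g1)
    have h2 := erase_subset_of_two_le hp2 hpt (hc3 g2) (hI g g2)
    have hxp : x ≠ p := by
      rintro rfl
      exact hx0 hp0
    have hyp : y ≠ p := by
      rintro rfl
      exact hy0 hp0
    have hxt : x ∈ sup φ b g := h1 (Finset.mem_erase.2 ⟨hxp, hx1⟩)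
    have hyt : y ∈ sup φ b g := h2 (Finset.mem_erase.2 ⟨hyp, hy2⟩)
    have hyA : y ∉ (sup φ b 1).erase p := fun h => hy0 (Finset.mem_of_mem_erase h)
    have hxA : x ∉ insert y ((sup φ b 1).erase p) := by
      rw [Finset.mem_insert]
      rintro (h | h)
      · exact hxy h
      · exact hx0 (Finset.mem_of_mem_erase h)
    have hsub : insert x (insert y ((sup φ b 1).erase p)) ⊆ sup φ b g := by
      intro v hv
      rw [Finset.mem_insert, Finset.mem_insert] at hv
      rcases hv with rfl | rfl | hv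
      · exact hxt
      · exact hyt
      · exact h0 hv
    have hcard4 : (insert x (insert y ((sup φ b 1).erase p))).card = 4 := by
      rw [Finset.card_insert_of_notMem hxA, Finset.card_insert_of_notMem hyA,
        Finset.card_erase_of_mem hp0, hs0c]
    have := Finset.card_le_card hsub
    rw [hcard4, hc3 g] at this
    omega
  -- contradiction with transitivity
  have hPne : ((sup φ b g1).erase x).Nonempty := by
    rw [← Finset.card_pos, hE1c]
    norm_num
  obtain ⟨p, hp⟩ := hPne
  obtain ⟨h, hh⟩ := htrans p x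
  have h1 : p ∈ sup φ b h⁻¹ := hP h⁻¹ hp
  have h2 : φ h p ∈ sup φ b (h * h⁻¹) := apply_mem_sup_mul φ b h1
  rw [mul_inv_cancel, hh] at h2
  exact hx0 h2

end main

end Cfsg.Agent.Lib.H5.S4415P
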