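import Cfsg.Agent.Lib.H24.S4415GDefs
import Cfsg.Agent.Lib.H5.S4415Perm

/-!
# S4415, GOOD block, piece G3 (helper5): `CardStmt` - a monomial frame has three or four lines

`phi_mul` (the index map of a monomial frame is multiplicative) is proved here under my own name;
then `card_le_four` of `Lib/H5/S4415Perm.lean` is applied with `Γ := ↥(RB R b)`.
-/

set_option autoImplicit false

namespace Cfsg.Agent.Lib.H5.S4415G3

open Cfsg.Agent.Lib.H10.S4415 Cfsg.Agent.Lib.H24.S4415G

universe u v

section frame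

variable {S : Type u} {E : Type v} [Group S] [AddCommGroup E] [Module (ZMod 3) E]
  {ρ : Representation (ZMod 3) S E} {R : Subgroup S} {b : S} {W : Submodule (ZMod 3) E}
  {n : ℕ} {f : Fin n → E} {φ : ↥(RB R b) → Equiv.Perm (Fin n)}

/-- the monomial relation with an explicit sign `c = ±1` -/
theorem mono_smul (hM : MonoFrame ρ R b W f φ) (g : ↥(RB R b)) (i : Fin n) :
    ∃ c : ZMod 3, c * c = 1 ∧ ρ (g : S) (f i) = c • f (φ g i) := by
  rcases hM.mono g i with h | h
  · exact ⟨1, by decide, by rw [h, one_smul]⟩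
  · exact ⟨-1, by decide, by rw [h, neg_smul, one_smul]⟩

/-- proportional frame vectors have the same index -/
theorem idx_eq_of_smul (hM : MonoFrame ρ R b W f φ) {i j : Fin n} {c : ZMod 3}
    (h : f i = c • f j) : i = j := by
  by_contra hij
  have h1 : f i ∉ Submodule.span (ZMod 3) (f '' {j}) :=
    hM.indep.notMem_span_image (by simpa using hij)
  apply h1
  rw [h]
  exact Submodule.smul_mem _ _ (Submodule.subset_span ⟨j, rfl, rfl⟩)

/-- the index map of a monomial frame is multiplicative -/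
theorem phi_mul (hM : MonoFrame ρ R b W f φ) (g h : ↥(RB R b)) : φ (g * h) = φ g * φ h := by
  apply Equiv.ext
  intro i
  obtain ⟨c1, hc1, e1⟩ := mono_smul hM (g * h) i
  obtain ⟨c2, _, e2⟩ := mono_smul hM h i
  obtain ⟨c3, _, e3⟩ := mono_smul hM g (φ h i)
  have h1 : c1 • f (φ (g * h) i) = (c2 * c3) • f (φ g (φ h i)) := by
    rw [← e1, Subgroup.coe_mul, map_mul, Module.End.mul_apply, e2, map_smul, e3, smul_smul]
  have h2 : f (φ (g * h) i) = (c1 * (c2 * c3)) • f (φ g (φ h i)) := by
    have h3 := congrArg (fun v => c1 • v) h1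
    simp only [smul_smul, hc1, one_smul] at h3
    exact h3
  rw [Equiv.Perm.mul_apply]
  exact idx_eq_of_smul hM h2

end frame

/-- **G3**: a monomial frame has `3` or `4` lines. -/
theorem card : CardStmt.{u, v} := by
  intro S _ _ E _ _ _ ρ R b W n f φ hL hM
  classical
  let Φ : ↥(RB R b) →* Equiv.Perm (Fin n) := MonoidHom.mk' φ (phi_mul hM)
  let R' : Subgroup ↥(RB R b) := R.subgroupOf (RB R b)
  have hRle : R ≤ RB R b := R_le_RB R b
  -- `R<b>` normalises `R`
  have hnorm : RB R b ≤ Subgroup.normalizer (R : Set S) := by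
    refine sup_le Subgroup.le_normalizer ?_
    rw [Subgroup.zpowers_le]
    apply Subgroup.mem_normalizer_fintype
    intro r hr
    exact hL.b_norm r hr
  have hRn : R'.Normal := by
    refine ⟨fun r hr g => ?_⟩
    rw [Subgroup.mem_subgroupOf] at hr ⊢
    have hg := hnorm g.2
    rw [Subgroup.mem_normalizer_iff] at hg
    simpa using (hg _).1 hr
  have hR3 : ¬ 3 ∣ Nat.card R' := by
    have hcard : Nat.card R' = Nat.card R :=
      Nat.card_congr (Subgroup.subgroupOfEquivOfLe hRle).toEquiv
    rw [hcard]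
    intro h3
    have hcop := hL.R_coprime
    have := Nat.dvd_gcd h3 (dvd_refl 3)
    rw [Nat.Coprime] at hcop
    rw [hcop] at this
    norm_num at this
  -- generation
  have htop : R' ⊔ Subgroup.zpowers (bRB R b) = ⊤ := by
    have h1 : (R ⊔ Subgroup.zpowers b).subgroupOf (RB R b) = ⊤ := Subgroup.subgroupOf_self _
    rw [Subgroup.subgroupOf_sup hRle (le_sup_right : Subgroup.zpowers b ≤ RB R b)] at h1
    rw [eq_top_iff, ← h1]
    refine sup_le_sup_left ?_ _
    intro x hx
    rw [Subgroup.mem_subgroupOf, Subgroup.mem_zpowers_iff] at hx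
    obtain ⟨m, hm⟩ := hx
    rw [Subgroup.mem_zpowers_iff]
    refine ⟨m, ?_⟩
    apply Subtype.ext
    rw [Subgroup.coe_zpow]
    exact hm
  have hgen : ∀ g : ↥(RB R b), ∃ r ∈ R', ∃ k : ℕ, g = r * (bRB R b) ^ k := by
    intro g
    have hg : g ∈ R' ⊔ Subgroup.zpowers (bRB R b) := by
      rw [htop]
      exact Subgroup.mem_top g
    obtain ⟨y, hy, z, hz, hyz⟩ := Subgroup.mem_sup_of_normal_left.1 hg
    rw [← mem_powers_iff_mem_zpowers, Submonoid.mem_powers_iff] at hz
    obtain ⟨k, hk⟩ := hz
    exact ⟨y, hy, k, by rw [hk, hyz]⟩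
  have h4 := Cfsg.Agent.Lib.H5.S4415P.card_le_four Φ R' (bRB R b) hR3 hgen hM.three hM.trans
  have h3 : 3 ≤ n := by
    have h5 := hM.three.card_support
    have h6 := Finset.card_le_univ (φ (bRB R b)).support
    rw [h5, Fintype.card_fin] at h6
    exact h6
  rw [Fintype.card_fin] at h4
  omega

end Cfsg.Agent.Lib.H5.S4415G3
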