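import Cfsg.Agent.Lib.H5.S4415G3

/-!
# S4415, GOOD block, piece G4 (helper5): `ThreeStmt` - three lines give the four-group

With `n = 3` the normal `3'`-subgroup `R` fixes every line of the frame (a normal `3'`-subgroup of a
subgroup of `S_3` containing a three-cycle is trivial), so `R` is a group of sign matrices; the
product of the three signs is a homomorphism invariant under conjugation by `b`, hence trivial on
`R = [R,b]`; so `|R| ≤ 4`, and `1, x₁, x₂, x₃` are four different elements of `R`.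
-/

set_option autoImplicit false

namespace Cfsg.Agent.Lib.H5.S4415G4

open Cfsg.Agent.Lib.H10.S4415 Cfsg.Agent.Lib.H24.S4415G Cfsg.Agent.Lib.H5.S4415G3

universe u v

set_option maxRecDepth 100000 in
/-- in `S_3`: an involution-or-identity `x` whose commutator with an element `c` of order `3`
is again an involution-or-identity is trivial -/
theorem s3_aux : ∀ c x : Equiv.Perm (Fin 3),
    (c ^ 3 = 1 ∧ c ≠ 1 ∧ x ^ 2 = 1 ∧ (c * x * c⁻¹ * x⁻¹) ^ 2 = 1) → x = 1 := by
  decide

set_option maxRecDepth 100000 in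
/-- there are four sign vectors of length three with product one -/
theorem card_aux : Fintype.card
    {v : Fin 3 → ZMod 3 // (∀ i, v i = 1 ∨ v i = -1) ∧ ∏ i, v i = 1} = 4 := by
  decide

theorem pm_mul {c c' : ZMod 3} (hc : c = 1 ∨ c = -1) (hc' : c' = 1 ∨ c' = -1) :
    c * c' = 1 ∨ c * c' = -1 := by
  rcases hc with rfl | rfl <;> rcases hc' with rfl | rfl <;> decide

theorem pm_sq {c : ZMod 3} (hc : c = 1 ∨ c = -1) : c * c = 1 := by
  rcases hc with rfl | rfl <;> decide

section frame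

variable {S : Type u} {E : Type v} [Group S] [AddCommGroup E] [Module (ZMod 3) E]
  {ρ : Representation (ZMod 3) S E} {R : Subgroup S} {b : S} {W : Submodule (ZMod 3) E}
  {n : ℕ} {f : Fin n → E} {φ : ↥(RB R b) → Equiv.Perm (Fin n)}

theorem eq_zero_of_eq_neg' {v : E} (h : v = -v) : v = 0 := by
  have h1 : (2 : ZMod 3) • v = 0 := by
    rw [two_smul]
    nth_rewrite 1 [h]
    exact neg_add_cancel v
  rcases smul_eq_zero.1 h1 with h2 | h2
  · exact absurd h2 (by decide)
  · exact h2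

theorem rho_inv_apply (ρ : Representation (ZMod 3) S E) (s : S) (v : E) :
    ρ s⁻¹ (ρ s v) = v := by
  rw [← Module.End.mul_apply, ← map_mul, inv_mul_cancel, map_one, Module.End.one_apply]

/-- `s` acts on the frame by signs -/
def Diag (ρ : Representation (ZMod 3) S E) (f : Fin n → E) (s : S) : Prop :=
  ∀ i, ρ s (f i) = f i ∨ ρ s (f i) = -f i

open Classical in
/-- the sign of `s` on the `i`-th frame vector -/
noncomputable def sg (ρ : Representation (ZMod 3) S E) (f : Fin n → E) (s : S) (i : Fin n) :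
    ZMod 3 :=
  if ρ s (f i) = f i then 1 else -1

theorem sg_pm (s : S) (i : Fin n) : sg ρ f s i = 1 ∨ sg ρ f s i = -1 := by
  unfold sg
  split_ifs
  · exact Or.inl rfl
  · exact Or.inr rfl

theorem sg_spec {s : S} (hs : Diag ρ f s) (i : Fin n) : ρ s (f i) = sg ρ f s i • f i := by
  unfold sg
  split_ifs with h
  · rw [h, one_smul]
  · rcases hs i with h' | h'
    · exact absurd h' h
    · rw [h', neg_smul, one_smul]

theorem sg_one (i : Fin n) : sg ρ f 1 i = 1 := by
  unfold sg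
  rw [if_pos]
  rw [map_one, Module.End.one_apply]

theorem diag_of_smul {s : S} (h : ∀ i, ∃ c : ZMod 3, (c = 1 ∨ c = -1) ∧ ρ s (f i) = c • f i) :
    Diag ρ f s := by
  intro i
  obtain ⟨c, hc, e⟩ := h i
  rcases hc with rfl | rfl
  · left; rw [e, one_smul]
  · right; rw [e, neg_smul, one_smul]

theorem smul_cancel (hM : MonoFrame ρ R b W f φ) {i : Fin n} {c c' : ZMod 3}
    (h : c • f i = c' • f i) : c = c' := by
  have h1 : (c - c') • f i = 0 := by rw [sub_smul, h, sub_self]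
  rcases smul_eq_zero.1 h1 with h2 | h2
  · exact sub_eq_zero.1 h2
  · exact absurd h2 (hM.indep.ne_zero i)

theorem sg_unique (hM : MonoFrame ρ R b W f φ) {s : S} (hs : Diag ρ f s) {i : Fin n} {c : ZMod 3}
    (h : ρ s (f i) = c • f i) : sg ρ f s i = c := by
  apply smul_cancel hM (i := i)
  rw [← sg_spec hs i, h]

theorem diag_mul (hM : MonoFrame ρ R b W f φ) {s t : S} (hs : Diag ρ f s) (ht : Diag ρ f t) :
    Diag ρ f (s * t) ∧ ∀ i, sg ρ f (s * t) i = sg ρ f s i * sg ρ f t i := by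
  have key : ∀ i, ρ (s * t) (f i) = (sg ρ f s i * sg ρ f t i) • f i := by
    intro i
    rw [map_mul, Module.End.mul_apply, sg_spec ht i, map_smul, sg_spec hs i, smul_smul, mul_comm]
  have hd : Diag ρ f (s * t) :=
    diag_of_smul fun i => ⟨_, pm_mul (sg_pm s i) (sg_pm t i), key i⟩
  exact ⟨hd, fun i => sg_unique hM hd (key i)⟩

/-- an element fixing the frame fixes `W` -/
theorem eqOn_W (hM : MonoFrame ρ R b W f φ) {s t : S} (h : ∀ i, ρ s (f i) = ρ t (f i)) :
    ∀ w ∈ W, ρ s w = ρ t w := by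
  intro w hw
  have hle : Submodule.span (ZMod 3) (Set.range f) ≤ LinearMap.eqLocus (ρ s) (ρ t) := by
    rw [Submodule.span_le]
    rintro _ ⟨i, rfl⟩
    exact h i
  exact hle (hM.span w hw)

/-- two elements of `R` with the same signs are equal -/
theorem eq_of_sg_eq (hL : LinCtx ρ R b W) (hM : MonoFrame ρ R b W f φ) {r r' : S} (hr : r ∈ R)
    (hr' : r' ∈ R) (hd : Diag ρ f r) (hd' : Diag ρ f r') (h : ∀ i, sg ρ f r i = sg ρ f r' i) :
    r = r' := by
  have h1 : ∀ w ∈ W, ρ r w = ρ r' w := by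
    apply eqOn_W hM
    intro i
    rw [sg_spec hd i, sg_spec hd' i, h i]
  have h2 : r⁻¹ * r' = 1 := by
    apply hL.faithful _ (R_le_RB R b (R.mul_mem (R.inv_mem hr) hr'))
    intro w hw
    rw [map_mul, Module.End.mul_apply, ← h1 w hw, rho_inv_apply]
  exact inv_mul_eq_one.1 h2

end frame

section three

set_option linter.unusedSectionVars false

variable {S : Type u} {E : Type v} [Group S] [Finite S] [AddCommGroup E] [Module (ZMod 3) E]
  {ρ : Representation (ZMod 3) S E} {R : Subgroup S} {b : S} {W : Submodule (ZMod 3) E}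
  {f : Fin 3 → E} {φ : ↥(RB R b) → Equiv.Perm (Fin 3)}

/-- the image of an element of `R` in `S_3` has square one -/
theorem phi_sq_of_mem (hL : LinCtx ρ R b W) (hM : MonoFrame ρ R b W f φ) (y : ↥(RB R b))
    (hy : (y : S) ∈ R) : (φ y) ^ 2 = 1 := by
  let Φ : ↥(RB R b) →* Equiv.Perm (Fin 3) := MonoidHom.mk' φ (phi_mul hM)
  have hk : y ^ Nat.card R = 1 := by
    apply Subtype.ext
    rw [Subgroup.coe_pow, Subgroup.coe_one]
    have h1 : (⟨(y : S), hy⟩ : ↥R) ^ Nat.card R = 1 := pow_card_eq_one'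
    have h2 := congrArg Subtype.val h1
    rwa [Subgroup.coe_pow, Subgroup.coe_one] at h2
  have h1 : (φ y) ^ Nat.card R = 1 := by
    have : (Φ y) ^ Nat.card R = 1 := by rw [← map_pow, hk, map_one]
    exact this
  have h6 : (φ y) ^ 6 = 1 := by
    have h := pow_card_eq_one (x := φ y)
    rw [Fintype.card_perm, Fintype.card_fin] at h
    exact h
  have hg : (φ y) ^ Nat.gcd (Nat.card R) 6 = 1 := by
    rw [pow_gcd_eq_one]
    exact ⟨h1, h6⟩
  have hdvd : Nat.gcd (Nat.card R) 6 ∣ 2 := by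
    have hc : (Nat.gcd (Nat.card R) 6).Coprime 3 :=
      Nat.Coprime.coprime_dvd_left (Nat.gcd_dvd_left _ _) hL.R_coprime
    have h6' : Nat.gcd (Nat.card R) 6 ∣ 2 * 3 := Nat.gcd_dvd_right _ _
    exact hc.dvd_of_dvd_mul_right h6'
  rw [← orderOf_dvd_iff_pow_eq_one] at hg ⊢
  exact hg.trans hdvd

/-- every element of `R` fixes every line of the frame -/
theorem phi_eq_one_of_mem (hL : LinCtx ρ R b W) (hM : MonoFrame ρ R b W f φ) (y : ↥(RB R b))
    (hy : (y : S) ∈ R) : φ y = 1 := by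
  apply s3_aux (φ (bRB R b)) (φ y)
  refine ⟨?_, ?_, phi_sq_of_mem hL hM y hy, ?_⟩
  · have h3 := pow_orderOf_eq_one (φ (bRB R b))
    rw [hM.three.orderOf] at h3
    exact h3
  · intro h
    have := hM.three.orderOf
    rw [h, orderOf_one] at this
    omega
  · have hmem : ((bRB R b * y * (bRB R b)⁻¹ * y⁻¹ : ↥(RB R b)) : S) ∈ R := by
      simp only [Subgroup.coe_mul, Subgroup.coe_inv]
      exact R.mul_mem (hL.b_norm _ hy) (R.inv_mem hy)
    have h := phi_sq_of_mem hL hM _ hmem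
    have e : φ (bRB R b * y * (bRB R b)⁻¹ * y⁻¹) =
        φ (bRB R b) * φ y * (φ (bRB R b))⁻¹ * (φ y)⁻¹ := by
      let Φ : ↥(RB R b) →* Equiv.Perm (Fin 3) := MonoidHom.mk' φ (phi_mul hM)
      show Φ _ = Φ _ * Φ _ * (Φ _)⁻¹ * (Φ _)⁻¹
      rw [map_mul, map_mul, map_mul, map_inv, map_inv]
    rw [e] at h
    exact h

theorem diag_of_mem (hL : LinCtx ρ R b W) (hM : MonoFrame ρ R b W f φ) {r : S} (hr : r ∈ R) :
    Diag ρ f r := by
  intro i
  have h1 := phi_eq_one_of_mem hL hM ⟨r, R_le_RB R b hr⟩ hr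
  have h2 := hM.mono ⟨r, R_le_RB R b hr⟩ i
  rw [h1, Equiv.Perm.one_apply] at h2
  exact h2

/-- the product of the three signs -/
noncomputable def pr (ρ : Representation (ZMod 3) S E) (f : Fin 3 → E) (s : S) : ZMod 3 :=
  ∏ i, sg ρ f s i

theorem pr_mul (hL : LinCtx ρ R b W) (hM : MonoFrame ρ R b W f φ) {s t : S} (hs : s ∈ R)
    (ht : t ∈ R) : pr ρ f (s * t) = pr ρ f s * pr ρ f t := by
  unfold pr
  rw [← Finset.prod_mul_distrib]
  apply Finset.prod_congr rfl
  intro i _
  exact (diag_mul hM (diag_of_mem hL hM hs) (diag_of_mem hL hM ht)).2 i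

theorem pr_one : pr ρ f 1 = 1 := by
  unfold pr
  simp only [sg_one, Finset.prod_const_one]

theorem pr_sq (s : S) : pr ρ f s * pr ρ f s = 1 := by
  unfold pr
  rw [← Finset.prod_mul_distrib]
  apply Finset.prod_eq_one
  intro i _
  exact pm_sq (sg_pm s i)

/-- the signs of `b r b⁻¹` are the permuted signs of `r` -/
theorem sg_conj (hL : LinCtx ρ R b W) (hM : MonoFrame ρ R b W f φ) {r : S} (hr : r ∈ R)
    (i : Fin 3) : sg ρ f (b * r * b⁻¹) (φ (bRB R b) i) = sg ρ f r i := by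
  obtain ⟨ε, hε, e⟩ := mono_smul hM (bRB R b) i
  have hb : ρ b (f i) = ε • f (φ (bRB R b) i) := e
  have hd := diag_of_mem hL hM hr
  have hd' := diag_of_mem hL hM (hL.b_norm r hr)
  apply sg_unique hM hd'
  have h1 : f (φ (bRB R b) i) = ε • ρ b (f i) := by
    rw [hb, smul_smul, hε, one_smul]
  have h2 : ρ (b * r * b⁻¹) (ρ b (f i)) = ρ b (ρ r (f i)) := by
    rw [← Module.End.mul_apply, ← map_mul, ← Module.End.mul_apply, ← map_mul]
    congr 2
    group
  calc ρ (b * r * b⁻¹) (f (φ (bRB R b) i))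
      = ε • ρ (b * r * b⁻¹) (ρ b (f i)) := by rw [h1, map_smul]
    _ = ε • ρ b (ρ r (f i)) := by rw [h2]
    _ = ε • (sg ρ f r i • (ε • f (φ (bRB R b) i))) := by rw [sg_spec hd i, map_smul, hb]
    _ = sg ρ f r i • f (φ (bRB R b) i) := by
        rw [smul_smul, smul_smul, mul_comm ε, mul_assoc, hε, mul_one]

theorem pr_conj (hL : LinCtx ρ R b W) (hM : MonoFrame ρ R b W f φ) {r : S} (hr : r ∈ R) :
    pr ρ f (b * r * b⁻¹) = pr ρ f r := by
  unfold pr
  rw [← Equiv.prod_comp (φ (bRB R b)) (fun j => sg ρ f (b * r * b⁻¹) j)]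
  apply Finset.prod_congr rfl
  intro i _
  exact sg_conj hL hM hr i

theorem pow_conj_mem (hL : LinCtx ρ R b W) (k : ℕ) {r : S} (hr : r ∈ R) :
    b ^ k * r * (b ^ k)⁻¹ ∈ R := by
  induction k with
  | zero => simpa using hr
  | succ k ih =>
    have h := hL.b_norm _ ih
    have e : b ^ (k + 1) * r * (b ^ (k + 1))⁻¹ = b * (b ^ k * r * (b ^ k)⁻¹) * b⁻¹ := by
      rw [pow_succ']
      group
    rw [e]
    exact h

theorem pr_pow_conj (hL : LinCtx ρ R b W) (hM : MonoFrame ρ R b W f φ) (k : ℕ) {r : S}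
    (hr : r ∈ R) : pr ρ f (b ^ k * r * (b ^ k)⁻¹) = pr ρ f r := by
  induction k with
  | zero => simp
  | succ k ih =>
    have e : b ^ (k + 1) * r * (b ^ (k + 1))⁻¹ = b * (b ^ k * r * (b ^ k)⁻¹) * b⁻¹ := by
      rw [pow_succ']
      group
    rw [e, pr_conj hL hM (pow_conj_mem hL k hr), ih]

/-- the product of the signs is `1` on `R = [R,b]` -/
theorem pr_eq_one (hL : LinCtx ρ R b W) (hM : MonoFrame ρ R b W f φ) {r : S} (hr : r ∈ R) :
    pr ρ f r = 1 := by
  let K : Subgroup S :=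
    { carrier := {s | s ∈ R ∧ pr ρ f s = 1}
      mul_mem' := by
        rintro s t ⟨hs, hs1⟩ ⟨ht, ht1⟩
        exact ⟨R.mul_mem hs ht, by rw [pr_mul hL hM hs ht, hs1, ht1, mul_one]⟩
      one_mem' := ⟨R.one_mem, pr_one⟩
      inv_mem' := by
        rintro s ⟨hs, hs1⟩
        refine ⟨R.inv_mem hs, ?_⟩
        have h := pr_mul hL hM (R.inv_mem hs) hs
        rw [inv_mul_cancel, pr_one, hs1, mul_one] at h
        exact h.symm }
  have hle : ⁅R, Subgroup.zpowers b⁆ ≤ K := by
    rw [Subgroup.commutator_le]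
    intro r hr z hz
    rw [← mem_powers_iff_mem_zpowers, Submonoid.mem_powers_iff] at hz
    obtain ⟨k, rfl⟩ := hz
    have hc : b ^ k * r⁻¹ * (b ^ k)⁻¹ ∈ R := pow_conj_mem hL k (R.inv_mem hr)
    rw [commutatorElement_def]
    have e : r * b ^ k * r⁻¹ * (b ^ k)⁻¹ = r * (b ^ k * r⁻¹ * (b ^ k)⁻¹) := by
      group
    refine ⟨by rw [e]; exact R.mul_mem hr hc, ?_⟩
    rw [e, pr_mul hL hM hr hc, pr_pow_conj hL hM k (R.inv_mem hr), ← pr_mul hL hM hr (R.inv_mem hr),
      mul_inv_cancel, pr_one]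
  rw [hL.R_comm] at hle
  exact (hle hr).2

end three

/-- **G4**: three lines give the four-group. -/
theorem three : ThreeStmt.{u, v} := by
  intro S _ _ E _ _ _ ρ R b W x₁ x₂ x₃ e₁ e₂ e₃ f φ hL hQ hM
  have hdiag : ∀ r ∈ R, Diag ρ f r := fun r hr => diag_of_mem hL hM hr
  -- commutativity and exponent two
  have hcomm : ∀ a ∈ R, ∀ c ∈ R, a * c = c * a := by
    intro a ha c hc
    apply eq_of_sg_eq hL hM (R.mul_mem ha hc) (R.mul_mem hc ha)
      (diag_mul hM (hdiag a ha) (hdiag c hc)).1 (diag_mul hM (hdiag c hc) (hdiag a ha)).1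
    intro i
    rw [(diag_mul hM (hdiag a ha) (hdiag c hc)).2 i, (diag_mul hM (hdiag c hc) (hdiag a ha)).2 i,
      mul_comm]
  have hsq : ∀ a ∈ R, a ^ 2 = 1 := by
    intro a ha
    rw [pow_two]
    apply eq_of_sg_eq hL hM (R.mul_mem ha ha) R.one_mem
      (diag_mul hM (hdiag a ha) (hdiag a ha)).1 (hdiag 1 R.one_mem)
    intro i
    rw [(diag_mul hM (hdiag a ha) (hdiag a ha)).2 i, sg_one, pm_sq (sg_pm a i)]
  refine ⟨⟨⟨⟨fun a c => Subtype.ext (hcomm a a.2 c c.2)⟩⟩, hsq⟩, ?_⟩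
  -- upper bound
  have hle : Nat.card ↥R ≤ 4 := by
    let ι : ↥R → {v : Fin 3 → ZMod 3 // (∀ i, v i = 1 ∨ v i = -1) ∧ ∏ i, v i = 1} :=
      fun r => ⟨sg ρ f (r : S), fun i => sg_pm _ i, pr_eq_one hL hM r.2⟩
    have hinj : Function.Injective ι := by
      intro r r' h
      apply Subtype.ext
      apply eq_of_sg_eq hL hM r.2 r'.2 (hdiag _ r.2) (hdiag _ r'.2)
      intro i
      exact congrFun (congrArg Subtype.val h) i
    have h1 := Nat.card_le_card_of_injective ι hinj
    have hT : Nat.card {v : Fin 3 → ZMod 3 // (∀ i, v i = 1 ∨ v i = -1) ∧ ∏ i, v i = 1} = 4 := by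
      rw [Nat.card_eq_fintype_card]
      exact card_aux
    rw [hT] at h1
    exact h1
  -- lower bound
  have he₂ : e₂ ≠ 0 := by
    intro h
    apply hQ.e₁ne
    have := rho_inv_apply ρ b e₁
    rw [hQ.be₁, h, map_zero] at this
    exact this.symm
  have hne : ∀ {v : E}, v ≠ 0 → -v ≠ v := by
    intro v hv h
    exact hv (eq_zero_of_eq_neg' h.symm)
  have h01 : (1 : S) ≠ x₁ := by
    intro h
    have h1 := hQ.x₁e₂
    rw [← h, map_one, Module.End.one_apply] at h1
    exact hne he₂ h1.symm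
  have h02 : (1 : S) ≠ x₂ := by
    intro h
    have h1 := hQ.x₂e₁
    rw [← h, map_one, Module.End.one_apply] at h1
    exact hne hQ.e₁ne h1.symm
  have h03 : (1 : S) ≠ x₃ := by
    intro h
    have h1 := hQ.x₃e₁
    rw [← h, map_one, Module.End.one_apply] at h1
    exact hne hQ.e₁ne h1.symm
  have h12 : x₁ ≠ x₂ := by
    intro h
    have h1 := hQ.x₂e₁
    rw [← h, hQ.x₁e₁] at h1
    exact hne hQ.e₁ne h1.symm
  have h13 : x₁ ≠ x₃ := by
    intro h
    have h1 := hQ.x₃e₁
    rw [← h, hQ.x₁e₁] at h1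
    exact hne hQ.e₁ne h1.symm
  have h23 : x₂ ≠ x₃ := by
    intro h
    have h1 := hQ.x₃e₂
    rw [← h, hQ.x₂e₂] at h1
    exact hne he₂ h1.symm
  have hge : 4 ≤ Nat.card ↥R := by
    let g : Fin 4 → ↥R := ![⟨1, R.one_mem⟩, ⟨x₁, hQ.x₁R⟩, ⟨x₂, hQ.x₂R⟩, ⟨x₃, hQ.x₃R⟩]
    have hg : Function.Injective g := by
      intro i j hij
      have hij' : (g i : S) = (g j : S) := congrArg Subtype.val hij
      fin_cases i <;> fin_cases j <;> first
        | rfl
        | (exfalso; simp [g] at hij'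
           first
             | exact h01 hij' | exact h01 hij'.symm | exact h02 hij' | exact h02 hij'.symm
             | exact h03 hij' | exact h03 hij'.symm | exact h12 hij' | exact h12 hij'.symm
             | exact h13 hij' | exact h13 hij'.symm | exact h23 hij' | exact h23 hij'.symm)
    have h1 := Nat.card_le_card_of_injective g hg
    rw [Nat.card_fin] at h1
    exact h1
  omega

end Cfsg.Agent.Lib.H5.S4415G4
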