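import Mathlib
import Cfsg.Prelude.Def_CaseTheorems
import Cfsg.Prelude.Def_Transfer
import Cfsg.Agent.Lib.H5.CentralTransfer

/-!
# Generic tools for centralizers of involutions (helper5)

* `CI.exists_index_two_of_normal`: a normal subgroup of index `2 ^ k`, `k ≠ 0`, yields a subgroup
  of index two;
* `CI.exists_index_two_of_npc`: a normal 2-complement yields a subgroup of index two;
* `CI.isWreathed_of_equiv`, `CI.isQuasiDihedral_of_equiv`;
* `CI.exists_sylow_center`: move a Sylow subgroup so that a conjugate of a central element is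
  central.
-/

set_option autoImplicit false

namespace Cfsg.Agent.Lib.H5.CI

open Subgroup

theorem exists_index_two_of_normal {G : Type*} [Group G] [Finite G] (K : Subgroup G) [K.Normal]
    (k : ℕ) (hk : k ≠ 0) (hidx : K.index = 2 ^ k) : ∃ H : Subgroup G, H.index = 2 := by
  have : Fact (Nat.Prime 2) := ⟨Nat.prime_two⟩
  have hcard : Nat.card (G ⧸ K) = 2 ^ k := by rw [← Subgroup.index_eq_card, hidx]
  have hdvd : 2 ^ (k - 1) ∣ Nat.card (G ⧸ K) := by
    rw [hcard]; exact pow_dvd_pow 2 (Nat.sub_le k 1)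
  obtain ⟨H', hH'⟩ := Sylow.exists_subgroup_card_pow_prime 2 hdvd
  have h2 : H'.index = 2 := by
    have h1 := H'.card_mul_index
    rw [hH', hcard] at h1
    have e : (2 : ℕ) ^ k = 2 ^ (k - 1) * 2 := by
      rw [← pow_succ]; congr 1; omega
    rw [e] at h1
    exact Nat.eq_of_mul_eq_mul_left (by positivity) h1
  refine ⟨H'.comap (QuotientGroup.mk' K), ?_⟩
  rw [Subgroup.index_comap_of_surjective _ (QuotientGroup.mk'_surjective K), h2]

theorem exists_index_two_of_npc {G : Type*} [Group G] [Finite G] (S : Sylow 2 G) (k : ℕ)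
    (hk : k ≠ 0) (hS : Nat.card S = 2 ^ k) (h : Cfsg.HasNormalPComplement 2 G) :
    ∃ H : Subgroup G, H.index = 2 := by
  have : Fact (Nat.Prime 2) := ⟨Nat.prime_two⟩
  obtain ⟨P, N, hN, hc⟩ := h
  have h1 : N.index = Nat.card (P : Subgroup G) := hc.symm.index_eq_card
  have h2 : Nat.card (P : Subgroup G) = Nat.card (S : Subgroup G) := by
    rw [Sylow.card_eq_multiplicity, Sylow.card_eq_multiplicity]
  exact exists_index_two_of_normal N k hk (by rw [h1, h2]; exact hS)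

theorem isWreathed_of_equiv {A B : Type*} [Group A] [Group B] (e : A ≃* B)
    (h : Cfsg.IsWreathed A) : Cfsg.IsWreathed B := by
  obtain ⟨n, hn, hcard, x, y, z, hx, hxy, hinf, hz, hzx⟩ := h
  refine ⟨n, hn, ?_, e x, e y, e z, ?_, ?_, ?_, ?_, ?_⟩
  · rw [← Nat.card_congr e.toEquiv, hcard]
  · rw [e.orderOf_eq, hx]
  · rw [← map_mul, ← map_mul, hxy]
  · rw [eq_bot_iff]
    intro b hb
    obtain ⟨hb1, hb2⟩ := Subgroup.mem_inf.mp hb
    obtain ⟨i, hi⟩ := mem_zpowers_iff.mp hb1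
    obtain ⟨j, hj⟩ := mem_zpowers_iff.mp hb2
    have h1 : x ^ i ∈ zpowers x ⊓ zpowers y := by
      refine Subgroup.mem_inf.mpr ⟨zpow_mem_zpowers x i, ?_⟩
      have : x ^ i = y ^ j := by
        apply e.injective
        rw [map_zpow, map_zpow, hi, hj]
      rw [this]
      exact zpow_mem_zpowers y j
    rw [hinf, mem_bot] at h1
    rw [mem_bot, ← hi, ← map_zpow, h1, map_one]
  · rw [e.orderOf_eq, hz]
  · rw [← map_inv, ← map_mul, ← map_mul, hzx]

theorem isQuasiDihedral_of_equiv {A B : Type*} [Group A] [Group B] (e : A ≃* B)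
    (h : Cfsg.IsQuasiDihedral A) : Cfsg.IsQuasiDihedral B := by
  obtain ⟨n, hn, hcard, x, y, hx, hy, hyx⟩ := h
  refine ⟨n, hn, ?_, e x, e y, ?_, ?_, ?_⟩
  · rw [← Nat.card_congr e.toEquiv, hcard]
  · rw [e.orderOf_eq, hx]
  · rw [e.orderOf_eq, hy]
  · rw [← map_inv, ← map_mul, ← map_mul, hyx, map_pow]

/-- If `ζ ∈ Z(S)` is conjugate to `x` then `x ∈ Z(S')` for a Sylow subgroup `S' ≅ S`. -/
theorem exists_sylow_center {G : Type*} [Group G] (S : Sylow 2 G) (ζ x : G)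
    (hζ : ζ ∈ (center ↥(S : Subgroup G)).map (S : Subgroup G).subtype) (h : IsConj ζ x) :
    ∃ S' : Sylow 2 G, Nonempty (↥(S : Subgroup G) ≃* ↥(S' : Subgroup G)) ∧
      x ∈ (center ↥(S' : Subgroup G)).map (S' : Subgroup G).subtype := by
  obtain ⟨g, hg⟩ := isConj_iff.mp h
  refine ⟨g • S, ⟨Sylow.equivSMul S g⟩, ?_⟩
  obtain ⟨ζ', hζ', rfl⟩ := hζ
  replace hζ' : ζ' ∈ center ↥(S : Subgroup G) := hζ'
  have hmem : ∀ s : G, s ∈ ((g • S : Sylow 2 G) : Subgroup G) ↔ g⁻¹ * s * g ∈ (S : Subgroup G) := by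
    intro s
    rw [Sylow.smul_def, Sylow.pointwise_smul_def, Subgroup.mem_pointwise_smul_iff_inv_smul_mem,
      MulAut.smul_def, ← map_inv, MulAut.conj_apply, inv_inv]
  have hxS : x ∈ ((g • S : Sylow 2 G) : Subgroup G) := by
    rw [hmem, ← hg]
    have : g⁻¹ * (g * (S : Subgroup G).subtype ζ' * g⁻¹) * g = (ζ' : G) := by
      simp only [Subgroup.coe_subtype]; group
    rw [this]
    exact ζ'.2
  refine ⟨⟨x, hxS⟩, (?_ : _ ∈ center _), rfl⟩
  rw [mem_center_iff]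
  intro s
  apply Subtype.ext
  show (s : G) * x = x * (s : G)
  have hs := (hmem _).mp s.2
  have h1 := mem_center_iff.mp hζ' ⟨_, hs⟩
  have h2 : g⁻¹ * (s : G) * g * (ζ' : G) = (ζ' : G) * (g⁻¹ * (s : G) * g) :=
    congrArg Subtype.val h1
  rw [← hg]
  simp only [Subgroup.coe_subtype]
  calc (s : G) * (g * (ζ' : G) * g⁻¹) = g * (g⁻¹ * (s : G) * g * (ζ' : G)) * g⁻¹ := by group
    _ = g * ((ζ' : G) * (g⁻¹ * (s : G) * g)) * g⁻¹ := by rw [h2]
    _ = g * (ζ' : G) * g⁻¹ * (s : G) := by group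

/-- In a group with a normal 2-complement, a commutator `[g, v]` of 2-power order with `g` of odd
order is trivial. -/
theorem comm_eq_one_of_npc {H : Type*} [Group H] [Finite H] (h : Cfsg.HasNormalPComplement 2 H)
    (g v : H) (hg : Odd (orderOf g)) (hc : ∃ j : ℕ, (g * v * g⁻¹ * v⁻¹) ^ 2 ^ j = 1) :
    g * v * g⁻¹ * v⁻¹ = 1 := by
  have : Fact (Nat.Prime 2) := ⟨Nat.prime_two⟩
  obtain ⟨P, N, hN, hcomp⟩ := h
  have hidx : N.index = Nat.card (P : Subgroup H) := hcomp.symm.index_eq_card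
  have hcard : (P : Subgroup H).index = Nat.card N := hcomp.index_eq_card
  obtain ⟨k, hk⟩ := IsPGroup.iff_card.mp P.2
  have hgN : g ∈ N := by
    have h1 : g ^ N.index ∈ N := Subgroup.pow_index_mem N g
    rw [hidx, hk] at h1
    have hcop : Nat.Coprime (2 ^ k) (orderOf g) :=
      Nat.Coprime.pow_left k (Nat.coprime_two_left.mpr hg)
    exact Cfsg.Agent.Lib.H5.mem_of_pow_mem_of_pow_eq_one hcop h1 (pow_orderOf_eq_one g)
  have hcN : g * v * g⁻¹ * v⁻¹ ∈ N := by
    have h2 : v * g⁻¹ * v⁻¹ ∈ N := hN.conj_mem _ (inv_mem hgN) v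
    have : g * v * g⁻¹ * v⁻¹ = g * (v * g⁻¹ * v⁻¹) := by group
    rw [this]
    exact mul_mem hgN h2
  obtain ⟨j, hj⟩ := hc
  have hodd : ¬ 2 ∣ Nat.card N := by
    rw [← hcard]; exact P.not_dvd_index
  have h3 : orderOf (g * v * g⁻¹ * v⁻¹) ∣ Nat.card N := by
    have := Subgroup.orderOf_dvd_natCard N hcN
    exact this
  have h4 : orderOf (g * v * g⁻¹ * v⁻¹) ∣ 2 ^ j := orderOf_dvd_of_pow_eq_one hj
  have hcop : Nat.Coprime (Nat.card N) (2 ^ j) :=
    Nat.Coprime.pow_right j ((Nat.Prime.coprime_iff_not_dvd Nat.prime_two).mpr hodd).symm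
  have h5 : orderOf (g * v * g⁻¹ * v⁻¹) = 1 := Nat.eq_one_of_dvd_coprimes hcop h3 h4
  exact orderOf_eq_one_iff.mp h5

end Cfsg.Agent.Lib.H5.CI
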