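import Mathlib
import Cfsg.Agent.Lib.H5.WreathedFusion
import Cfsg.Agent.Lib.H5.WreathedClasses

/-!
# The four fusion patterns in groups with a wreathed Sylow 2-subgroup (helper5)
-/

set_option autoImplicit false

namespace Cfsg.Agent.Lib.H5.WS

open Subgroup Cfsg.Agent.Lib.H5 Cfsg.Agent.Lib.H5.SD Cfsg.Agent.Lib.H5.Wr Cfsg.Agent.Lib.H10

variable {G : Type*} [Group G] [Finite G] {S : Sylow 2 G} {n : ℕ} {x y z : ↥(S : Subgroup G)}
  (d : Gens ↥(S : Subgroup G) n x y z)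
include d

omit [Finite G] in
theorem not_isConj_b_zeta_sylow :
    ¬ IsConj (wp n x y (hh n) 0) (wp n x y (hh n) (hh n)) := by
  have hh0 := hh_ne_zero (n := n) d.hn1
  rw [d.isConj_wp_iff]
  rintro (h | h)
  · exact hh0 (d.wp_injective _ _ _ _ h).2
  · exact hh0 (d.wp_injective _ _ _ _ h).1

omit [Finite G] in
theorem not_isConj_wp_z (a b : ZMod (2 ^ n)) : ¬ IsConj (wp n x y a b) z := by
  rw [d.isConj_wp_iff]
  have hz : z = wp n x y 0 0 * z := by rw [Gens.wp_zero, one_mul]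
  rintro (h | h)
  · rw [hz] at h; exact d.wpz_ne_wp _ _ _ _ h
  · rw [hz] at h; exact d.wpz_ne_wp _ _ _ _ h

omit [Finite G] d in
/-- If `S` controls fusion, `G`-conjugate elements of `S` are `S`-conjugate. -/
theorem isConj_sylow_of_control
    (hcf : ∀ a ∈ (S : Subgroup G), ∀ g : G, g⁻¹ * a * g ∈ (S : Subgroup G) →
      ∃ u ∈ (S : Subgroup G), g⁻¹ * a * g = u⁻¹ * a * u)
    (s s' : ↥(S : Subgroup G)) (h : IsConj (s : G) (s' : G)) : IsConj s s' := by
  obtain ⟨c, hc⟩ := isConj_iff.mp h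
  have h1 : (c⁻¹)⁻¹ * (s : G) * c⁻¹ ∈ (S : Subgroup G) := by
    rw [inv_inv, hc]; exact s'.2
  obtain ⟨u, hu, hus⟩ := hcf (s : G) s.2 c⁻¹ h1
  rw [inv_inv, hc] at hus
  refine isConj_iff.mpr ⟨⟨u⁻¹, inv_mem hu⟩, ?_⟩
  apply Subtype.ext
  show u⁻¹ * (s : G) * (u⁻¹)⁻¹ = (s' : G)
  rw [inv_inv, hus]

/-- Both automizers of order two: `S` controls fusion in `G`. -/
theorem control_of_two_two {X : Subgroup ↥(S : Subgroup G)} (hG : Good n x y z X)
    (h₁ : (centralizer ((up d.base : Subgroup G) : Set G)).relIndex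
      (normalizer ((up d.base : Subgroup G) : Set G)) = 2)
    (h₂ : (up X ⊔ centralizer ((up X : Subgroup G) : Set G)).relIndex
      (normalizer ((up X : Subgroup G) : Set G)) = 2) :
    ∀ a ∈ (S : Subgroup G), ∀ g : G, g⁻¹ * a * g ∈ (S : Subgroup G) →
      ∃ u ∈ (S : Subgroup G), g⁻¹ * a * g = u⁻¹ * a * u := by
  intro a ha g hag
  let Good' : Set G → G → Prop := fun A g =>
    ∃ u ∈ (S : Subgroup G), ∀ a ∈ A, g⁻¹ * a * g = u⁻¹ * a * u
  have key := fusion_control d hG Good' ?_ ?_ ?_ ?_ ?_ ?_ ?_ (zpowers a) (zpowers_le.mpr ha) g ?_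
  · obtain ⟨u, hu, h⟩ := key
    exact ⟨u, hu, h a (mem_zpowers a)⟩
  · -- restriction
    rintro A B g ⟨u, hu, h⟩ hBA
    exact ⟨u, hu, fun a ha => h a (hBA ha)⟩
  · -- composition
    rintro A g k ⟨u, hu, h1⟩ ⟨v, hv, h2⟩
    refine ⟨u * v, mul_mem hu hv, fun a ha => ?_⟩
    have h3 := h2 (g⁻¹ * a * g) ⟨a, ha, rfl⟩
    rw [h1 a ha] at h3
    calc (g * k)⁻¹ * a * (g * k) = k⁻¹ * (g⁻¹ * a * g) * k := by group
      _ = k⁻¹ * (u⁻¹ * a * u) * k := by rw [h1 a ha]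
      _ = v⁻¹ * (u⁻¹ * a * u) * v := h3
      _ = (u * v)⁻¹ * a * (u * v) := by group
  · -- inverses
    rintro A g ⟨u, hu, h1⟩
    refine ⟨u⁻¹, inv_mem hu, ?_⟩
    rintro _ ⟨a, ha, rfl⟩
    show g⁻¹⁻¹ * (g⁻¹ * a * g) * g⁻¹ = u⁻¹⁻¹ * (g⁻¹ * a * g) * u⁻¹
    calc g⁻¹⁻¹ * (g⁻¹ * a * g) * g⁻¹ = a := by group
      _ = u⁻¹⁻¹ * (u⁻¹ * a * u) * u⁻¹ := by group
      _ = u⁻¹⁻¹ * (g⁻¹ * a * g) * u⁻¹ := by rw [h1 a ha]
  · -- centralizing elements
    intro T c _ hc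
    refine ⟨1, one_mem _, fun a ha => ?_⟩
    have := mem_centralizer_iff.mp hc a ha
    calc c⁻¹ * a * c = c⁻¹ * (a * c) := by group
      _ = c⁻¹ * (c * a) := by rw [this]
      _ = 1⁻¹ * a * 1 := by group
  · -- elements of `S`
    intro T u _ hu
    exact ⟨u, hu, fun a _ => rfl⟩
  · -- `N_G(U)`
    intro g hg
    obtain ⟨c, hc, s, hs, rfl⟩ := normalizer_base_factor d h₁ g hg
    refine ⟨s, hs, fun a ha => ?_⟩
    have := mem_centralizer_iff.mp hc a ha
    calc (c * s)⁻¹ * a * (c * s) = s⁻¹ * (c⁻¹ * (a * c)) * s := by group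
      _ = s⁻¹ * (c⁻¹ * (c * a)) * s := by rw [this]
      _ = s⁻¹ * a * s := by group
  · -- `N_G(V)`
    intro g hg
    obtain ⟨c, hc, s, hs, rfl⟩ := normalizer_good_factor d hG h₂ g hg
    refine ⟨s, hs.1, fun a ha => ?_⟩
    have := mem_centralizer_iff.mp hc a ha
    calc (c * s)⁻¹ * a * (c * s) = s⁻¹ * (c⁻¹ * (a * c)) * s := by group
      _ = s⁻¹ * (c⁻¹ * (c * a)) * s := by rw [this]
      _ = s⁻¹ * a * s := by group
  · -- the conjugate lies in `S`
    rw [MonoidHom.map_zpowers, zpowers_le]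
    show (MulAut.conj g⁻¹) a ∈ (S : Subgroup G)
    rw [MulAut.conj_apply, inv_inv]
    exact hag

/-- Both automizers of order two: three classes of involutions. -/
theorem card_classes_of_two_two {X : Subgroup ↥(S : Subgroup G)} (hG : Good n x y z X)
    (h₁ : (centralizer ((up d.base : Subgroup G) : Set G)).relIndex
      (normalizer ((up d.base : Subgroup G) : Set G)) = 2)
    (h₂ : (up X ⊔ centralizer ((up X : Subgroup G) : Set G)).relIndex
      (normalizer ((up X : Subgroup G) : Set G)) = 2) :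
    Nat.card {C : ConjClasses G // ∃ t : G, orderOf t = 2 ∧ ConjClasses.mk t = C} = 3 := by
  have hcf := control_of_two_two d hG h₁ h₂
  apply card_classes_eq_three d
  · intro h
    exact not_isConj_b_zeta_sylow d (isConj_sylow_of_control hcf _ _ h)
  · intro h
    exact not_isConj_wp_z d _ _ (isConj_sylow_of_control hcf _ _ h)
  · intro h
    exact not_isConj_wp_z d _ _ (isConj_sylow_of_control hcf _ _ h)

end Cfsg.Agent.Lib.H5.WS
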