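import Mathlib
import Cfsg.Agent.Lib.H5.WreathedOddV
import Cfsg.Agent.Lib.H5.WreathedCases
import Cfsg.Agent.Lib.H6.TwoRes
import Cfsg.Agent.Lib.H16.ThompsonTransfer

/-!
# Wreathed Sylow 2-subgroups: the case `|N(U):C(U)| = 6`, `|N(V):VC(V)| = 2` (helper5)
-/

set_option autoImplicit false

namespace Cfsg.Agent.Lib.H5.AZ

open Subgroup

variable {G : Type*} [Group G]

/-- `O^2(G) G'` lies in every subgroup of index two. -/
theorem Nsub_le_of_index_two (K : Subgroup G) (hK : K.index = 2) :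
    Cfsg.Agent.Lib.H6.TwoRes.Nsub G ≤ K := by
  have hmul := fun a b => Subgroup.mul_mem_iff_of_index_two hK (a := a) (b := b)
  unfold Cfsg.Agent.Lib.H6.TwoRes.Nsub
  apply sup_le
  · unfold Cfsg.pResidual
    rw [closure_le]
    intro g hg
    have hg' : Nat.Coprime (orderOf g) 2 := hg
    have h1 : g ^ 2 ∈ K := Subgroup.sq_mem_of_index_two hK g
    have h2 : g ^ orderOf g ∈ K := by rw [pow_orderOf_eq_one]; exact K.one_mem
    exact Cfsg.Agent.Lib.H6.mem_of_pow_mem_of_coprime hg'.symm h1 h2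
  · rw [commutator_def, Subgroup.commutator_le]
    intro a _ b _
    rw [commutatorElement_def, hmul, hmul, hmul, inv_mem_iff, inv_mem_iff]
    tauto

end Cfsg.Agent.Lib.H5.AZ

namespace Cfsg.Agent.Lib.H5.WS

open Subgroup Cfsg.Agent.Lib.H5 Cfsg.Agent.Lib.H5.SD Cfsg.Agent.Lib.H5.Wr Cfsg.Agent.Lib.H10
open scoped commutatorElement

variable {G : Type*} [Group G] [Finite G] {S : Sylow 2 G} {n : ℕ} {x y z : ↥(S : Subgroup G)}
  (d : Gens ↥(S : Subgroup G) n x y z)
include d

/-- If `|N_G(V) : V C_G(V)| = 2` then `U` is strongly closed in `S` with respect to `G`. -/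
theorem base_strongly_closed {X : Subgroup ↥(S : Subgroup G)} (hG : Good n x y z X)
    (h₂ : (up X ⊔ centralizer ((up X : Subgroup G) : Set G)).relIndex
      (normalizer ((up X : Subgroup G) : Set G)) = 2) :
    ∀ a ∈ (S : Subgroup G), ∀ g : G, g⁻¹ * a * g ∈ (S : Subgroup G) →
      (a ∈ up d.base ↔ g⁻¹ * a * g ∈ up d.base) := by
  intro a ha g hag
  have hSN := le_normalizer_base d
  have hnorm : ∀ u ∈ normalizer ((up d.base : Subgroup G) : Set G), ∀ a : G,
      (a ∈ up d.base ↔ u⁻¹ * a * u ∈ up d.base) := by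
    intro u hu a
    have := mem_normalizer_iff.mp (inv_mem hu) a
    rwa [inv_inv] at this
  let Good' : Set G → G → Prop := fun A g =>
    ∀ a ∈ A, (a ∈ up d.base ↔ g⁻¹ * a * g ∈ up d.base)
  have key := fusion_control d hG Good' ?_ ?_ ?_ ?_ ?_ ?_ ?_ (zpowers a) (zpowers_le.mpr ha) g ?_
  · exact key a (mem_zpowers a)
  · -- restriction
    intro A B g h hBA a ha
    exact h a (hBA ha)
  · -- composition
    intro A g k h1 h2 a ha
    have h3 := h2 (g⁻¹ * a * g) ⟨a, ha, rfl⟩
    have e : (g * k)⁻¹ * a * (g * k) = k⁻¹ * (g⁻¹ * a * g) * k := by group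
    rw [e, ← h3]
    exact h1 a ha
  · -- inverses
    rintro A g h1 _ ⟨a, ha, rfl⟩
    have e : g⁻¹⁻¹ * (g⁻¹ * a * g) * g⁻¹ = a := by group
    rw [e]
    exact (h1 a ha).symm
  · -- centralizing elements
    intro T c _ hc a ha
    have := mem_centralizer_iff.mp hc a ha
    have e : c⁻¹ * a * c = a := by
      calc c⁻¹ * a * c = c⁻¹ * (a * c) := by group
        _ = c⁻¹ * (c * a) := by rw [this]
        _ = a := by group
    rw [e]
  · -- elements of `S`
    intro T u _ hu a _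
    exact hnorm u (hSN hu) a
  · -- `N_G(U)`
    intro g hg a _
    exact hnorm g hg a
  · -- `N_G(V)`
    intro g hg a ha
    obtain ⟨c, hc, s, hs, rfl⟩ := normalizer_good_factor d hG h₂ g hg
    have := mem_centralizer_iff.mp hc a ha
    have e : (c * s)⁻¹ * a * (c * s) = s⁻¹ * a * s := by
      calc (c * s)⁻¹ * a * (c * s) = s⁻¹ * (c⁻¹ * (a * c)) * s := by group
        _ = s⁻¹ * (c⁻¹ * (c * a)) * s := by rw [this]
        _ = s⁻¹ * a * s := by group
    rw [e]
    exact hnorm s (hSN hs.1) a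
  · -- the conjugate lies in `S`
    rw [MonoidHom.map_zpowers, zpowers_le]
    show (MulAut.conj g⁻¹) a ∈ (S : Subgroup G)
    rw [MulAut.conj_apply, inv_inv]
    exact hag

omit [Finite G] in
theorem tG_notMem_base : tG d ∉ up d.base := by
  intro h
  exact d.z_notMem (coe_mem_up_iff.mp h)

/-- Under strong closure of `U`, the involution `t` is not in `O^2(G) G'`. -/
theorem tG_notMem_Nsub
    (hsc : ∀ a ∈ (S : Subgroup G), ∀ g : G, g⁻¹ * a * g ∈ (S : Subgroup G) →
      (a ∈ up d.base ↔ g⁻¹ * a * g ∈ up d.base)) :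
    tG d ∉ Cfsg.Agent.Lib.H6.TwoRes.Nsub G := by
  have hM : (up d.base : Subgroup G).relIndex (S : Subgroup G) = 2 := by
    have h3 := relIndex_up (S := (S : Subgroup G)) d.base ⊤
    have h4 : up (⊤ : Subgroup ↥(S : Subgroup G)) = (S : Subgroup G) := by
      rw [← subgroupOf_self, up_subgroupOf le_rfl]
    rw [h4, relIndex_top_right, d.index_base] at h3
    exact h3
  obtain ⟨K, -, hK2, htK⟩ := Cfsg.Agent.Lib.H16.exists_normal_index_two_not_mem S (up d.base) hM 1
    (by
      intro y _ hyM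
      rw [Nat.sub_self, pow_zero]
      have hy1 : y ≠ 1 := fun h => hyM (h ▸ one_mem _)
      have h1 : orderOf y ≠ 1 := fun h => hy1 (orderOf_eq_one_iff.mp h)
      have h2 : 0 < orderOf y := orderOf_pos y
      omega)
    (tG d) (by rw [orderOf_tG, pow_one])
    (by
      intro g hg
      have h1 : (g⁻¹)⁻¹ * tG d * g⁻¹ ∈ (S : Subgroup G) := by
        rw [inv_inv]; exact up_le _ hg
      have := (hsc (tG d) z.2 g⁻¹ h1).mpr (by rw [inv_inv]; exact hg)
      exact tG_notMem_base d this)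
  intro h
  exact htK (AZ.Nsub_le_of_index_two K hK2 h)

/-- In the case `6, 2`: `S ∩ O^2(G) G' = U`. -/
theorem Nsub_subgroupOf_eq_base {X : Subgroup ↥(S : Subgroup G)} (hG : Good n x y z X)
    (h₁ : (centralizer ((up d.base : Subgroup G) : Set G)).relIndex
      (normalizer ((up d.base : Subgroup G) : Set G)) = 6)
    (h₂ : (up X ⊔ centralizer ((up X : Subgroup G) : Set G)).relIndex
      (normalizer ((up X : Subgroup G) : Set G)) = 2) :
    (Cfsg.Agent.Lib.H6.TwoRes.Nsub G).subgroupOf (S : Subgroup G) = d.base := by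
  obtain ⟨g, hgN, hgodd, hgC⟩ := AZ.exists_odd_notMem_of_three_dvd
    (NC.normalizer_le_normalizer_centralizer (up d.base : Subgroup G)) (by rw [h₁]; norm_num)
  have hle : d.base ≤ (Cfsg.Agent.Lib.H6.TwoRes.Nsub G).subgroupOf (S : Subgroup G) := by
    intro u hu
    rw [mem_subgroupOf]
    obtain ⟨u', -, hu'⟩ := base_odd_surj d g hgN hgodd hgC (u : G) ⟨u, hu, rfl⟩
    apply Cfsg.Agent.Lib.H6.TwoRes.commutator_le_Nsub
    rw [hu']
    have : u'⁻¹ * (g * u' * g⁻¹) = ⁅u'⁻¹, g⁆ := by rw [commutatorElement_def]; group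
    rw [this]
    exact commutator_mem_commutator (mem_top _) (mem_top _)
  have hne : (Cfsg.Agent.Lib.H6.TwoRes.Nsub G).subgroupOf (S : Subgroup G) ≠ ⊤ := by
    intro h
    have : z ∈ (Cfsg.Agent.Lib.H6.TwoRes.Nsub G).subgroupOf (S : Subgroup G) := h ▸ mem_top z
    exact tG_notMem_Nsub d (base_strongly_closed d hG h₂) (mem_subgroupOf.mp this)
  symm
  apply le_antisymm hle
  rw [← relIndex_eq_one]
  have h1 := relIndex_mul_index hle
  rw [d.index_base] at h1
  have h2 : ((Cfsg.Agent.Lib.H6.TwoRes.Nsub G).subgroupOf (S : Subgroup G)).index ≠ 1 := by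
    rwa [Ne, index_eq_one]
  have h3 : ((Cfsg.Agent.Lib.H6.TwoRes.Nsub G).subgroupOf (S : Subgroup G)).index ∣ 2 :=
    Dvd.intro_left _ h1
  have h4 : ((Cfsg.Agent.Lib.H6.TwoRes.Nsub G).subgroupOf (S : Subgroup G)).index = 2 := by
    rcases (Nat.dvd_prime Nat.prime_two).mp h3 with h | h
    · exact absurd h h2
    · exact h
  rw [h4] at h1
  omega

end Cfsg.Agent.Lib.H5.WS
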