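import Mathlib
import Cfsg.Agent.Lib.H5.WreathedCase3
import Cfsg.Agent.Lib.H5.WreathedQuat

/-!
# Wreathed Sylow 2-subgroups: the case `|N(U):C(U)| = 2`, `|N(V):VC(V)| = 6` (helper5)
-/

set_option autoImplicit false

namespace Cfsg.Agent.Lib.H5.WS

open Subgroup Cfsg.Agent.Lib.H5 Cfsg.Agent.Lib.H5.SD Cfsg.Agent.Lib.H5.Wr Cfsg.Agent.Lib.H10
open scoped commutatorElement

variable {G : Type*} [Group G] [Finite G] {S : Sylow 2 G} {n : ℕ} {x y z : ↥(S : Subgroup G)}
  (d : Gens ↥(S : Subgroup G) n x y z)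
include d

omit [Finite G] in
/-- `S` centralizes `Z(S)`. -/
theorem sylow_le_centralizer_center :
    (S : Subgroup G) ≤ centralizer ((up (center ↥(S : Subgroup G)) : Subgroup G) : Set G) := by
  intro s hs
  rw [mem_centralizer_iff]
  rintro _ ⟨c, hc, rfl⟩
  have := mem_center_iff.mp hc ⟨s, hs⟩
  exact (congrArg Subtype.val this).symm

/-- If `|N_G(V) : V C_G(V)| = 6` then `N_G(V)` centralizes `Z(S)`. -/
theorem normalizer_good_le_centralizer_center {X : Subgroup ↥(S : Subgroup G)}
    (hG : Good n x y z X)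
    (h₂ : (up X ⊔ centralizer ((up X : Subgroup G) : Set G)).relIndex
      (normalizer ((up X : Subgroup G) : Set G)) = 6) :
    normalizer ((up X : Subgroup G) : Set G) ≤
      centralizer ((up (center ↥(S : Subgroup G)) : Subgroup G) : Set G) := by
  have : Fact (Nat.Prime 2) := ⟨Nat.prime_two⟩
  set V : Subgroup G := up X with hV
  set N := normalizer (V : Set G) with hN
  set C := centralizer (V : Set G) with hC
  set M := V ⊔ C with hM
  set Zc : Subgroup G := up (center ↥(S : Subgroup G)) with hZc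
  set A₀ := N ⊓ centralizer (Zc : Set G) with hA₀
  have hVN : V ≤ N := le_normalizer
  have hCN : C ≤ N := centralizer_le_normalizer _
  have hMN : M ≤ N := sup_le hVN hCN
  have hNM : N ≤ normalizer (M : Set G) :=
    (le_inf (le_refl _) (NC.normalizer_le_normalizer_centralizer V)).trans
      (NC.normalizer_inf_le_normalizer_sup' V _)
  have hSZ := sylow_le_centralizer_center d
  have hZV : Zc ≤ V := up_mono hG.1
  have hMA : M ≤ A₀ := by
    apply le_inf hMN
    apply sup_le
    · exact (up_le X).trans hSZ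
    · exact centralizer_le (SetLike.coe_subset_coe.mpr hZV)
  have hA₀N : A₀ ≤ N := inf_le_left
  have hprod := relIndex_mul_relIndex M A₀ N hMA hA₀N
  rw [h₂] at hprod
  -- an element of order two in the quotient
  have h2 : 2 ∣ M.relIndex A₀ := by
    have hrel := relIndex_up_good d hG
    rw [relIndex_eq_two_iff_exists_notMem_and'] at hrel
    obtain ⟨w, hwT, hwV, hab⟩ := hrel
    have hww : w * w ∈ V := by
      rcases hab w hwT with h | h
      · exact h
      · exact absurd h hwV
    apply NC.two_dvd_relIndex (hA₀N.trans hNM) (w := w)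
    · exact ⟨hwT.2, hSZ hwT.1⟩
    · intro hwM
      apply hwV
      have : w ∈ M ⊓ ((S : Subgroup G) ⊓ N) := ⟨hwM, hwT⟩
      rwa [hM, hC, hN, hV, good_inf_eq d hG] at this
    · exact le_sup_left (a := V) hww
  -- an element of odd order outside `M`
  obtain ⟨g, hgN, hgodd, hgM⟩ := AZ.exists_odd_notMem_of_three_dvd hNM (by rw [h₂]; norm_num)
  have hgA : g ∈ A₀ := ⟨hgN, mem_centralizer_of_odd_of_isPGroup d _ (isPGroup_mulAut_up_center d) g
    (normalizer_good_le_center d hG hgN) (Nat.coprime_two_right.mpr hgodd)⟩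
  have hne1 : M.relIndex A₀ ≠ 1 := by
    intro h
    exact hgM (relIndex_eq_one.mp h hgA)
  have hne2 : M.relIndex A₀ ≠ 2 := by
    intro h
    apply hgM
    have h3 : (⟨g, hgA⟩ : ↥A₀) ^ 2 ∈ M.subgroupOf A₀ := Subgroup.sq_mem_of_index_two h _
    rw [mem_subgroupOf] at h3
    have h4 : g ^ 2 ∈ M := by simpa using h3
    exact mem_of_pow_mem_of_pow_eq_one (Nat.coprime_two_left.mpr hgodd) h4 (pow_orderOf_eq_one g)
  have hdvd : M.relIndex A₀ ∣ 6 := Dvd.intro _ hprod
  have h6 : M.relIndex A₀ = 6 := by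
    have hle : M.relIndex A₀ ≤ 6 := Nat.le_of_dvd (by norm_num) hdvd
    have hpos : M.relIndex A₀ ≠ 0 := Subgroup.index_ne_zero_of_finite
    interval_cases h : M.relIndex A₀ <;> simp_all
  rw [h6] at hprod
  have h1 : A₀.relIndex N = 1 := by omega
  exact (relIndex_eq_one.mp h1).trans inf_le_right

/-- Case `2, 6`: elements of `Z(S)` are isolated under fusion. -/
theorem center_fusion {X : Subgroup ↥(S : Subgroup G)} (hG : Good n x y z X)
    (h₁ : (centralizer ((up d.base : Subgroup G) : Set G)).relIndex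
      (normalizer ((up d.base : Subgroup G) : Set G)) = 2)
    (h₂ : (up X ⊔ centralizer ((up X : Subgroup G) : Set G)).relIndex
      (normalizer ((up X : Subgroup G) : Set G)) = 6) :
    ∀ a ∈ (S : Subgroup G), ∀ g : G, g⁻¹ * a * g ∈ (S : Subgroup G) →
      (a ∈ up (center ↥(S : Subgroup G)) ∨ g⁻¹ * a * g ∈ up (center ↥(S : Subgroup G))) →
      g⁻¹ * a * g = a := by
  intro a ha g hag
  set Zc : Subgroup G := up (center ↥(S : Subgroup G)) with hZc
  have hSZ := sylow_le_centralizer_center d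
  -- conjugation by an element of `S`
  have hS1 : ∀ u ∈ (S : Subgroup G), ∀ a : G, (a ∈ Zc ∨ u⁻¹ * a * u ∈ Zc) → u⁻¹ * a * u = a := by
    intro u hu a h
    rcases h with h | h
    · have := mem_centralizer_iff.mp (hSZ hu) a h
      calc u⁻¹ * a * u = u⁻¹ * (a * u) := by group
        _ = u⁻¹ * (u * a) := by rw [this]
        _ = a := by group
    · have := mem_centralizer_iff.mp (hSZ hu) _ h
      have e : a = u * (u⁻¹ * a * u) * u⁻¹ := by group
      calc u⁻¹ * a * u = (u⁻¹ * a * u * u) * u⁻¹ := by group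
        _ = (u * (u⁻¹ * a * u)) * u⁻¹ := by rw [this]
        _ = a := by group
  let Good' : Set G → G → Prop := fun A g =>
    ∀ a ∈ A, (a ∈ Zc ∨ g⁻¹ * a * g ∈ Zc) → g⁻¹ * a * g = a
  have key := fusion_control d hG Good' ?_ ?_ ?_ ?_ ?_ ?_ ?_ (zpowers a) (zpowers_le.mpr ha) g ?_
  · exact key a (mem_zpowers a)
  · -- restriction
    intro A B g h hBA a ha
    exact h a (hBA ha)
  · -- composition
    intro A g k h1 h2 a ha hz
    have e : (g * k)⁻¹ * a * (g * k) = k⁻¹ * (g⁻¹ * a * g) * k := by group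
    rw [e] at hz ⊢
    rcases hz with hz | hz
    · have h3 := h1 a ha (Or.inl hz)
      rw [h3]
      have h4 := h2 (g⁻¹ * a * g) ⟨a, ha, rfl⟩ (Or.inl (by rw [h3]; exact hz))
      rw [h3] at h4
      exact h4
    · have h4 := h2 (g⁻¹ * a * g) ⟨a, ha, rfl⟩ (Or.inr hz)
      rw [h4] at hz ⊢
      exact h1 a ha (Or.inr hz)
  · -- inverses
    rintro A g h1 _ ⟨a, ha, rfl⟩ hz
    have e : g⁻¹⁻¹ * (g⁻¹ * a * g) * g⁻¹ = a := by group
    rw [e] at hz ⊢
    exact (h1 a ha hz.symm).symm
  · -- centralizing elements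
    intro T c _ hc a ha _
    have := mem_centralizer_iff.mp hc a ha
    calc c⁻¹ * a * c = c⁻¹ * (a * c) := by group
      _ = c⁻¹ * (c * a) := by rw [this]
      _ = a := by group
  · -- elements of `S`
    intro T u _ hu a _
    exact hS1 u hu a
  · -- `N_G(U)`
    intro g hg a ha hz
    obtain ⟨c, hc, s, hs, rfl⟩ := normalizer_base_factor d h₁ g hg
    have := mem_centralizer_iff.mp hc a ha
    have e : (c * s)⁻¹ * a * (c * s) = s⁻¹ * a * s := by
      calc (c * s)⁻¹ * a * (c * s) = s⁻¹ * (c⁻¹ * (a * c)) * s := by group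
        _ = s⁻¹ * (c⁻¹ * (c * a)) * s := by rw [this]
        _ = s⁻¹ * a * s := by group
    rw [e] at hz ⊢
    exact hS1 s hs a hz
  · -- `N_G(V)`
    intro g hg a _ hz
    have hgZ := normalizer_good_le_centralizer_center d hG h₂ hg
    have hgZn := normalizer_good_le_center d hG hg
    have haZ : a ∈ Zc := by
      rcases hz with hz | hz
      · exact hz
      · have := (mem_normalizer_iff.mp hgZn _).mp hz
        have e : g * (g⁻¹ * a * g) * g⁻¹ = a := by group
        rwa [e] at this
    have := mem_centralizer_iff.mp hgZ a haZ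
    calc g⁻¹ * a * g = g⁻¹ * (a * g) := by group
      _ = g⁻¹ * (g * a) := by rw [this]
      _ = a := by group
  · -- the conjugate lies in `S`
    rw [MonoidHom.map_zpowers, zpowers_le]
    show (MulAut.conj g⁻¹) a ∈ (S : Subgroup G)
    rw [MulAut.conj_apply, inv_inv]
    exact hag

end Cfsg.Agent.Lib.H5.WS
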