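import Mathlib
import Cfsg.Agent.Lib.H5.WreathedCase2

/-!
# Wreathed Sylow 2-subgroups, case `2, 6`: the focal subgroup and `O^2(G) G'` (helper5)
-/

set_option autoImplicit false

namespace Cfsg.Agent.Lib.H5.WS

open Subgroup Cfsg.Agent.Lib.H5 Cfsg.Agent.Lib.H5.SD Cfsg.Agent.Lib.H5.Wr Cfsg.Agent.Lib.H10
open scoped commutatorElement

variable {G : Type*} [Group G] [Finite G] {S : Sylow 2 G} {n : ℕ} {x y z : ↥(S : Subgroup G)}
  (d : Gens ↥(S : Subgroup G) n x y z)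
include d

/-- Every quaternion subgroup of order 8 lies in the generalized quaternion subgroup. -/
theorem quat_le_quatSub (Q' : Subgroup ↥(S : Subgroup G))
    (hQ' : Nonempty (Q' ≃* QuaternionGroup 2)) : Q' ≤ d.quatSub := by
  obtain ⟨α, β, hαβ, rfl⟩ := d.q8_eq_q8Sub Q' hQ'
  rintro _ (⟨c, -, rfl⟩ | ⟨c, -, rfl⟩)
  · exact (d.wp_mem_quatSub _ _).mpr rfl
  · rw [d.wpz_mem_quatSub]
    linear_combination hαβ

omit [Finite G] in
/-- Commutators of elements of `S` lie in the generalized quaternion subgroup. -/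
theorem comm_mem_quatSub (a u : G) (ha : a ∈ (S : Subgroup G)) (hu : u ∈ (S : Subgroup G)) :
    a⁻¹ * (u⁻¹ * a * u) ∈ up d.quatSub := by
  have h1 := d.commutator_le_quatSub
    (d.commutator_mem (⟨a, ha⟩ : ↥(S : Subgroup G))⁻¹ (⟨u, hu⟩ : ↥(S : Subgroup G))⁻¹)
  have h2 := coe_mem_up_iff.mpr h1
  have e : ((⁅(⟨a, ha⟩ : ↥(S : Subgroup G))⁻¹, (⟨u, hu⟩ : ↥(S : Subgroup G))⁻¹⁆ :
      ↥(S : Subgroup G)) : G) = a⁻¹ * (u⁻¹ * a * u) := by
    rw [commutatorElement_def]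
    simp only [Subgroup.coe_mul, Subgroup.coe_inv, inv_inv]
    group
  rwa [e] at h2

/-- Case `2, 6`: the focal subgroup of `S` lies in the generalized quaternion subgroup. -/
theorem focal_mem_quatSub {X : Subgroup ↥(S : Subgroup G)} (hG : Good n x y z X)
    (h₁ : (centralizer ((up d.base : Subgroup G) : Set G)).relIndex
      (normalizer ((up d.base : Subgroup G) : Set G)) = 2)
    (h₂ : (up X ⊔ centralizer ((up X : Subgroup G) : Set G)).relIndex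
      (normalizer ((up X : Subgroup G) : Set G)) = 6) :
    ∀ a ∈ (S : Subgroup G), ∀ g : G, g⁻¹ * a * g ∈ (S : Subgroup G) →
      a⁻¹ * (g⁻¹ * a * g) ∈ up d.quatSub := by
  intro a ha g hag
  have hSZ := sylow_le_centralizer_center d
  let Good' : Set G → G → Prop := fun A g => ∀ a ∈ A, a⁻¹ * (g⁻¹ * a * g) ∈ up d.quatSub
  have key := fusion_control d hG Good' ?_ ?_ ?_ ?_ ?_ ?_ ?_ (zpowers a) (zpowers_le.mpr ha) g ?_
  · exact key a (mem_zpowers a)
  · -- restriction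
    intro A B g h hBA a ha
    exact h a (hBA ha)
  · -- composition
    intro A g k h1 h2 a ha
    have h3 := h2 (g⁻¹ * a * g) ⟨a, ha, rfl⟩
    have e : a⁻¹ * ((g * k)⁻¹ * a * (g * k)) =
        (a⁻¹ * (g⁻¹ * a * g)) * ((g⁻¹ * a * g)⁻¹ * (k⁻¹ * (g⁻¹ * a * g) * k)) := by group
    rw [e]
    exact mul_mem (h1 a ha) h3
  · -- inverses
    rintro A g h1 _ ⟨a, ha, rfl⟩
    have e : (g⁻¹ * a * g)⁻¹ * (g⁻¹⁻¹ * (g⁻¹ * a * g) * g⁻¹) = (a⁻¹ * (g⁻¹ * a * g))⁻¹ := by group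
    rw [e]
    exact inv_mem (h1 a ha)
  · -- centralizing elements
    intro T c _ hc a ha
    have := mem_centralizer_iff.mp hc a ha
    have e : a⁻¹ * (c⁻¹ * a * c) = 1 := by
      calc a⁻¹ * (c⁻¹ * a * c) = a⁻¹ * (c⁻¹ * (a * c)) := by group
        _ = a⁻¹ * (c⁻¹ * (c * a)) := by rw [this]
        _ = 1 := by group
    rw [e]
    exact one_mem _
  · -- elements of `S`
    intro T u hT hu a ha
    exact comm_mem_quatSub d a u (hT ha) hu
  · -- `N_G(U)`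
    intro g hg a ha
    obtain ⟨c, hc, s, hs, rfl⟩ := normalizer_base_factor d h₁ g hg
    have := mem_centralizer_iff.mp hc a ha
    have e : (c * s)⁻¹ * a * (c * s) = s⁻¹ * a * s := by
      calc (c * s)⁻¹ * a * (c * s) = s⁻¹ * (c⁻¹ * (a * c)) * s := by group
        _ = s⁻¹ * (c⁻¹ * (c * a)) * s := by rw [this]
        _ = s⁻¹ * a * s := by group
    rw [e]
    exact comm_mem_quatSub d a s (up_le _ ha) hs
  · -- `N_G(V)`
    intro g hg a ha
    obtain ⟨Q', hQ', hX⟩ := d.good_eq_sup hG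
    have hgZ := normalizer_good_le_centralizer_center d hG h₂ hg
    have hgQ := normalizer_good_le_quat d hG Q' hQ' (hX ▸ le_sup_left) hg
    obtain ⟨a', ha', rfl⟩ := ha
    replace ha' : a' ∈ X := ha'
    rw [hX, ← SetLike.mem_coe, mul_normal, Set.mem_mul] at ha'
    obtain ⟨q, hq, ζ', hζ', rfl⟩ := ha'
    have hqG : (q : G) ∈ up Q' := coe_mem_up_iff.mpr hq
    have hζG : (ζ' : G) ∈ up (center ↥(S : Subgroup G)) := coe_mem_up_iff.mpr hζ'
    have h1 := mem_centralizer_iff.mp hgZ _ hζG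
    have hconj : g⁻¹ * (q : G) * g ∈ up Q' := by
      have := (mem_normalizer_iff.mp (inv_mem hgQ) _).mp hqG
      rwa [inv_inv] at this
    have he : (q : G)⁻¹ * (g⁻¹ * (q : G) * g) ∈ up Q' := mul_mem (inv_mem hqG) hconj
    have h2 := mem_centralizer_iff.mp (hSZ (up_le _ he)) _ hζG
    have e : ((S : Subgroup G).subtype (q * ζ'))⁻¹ *
        (g⁻¹ * (S : Subgroup G).subtype (q * ζ') * g) = (q : G)⁻¹ * (g⁻¹ * (q : G) * g) := by
      show ((q : G) * (ζ' : G))⁻¹ * (g⁻¹ * ((q : G) * (ζ' : G)) * g) = _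
      calc ((q : G) * (ζ' : G))⁻¹ * (g⁻¹ * ((q : G) * (ζ' : G)) * g)
          = (ζ' : G)⁻¹ * ((q : G)⁻¹ * (g⁻¹ * (q : G) * g)) * (g⁻¹ * ((ζ' : G) * g)) := by group
        _ = (ζ' : G)⁻¹ * ((q : G)⁻¹ * (g⁻¹ * (q : G) * g)) * (g⁻¹ * (g * (ζ' : G))) := by rw [h1]
        _ = (ζ' : G)⁻¹ * (((q : G)⁻¹ * (g⁻¹ * (q : G) * g)) * (ζ' : G)) := by group
        _ = (ζ' : G)⁻¹ * ((ζ' : G) * ((q : G)⁻¹ * (g⁻¹ * (q : G) * g))) := by rw [← h2]
        _ = (q : G)⁻¹ * (g⁻¹ * (q : G) * g) := by group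
    rw [e]
    exact up_mono (quat_le_quatSub d Q' hQ') he
  · -- the conjugate lies in `S`
    rw [MonoidHom.map_zpowers, zpowers_le]
    show (MulAut.conj g⁻¹) a ∈ (S : Subgroup G)
    rw [MulAut.conj_apply, inv_inv]
    exact hag

end Cfsg.Agent.Lib.H5.WS
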