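import Mathlib
import Cfsg.Agent.Lib.H5.WreathedCase2b

/-!
# Wreathed Sylow 2-subgroups, case `2, 6`: `S ∩ O^2(G) G'` is generalized quaternion (helper5)
-/

set_option autoImplicit false

namespace Cfsg.Agent.Lib.H5.WS

open Subgroup Cfsg.Agent.Lib.H5 Cfsg.Agent.Lib.H5.SD Cfsg.Agent.Lib.H5.Wr Cfsg.Agent.Lib.H10
open Cfsg.Agent.Lib.H6
open scoped commutatorElement

variable {G : Type*} [Group G] [Finite G] {S : Sylow 2 G} {n : ℕ} {x y z : ↥(S : Subgroup G)}
  (d : Gens ↥(S : Subgroup G) n x y z)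
include d

omit [Finite G] in
/-- A normal subgroup `D` of `G` containing one element of `quatSub` outside `U` contains
`quatSub`. -/
theorem quatSub_le_of_normal (D : Subgroup G) [hD : D.Normal] (a b : ZMod (2 ^ n))
    (hab : a + b = hh n) (he : ((wp n x y a b * z : ↥(S : Subgroup G)) : G) ∈ D) :
    up d.quatSub ≤ D := by
  have hanti : ∀ c : ZMod (2 ^ n), ((wp n x y c (-c) : ↥(S : Subgroup G)) : G) ∈ D := by
    intro c
    have h1 : ((wp n x y c 0 : ↥(S : Subgroup G)) : G) *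
        ((wp n x y a b * z : ↥(S : Subgroup G)) : G) *
        ((wp n x y c 0 : ↥(S : Subgroup G)) : G)⁻¹ ∈ D := hD.conj_mem _ he _
    have h2 := mul_mem h1 (inv_mem he)
    have e : wp n x y c 0 * (wp n x y a b * z) * (wp n x y c 0)⁻¹ * (wp n x y a b * z)⁻¹ =
        wp n x y c (-c) := by
      rw [d.wp_conj_wpz, d.wpz_inv, d.wpz_mul_wpz]
      congr 1 <;> ring
    have e' := congrArg Subtype.val e
    simp only [Subgroup.coe_mul, Subgroup.coe_inv] at e' h2
    rw [← e']
    exact h2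
  rintro _ ⟨k, hk, rfl⟩
  replace hk : k ∈ d.quatSub := hk
  rcases d.cases k with ⟨c, e, rfl⟩ | ⟨c, e, rfl⟩
  · rw [d.wp_mem_quatSub] at hk
    subst hk
    exact hanti c
  · rw [d.wpz_mem_quatSub] at hk
    have e1 : wp n x y c e * z = wp n x y (c - a) (-(c - a)) * (wp n x y a b * z) := by
      rw [d.wp_mul_wpz]
      congr 2
      · ring
      · linear_combination hk - hab
    have e1' := congrArg Subtype.val e1
    simp only [Subgroup.coe_mul] at e1'
    show ((wp n x y c e * z : ↥(S : Subgroup G)) : G) ∈ D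
    simp only [Subgroup.coe_mul]
    rw [e1']
    exact mul_mem (hanti _) (by simpa only [Subgroup.coe_mul] using he)

/-- An odd-order element of `N_G(V)` outside `V C_G(V)` produces a commutator in
`quatSub \ U`. -/
theorem exists_comm_quat {X : Subgroup ↥(S : Subgroup G)} (hG : Good n x y z X) (g : G)
    (hg : g ∈ normalizer ((up X : Subgroup G) : Set G)) (hodd : Odd (orderOf g))
    (hgM : g ∉ up X ⊔ centralizer ((up X : Subgroup G) : Set G)) :
    ∃ (r : G) (a b : ZMod (2 ^ n)), r ∈ up d.quatSub ∧ a + b = hh n ∧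
      ⁅r⁻¹, g⁆ = ((wp n x y a b * z : ↥(S : Subgroup G)) : G) := by
  obtain ⟨Q', hQ', hX⟩ := d.good_eq_sup hG
  obtain ⟨r, hr, hrg⟩ := exists_quat_moved d hG Q' hQ' hX g hg hodd hgM
  have hgQ := normalizer_good_le_quat d hG Q' hQ' (hX ▸ le_sup_left) hg
  have hconj : g * r * g⁻¹ ∈ up Q' := (mem_normalizer_iff.mp hgQ r).mp hr.1
  have he : r⁻¹ * (g * r * g⁻¹) ∈ up Q' := mul_mem (inv_mem hr.1) hconj
  have heb : r⁻¹ * (g * r * g⁻¹) ∉ up d.base := by
    intro h
    apply hrg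
    have : g * r * g⁻¹ = r * (r⁻¹ * (g * r * g⁻¹)) := by group
    rw [this]
    exact mul_mem hr.2 h
  obtain ⟨e', he'Q, he'⟩ := he
  have he'q := quat_le_quatSub d Q' hQ' he'Q
  rcases d.cases e' with ⟨a, b, rfl⟩ | ⟨a, b, rfl⟩
  · exfalso
    apply heb
    rw [← he']
    exact ⟨_, d.wp_mem_base a b, rfl⟩
  · refine ⟨r, a, b, up_mono (quat_le_quatSub d Q' hQ') hr.1, (d.wpz_mem_quatSub _ _).mp he'q, ?_⟩
    rw [commutatorElement_def, inv_inv]
    have : r⁻¹ * g * r * g⁻¹ = r⁻¹ * (g * r * g⁻¹) := by group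
    rw [this, ← he']
    rfl

/-- Case `2, 6`: `S ∩ O^2(G) G'` is the generalized quaternion subgroup. -/
theorem Nsub_subgroupOf_eq_quatSub {X : Subgroup ↥(S : Subgroup G)} (hG : Good n x y z X)
    (h₁ : (centralizer ((up d.base : Subgroup G) : Set G)).relIndex
      (normalizer ((up d.base : Subgroup G) : Set G)) = 2)
    (h₂ : (up X ⊔ centralizer ((up X : Subgroup G) : Set G)).relIndex
      (normalizer ((up X : Subgroup G) : Set G)) = 6) :
    (TwoRes.Nsub G).subgroupOf (S : Subgroup G) = d.quatSub := by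
  have : Fact (Nat.Prime 2) := ⟨Nat.prime_two⟩
  apply le_antisymm
  · intro s hs
    rw [mem_subgroupOf] at hs
    obtain ⟨k, hk⟩ := (IsPGroup.iff_orderOf.mp S.2) s
    have hk' : (s : G) ^ 2 ^ k = 1 := by
      rw [← Subgroup.orderOf_coe] at hk
      rw [← hk, pow_orderOf_eq_one]
    have hc : (s : G) ∈ commutator G :=
      mem_commutator_of_mem_pResidual_sup 2 (s : G) k hk' hs
    have hf : (s : G) ∈ (S : Subgroup G).focalSubgroup := by
      rw [← Subgroup.commutator_inf_eq_focalSubgroup S]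
      exact ⟨hc, s.2⟩
    have hle : (S : Subgroup G).focalSubgroup ≤ up d.quatSub := by
      rw [focalSubgroup_def, closure_le]
      rintro _ ⟨hgS, v, hv, u, rfl⟩
      have h3 : (u⁻¹)⁻¹ * v⁻¹ * u⁻¹ ∈ (S : Subgroup G) := by
        have : (u⁻¹)⁻¹ * v⁻¹ * u⁻¹ = v⁻¹ * ⁅v, u⁆ := by rw [commutatorElement_def]; group
        rw [this]
        exact mul_mem (inv_mem hv) hgS
      have h4 := focal_mem_quatSub d hG h₁ h₂ v⁻¹ (inv_mem hv) u⁻¹ h3
      have : (v⁻¹)⁻¹ * ((u⁻¹)⁻¹ * v⁻¹ * u⁻¹) = ⁅v, u⁆ := by rw [commutatorElement_def]; group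
      rw [SetLike.mem_coe, ← this]
      exact h4
    exact coe_mem_up_iff.mp (hle hf)
  · have hNM : normalizer ((up X : Subgroup G) : Set G) ≤
        normalizer ((up X ⊔ centralizer ((up X : Subgroup G) : Set G) : Subgroup G) : Set G) :=
      (le_inf (le_refl _) (NC.normalizer_le_normalizer_centralizer (up X))).trans
        (NC.normalizer_inf_le_normalizer_sup' (up X) _)
    obtain ⟨g, hgN, hgodd, hgM⟩ := AZ.exists_odd_notMem_of_three_dvd hNM (by rw [h₂]; norm_num)
    obtain ⟨r, a, b, -, hab, he⟩ := exists_comm_quat d hG g hgN hgodd hgM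
    have heN : ((wp n x y a b * z : ↥(S : Subgroup G)) : G) ∈ TwoRes.Nsub G := by
      rw [← he]
      apply TwoRes.commutator_le_Nsub
      exact commutator_mem_commutator (mem_top _) (mem_top _)
    intro k hk
    rw [mem_subgroupOf]
    exact quatSub_le_of_normal d (TwoRes.Nsub G) a b hab heN (coe_mem_up_iff.mpr hk)

/-- Auxiliary form of `no_index_two_Nsub` with `K` abstracted. -/
theorem no_index_two_aux {X : Subgroup ↥(S : Subgroup G)} (hG : Good n x y z X)
    (h₂ : (up X ⊔ centralizer ((up X : Subgroup G) : Set G)).relIndex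
      (normalizer ((up X : Subgroup G) : Set G)) = 6)
    (K : Subgroup G) [hKn : K.Normal] (hKS : K.subgroupOf (S : Subgroup G) = d.quatSub)
    (hres : ∀ g : G, Odd (orderOf g) → g ∈ K)
    (H : Subgroup ↥K) : H.index ≠ 2 := by
  have : Fact (Nat.Prime 2) := ⟨Nat.prime_two⟩
  intro hH
  have hmul := fun a b => Subgroup.mul_mem_iff_of_index_two hH (a := a) (b := b)
  -- `[K, K] ≤ H`
  have hD : ⁅K, K⁆ ≤ H.map K.subtype := by
    rw [Subgroup.commutator_le]
    intro a ha b hb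
    refine ⟨(⟨a, ha⟩ : ↥K) * ⟨b, hb⟩ * (⟨a, ha⟩ : ↥K)⁻¹ * (⟨b, hb⟩ : ↥K)⁻¹, ?_, rfl⟩
    show (⟨a, ha⟩ : ↥K) * ⟨b, hb⟩ * (⟨a, ha⟩ : ↥K)⁻¹ * (⟨b, hb⟩ : ↥K)⁻¹ ∈ H
    rw [hmul, hmul, hmul, inv_mem_iff, inv_mem_iff]
    tauto
  -- a commutator in `quatSub \ U`
  have hNM : normalizer ((up X : Subgroup G) : Set G) ≤
      normalizer ((up X ⊔ centralizer ((up X : Subgroup G) : Set G) : Subgroup G) : Set G) :=
    (le_inf (le_refl _) (NC.normalizer_le_normalizer_centralizer (up X))).trans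
      (NC.normalizer_inf_le_normalizer_sup' (up X) _)
  obtain ⟨g, hgN, hgodd, hgM⟩ := AZ.exists_odd_notMem_of_three_dvd hNM (by rw [h₂]; norm_num)
  obtain ⟨r, a, b, hr, hab, he⟩ := exists_comm_quat d hG g hgN hgodd hgM
  have hqK : up d.quatSub ≤ K := by
    rw [← hKS]
    rintro _ ⟨k, hk, rfl⟩
    exact mem_subgroupOf.mp hk
  have hgK : g ∈ K := hres g hgodd
  have heD : ((wp n x y a b * z : ↥(S : Subgroup G)) : G) ∈ ⁅K, K⁆ := by
    rw [← he]
    exact commutator_mem_commutator (inv_mem (hqK hr)) hgK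
  have : (⁅K, K⁆ : Subgroup G).Normal := Subgroup.commutator_normal K K
  have hqD : up d.quatSub ≤ ⁅K, K⁆ := quatSub_le_of_normal d ⁅K, K⁆ a b hab heD
  -- Sylow contradiction
  have hT : (S : Subgroup G) ⊓ K = up d.quatSub := by
    rw [← hKS, inf_comm, ← subgroupOf_map_subtype]
  have hodd : ¬ 2 ∣ ((S : Subgroup G) ⊓ K).relIndex K := by
    apply AC.not_dvd_relIndex_inf_of_normal S.2 (le_top : (S : Subgroup G) ≤ ⊤) _ le_top
    · intro g _
      exact (normalizer_eq_top_iff.mpr hKn) ▸ mem_top g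
    · rw [relIndex_top_right]
      exact S.not_dvd_index
  have hLK : H.map K.subtype ≤ K := Subgroup.map_subtype_le H
  have hrel : (H.map K.subtype).relIndex K = 2 := by
    have : (H.map K.subtype).subgroupOf K = H :=
      Subgroup.comap_map_eq_self_of_injective (Subgroup.subtype_injective _) H
    rw [Subgroup.relIndex, this, hH]
  apply hodd
  rw [hT, ← relIndex_mul_relIndex _ _ _ (hqD.trans hD) hLK, hrel]
  exact Dvd.intro_left _ rfl

/-- Case `2, 6`: `O^2(G) G'` has no subgroup of index two. -/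
theorem no_index_two_Nsub {X : Subgroup ↥(S : Subgroup G)} (hG : Good n x y z X)
    (h₁ : (centralizer ((up d.base : Subgroup G) : Set G)).relIndex
      (normalizer ((up d.base : Subgroup G) : Set G)) = 2)
    (h₂ : (up X ⊔ centralizer ((up X : Subgroup G) : Set G)).relIndex
      (normalizer ((up X : Subgroup G) : Set G)) = 6)
    (H : Subgroup ↥(TwoRes.Nsub G)) : H.index ≠ 2 := by
  have : (TwoRes.Nsub G).Normal := TwoRes.Nsub_normal
  refine no_index_two_aux d hG h₂ (TwoRes.Nsub G) (Nsub_subgroupOf_eq_quatSub d hG h₁ h₂) ?_ H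
  intro g hgodd
  apply TwoRes.pResidual_le_Nsub
  apply Subgroup.subset_closure
  exact Nat.coprime_two_right.mpr hgodd

end Cfsg.Agent.Lib.H5.WS
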