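import Mathlib
import Cfsg.Agent.Lib.H25.ZasH5

/-!
# Zassenhaus, H-level, block D1 (helper5): general helper lemmas

Product formula, odd-order subgroups of a group whose odd-order subgroups are fixed-point-free,
and the action of elements of order three on a four-group.
-/

set_option autoImplicit false
set_option linter.style.haveILetI false

namespace Cfsg.Agent.Lib.H5.ZasD1

open Subgroup Cfsg.Agent.Lib.H25.Zas

variable {H : Type*} [Group H]

theorem card_mul_relIndex_of_le {P K : Subgroup H} (h : P ≤ K) :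
    Nat.card P * P.relIndex K = Nat.card K := by
  have := Subgroup.relIndex_mul_relIndex ⊥ P K bot_le h
  rwa [Subgroup.relIndex_bot_left, Subgroup.relIndex_bot_left] at this

/-- the product formula for `A ⊔ N` when `A` normalizes `N`. -/
theorem card_sup_mul_card_inf_of_le_normalizer {A N : Subgroup H}
    (h : A ≤ normalizer (N : Set H)) :
    Nat.card (A ⊔ N : Subgroup H) * Nat.card (A ⊓ N : Subgroup H) = Nat.card A * Nat.card N := by
  have := Subgroup.normal_subgroupOf_of_le_normalizer h
  have := Subgroup.normal_subgroupOf_sup_of_le_normalizer h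
  have h0 : N.relIndex (A ⊔ N) = N.relIndex A := by
    unfold Subgroup.relIndex Subgroup.index
    exact (Nat.card_congr (QuotientGroup.quotientInfEquivProdNormalizerQuotient A N h).toEquiv).symm
  have h1 : Nat.card N * N.relIndex (A ⊔ N) = Nat.card (A ⊔ N : Subgroup H) :=
    card_mul_relIndex_of_le le_sup_right
  have h2 : Nat.card (A ⊓ N : Subgroup H) * (A ⊓ N).relIndex A = Nat.card A :=
    card_mul_relIndex_of_le inf_le_left
  have h3 : (A ⊓ N).relIndex A = N.relIndex A := by
    rw [inf_comm]; exact Subgroup.inf_relIndex_right N A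
  rw [← h1, ← h2, h0, h3]
  ring

theorem card_sup_dvd_of_le_normalizer {A N : Subgroup H} (h : A ≤ normalizer (N : Set H)) :
    Nat.card (A ⊔ N : Subgroup H) ∣ Nat.card A * Nat.card N :=
  Dvd.intro _ (card_sup_mul_card_inf_of_le_normalizer h)

/-- elements of `A ⊔ N` are products when `A` normalizes `N`. -/
theorem exists_mul_of_mem_sup {A N : Subgroup H} (h : A ≤ normalizer (N : Set H)) {x : H}
    (hx : x ∈ A ⊔ N) : ∃ a ∈ A, ∃ n ∈ N, x = a * n := by
  have h1 : x ∈ ((A ⊔ N : Subgroup H) : Set H) := hx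
  rw [Subgroup.coe_mul_of_left_le_normalizer_right A N h] at h1
  obtain ⟨a, ha, n, hn, rfl⟩ := Set.mem_mul.mp h1
  exact ⟨a, ha, n, hn, rfl⟩

variable [Finite H]

/-- `zpowers x` normalizes `N` as soon as `x` conjugates `N` into itself. -/
theorem zpowers_le_normalizer {N : Subgroup H} {x : H} (hx : ∀ n ∈ N, x * n * x⁻¹ ∈ N) :
    zpowers x ≤ normalizer (N : Set H) := by
  rw [zpowers_le]
  exact Subgroup.mem_normalizer_fintype hx

/-- a subgroup normalizes `N` as soon as it conjugates `N` into itself -/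
theorem le_normalizer_of_conj_mem {A N : Subgroup H} (hx : ∀ a ∈ A, ∀ n ∈ N, a * n * a⁻¹ ∈ N) :
    A ≤ normalizer (N : Set H) := fun a ha => Subgroup.mem_normalizer_fintype (hx a ha)

/-- in a subgroup of odd order, two elements of the same prime order generate the same subgroup -/
theorem zpowers_eq_of_mem_odd (hH : OddFPF H) (R : Subgroup H) (hR : Odd (Nat.card R)) {p : ℕ}
    (hp : p.Prime) {x y : H} (hx : x ∈ R) (hy : y ∈ R) (ox : orderOf x = p)
    (oy : orderOf y = p) : zpowers x = zpowers y := by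
  have hfpf := hH R hR
  have h := hfpf.zpowers_eq_of_orderOf_eq hR hp (x := ⟨x, hx⟩) (y := ⟨y, hy⟩)
    (by rw [← ox, Subgroup.orderOf_mk]) (by rw [← oy, Subgroup.orderOf_mk])
  have h4 := congrArg (Subgroup.map R.subtype) h
  rw [MonoidHom.map_zpowers, MonoidHom.map_zpowers] at h4
  exact h4

/-- `⟨x⟩ Z` has odd order when `x` has odd order and normalizes the odd-order subgroup `Z` -/
theorem odd_card_zpowers_sup (Z : Subgroup H) (hZodd : Odd (Nat.card Z)) {x : H}
    (ox : Odd (orderOf x)) (hx : ∀ z ∈ Z, x * z * x⁻¹ ∈ Z) :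
    Odd (Nat.card (zpowers x ⊔ Z : Subgroup H)) := by
  have hn : zpowers x ≤ normalizer (Z : Set H) := zpowers_le_normalizer hx
  have h1 := card_sup_dvd_of_le_normalizer hn
  rw [Nat.card_zpowers] at h1
  exact Odd.of_dvd_nat (ox.mul hZodd) h1

/-- an element of odd prime order normalizing a cyclic subgroup of odd order centralizes it -/
theorem commute_of_normalizes_cyclic (hH : OddFPF H) (Z : Subgroup H) (hZc : IsCyclic Z)
    (hZodd : Odd (Nat.card Z)) {x : H} {p : ℕ} (hp : p.Prime) (hp2 : p ≠ 2) (ox : orderOf x = p)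
    (hx : ∀ z ∈ Z, x * z * x⁻¹ ∈ Z) : ∀ z ∈ Z, x * z = z * x := by
  have hn : zpowers x ≤ normalizer (Z : Set H) := zpowers_le_normalizer hx
  set R : Subgroup H := zpowers x ⊔ Z with hR
  have hRodd : Odd (Nat.card R) := by
    have h1 := card_sup_dvd_of_le_normalizer hn
    rw [Nat.card_zpowers, ox] at h1
    have h2 : Odd (p * Nat.card Z) := (hp.odd_of_ne_two hp2).mul hZodd
    exact Odd.of_dvd_nat h2 h1
  have hfpf := hH R hRodd
  have hZR : Z ≤ R := le_sup_right
  have hxR : x ∈ R := le_sup_left (a := zpowers x) (mem_zpowers x)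
  haveI hZn : (Z.subgroupOf R).Normal := Subgroup.normal_subgroupOf_sup_of_le_normalizer hn
  have hZc' : IsCyclic (Z.subgroupOf R) :=
    isCyclic_of_surjective (Subgroup.subgroupOfEquivOfLe hZR).symm
      (Subgroup.subgroupOfEquivOfLe hZR).symm.surjective
  have hox : (orderOf (⟨x, hxR⟩ : R)).Prime := by
    rw [Subgroup.orderOf_mk, ox]; exact hp
  intro z hz
  have := hfpf.commute_of_prime_order_of_cyclic_normal hRodd hox (Z.subgroupOf R) hZn hZc'
    ⟨z, hZR hz⟩ (by rw [mem_subgroupOf]; exact hz)
  exact congrArg Subtype.val this.eq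

end Cfsg.Agent.Lib.H5.ZasD1
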