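import Mathlib
import Cfsg.Agent.Lib.H25.ZasKlein

/-!
# Zassenhaus, H-level, block D1 (helper5): elements of order three acting on a four-group
-/

set_option autoImplicit false
set_option linter.style.haveILetI false

namespace Cfsg.Agent.Lib.H5.ZasD1

open Subgroup Cfsg.Agent.Lib.H25.Zas

variable {G : Type*} [Group G]

theorem conj_mul' (g x y : G) : g * (x * y) * g⁻¹ = (g * x * g⁻¹) * (g * y * g⁻¹) := by group

theorem conj_cube {g : G} (hg : g ^ 3 = 1) (w : G) :
    g * (g * (g * w * g⁻¹) * g⁻¹) * g⁻¹ = w := by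
  have h3 : g * g * g = 1 := by rw [← hg, pow_succ, pow_two]
  have h3' : g⁻¹ * g⁻¹ * g⁻¹ = 1 := by
    have : g⁻¹ * g⁻¹ * g⁻¹ = (g * g * g)⁻¹ := by group
    rw [this, h3, inv_one]
  calc g * (g * (g * w * g⁻¹) * g⁻¹) * g⁻¹ = (g * g * g) * w * (g⁻¹ * g⁻¹ * g⁻¹) := by group
    _ = w := by rw [h3, h3', one_mul, mul_one]

theorem conj_inj' {g x y : G} (h : g * x * g⁻¹ = g * y * g⁻¹) : x = y := by
  have := mul_right_cancel h
  exact mul_left_cancel this

theorem conj_one' (g : G) : g * 1 * g⁻¹ = 1 := by group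

/-- the action of elements of order three on a four-group -/
theorem klein_action [Finite G] (W : Subgroup G) (hW : IsKleinFour W)
    {a b : G} (ha : a ^ 3 = 1) (hb : b ^ 3 = 1)
    (haW : ∀ w ∈ W, a * w * a⁻¹ ∈ W) (hbW : ∀ w ∈ W, b * w * b⁻¹ ∈ W)
    (hmove : ∃ w ∈ W, a * w * a⁻¹ ≠ w) :
    (∀ w ∈ W, a * w * a⁻¹ = w → w = 1) ∧
    (∀ w ∈ W, w * (a * w * a⁻¹) * (a * (a * w * a⁻¹) * a⁻¹) = 1) ∧
    ((∀ w ∈ W, b * w * b⁻¹ = w) ∨ (∀ w ∈ W, b * w * b⁻¹ = a * w * a⁻¹) ∨
      (∀ w ∈ W, b * w * b⁻¹ = a⁻¹ * w * a)) := by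
  obtain ⟨w1, hw1, hne⟩ := hmove
  have hw11 : w1 ≠ 1 := by
    rintro rfl
    exact hne (conj_one' a)
  obtain ⟨w2, hw2def⟩ : ∃ w2, w2 = a * w1 * a⁻¹ := ⟨_, rfl⟩
  rw [← hw2def] at hne
  have hw2 : w2 ∈ W := hw2def ▸ haW w1 hw1
  have hw21 : w2 ≠ 1 := by
    intro h
    apply hw11
    apply conj_inj' (g := a)
    rw [← hw2def, h, conj_one']
  have h12 : w1 ≠ w2 := fun h => hne h.symm
  obtain ⟨s1, s2, hc, hWeq⟩ := eq_kleinOf_of_isKleinFour W hW hw1 hw2 hw11 hw21 h12
  have hmem : ∀ z, z ∈ W ↔ z = 1 ∨ z = w1 ∨ z = w2 ∨ z = w1 * w2 := by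
    intro z
    rw [hWeq]
    exact mem_kleinOf
  -- identities in the four-group
  have e1 : w1 * (w1 * w2) = w2 := by rw [← mul_assoc, s1, one_mul]
  have e2 : w2 * (w1 * w2) = w1 := by rw [← mul_assoc, ← hc, mul_assoc, s2, mul_one]
  have e3 : w1 * w2 * w1 = w2 := by rw [mul_assoc, ← hc, ← mul_assoc, s1, one_mul]
  have e4 : w1 * w2 * w2 = w1 := by rw [mul_assoc, s2, mul_one]
  have n1 : w1 * w2 ≠ w1 := by
    intro h
    apply hw21
    have : w1 * w2 = w1 * 1 := by rw [mul_one]; exact h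
    exact mul_left_cancel this
  have n2 : w1 * w2 ≠ w2 := by
    intro h
    apply hw11
    have : w1 * w2 = 1 * w2 := by rw [one_mul]; exact h
    exact mul_right_cancel this
  have n3 : w1 * w2 ≠ 1 := by
    intro h
    apply h12
    calc w1 = w1 * (w2 * w2) := by rw [s2, mul_one]
      _ = (w1 * w2) * w2 := by rw [mul_assoc]
      _ = w2 := by rw [h, one_mul]
  -- the action of `a`
  have a2 : a * w2 * a⁻¹ = w1 * w2 := by
    rcases (hmem _).mp (haW w2 hw2) with h | h | h | h
    · exfalso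
      apply hw21
      apply conj_inj' (g := a)
      rw [h, conj_one']
    · exfalso
      have := conj_cube ha w1
      rw [← hw2def, h, ← hw2def] at this
      exact h12 this.symm
    · exfalso
      apply h12
      apply conj_inj' (g := a)
      rw [← hw2def, h]
    · exact h
  have a3 : a * (w1 * w2) * a⁻¹ = w1 := by
    rw [conj_mul', ← hw2def, a2, e2]
  have part1 : ∀ w ∈ W, a * w * a⁻¹ = w → w = 1 := by
    intro w hw hfix
    rcases (hmem w).mp hw with rfl | rfl | rfl | rfl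
    · rfl
    · rw [← hw2def] at hfix; exact absurd hfix hne
    · rw [a2] at hfix; exact absurd hfix n2
    · rw [a3] at hfix; exact absurd hfix.symm n1
  have part2 : ∀ w ∈ W, w * (a * w * a⁻¹) * (a * (a * w * a⁻¹) * a⁻¹) = 1 := by
    intro w hw
    rcases (hmem w).mp hw with rfl | rfl | rfl | rfl
    · simp
    · rw [← hw2def, a2, ← mul_assoc, e3, s2]
    · rw [a2, a3, e2, s1]
    · rw [a3, ← hw2def, e3, s2]
  refine ⟨part1, part2, ?_⟩
  -- inverse action of `a`
  have ai1 : a⁻¹ * w1 * a = w1 * w2 := by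
    have : a⁻¹ * (a * (w1 * w2) * a⁻¹) * a = w1 * w2 := by group
    rw [a3] at this; exact this
  have ai2 : a⁻¹ * w2 * a = w1 := by
    rw [hw2def]; group
  have ai3 : a⁻¹ * (w1 * w2) * a = w2 := by
    have : a⁻¹ * (a * w2 * a⁻¹) * a = w2 := by group
    rw [a2] at this; exact this
  -- the action of `b`
  have hb1 := hbW w1 hw1
  have hb2 := hbW w2 hw2
  have b1ne : b * w1 * b⁻¹ ≠ 1 := by
    intro h
    apply hw11
    apply conj_inj' (g := b)
    rw [h, conj_one']
  have b2ne : b * w2 * b⁻¹ ≠ 1 := by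
    intro h
    apply hw21
    apply conj_inj' (g := b)
    rw [h, conj_one']
  have b12 : b * w1 * b⁻¹ ≠ b * w2 * b⁻¹ := fun h => h12 (conj_inj' h)
  have b3 : b * (w1 * w2) * b⁻¹ = (b * w1 * b⁻¹) * (b * w2 * b⁻¹) := conj_mul' b w1 w2
  rcases (hmem _).mp hb1 with h | h | h | h
  · exact absurd h b1ne
  · -- `b` fixes `w1`
    rcases (hmem _).mp hb2 with h' | h' | h' | h'
    · exact absurd h' b2ne
    · exact absurd (h.trans h'.symm) b12
    · left
      intro w hw
      rcases (hmem w).mp hw with rfl | rfl | rfl | rfl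
      · exact conj_one' b
      · exact h
      · exact h'
      · rw [b3, h, h']
    · exfalso
      have hc3 := conj_cube hb w2
      rw [h', b3, h, h', e1, h'] at hc3
      exact n2 hc3
  · -- `b` maps `w1` to `w2`
    rcases (hmem _).mp hb2 with h' | h' | h' | h'
    · exact absurd h' b2ne
    · exfalso
      have hc3 := conj_cube hb w1
      rw [h, h', h] at hc3
      exact h12 hc3.symm
    · exact absurd (h.trans h'.symm) b12
    · right; left
      intro w hw
      rcases (hmem w).mp hw with rfl | rfl | rfl | rfl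
      · rw [conj_one', conj_one']
      · rw [h, hw2def]
      · rw [h', a2]
      · rw [b3, h, h', a3, e2]
  · -- `b` maps `w1` to `w1 * w2`
    rcases (hmem _).mp hb2 with h' | h' | h' | h'
    · exact absurd h' b2ne
    · right; right
      intro w hw
      rcases (hmem w).mp hw with rfl | rfl | rfl | rfl
      · have : a⁻¹ * 1 * a = 1 := by group
        rw [conj_one', this]
      · rw [h, ai1]
      · rw [h', ai2]
      · rw [b3, h, h', ai3, e3]
    · exfalso
      have hc3 := conj_cube hb w1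
      rw [h, b3, h, h', e4, h] at hc3
      exact n1 hc3
    · exact absurd (h.trans h'.symm) b12

end Cfsg.Agent.Lib.H5.ZasD1
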