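import Mathlib
import Cfsg.Agent.Lib.H5.ZasD1a
import Cfsg.Agent.Lib.H5.ZasD1b
import Cfsg.Agent.Lib.H5.SmallRecog

/-!
# Zassenhaus, H-level, block D1 (helper5): two elements of order three, the solvable case
-/

set_option autoImplicit false
set_option linter.style.haveILetI false

namespace Cfsg.Agent.Lib.H5.ZasD1

open Subgroup Cfsg.Agent.Lib.H25.Zas

variable {H : Type*} [Group H] [Finite H] {n : ℕ}

omit [Finite H] in
theorem pow_three_of_orderOf {x : H} (hx : orderOf x = 3) : x ^ 3 = 1 := by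
  rw [← hx]; exact pow_orderOf_eq_one x

theorem mem_zpowers_symm_of_orderOf_three {a b : H} (ha : orderOf a = 3) (hb : orderOf b = 3)
    (h : a ∈ zpowers b) : b ∈ zpowers a := by
  have hle : zpowers a ≤ zpowers b := zpowers_le.mpr h
  have heq : zpowers a = zpowers b := by
    apply Subgroup.eq_of_le_of_card_ge hle
    rw [Nat.card_zpowers, Nat.card_zpowers, ha, hb]
  rw [heq]; exact mem_zpowers b

/-- the solvable case: `a` acts nontrivially on `Q = O₂(X)` -/
theorem pair_three_solv_aux (h : HCtx H n) {a b : H} (ha : orderOf a = 3) (hb : orderOf b = 3)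
    (hab : b ∉ zpowers a) (Q Z : Subgroup H)
    (hQX : Q ≤ closure ({a, b} : Set H))
    (hQn : NormBy (closure ({a, b} : Set H)) Q) (hZn : NormBy (closure ({a, b} : Set H)) Z)
    (hQp : IsPGroup 2 Q) (hZodd : Odd (Nat.card Z)) (hZc : IsCyclic Z)
    (hQZ : ∀ q ∈ Q, ∀ z ∈ Z, q * z = z * q)
    (hkey : ∀ x ∈ closure ({a, b} : Set H), (∀ q ∈ Q, x * q = q * x) →
      (∀ z ∈ Z, x * z = z * x) → x ∈ Q ⊔ Z)
    (hmove : ¬ ∀ q ∈ Q, a * q = q * a) :
    Nonempty (closure ({a, b} : Set H) ≃* alternatingGroup (Fin 4)) := by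
  obtain ⟨X, hX⟩ : ∃ X : Subgroup H, X = closure ({a, b} : Set H) := ⟨_, rfl⟩
  rw [← hX] at hQX hQn hZn hkey ⊢
  have haX : a ∈ X := by rw [hX]; exact subset_closure (by simp)
  have hbX : b ∈ X := by rw [hX]; exact subset_closure (by simp)
  have hH := h.oddFPF
  have h3 : Nat.Prime 3 := Nat.prime_three
  have ha3 : a ^ 3 = 1 := pow_three_of_orderOf ha
  have hb3 : b ^ 3 = 1 := pow_three_of_orderOf hb
  have hoa : Odd (orderOf a) := by rw [ha]; decide
  -- `a`, `b`, hence `X`, centralize `Z`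
  have haZ : ∀ z ∈ Z, a * z = z * a :=
    commute_of_normalizes_cyclic hH Z hZc hZodd h3 (by norm_num) ha (fun z hz => hZn a haX z hz)
  have hbZ : ∀ z ∈ Z, b * z = z * b :=
    commute_of_normalizes_cyclic hH Z hZc hZodd h3 (by norm_num) hb (fun z hz => hZn b hbX z hz)
  have hXZ : ∀ x ∈ X, ∀ z ∈ Z, x * z = z * x := by
    intro x hx z hz
    have hle : X ≤ centralizer ({z} : Set H) := by
      rw [hX, closure_le]
      intro y hy
      rcases hy with hy | hy
      · rw [hy]; exact mem_centralizer_singleton_iff.mpr (haZ z hz)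
      · rw [Set.mem_singleton_iff] at hy
        rw [hy]
        exact mem_centralizer_singleton_iff.mpr (hbZ z hz)
    exact mem_centralizer_singleton_iff.mp (hle hx)
  -- `Q` is a four-group
  have haN : a ∈ normalizer (Q : Set H) :=
    Subgroup.mem_normalizer_fintype (fun q hq => hQn a haX q hq)
  have hQK : IsKleinFour Q := by
    by_contra hK
    have hc := h.dih.mem_centralizer_of_odd Q hQp haN hoa hK
    apply hmove
    intro q hq
    rw [mem_centralizer_iff] at hc
    exact (hc q hq).symm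
  have hmove' : ∃ w ∈ Q, a * w * a⁻¹ ≠ w := by
    by_contra hcon
    push Not at hcon
    apply hmove
    intro q hq
    have := hcon q hq
    calc a * q = a * q * a⁻¹ * a := by group
      _ = q * a := by rw [this]
  obtain ⟨hfpf, hprod, hcases⟩ := klein_action Q hQK ha3 hb3 (fun w hw => hQn a haX w hw)
    (fun w hw => hQn b hbX w hw) hmove'
  -- the same for `a⁻¹`
  have hai3 : a⁻¹ ^ 3 = 1 := by rw [inv_pow, ha3, inv_one]
  have haiX : a⁻¹ ∈ X := X.inv_mem haX
  have hmovei : ∃ w ∈ Q, a⁻¹ * w * a⁻¹⁻¹ ≠ w := by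
    obtain ⟨w, hw, hne⟩ := hmove'
    refine ⟨w, hw, ?_⟩
    intro hfix
    apply hne
    rw [inv_inv] at hfix
    calc a * w * a⁻¹ = a * (a⁻¹ * w * a) * a⁻¹ := by rw [hfix]
      _ = w := by group
  obtain ⟨-, hprodi, -⟩ := klein_action Q hQK hai3 hb3 (fun w hw => hQn a⁻¹ haiX w hw)
    (fun w hw => hQn b hbX w hw) hmovei
  -- basic facts on `Q` and `Z`
  have hQ4 : Nat.card Q = 4 := hQK.card_four
  have hQsq : ∀ q ∈ Q, q * q = 1 := fun q hq => by
    have := IsKleinFour.mul_self (⟨q, hq⟩ : Q)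
    exact congrArg Subtype.val this
  have hQnZ : Q ≤ normalizer (Z : Set H) := by
    apply le_normalizer_of_conj_mem
    intro q hq z hz
    rw [hQZ q hq z hz, mul_inv_cancel_right]
    exact hz
  have hdecomp : ∀ c ∈ X, (∀ q ∈ Q, c * q = q * c) → ∃ q ∈ Q, ∃ z ∈ Z, c = q * z := by
    intro c hc hcQ
    exact exists_mul_of_mem_sup hQnZ (hkey c hc hcQ (hXZ c hc))
  have hsupodd : Odd (Nat.card (zpowers a ⊔ Z : Subgroup H)) :=
    odd_card_zpowers_sup Z hZodd hoa (fun z hz => hZn a haX z hz)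
  have haR : a ∈ zpowers a ⊔ Z := le_sup_left (a := zpowers a) (mem_zpowers a)
  have hZ3 : ∀ z ∈ Z, z ^ 3 = 1 → z = 1 := by
    intro z hz hz3
    by_contra hz1
    have oz : orderOf z = 3 := orderOf_eq_prime hz3 hz1
    have hzR : z ∈ zpowers a ⊔ Z := le_sup_right (a := zpowers a) hz
    have heq := zpowers_eq_of_mem_odd hH _ hsupodd h3 haR hzR ha oz
    have haZ' : a ∈ Z := by
      have : a ∈ zpowers z := heq ▸ mem_zpowers a
      exact (zpowers_le.mpr hz) this
    apply hmove
    intro q hq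
    exact (hQZ q hq a haZ').symm
  -- the key step: if `b` acts on `Q` like `g ∈ {a, a⁻¹}` then `b ∈ g Q`
  have key : ∀ g : H, g ∈ X → g ^ 3 = 1 →
      (∀ w ∈ Q, g * w * g⁻¹ ∈ Q) →
      (∀ w ∈ Q, w * (g * w * g⁻¹) * (g * (g * w * g⁻¹) * g⁻¹) = 1) →
      (∀ w ∈ Q, b * w * b⁻¹ = g * w * g⁻¹) → ∃ q ∈ Q, b = g * q := by
    intro g hgX hg3 hgQ hgprod hact
    have hcX : g⁻¹ * b ∈ X := X.mul_mem (X.inv_mem hgX) hbX
    have hcQ : ∀ q ∈ Q, g⁻¹ * b * q = q * (g⁻¹ * b) := by
      intro q hq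
      have := hact q hq
      calc g⁻¹ * b * q = g⁻¹ * (b * q * b⁻¹) * b := by group
        _ = g⁻¹ * (g * q * g⁻¹) * b := by rw [this]
        _ = q * (g⁻¹ * b) := by group
    obtain ⟨q, hq, z, hz, hqz⟩ := hdecomp _ hcX hcQ
    have hbgqz : b = g * q * z := by
      calc b = g * (g⁻¹ * b) := by group
        _ = g * (q * z) := by rw [hqz]
        _ = g * q * z := by group
    have hgq3 : (g * q) ^ 3 = 1 := by
      have h1 := hgprod (g * q * g⁻¹) (hgQ q hq)
      have h2 : g * (g * (g * q * g⁻¹) * g⁻¹) * g⁻¹ = q := conj_cube hg3 q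
      rw [h2] at h1
      have h3' : g * g * g = 1 := by rw [← hg3, pow_succ, pow_two]
      calc (g * q) ^ 3 = (g * q * g⁻¹) * (g * (g * q * g⁻¹) * g⁻¹) *
            (g * (g * (g * q * g⁻¹) * g⁻¹) * g⁻¹) * (g * g * g) := by
            rw [pow_succ, pow_two]; group
        _ = 1 := by rw [h2, h1, h3', mul_one]
    have hcomm : Commute (g * q) z := by
      have e1 : g * z = z * g := hXZ g hgX z hz
      have e2 : q * z = z * q := hQZ q hq z hz
      show g * q * z = z * (g * q)
      calc g * q * z = g * (q * z) := by group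
        _ = g * (z * q) := by rw [e2]
        _ = g * z * q := by group
        _ = z * g * q := by rw [e1]
        _ = z * (g * q) := by group
    have hz3 : z ^ 3 = 1 := by
      have := hcomm.mul_pow 3
      rw [← hbgqz, hb3, hgq3, one_mul] at this
      exact this.symm
    have hz1 := hZ3 z hz hz3
    refine ⟨q, hq, ?_⟩
    rw [hbgqz, hz1, mul_one]
  -- `b ∈ ⟨a⟩ Q`
  have hbY : b ∈ zpowers a ⊔ Q := by
    rcases hcases with hc | hc | hc
    · -- `b` centralizes `Q`: impossible
      exfalso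
      have hbQ : ∀ q ∈ Q, b * q = q * b := by
        intro q hq
        have := hc q hq
        calc b * q = b * q * b⁻¹ * b := by group
          _ = q * b := by rw [this]
      obtain ⟨q, hq, z, hz, hqz⟩ := hdecomp b hbX hbQ
      have hcomm : Commute q z := hQZ q hq z hz
      have hq4 : q ^ 4 = 1 := by
        have : q ^ 4 = (q * q) * (q * q) := by
          rw [show (4 : ℕ) = 2 + 2 from rfl, pow_add, pow_two]
        rw [this, hQsq q hq, one_mul]
      have hb4 : b ^ 4 = b := by
        rw [pow_succ, hb3, one_mul]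
      have hbZ' : b ∈ Z := by
        rw [← hb4, hqz, hcomm.mul_pow, hq4, one_mul]
        exact Z.pow_mem hz 4
      have hbR : b ∈ zpowers a ⊔ Z := le_sup_right (a := zpowers a) hbZ'
      have heq := zpowers_eq_of_mem_odd hH _ hsupodd h3 haR hbR ha hb
      exact hab (heq ▸ mem_zpowers b)
    · obtain ⟨q, hq, hbq⟩ := key a haX ha3 (fun w hw => hQn a haX w hw) hprod hc
      rw [hbq]
      exact mul_mem (le_sup_left (a := zpowers a) (mem_zpowers a)) (le_sup_right (a := zpowers a) hq)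
    · have hc' : ∀ w ∈ Q, b * w * b⁻¹ = a⁻¹ * w * a⁻¹⁻¹ := by
        intro w hw; rw [inv_inv]; exact hc w hw
      obtain ⟨q, hq, hbq⟩ := key a⁻¹ haiX hai3 (fun w hw => hQn a⁻¹ haiX w hw) hprodi hc'
      rw [hbq]
      exact mul_mem (le_sup_left (a := zpowers a) (inv_mem (mem_zpowers a)))
        (le_sup_right (a := zpowers a) hq)
  -- `X = ⟨a⟩ Q` has order 12
  have hXY : X = zpowers a ⊔ Q := by
    apply le_antisymm
    · rw [hX, closure_le]
      intro y hy
      rcases hy with hy | hy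
      · rw [hy]; exact le_sup_left (a := zpowers a) (mem_zpowers a)
      · rw [Set.mem_singleton_iff] at hy
        rw [hy]
        exact hbY
    · exact sup_le (zpowers_le.mpr haX) hQX
  have hanQ : zpowers a ≤ normalizer (Q : Set H) := zpowers_le.mpr haN
  have hinf : zpowers a ⊓ Q = ⊥ := by
    apply (Subgroup.disjoint_of_coprime_natCard _).eq_bot
    rw [Nat.card_zpowers, ha, hQ4]; decide
  have hcardX : Nat.card X = 12 := by
    have := card_sup_mul_card_inf_of_le_normalizer hanQ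
    rw [hinf, Subgroup.card_bot, mul_one, Nat.card_zpowers, ha, hQ4, ← hXY] at this
    exact this
  -- the normalizer of `⟨a⟩` in `X`
  set P : Subgroup X := (zpowers a).subgroupOf X with hP
  have haP : zpowers a ≤ X := zpowers_le.mpr haX
  have hcardP : Nat.card P = 3 := by
    rw [hP, Nat.card_congr (Subgroup.subgroupOfEquivOfLe haP).toEquiv, Nat.card_zpowers, ha]
  have hnorm : normalizer (P : Set X) = P := by
    apply le_antisymm _ le_normalizer
    intro g hg
    rw [mem_normalizer_iff] at hg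
    have h1 := (hg ⟨a, haX⟩).mp (by rw [hP, mem_subgroupOf]; exact mem_zpowers a)
    rw [hP, mem_subgroupOf] at h1
    have h1' : (g : H) * a * (g : H)⁻¹ ∈ zpowers a := by simpa using h1
    have hgY : (g : H) ∈ zpowers a ⊔ Q := hXY ▸ g.2
    obtain ⟨x, hx, q, hq, hgxq⟩ := exists_mul_of_mem_sup hanQ hgY
    -- `q = x⁻¹ g` normalizes `⟨a⟩`
    have h2 : q * a * q⁻¹ ∈ zpowers a := by
      have : q * a * q⁻¹ = x⁻¹ * ((g : H) * a * (g : H)⁻¹) * x := by rw [hgxq]; group
      rw [this]
      exact mul_mem (mul_mem (inv_mem hx) h1') hx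
    have h3' : q * a * q⁻¹ * a⁻¹ ∈ zpowers a ⊓ Q := by
      refine Subgroup.mem_inf.mpr ⟨mul_mem h2 (inv_mem (mem_zpowers a)), ?_⟩
      have : q * a * q⁻¹ * a⁻¹ = q * (a * q⁻¹ * a⁻¹) := by group
      rw [this]
      exact mul_mem hq (hQn a haX q⁻¹ (inv_mem hq))
    rw [hinf, mem_bot] at h3'
    have h4 : a * q * a⁻¹ = q := by
      have : q * a = a * q := by
        calc q * a = (q * a * q⁻¹ * a⁻¹) * a * q := by group
          _ = a * q := by rw [h3', one_mul]
      rw [← this]; group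
    have hq1 : q = 1 := hfpf q hq h4
    rw [hP, mem_subgroupOf, hgxq, hq1, mul_one]
    exact hx
  have hcardN : Nat.card (normalizer (P : Set X)) = 3 := by rw [hnorm, hcardP]
  exact Cfsg.Agent.Lib.H5.SmallRecog.nonempty_mulEquiv_alt_four hcardX P hcardP hcardN

end Cfsg.Agent.Lib.H5.ZasD1
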