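import Mathlib
import Cfsg.Agent.Lib.H5.ZasD1c

/-!
# Zassenhaus, H-level, block D1 (helper5): two elements of order three generate `A₄` or `A₅`
-/

set_option autoImplicit false
set_option linter.style.haveILetI false

namespace Cfsg.Agent.Lib.H5.ZasD1

open Subgroup Cfsg.Agent.Lib.H25.Zas

variable {H : Type*} [Group H] [Finite H] {n : ℕ}

/-- in a nonsolvable proper subgroup `N ⊵ L × C`, the elements of order three lie in `L` -/
theorem mem_L_of_orderOf_three (N L C : Subgroup H) (hLN : L ≤ N) (hCN : C ≤ N)
    (hLn : NormBy N L) (hCn : NormBy N C) (hL60 : Nat.card L = 60)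
    (hLC : ∀ l ∈ L, ∀ c ∈ C, l * c = c * l) (hinf : L ⊓ C = ⊥)
    (hC30 : (Nat.card C).Coprime 30)
    (hcard : Nat.card N = 60 * Nat.card C ∨ Nat.card N = 120 * Nat.card C)
    {x : H} (hxN : x ∈ N) (hx : orderOf x = 3) : x ∈ L := by
  have hLnC : L ≤ normalizer (C : Set H) := by
    apply le_normalizer_of_conj_mem
    intro l hl c hc
    rw [hLC l hl c hc, mul_inv_cancel_right]
    exact hc
  have hDcard : Nat.card (L ⊔ C : Subgroup H) = 60 * Nat.card C := by
    have := card_sup_mul_card_inf_of_le_normalizer hLnC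
    rw [hinf, Subgroup.card_bot, mul_one, hL60] at this
    exact this
  have hDN : L ⊔ C ≤ N := sup_le hLN hCN
  have hCpos : 0 < Nat.card C := Nat.card_pos
  have hrel : (L ⊔ C).relIndex N = 1 ∨ (L ⊔ C).relIndex N = 2 := by
    have h1 := card_mul_relIndex_of_le hDN
    rw [hDcard] at h1
    rcases hcard with h2 | h2
    · left
      rw [h2] at h1
      have h60 : 0 < 60 * Nat.card C := by positivity
      exact Nat.eq_of_mul_eq_mul_left h60 (by rw [h1, mul_one])
    · right
      rw [h2] at h1
      have h60 : 0 < 60 * Nat.card C := by positivity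
      exact Nat.eq_of_mul_eq_mul_left h60 (by rw [h1]; ring)
  haveI hDn : ((L ⊔ C).subgroupOf N).Normal := by
    constructor
    intro d hd g
    rw [mem_subgroupOf] at hd ⊢
    obtain ⟨l, hl, c, hc, hdlc⟩ := exists_mul_of_mem_sup hLnC hd
    have : ((g * d * g⁻¹ : N) : H) = ((g : H) * l * (g : H)⁻¹) * ((g : H) * c * (g : H)⁻¹) := by
      push_cast
      rw [hdlc]; group
    rw [this]
    exact mul_mem (le_sup_left (a := L) (hLn g g.2 l hl)) (le_sup_right (a := L) (hCn g g.2 c hc))
  have hidx : ((L ⊔ C).subgroupOf N).index = 1 ∨ ((L ⊔ C).subgroupOf N).index = 2 := hrel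
  have hcop : (orderOf (⟨x, hxN⟩ : N)).Coprime ((L ⊔ C).subgroupOf N).index := by
    rw [Subgroup.orderOf_mk, hx]
    rcases hidx with h | h <;> rw [h] <;> decide
  have hxD : (⟨x, hxN⟩ : N) ∈ (L ⊔ C).subgroupOf N := mem_of_coprime_index _ hcop
  rw [mem_subgroupOf] at hxD
  obtain ⟨l, hl, c, hc, hxlc⟩ := exists_mul_of_mem_sup hLnC hxD
  have hxlc' : x = l * c := hxlc
  have hcomm : Commute l c := hLC l hl c hc
  have hcpow : c ^ Nat.card C = 1 := by
    have := pow_card_eq_one' (G := C) (x := ⟨c, hc⟩)
    exact congrArg Subtype.val this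
  have hxpow : x ^ Nat.card C ∈ L := by
    rw [hxlc', hcomm.mul_pow, hcpow, mul_one]
    exact L.pow_mem hl _
  have hcop3 : (Nat.card C).Coprime (orderOf x) := by
    rw [hx]
    exact Nat.Coprime.coprime_dvd_right (by norm_num : 3 ∣ 30) hC30
  obtain ⟨m, hm⟩ := exists_pow_eq_self_of_coprime hcop3
  rw [← hm]
  exact L.pow_mem hxpow m

end Cfsg.Agent.Lib.H5.ZasD1

namespace Cfsg.Agent.Lib.H25.Zas

open Subgroup Cfsg.Agent.Lib.H5.ZasD1

variable {H : Type*} [Group H] [Finite H] {n : ℕ}

/-- **Block D1.** Two elements of order three which do not generate the same subgroup generate a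
subgroup isomorphic to `A₄` or `A₅`. -/
theorem HCtx.pair_three (h : HCtx H n) {a b : H} (ha : orderOf a = 3) (hb : orderOf b = 3)
    (hab : b ∉ zpowers a) :
    Nonempty (closure ({a, b} : Set H) ≃* alternatingGroup (Fin 4)) ∨
      Nonempty (closure ({a, b} : Set H) ≃* alternatingGroup (Fin 5)) := by
  have hH := h.oddFPF
  have h3 : Nat.Prime 3 := Nat.prime_three
  have hXtop : closure ({a, b} : Set H) ≠ ⊤ := h.hyp.gen a b (Or.inr ha) hb
  have haX : a ∈ closure ({a, b} : Set H) := subset_closure (by simp)
  have hbX : b ∈ closure ({a, b} : Set H) := subset_closure (by simp)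
  have hoa : Odd (orderOf a) := by rw [ha]; decide
  have hob : Odd (orderOf b) := by rw [hb]; decide
  by_cases hs : Group.IsSolvable (closure ({a, b} : Set H))
  · left
    obtain ⟨Q, Z, hQX, hZX, hQn, hZn, hQp, hZodd, hZc, hQZ, hkey, -, -⟩ :=
      sol_structure_sub hH (closure ({a, b} : Set H)) hs
    by_cases hca : ∀ q ∈ Q, a * q = q * a
    · by_cases hcb : ∀ q ∈ Q, b * q = q * b
      · exfalso
        by_cases hQ : Q = ⊥
        · -- `X = Z` is cyclic of odd order
          have haZ : ∀ z ∈ Z, a * z = z * a :=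
            commute_of_normalizes_cyclic hH Z hZc hZodd h3 (by norm_num) ha
              (fun z hz => hZn a haX z hz)
          have hbZ : ∀ z ∈ Z, b * z = z * b :=
            commute_of_normalizes_cyclic hH Z hZc hZodd h3 (by norm_num) hb
              (fun z hz => hZn b hbX z hz)
          have h1 := hkey a haX hca haZ
          have h2 := hkey b hbX hcb hbZ
          rw [hQ, bot_sup_eq] at h1 h2
          have heq := zpowers_eq_of_mem_odd hH Z hZodd h3 h1 h2 ha hb
          exact hab (heq ▸ mem_zpowers b)
        · -- an involution of `Q` is centralized by `X`, of even order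
          haveI : Fact (Nat.Prime 2) := ⟨Nat.prime_two⟩
          have h2Q : 2 ∣ Nat.card Q := by
            obtain ⟨k, hk⟩ := IsPGroup.iff_card.mp hQp
            rcases k with _ | k
            · exfalso
              apply hQ
              rw [pow_zero] at hk
              exact Subgroup.card_eq_one.mp hk
            · rw [hk, pow_succ]; exact Dvd.intro_left _ rfl
          obtain ⟨c, hc⟩ := exists_prime_orderOf_dvd_card' (G := Q) 2 h2Q
          have ht : orderOf (c : H) = 2 := by rw [Subgroup.orderOf_coe]; exact hc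
          have haK : a ∈ Kc (c : H) := (h.mem_Kc_iff ht).mpr ⟨hca c c.2, hoa⟩
          have hbK : b ∈ Kc (c : H) := (h.mem_Kc_iff ht).mpr ⟨hcb c c.2, hob⟩
          have hXK : closure ({a, b} : Set H) ≤ Kc (c : H) := by
            rw [closure_le]
            intro y hy
            rcases hy with hy | hy
            · rw [hy]; exact haK
            · rw [Set.mem_singleton_iff] at hy
              rw [hy]; exact hbK
          have := ((h.mem_Kc_iff ht).mp (hXK (hQX c.2))).2
          rw [ht] at this
          exact absurd this (by decide)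
      · -- `b` acts nontrivially on `Q`
        have hab' : a ∉ zpowers b := fun h' => hab (mem_zpowers_symm_of_orderOf_three ha hb h')
        rw [Set.pair_comm a b] at hQX hQn hZn hkey ⊢
        exact pair_three_solv_aux h hb ha hab' Q Z hQX hQn hZn hQp hZodd hZc hQZ hkey hcb
    · exact pair_three_solv_aux h ha hb hab Q Z hQX hQn hZn hQp hZodd hZc hQZ hkey hca
  · right
    obtain ⟨L, C, hLN, hCN, hLn, hCn, ⟨e⟩, hLC, -, hinf, -, hC30, hcard, -⟩ :=
      nonsolvable_structure h.dih hH h.hyp.perf (closure ({a, b} : Set H)) hXtop hs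
    have hL60 : Nat.card L = 60 := by rw [Nat.card_congr e.toEquiv, card_A5]
    have haL := mem_L_of_orderOf_three _ L C hLN hCN hLn hCn hL60 hLC hinf hC30 hcard haX ha
    have hbL := mem_L_of_orderOf_three _ L C hLN hCN hLn hCn hL60 hLC hinf hC30 hcard hbX hb
    have hXL : closure ({a, b} : Set H) = L := by
      apply le_antisymm _ hLN
      rw [closure_le]
      intro y hy
      rcases hy with hy | hy
      · rw [hy]; exact haL
      · rw [Set.mem_singleton_iff] at hy
        rw [hy]; exact hbL
    rw [hXL]
    exact ⟨e⟩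

end Cfsg.Agent.Lib.H25.Zas
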