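import Mathlib
import Cfsg.Agent.Lib.H5.ZasD1a
import Cfsg.Agent.Lib.H5.S4Recog

/-!
# Zassenhaus, H-level, block D1 (helper5): an involution normalizing `A₄` from outside gives `S₄`
-/

set_option autoImplicit false
set_option linter.style.haveILetI false

namespace Cfsg.Agent.Lib.H5.ZasD1

open Subgroup Cfsg.Agent.Lib.H25.Zas

local notation "A4" => alternatingGroup (Fin 4)

set_option maxRecDepth 100000 in
theorem a4_sq_mul_dec : ∀ σ τ : A4, σ * σ = 1 → τ * τ = 1 → (σ * τ) * (σ * τ) = 1 := by decide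

set_option maxRecDepth 100000 in
theorem a4_sq_card_dec : Fintype.card {σ : A4 // σ * σ = 1} = 4 := by decide

set_option maxRecDepth 100000 in
theorem a4_sq_cent_dec : ∀ σ : A4, (∀ τ : A4, τ * τ = 1 → σ * τ = τ * σ) → σ * σ = 1 := by decide

variable {H : Type*} [Group H]

/-- elements of `zpowers j` for an involution `j` -/
theorem mem_zpowers_involution {j x : H} (hj : orderOf j = 2) (hx : x ∈ zpowers j) :
    x = 1 ∨ x = j := by
  obtain ⟨k, rfl⟩ := mem_zpowers_iff.mp hx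
  rw [← zpow_mod_orderOf, hj]
  rcases Int.emod_two_eq_zero_or_one k with h | h
  · left; rw [show ((2 : ℕ) : ℤ) = 2 from rfl, h, zpow_zero]
  · right; rw [show ((2 : ℕ) : ℤ) = 2 from rfl, h, zpow_one]

/-- the subgroup of elements of `X₀ ≅ A₄` squaring to one -/
def sqSub (X₀ : Subgroup H) (e₀ : X₀ ≃* A4) : Subgroup H where
  carrier := {x | x ∈ X₀ ∧ x * x = 1}
  one_mem' := ⟨one_mem _, mul_one 1⟩
  mul_mem' := by
    rintro x y ⟨hx, hx2⟩ ⟨hy, hy2⟩
    refine ⟨mul_mem hx hy, ?_⟩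
    have h1 : e₀ ⟨x, hx⟩ * e₀ ⟨x, hx⟩ = 1 := by
      rw [← map_mul]
      have : (⟨x, hx⟩ : X₀) * ⟨x, hx⟩ = 1 := Subtype.ext hx2
      rw [this, map_one]
    have h2 : e₀ ⟨y, hy⟩ * e₀ ⟨y, hy⟩ = 1 := by
      rw [← map_mul]
      have : (⟨y, hy⟩ : X₀) * ⟨y, hy⟩ = 1 := Subtype.ext hy2
      rw [this, map_one]
    have h3 := a4_sq_mul_dec _ _ h1 h2
    rw [← map_mul, ← map_mul] at h3
    have h4 := e₀.injective (h3.trans (map_one e₀).symm)
    exact congrArg Subtype.val h4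
  inv_mem' := by
    rintro x ⟨hx, hx2⟩
    refine ⟨inv_mem hx, ?_⟩
    rw [← mul_inv_rev, hx2, inv_one]

theorem mem_sqSub {X₀ : Subgroup H} {e₀ : X₀ ≃* A4} {x : H} :
    x ∈ sqSub X₀ e₀ ↔ x ∈ X₀ ∧ x * x = 1 := Iff.rfl

theorem sqSub_le (X₀ : Subgroup H) (e₀ : X₀ ≃* A4) : sqSub X₀ e₀ ≤ X₀ := fun _ hx => hx.1

theorem sq_iff_map (X₀ : Subgroup H) (e₀ : X₀ ≃* A4) (x : X₀) :
    (x : H) * (x : H) = 1 ↔ e₀ x * e₀ x = 1 := by
  constructor
  · intro h
    have : x * x = 1 := Subtype.ext h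
    rw [← map_mul, this, map_one]
  · intro h
    rw [← map_mul] at h
    have := e₀.injective (h.trans (map_one e₀).symm)
    exact congrArg Subtype.val this

theorem card_sqSub (X₀ : Subgroup H) (e₀ : X₀ ≃* A4) : Nat.card (sqSub X₀ e₀) = 4 := by
  have e : sqSub X₀ e₀ ≃ {σ : A4 // σ * σ = 1} :=
    { toFun := fun x => ⟨e₀ ⟨x.1, x.2.1⟩, (sq_iff_map X₀ e₀ ⟨x.1, x.2.1⟩).mp x.2.2⟩
      invFun := fun σ => ⟨(e₀.symm σ.1 : H), (e₀.symm σ.1).2,
        (sq_iff_map X₀ e₀ (e₀.symm σ.1)).mpr (by rw [MulEquiv.apply_symm_apply]; exact σ.2)⟩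
      left_inv := by
        intro x
        apply Subtype.ext
        simp
      right_inv := by
        intro σ
        apply Subtype.ext
        simp }
  rw [Nat.card_congr e, Nat.card_eq_fintype_card, a4_sq_card_dec]

theorem isKleinFour_sqSub (X₀ : Subgroup H) (e₀ : X₀ ≃* A4) : IsKleinFour (sqSub X₀ e₀) := by
  apply Cfsg.Agent.Lib.L0.Dih.isKleinFour_of_card_of_mul_self (card_sqSub X₀ e₀)
  intro x
  exact Subtype.ext x.2.2

/-- an element of `X₀` centralizing `sqSub` lies in it -/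
theorem mem_sqSub_of_commute (X₀ : Subgroup H) (e₀ : X₀ ≃* A4) {x : H} (hx : x ∈ X₀)
    (hc : ∀ w ∈ sqSub X₀ e₀, x * w = w * x) : x ∈ sqSub X₀ e₀ := by
  refine ⟨hx, ?_⟩
  rw [sq_iff_map X₀ e₀ ⟨x, hx⟩]
  apply a4_sq_cent_dec
  intro τ hτ
  have hw : (e₀.symm τ : H) ∈ sqSub X₀ e₀ :=
    ⟨(e₀.symm τ).2, (sq_iff_map X₀ e₀ (e₀.symm τ)).mpr (by rw [MulEquiv.apply_symm_apply]; exact hτ)⟩
  have h1 := hc _ hw
  have h2 : (⟨x, hx⟩ : X₀) * e₀.symm τ = e₀.symm τ * ⟨x, hx⟩ := Subtype.ext h1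
  have h3 := congrArg e₀ h2
  rw [map_mul, map_mul, MulEquiv.apply_symm_apply] at h3
  exact h3

variable [Finite H] {n : ℕ}

/-- **`A₄` extended by an outer involution is `S₄`.** -/
theorem s4_of_a4_ext (hD : DihSylow H n) (X₀ : Subgroup H) (e₀ : X₀ ≃* A4) {j : H}
    (hj : orderOf j = 2) (hjX₀ : j ∉ X₀) (hjn : ∀ x ∈ X₀, j * x * j⁻¹ ∈ X₀) :
    Nonempty ((zpowers j ⊔ X₀ : Subgroup H) ≃* Equiv.Perm (Fin 4)) := by
  have hjj : j * j = 1 := by
    have := pow_orderOf_eq_one j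
    rwa [hj, pow_two] at this
  have hjinv : j⁻¹ = j := inv_eq_of_mul_eq_one_left hjj
  have hjN : zpowers j ≤ normalizer (X₀ : Set H) := zpowers_le_normalizer hjn
  have hinf : zpowers j ⊓ X₀ = ⊥ := by
    rw [eq_bot_iff]
    intro x hx
    obtain ⟨hx1, hx2⟩ := Subgroup.mem_inf.mp hx
    rcases mem_zpowers_involution hj hx1 with h | h
    · exact h
    · rw [h] at hx2; exact absurd hx2 hjX₀
  have hcard0 : Nat.card X₀ = 12 := by
    rw [Nat.card_congr e₀.toEquiv, Nat.card_eq_fintype_card]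
    have := two_mul_card_alternatingGroup (α := Fin 4)
    rw [Fintype.card_perm] at this
    have h4 : (Fintype.card (Fin 4)).factorial = 24 := by simp; rfl
    omega
  obtain ⟨X, hX⟩ : ∃ X : Subgroup H, X = zpowers j ⊔ X₀ := ⟨_, rfl⟩
  rw [← hX]
  have hcardX : Nat.card X = 24 := by
    have := card_sup_mul_card_inf_of_le_normalizer hjN
    rw [hinf, Subgroup.card_bot, mul_one, Nat.card_zpowers, hj, hcard0, ← hX] at this
    exact this
  have hX₀X : X₀ ≤ X := hX ▸ le_sup_right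
  have hjX : j ∈ X := hX ▸ le_sup_left (a := zpowers j) (mem_zpowers j)
  set W := sqSub X₀ e₀ with hW
  have hWK : IsKleinFour W := isKleinFour_sqSub X₀ e₀
  have hWX : W ≤ X := (sqSub_le X₀ e₀).trans hX₀X
  -- `X` normalizes `X₀`
  have hXn : ∀ g ∈ X, ∀ x ∈ X₀, g * x * g⁻¹ ∈ X₀ := by
    intro g hg x hx
    have hgN : g ∈ normalizer (X₀ : Set H) := by
      have : X ≤ normalizer (X₀ : Set H) := by
        rw [hX]; exact sup_le hjN le_normalizer
      exact this hg
    exact (mem_normalizer_iff.mp hgN x).mp hx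
  -- squares of elements of `X` lie in `X₀`
  have hsq : ∀ g ∈ X, g * g ∈ X₀ := by
    intro g hg
    rw [hX] at hg
    obtain ⟨y, hy, x, hx, rfl⟩ := exists_mul_of_mem_sup hjN hg
    rcases mem_zpowers_involution hj hy with h | h
    · rw [h, one_mul]; exact mul_mem hx hx
    · rw [h]
      have : j * x * (j * x) = (j * x * j⁻¹) * x := by
        rw [hjinv]; group
      rw [this]
      exact mul_mem (hjn x hx) hx
  set V : Subgroup X := W.subgroupOf X with hV
  haveI hVn : V.Normal := by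
    constructor
    intro v hv g
    rw [hV, mem_subgroupOf] at hv ⊢
    refine ⟨?_, ?_⟩
    · have := hXn g g.2 v hv.1
      simpa using this
    · have h2 := hv.2
      have : ((g * v * g⁻¹ : X) : H) * ((g * v * g⁻¹ : X) : H)
          = (g : H) * ((v : H) * (v : H)) * (g : H)⁻¹ := by
        push_cast; group
      rw [this, h2]; group
  have hVK : IsKleinFour V := by
    apply Cfsg.Agent.Lib.L0.Dih.isKleinFour_of_card_of_mul_self
    · rw [hV, Nat.card_congr (Subgroup.subgroupOfEquivOfLe hWX).toEquiv]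
      exact hWK.card_four
    · intro x
      have hx : (x : X) ∈ W.subgroupOf X := x.2
      rw [mem_subgroupOf] at hx
      apply Subtype.ext
      apply Subtype.ext
      exact hx.2
  have hC : centralizer (V : Set X) ≤ V := by
    intro g hg
    rw [mem_centralizer_iff] at hg
    have hgc : ∀ w ∈ W, (g : H) * w = w * (g : H) := by
      intro w hw
      have := hg ⟨w, hWX hw⟩ (by rw [SetLike.mem_coe, hV, mem_subgroupOf]; exact hw)
      exact (congrArg Subtype.val this).symm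
    have hg2 : (g : H) * (g : H) ∈ W := by
      apply mem_sqSub_of_commute X₀ e₀ (hsq g g.2)
      intro w hw
      calc (g : H) * (g : H) * w = (g : H) * ((g : H) * w) := by group
        _ = (g : H) * (w * (g : H)) := by rw [hgc w hw]
        _ = ((g : H) * w) * (g : H) := by group
        _ = w * ((g : H) * (g : H)) := by rw [hgc w hw]; group
    have hg4 : (g : H) ^ 4 = 1 := by
      have := hg2.2
      rw [show (4 : ℕ) = 2 + 2 from rfl, pow_add, pow_two]
      exact this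
    have hord : ∃ k : ℕ, orderOf (g : H) = 2 ^ k := by
      have := orderOf_dvd_of_pow_eq_one hg4
      rw [show (4 : ℕ) = 2 ^ 2 from rfl] at this
      obtain ⟨k, -, hk⟩ := (Nat.dvd_prime_pow Nat.prime_two).mp this
      exact ⟨k, hk⟩
    have := hD.mem_klein_of_commute W hWK hord hgc
    rw [hV, mem_subgroupOf]
    exact this
  exact Cfsg.Agent.Lib.H5.S4Recog.nonempty_mulEquiv_perm_four hcardX V hVK hC

end Cfsg.Agent.Lib.H5.ZasD1
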