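import Mathlib
import Cfsg.Agent.Lib.H5.ZasD1d
import Cfsg.Agent.Lib.H5.ZasD1e
import Cfsg.Agent.Lib.H9.A5FactsD

/-!
# Zassenhaus, H-level, block D1 (helper5): an element of order three and an involution
-/

set_option autoImplicit false
set_option linter.style.haveILetI false

namespace Cfsg.Agent.Lib.H5.ZasD1

open Subgroup Cfsg.Agent.Lib.H25.Zas

variable {H : Type*} [Group H] [Finite H] {n : ℕ}

local notation "A5" => alternatingGroup (Fin 5)

theorem not_isSolvable_A5 : ¬ Group.IsSolvable A5 := by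
  intro h
  haveI : IsSimpleGroup A5 := alternatingGroup.isSimpleGroup (by simp)
  have hc := (IsSimpleGroup.comm_iff_isSolvable (G := A5)).mpr h
  have h1 : (c[0, 1, 2] : Equiv.Perm (Fin 5)) ∈ A5 :=
    Equiv.Perm.mem_alternatingGroup.mpr (by decide)
  have h2 : (c[0, 1, 3] : Equiv.Perm (Fin 5)) ∈ A5 :=
    Equiv.Perm.mem_alternatingGroup.mpr (by decide)
  have := congrArg Subtype.val (hc ⟨_, h1⟩ ⟨_, h2⟩)
  revert this
  simp only [Subgroup.coe_mul]
  decide

omit [Finite H] in
/-- the common structure: `X = ⟨a, j⟩ = ⟨j⟩ X₀` with `X₀ = ⟨a, j a j⁻¹⟩` normalized by `j`. -/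
theorem pair_two_struct {a j : H} (hj : orderOf j = 2) :
    (∀ x ∈ closure ({a, j * a * j⁻¹} : Set H), j * x * j⁻¹ ∈ closure ({a, j * a * j⁻¹} : Set H)) ∧
    closure ({a, j} : Set H) = zpowers j ⊔ closure ({a, j * a * j⁻¹} : Set H) := by
  have hjj : j * j = 1 := by
    have := pow_orderOf_eq_one j
    rwa [hj, pow_two] at this
  have hjinv : j⁻¹ = j := inv_eq_of_mul_eq_one_left hjj
  have haX₀ : a ∈ closure ({a, j * a * j⁻¹} : Set H) := subset_closure (by simp)
  have hbX₀ : j * a * j⁻¹ ∈ closure ({a, j * a * j⁻¹} : Set H) := subset_closure (by simp)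
  constructor
  · intro x hx
    induction hx using Subgroup.closure_induction with
    | mem y hy =>
      rcases hy with hy | hy
      · rw [hy]; exact hbX₀
      · rw [Set.mem_singleton_iff] at hy
        rw [hy]
        have : j * (j * a * j⁻¹) * j⁻¹ = a := by
          rw [hjinv]
          calc j * (j * a * j) * j = (j * j) * a * (j * j) := by group
            _ = a := by rw [hjj, one_mul, mul_one]
        rw [this]; exact haX₀
    | one => rw [mul_one, mul_inv_cancel]; exact one_mem _
    | mul x y _ _ hx hy =>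
      have : j * (x * y) * j⁻¹ = (j * x * j⁻¹) * (j * y * j⁻¹) := by group
      rw [this]; exact mul_mem hx hy
    | inv x _ hx =>
      have : j * x⁻¹ * j⁻¹ = (j * x * j⁻¹)⁻¹ := by group
      rw [this]; exact inv_mem hx
  · apply le_antisymm
    · rw [closure_le]
      intro y hy
      rcases hy with hy | hy
      · rw [hy]; exact le_sup_right (a := zpowers j) haX₀
      · rw [Set.mem_singleton_iff] at hy
        rw [hy]; exact le_sup_left (a := zpowers j) (mem_zpowers j)
    · have haX : a ∈ closure ({a, j} : Set H) := subset_closure (by simp)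
      have hjX : j ∈ closure ({a, j} : Set H) := subset_closure (by simp)
      apply sup_le (zpowers_le.mpr hjX)
      rw [closure_le]
      intro y hy
      rcases hy with hy | hy
      · rw [hy]; exact haX
      · rw [Set.mem_singleton_iff] at hy
        rw [hy]
        exact mul_mem (mul_mem hjX haX) (inv_mem hjX)

/-- `A₅` cannot be extended by an outer involution `j` with `⟨a, j⟩` everything. -/
theorem false_of_a5_ext (h : HCtx H n) {a j : H} (ha : orderOf a = 3) (hj : orderOf j = 2)
    (e₀ : closure ({a, j * a * j⁻¹} : Set H) ≃* A5)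
    (hjX₀ : j ∉ closure ({a, j * a * j⁻¹} : Set H)) : False := by
  obtain ⟨hjn, hXeq⟩ := pair_two_struct (a := a) hj
  obtain ⟨X₀, hX₀⟩ : ∃ X₀ : Subgroup H, X₀ = closure ({a, j * a * j⁻¹} : Set H) := ⟨_, rfl⟩
  obtain ⟨X, hX⟩ : ∃ X : Subgroup H, X = closure ({a, j} : Set H) := ⟨_, rfl⟩
  rw [← hX₀] at e₀ hjX₀ hjn hXeq
  rw [← hX] at hXeq
  have hH := h.oddFPF
  have hb : orderOf (j * a * j⁻¹) = 3 := by
    rw [Cfsg.Agent.Lib.H4.DihBSW.orderOf_conj']; exact ha
  have haX : a ∈ X := hX ▸ subset_closure (by simp)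
  have hjX : j ∈ X := hX ▸ subset_closure (by simp)
  have hbX : j * a * j⁻¹ ∈ X := mul_mem (mul_mem hjX haX) (inv_mem hjX)
  have hXtop : X ≠ ⊤ := by
    rw [hX, Set.pair_comm]
    exact h.hyp.gen j a (Or.inl hj) ha
  have hjN : zpowers j ≤ normalizer (X₀ : Set H) := zpowers_le_normalizer hjn
  have hinf : zpowers j ⊓ X₀ = ⊥ := by
    rw [eq_bot_iff]
    intro x hx
    obtain ⟨hx1, hx2⟩ := Subgroup.mem_inf.mp hx
    rcases mem_zpowers_involution hj hx1 with h' | h'
    · exact h'
    · rw [h'] at hx2; exact absurd hx2 hjX₀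
  have hcard0 : Nat.card X₀ = 60 := by rw [Nat.card_congr e₀.toEquiv, card_A5]
  have hcardX : Nat.card X = 120 := by
    have := card_sup_mul_card_inf_of_le_normalizer hjN
    rw [hinf, Subgroup.card_bot, mul_one, Nat.card_zpowers, hj, hcard0, ← hXeq] at this
    exact this
  have hX₀X : X₀ ≤ X := hXeq ▸ le_sup_right
  have hns : ¬ Group.IsSolvable X := by
    intro hs
    have h1 : Group.IsSolvable X₀ :=
      Group.isSolvable_of_isSolvable_injective (f := Subgroup.inclusion hX₀X)
        (Subgroup.inclusion_injective hX₀X)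
    exact not_isSolvable_A5 (Group.isSolvable_of_isSolvable_injective (f := e₀.symm.toMonoidHom)
      e₀.symm.injective)
  obtain ⟨L, C, hLN, hCN, hLn, hCn, ⟨e⟩, hLC, hCkey, hinfLC, hCodd, hC30, hcard, -⟩ :=
    nonsolvable_structure h.dih hH h.hyp.perf X hXtop hns
  have hL60 : Nat.card L = 60 := by rw [Nat.card_congr e.toEquiv, card_A5]
  have hC1 : Nat.card C = 1 := by
    rcases hcard with h1 | h1
    · exfalso
      rw [hcardX] at h1
      have : Nat.card C = 2 := by omega
      rw [this] at hCodd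
      exact absurd hCodd (by decide)
    · rw [hcardX] at h1; omega
  have hCbot : C = ⊥ := Subgroup.card_eq_one.mp hC1
  have haL := mem_L_of_orderOf_three X L C hLN hCN hLn hCn hL60 hLC hinfLC hC30 hcard haX ha
  have hbL := mem_L_of_orderOf_three X L C hLN hCN hLn hCn hL60 hLC hinfLC hC30 hcard hbX hb
  have hX₀L : X₀ = L := by
    apply Subgroup.eq_of_le_of_card_ge
    · rw [hX₀, closure_le]
      intro y hy
      rcases hy with hy | hy
      · rw [hy]; exact haL
      · rw [Set.mem_singleton_iff] at hy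
        rw [hy]; exact hbL
    · rw [hL60, hcard0]
  have hjL : j ∉ L := hX₀L ▸ hjX₀
  -- the action on `L`
  haveI hLnorm : (L.subgroupOf X).Normal := hLn.subgroupOf_normal
  let e' : L.subgroupOf X ≃* A5 := (Subgroup.subgroupOfEquivOfLe hLN).trans e
  let ψ : X →* Equiv.Perm (Fin 5) := psi5 (L.subgroupOf X) e'
  have hker : ψ.ker = ⊥ := by
    rw [eq_bot_iff]
    intro g hg
    have hg' : g ∈ centralizer ((L.subgroupOf X : Subgroup X) : Set X) := by
      rw [← psi5_ker (L.subgroupOf X) e']; exact hg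
    rw [mem_centralizer_iff] at hg'
    have hgC : (g : H) ∈ C := by
      apply hCkey g g.2
      intro l hl
      have := hg' ⟨l, hLN hl⟩ (by rw [SetLike.mem_coe, mem_subgroupOf]; exact hl)
      exact (congrArg Subtype.val this).symm
    rw [hCbot, mem_bot] at hgC
    rw [mem_bot]
    exact Subtype.ext hgC
  have hinj : Function.Injective ψ := (MonoidHom.ker_eq_bot_iff ψ).mp hker
  have hsurj : Function.Surjective ψ := by
    have hbij : Function.Bijective ψ := by
      rw [Nat.bijective_iff_injective_and_card]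
      refine ⟨hinj, ?_⟩
      rw [hcardX, Nat.card_eq_fintype_card, Fintype.card_perm]
      simp; rfl
    exact hbij.2
  -- the generators
  have hgen : closure ({(⟨a, haX⟩ : X), ⟨j, hjX⟩} : Set X) = ⊤ := by
    apply Subgroup.map_injective X.subtype_injective
    rw [MonoidHom.map_closure, ← MonoidHom.range_eq_map, Subgroup.range_subtype]
    have : (X.subtype '' ({(⟨a, haX⟩ : X), ⟨j, hjX⟩} : Set X)) = {a, j} := by
      rw [Set.image_pair]; rfl
    rw [this, hX]
  have hgen' : closure ({ψ ⟨a, haX⟩, ψ ⟨j, hjX⟩} : Set (Equiv.Perm (Fin 5))) = ⊤ := by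
    have h1 := congrArg (Subgroup.map ψ) hgen
    rw [MonoidHom.map_closure, Set.image_pair, ← MonoidHom.range_eq_map,
      MonoidHom.range_eq_top.mpr hsurj] at h1
    exact h1
  have hoa : orderOf (ψ ⟨a, haX⟩) = 3 := by
    rw [orderOf_injective ψ hinj, Subgroup.orderOf_mk]; exact ha
  have hoj : orderOf (ψ ⟨j, hjX⟩) = 2 := by
    rw [orderOf_injective ψ hinj, Subgroup.orderOf_mk]; exact hj
  have hjA : ψ ⟨j, hjX⟩ ∉ A5 := by
    intro hmem
    set l := e'.symm ⟨ψ ⟨j, hjX⟩, hmem⟩ with hl
    have h1 : ψ (l : X) = ψ ⟨j, hjX⟩ := by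
      have := psi5_of_mem (L.subgroupOf X) e' l
      rw [hl, MulEquiv.apply_symm_apply] at this
      exact this
    have h2 := hinj h1
    have h3 : ((l : X) : H) ∈ L := by
      have := l.2
      rw [mem_subgroupOf] at this
      exact this
    rw [h2] at h3
    exact hjL h3
  exact Cfsg.Agent.Lib.H9.A5Facts.s5_not_gen _ _ hoa hoj hjA hgen'

end Cfsg.Agent.Lib.H5.ZasD1

namespace Cfsg.Agent.Lib.H25.Zas

open Subgroup Cfsg.Agent.Lib.H5.ZasD1

variable {H : Type*} [Group H] [Finite H] {n : ℕ}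

/-- **Block D1.** An element `a` of order three and an involution `j` not normalizing `⟨a⟩`
generate a subgroup isomorphic to `A₄`, `S₄` or `A₅`. -/
theorem HCtx.pair_two (h : HCtx H n) {a j : H} (ha : orderOf a = 3) (hj : orderOf j = 2)
    (hja : j * a * j⁻¹ ∉ zpowers a) :
    Nonempty (closure ({a, j} : Set H) ≃* alternatingGroup (Fin 4)) ∨
      Nonempty (closure ({a, j} : Set H) ≃* Equiv.Perm (Fin 4)) ∨
      Nonempty (closure ({a, j} : Set H) ≃* alternatingGroup (Fin 5)) := by
  have hb : orderOf (j * a * j⁻¹) = 3 := by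
    rw [Cfsg.Agent.Lib.H4.DihBSW.orderOf_conj']; exact ha
  obtain ⟨hjn, hXeq⟩ := pair_two_struct (a := a) hj
  by_cases hjX₀ : j ∈ closure ({a, j * a * j⁻¹} : Set H)
  · have hXX₀ : closure ({a, j} : Set H) = closure ({a, j * a * j⁻¹} : Set H) := by
      rw [hXeq]
      exact sup_eq_right.mpr (zpowers_le.mpr hjX₀)
    rw [hXX₀]
    rcases h.pair_three ha hb hja with h1 | h1
    · exact Or.inl h1
    · exact Or.inr (Or.inr h1)
  · rcases h.pair_three ha hb hja with ⟨⟨e₀⟩⟩ | ⟨⟨e₀⟩⟩
    · right; left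
      rw [hXeq]
      exact s4_of_a4_ext h.dih _ e₀ hj hjX₀ hjn
    · exact absurd (false_of_a5_ext h ha hj e₀ hjX₀) id

end Cfsg.Agent.Lib.H25.Zas
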