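import Cfsg.Agent.S0094
import Cfsg.Agent.Lib.H26.NGPDefs

set_option autoImplicit false

/-!
# S1904 piece C1NE32 (helper26 architect): a special group of order 32 with centre of order 4 has no group of
automorphisms of odd order whose fixed points are exactly the centre.

`Z₁ = ⟨z₁⟩ < Z`; `C g = {h | cm g h ∈ Z₁}` has index `≤ 2`; `x, g₀` with `cm x g₀ ∉ Z₁`; `D = C x ⊓ C g₀` has
order `8`; `y ∈ D ∖ Z` lies in the radical `Y = upper Z₁` (chain of strict inclusions), `Y` is `A`-invariant and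
`Y ≤ D`, so `a y ∈ y Z` for `a ∈ A`, hence `a y = y` (odd order), i.e. `y ∈ Fix A = Z`.
-/

namespace Cfsg.Agent.Lib.H5.NGP

open Cfsg.Agent.Lib.H26.NGP
open scoped commutatorElement

universe u

variable {X : Type u} [Group X]

/-- a strict inclusion of finite subgroups doubles the order -/
theorem two_mul_card_le [Finite X] {H K : Subgroup X} (hle : H ≤ K) (k : X) (hk : k ∈ K)
    (hkH : k ∉ H) : 2 * Nat.card H ≤ Nat.card K := by
  obtain ⟨m, hm⟩ := Subgroup.card_dvd_of_le hle
  have hKpos : 0 < Nat.card K := Nat.card_pos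
  have hm0 : m ≠ 0 := by
    rintro rfl
    omega
  have hm1 : m ≠ 1 := by
    rintro rfl
    rw [mul_one] at hm
    have h2 : H = K := Subgroup.eq_of_le_of_card_ge hle hm.le
    exact hkH (h2 ▸ hk)
  have h2 : 2 ≤ m := by omega
  calc 2 * Nat.card H ≤ m * Nat.card H := Nat.mul_le_mul_right _ h2
    _ = Nat.card K := by rw [hm, mul_comm]

/-- the commutator is multiplicative in the second variable when its values are central -/
theorem cm_mul_right_of_central (g h₁ h₂ : X) (hc : ∀ k : X, k * cm g h₂ = cm g h₂ * k) :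
    cm g (h₁ * h₂) = cm g h₁ * cm g h₂ := by
  have e1 : cm g (h₁ * h₂) = g * h₁ * g⁻¹ * (cm g h₂ * h₁⁻¹) := by
    simp only [cm_def]; group
  rw [e1, ← hc h₁⁻¹]
  simp only [cm_def]; group

/-- an automorphism of odd order that moves `x` by a fixed involution fixes `x` -/
theorem twist_trivial (σ : MulAut X) {o : ℕ} (ho : Odd o) (hσ : σ ^ o = 1) {x c : X}
    (hx : σ x = x * c) (hc : σ c = c) (hcc : c * c = 1) : c = 1 := by
  have h1 : ∀ k : ℕ, (σ ^ k) x = x * c ^ k := by
    intro k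
    induction k with
    | zero => simp
    | succ k ih =>
      rw [pow_succ', MulAut.mul_apply, ih, map_mul, map_pow, hx, hc, pow_succ', mul_assoc]
  have h2 := h1 o
  rw [hσ, MulAut.one_apply] at h2
  have h3 : c ^ o = 1 := by
    have := h2.symm
    rwa [mul_eq_left] at this
  obtain ⟨m, rfl⟩ := ho
  have h4 : c ^ 2 = 1 := by rw [pow_two, hcc]
  rw [pow_succ, pow_mul, h4, one_pow, one_mul] at h3
  exact h3

/-- **C1NE32** -/
theorem c1_four_ne32 [Finite X] (hX : IsPGroup 2 X) (hsp : Cfsg.IsSpecial 2 X)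
    (hZ : Nat.card (Subgroup.center X) = 4) (hcard : Nat.card X = 32)
    {A : Subgroup (MulAut X)} (hodd : Odd (Nat.card A)) (hgen : Gen A)
    (hfix : ∀ g : X, g ∈ Subgroup.center X ↔ ∀ a ∈ A, a g = g) : False := by
  classical
  haveI : Fact (Nat.Prime 2) := ⟨Nat.prime_two⟩
  have hZ2 : ∀ c ∈ Subgroup.center X, c * c = 1 := by
    intro c hc
    have := Cfsg.Agent.S0094.result hsp c hc
    rwa [pow_two] at this
  have hcmZ : ∀ g h : X, cm g h ∈ Subgroup.center X := by
    intro g h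
    have h1 : ⁅g, h⁆ ∈ commutator X := by
      rw [commutator_def]
      exact Subgroup.commutator_mem_commutator (Subgroup.mem_top g) (Subgroup.mem_top h)
    rw [hsp.2.2] at h1
    rwa [commutatorElement_def] at h1
  have hcomm : ∀ c ∈ Subgroup.center X, ∀ g : X, g * c = c * g :=
    fun c hc g => Subgroup.mem_center_iff.1 hc g
  have hbil : ∀ g h₁ h₂ : X, cm g (h₁ * h₂) = cm g h₁ * cm g h₂ :=
    fun g h₁ h₂ => cm_mul_right_of_central g h₁ h₂ (hcomm _ (hcmZ g h₂))
  let κ : X → X →* Subgroup.center X := fun g =>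
    { toFun := fun h => ⟨cm g h, hcmZ g h⟩
      map_one' := Subtype.ext (by simp [cm_def])
      map_mul' := fun h₁ h₂ => Subtype.ext (hbil g h₁ h₂) }
  -- the subgroup `Z₁`
  obtain ⟨z₁, hz₁, hz₁1⟩ : ∃ z₁ ∈ Subgroup.center X, z₁ ≠ 1 := by
    by_contra hcon
    push Not at hcon
    have h1 : Subgroup.center X = ⊥ := (Subgroup.eq_bot_iff_forall _).2 hcon
    rw [h1, Subgroup.card_bot] at hZ
    omega
  set Z₁ : Subgroup X := Subgroup.zpowers z₁ with hZ₁def
  have hZ₁card : Nat.card Z₁ = 2 := by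
    rw [hZ₁def, Nat.card_zpowers]
    exact orderOf_eq_prime (by rw [pow_two]; exact hZ2 z₁ hz₁) hz₁1
  have hZ₁Z : Z₁ ≤ Subgroup.center X := (Subgroup.zpowers_le).2 hz₁
  have hZ₁n : Z₁.Normal := ⟨fun w hw g => by
    have h1 := hcomm w (hZ₁Z hw) g
    rw [h1, mul_inv_cancel_right]
    exact hw⟩
  have hZ₁A : AInv A Z₁ := fun a ha w hw => by
    rw [(hfix w).1 (hZ₁Z hw) a ha]
    exact hw
  have hidxZ : (Z₁.subgroupOf (Subgroup.center X)).index = 2 := by
    have h1 := (Z₁.subgroupOf (Subgroup.center X)).card_mul_index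
    rw [Nat.card_congr (Subgroup.subgroupOfEquivOfLe hZ₁Z).toEquiv, hZ₁card, hZ] at h1
    omega
  let C : X → Subgroup X := fun g => (Z₁.subgroupOf (Subgroup.center X)).comap (κ g)
  have hC : ∀ g h, h ∈ C g ↔ cm g h ∈ Z₁ := fun g h => Iff.rfl
  have hCidx : ∀ g, (C g).index ≤ 2 := by
    intro g
    have h1 : (C g).index = (Z₁.subgroupOf (Subgroup.center X)).relIndex (κ g).range :=
      Subgroup.index_comap _ _
    have h2 : (Z₁.subgroupOf (Subgroup.center X)).relIndex (κ g).range ∣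
        (Z₁.subgroupOf (Subgroup.center X)).index := Subgroup.relIndex_dvd_index_of_normal _ _
    rw [h1]
    rw [hidxZ] at h2
    exact Nat.le_of_dvd (by norm_num) h2
  have hsym : ∀ g h, cm g h ∈ Z₁ → cm h g ∈ Z₁ := by
    intro g h hh
    have h1 : cm h g = (cm g h)⁻¹ := by simp only [cm_def]; group
    rw [h1]
    exact Z₁.inv_mem hh
  have hZC : ∀ g, Subgroup.center X ≤ C g := by
    intro g w hw
    rw [hC]
    have h1 : cm g w = 1 := by
      have h := hcomm w hw g
      rw [cm_def, h, mul_inv_cancel_right, mul_inv_cancel]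
    rw [h1]
    exact Z₁.one_mem
  have hself : ∀ g, g ∈ C g := by
    intro g
    rw [hC, cm_def, mul_inv_cancel_right, mul_inv_cancel]
    exact Z₁.one_mem
  -- (a) a pair with commutator outside `Z₁`
  obtain ⟨x, g₀, hxg⟩ : ∃ x g₀ : X, cm x g₀ ∉ Z₁ := by
    by_contra hcon
    push Not at hcon
    have h1 : commutator X ≤ Z₁ := by
      rw [commutator_def, Subgroup.commutator_le]
      intro g _ h _
      rw [commutatorElement_def]
      exact hcon g h
    rw [hsp.2.2] at h1
    have h2 := Subgroup.card_le_of_le h1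
    rw [hZ₁card, hZ] at h2
    omega
  have hg₀x : cm g₀ x ∉ Z₁ := fun h => hxg (hsym _ _ h)
  -- the subgroup `D`
  set D : Subgroup X := C x ⊓ C g₀ with hDdef
  have hZD : Subgroup.center X ≤ D := le_inf (hZC x) (hZC g₀)
  have hCx16 : 2 * Nat.card (C x) ≤ 32 := by
    have h1 := two_mul_card_le (le_top : C x ≤ ⊤) g₀ (Subgroup.mem_top _) (fun h => hxg ((hC _ _).1 h))
    rwa [Subgroup.card_top, hcard] at h1
  have hD8 : 2 * Nat.card D ≤ Nat.card (C x) :=
    two_mul_card_le (inf_le_left : D ≤ C x) x (hself x) (fun h => hg₀x ((hC _ _).1 h.2))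
  have hDge : 8 ≤ Nat.card D := by
    have h1 : D.index ≤ (C x).index * (C g₀).index := Subgroup.index_inf_le
    have h2 : D.index ≤ 4 := by
      calc D.index ≤ (C x).index * (C g₀).index := h1
        _ ≤ 2 * 2 := Nat.mul_le_mul (hCidx x) (hCidx g₀)
    have h3 := D.card_mul_index
    rw [hcard] at h3
    by_contra hlt
    push Not at hlt
    have h4 : Nat.card D * D.index ≤ 7 * 4 := Nat.mul_le_mul (by omega) h2
    omega
  have hDcard : Nat.card D = 8 := by omega
  obtain ⟨y, hyD, hyZ⟩ : ∃ y ∈ D, y ∉ Subgroup.center X := by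
    by_contra hcon
    push Not at hcon
    have h1 := Subgroup.card_le_of_le (show D ≤ Subgroup.center X from hcon)
    omega
  have hyx : cm x y ∈ Z₁ := (hC _ _).1 hyD.1
  have hyg : cm g₀ y ∈ Z₁ := (hC _ _).1 hyD.2
  -- `y` lies in the radical
  have hyY : ∀ g : X, cm y g ∈ Z₁ := by
    by_contra hcon
    push Not at hcon
    obtain ⟨g, hg⟩ := hcon
    have h1 : 2 * Nat.card (C y) ≤ 32 := by
      have h := two_mul_card_le (le_top : C y ≤ ⊤) g (Subgroup.mem_top _) (fun h => hg ((hC _ _).1 h))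
      rwa [Subgroup.card_top, hcard] at h
    have h2 : 2 * Nat.card (C y ⊓ C x : Subgroup X) ≤ Nat.card (C y) :=
      two_mul_card_le (inf_le_left : C y ⊓ C x ≤ C y) g₀ ((hC _ _).2 (hsym _ _ hyg))
        (fun h => hxg ((hC _ _).1 h.2))
    have h3 : 2 * Nat.card (C y ⊓ C x ⊓ C g₀ : Subgroup X) ≤ Nat.card (C y ⊓ C x : Subgroup X) :=
      two_mul_card_le (inf_le_left : C y ⊓ C x ⊓ C g₀ ≤ C y ⊓ C x) x
        ⟨(hC _ _).2 (hsym _ _ hyx), hself x⟩ (fun h => hg₀x ((hC _ _).1 h.2))
    have h4 : Subgroup.center X ≤ C y ⊓ C x ⊓ C g₀ := le_inf (le_inf (hZC y) (hZC x)) (hZC g₀)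
    have h5 : Subgroup.center X = C y ⊓ C x ⊓ C g₀ :=
      Subgroup.eq_of_le_of_card_ge h4 (by omega)
    apply hyZ
    rw [h5]
    exact ⟨⟨hself y, hyD.1⟩, hyD.2⟩
  -- the radical is `A`-invariant and contained in `D`
  have hYA := upper_ainv A Z₁ hZ₁n hZ₁A
  have hYD : upper Z₁ hZ₁n ≤ D := by
    intro w hw
    exact ⟨(hC _ _).2 (hsym _ _ (hw x)), (hC _ _).2 (hsym _ _ (hw g₀))⟩
  have hidxD : ((Subgroup.center X).subgroupOf D).index = 2 := by
    have h1 := ((Subgroup.center X).subgroupOf D).card_mul_index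
    rw [Nat.card_congr (Subgroup.subgroupOfEquivOfLe hZD).toEquiv, hZ, hDcard] at h1
    omega
  -- `A` fixes `y`
  apply hyZ
  rw [hfix]
  intro a ha
  have hay : a y ∈ D := hYD (hYA a ha y hyY)
  have hayZ : a y ∉ Subgroup.center X := by
    intro h
    apply hyZ
    have h1 : a⁻¹ (a y) = a y := (hfix (a y)).1 h a⁻¹ (A.inv_mem ha)
    rw [MulAut.inv_apply_self] at h1
    rw [h1]
    exact h
  have hc : y⁻¹ * a y ∈ Subgroup.center X := by
    have h1 := Subgroup.mul_mem_iff_of_index_two hidxD (a := (⟨y, hyD⟩ : D)⁻¹) (b := ⟨a y, hay⟩)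
    have h2 : ((⟨y, hyD⟩ : D)⁻¹ ∈ (Subgroup.center X).subgroupOf D ↔
        (⟨a y, hay⟩ : D) ∈ (Subgroup.center X).subgroupOf D) := by
      constructor
      · intro h
        exfalso
        apply hyZ
        have h3 : ((⟨y, hyD⟩ : D)⁻¹ : D).1 ∈ Subgroup.center X := Subgroup.mem_subgroupOf.1 h
        have h4 := (Subgroup.center X).inv_mem h3
        simpa using h4
      · intro h
        exact absurd (Subgroup.mem_subgroupOf.1 h) hayZ
    have h3 := Subgroup.mem_subgroupOf.1 (h1.2 h2)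
    simpa using h3
  have hpow : a ^ Nat.card A = 1 := by
    have h1 : (⟨a, ha⟩ : A) ^ Nat.card A = 1 := pow_card_eq_one'
    have h2 : (((⟨a, ha⟩ : A) ^ Nat.card A : A) : MulAut X) = ((1 : A) : MulAut X) :=
      congrArg Subtype.val h1
    rw [Subgroup.coe_pow, Subgroup.coe_one] at h2
    exact h2
  have hc1 : y⁻¹ * a y = 1 :=
    twist_trivial a hodd hpow (x := y) (c := y⁻¹ * a y) (by group)
      ((hfix _).1 hc a ha) (hZ2 _ hc)
  calc a y = y * (y⁻¹ * a y) := by group
    _ = y := by rw [hc1, mul_one]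

end Cfsg.Agent.Lib.H5.NGP
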