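import Cfsg.Agent.Lib.H26.NGPDefs
import Cfsg.Agent.Lib.H10.PGroup
import Cfsg.Agent.Lib.H5.NGPC1NE32

set_option autoImplicit false

/-!
# S1904 piece USET (helper26 architect): the case C2 data `USetup A ρ z U`

`B₀` characteristic abelian moved by `a ∈ A`; `Ω = Ω₁(B₀)` has at most four elements by (N); `a` moves some
`u ∈ Ω` (own copy of piece ODD), so it permutes `u, a u, a (a u)` cyclically; `ρ` = the `3`-part of `a`.
-/

namespace Cfsg.Agent.Lib.H5.NGP

open Cfsg.Agent.Lib.H26.NGP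

universe u

variable {X : Type u} [Group X]

/-- piece ODD (own copy): an automorphism of odd order that fixes the involutions of an invariant abelian
`2`-subgroup fixes it pointwise -/
theorem odd_fix_of_fix_invol (hX : IsPGroup 2 X) (a : MulAut X) (m : ℕ) (hm : Odd m) (ham : a ^ m = 1)
    (B : Subgroup X) (hab : Ab B) (hinvB : ∀ b ∈ B, a b ∈ B)
    (h1 : ∀ b ∈ B, b * b = 1 → a b = b) : ∀ b ∈ B, a b = b := by
  have key : ∀ k : ℕ, ∀ b ∈ B, b ^ 2 ^ k = 1 → a b = b := by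
    intro k
    induction k with
    | zero =>
      intro b _ hb
      rw [pow_zero, pow_one] at hb
      rw [hb, map_one]
    | succ k ih =>
      intro b hb hbk
      have hbb : a (b * b) = b * b := by
        apply ih (b * b) (B.mul_mem hb hb)
        rw [← pow_two, ← pow_mul, ← pow_succ']
        exact hbk
      have hcB : b⁻¹ * a b ∈ B := B.mul_mem (B.inv_mem hb) (hinvB b hb)
      have hcc : (b⁻¹ * a b) * (b⁻¹ * a b) = 1 := by
        have h2 : a b * b⁻¹ = b⁻¹ * a b := hab _ (hinvB b hb) _ (B.inv_mem hb)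
        calc (b⁻¹ * a b) * (b⁻¹ * a b) = b⁻¹ * (a b * b⁻¹) * a b := by group
          _ = b⁻¹ * (b⁻¹ * a b) * a b := by rw [h2]
          _ = (b * b)⁻¹ * a (b * b) := by rw [map_mul]; group
          _ = 1 := by rw [hbb, inv_mul_cancel]
      have hc1 := twist_trivial a hm ham (x := b) (c := b⁻¹ * a b) (by group) (h1 _ hcB hcc) hcc
      calc a b = b * (b⁻¹ * a b) := by group
        _ = b := by rw [hc1, mul_one]
  intro b hb
  obtain ⟨k, hk⟩ := hX b
  exact key k b hb hk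

theorem card_five {α : Type*} [DecidableEq α] (x₀ x₁ x₂ x₃ x₄ : α) (h01 : x₀ ≠ x₁) (h02 : x₀ ≠ x₂)
    (h03 : x₀ ≠ x₃) (h04 : x₀ ≠ x₄) (h12 : x₁ ≠ x₂) (h13 : x₁ ≠ x₃) (h14 : x₁ ≠ x₄) (h23 : x₂ ≠ x₃)
    (h24 : x₂ ≠ x₄) (h34 : x₃ ≠ x₄) : ({x₀, x₁, x₂, x₃, x₄} : Finset α).card = 5 := by
  rw [Finset.card_insert_of_notMem, Finset.card_insert_of_notMem, Finset.card_insert_of_notMem,
    Finset.card_insert_of_notMem, Finset.card_singleton] <;> simp [*]

/-- **USET** -/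
theorem exists_usetup [Finite X] (hX : IsPGroup 2 X) (hne : NE X) {A : Subgroup (MulAut X)}
    (hodd : Odd (Nat.card A))
    (hchar : ¬ ∀ H : Subgroup X, H.Characteristic → IsMulCommutative H → ∀ a ∈ A, ∀ h ∈ H, a h = h) :
    ∃ (ρ : MulAut X) (z : X) (U : Subgroup X), USetup A ρ z U := by
  classical
  haveI : Fact (Nat.Prime 2) := ⟨Nat.prime_two⟩
  push Not at hchar
  obtain ⟨B₀, hB₀c, hB₀ab, a, ha, h, hh, hah⟩ := hchar
  have hB₀inv : ∀ φ : MulAut X, ∀ b ∈ B₀, φ b ∈ B₀ := by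
    intro φ b hb
    exact (Subgroup.characteristic_iff_le_comap.1 hB₀c φ) hb
  have hB₀comm : ∀ b ∈ B₀, ∀ c ∈ B₀, b * c = c * b := by
    intro b hb c hc
    have h1 := hB₀ab.is_comm.comm (⟨b, hb⟩ : B₀) ⟨c, hc⟩
    exact congrArg Subtype.val h1
  let Ω : Subgroup X :=
    { carrier := {b | b ∈ B₀ ∧ b * b = 1}
      one_mem' := ⟨B₀.one_mem, mul_one 1⟩
      mul_mem' := by
        rintro b c ⟨hb, hbb⟩ ⟨hc, hcc⟩
        refine ⟨B₀.mul_mem hb hc, ?_⟩
        calc b * c * (b * c) = b * (c * b) * c := by group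
          _ = b * (b * c) * c := by rw [hB₀comm c hc b hb]
          _ = (b * b) * (c * c) := by group
          _ = 1 := by rw [hbb, hcc, one_mul]
      inv_mem' := by
        rintro b ⟨hb, hbb⟩
        refine ⟨B₀.inv_mem hb, ?_⟩
        calc b⁻¹ * b⁻¹ = (b * b)⁻¹ := by group
          _ = 1 := by rw [hbb, inv_one] }
  have hΩinv : ∀ φ : MulAut X, ∀ b ∈ Ω, φ b ∈ Ω := by
    rintro φ b ⟨hb, hbb⟩
    exact ⟨hB₀inv φ b hb, by rw [← map_mul, hbb, map_one]⟩
  have hΩn : Ω.Normal := ⟨fun b hb g => by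
    have h1 := hΩinv (MulAut.conj g) b hb
    rwa [MulAut.conj_apply] at h1⟩
  have hΩab : Ab Ω := fun b hb c hc => hB₀comm b hb.1 c hc.1
  have hΩ4 : ∀ S : Finset X, (∀ s ∈ S, s ∈ Ω) → S.card ≤ 4 :=
    fun S hS => hne Ω hΩn hΩab S (fun s hs => ⟨hS s hs, (hS s hs).2⟩)
  have hfive : ∀ x₀ x₁ x₂ x₃ x₄ : X, x₀ ∈ Ω → x₁ ∈ Ω → x₂ ∈ Ω → x₃ ∈ Ω → x₄ ∈ Ω →
      x₀ ≠ x₁ → x₀ ≠ x₂ → x₀ ≠ x₃ → x₀ ≠ x₄ → x₁ ≠ x₂ → x₁ ≠ x₃ → x₁ ≠ x₄ → x₂ ≠ x₃ →
      x₂ ≠ x₄ → x₃ ≠ x₄ → False := by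
    intro x₀ x₁ x₂ x₃ x₄ m0 m1 m2 m3 m4 h01 h02 h03 h04 h12 h13 h14 h23 h24 h34
    have h5 := card_five x₀ x₁ x₂ x₃ x₄ h01 h02 h03 h04 h12 h13 h14 h23 h24 h34
    have h4 := hΩ4 {x₀, x₁, x₂, x₃, x₄} (by
      intro s hs
      simp only [Finset.mem_insert, Finset.mem_singleton] at hs
      rcases hs with rfl | rfl | rfl | rfl | rfl <;> assumption)
    omega
  have hapow : a ^ Nat.card A = 1 := by
    have h1 : (⟨a, ha⟩ : A) ^ Nat.card A = 1 := pow_card_eq_one'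
    have h2 : (((⟨a, ha⟩ : A) ^ Nat.card A : A) : MulAut X) = ((1 : A) : MulAut X) :=
      congrArg Subtype.val h1
    rw [Subgroup.coe_pow, Subgroup.coe_one] at h2
    exact h2
  -- `a` moves some `u ∈ Ω`
  obtain ⟨u, hu, hau⟩ : ∃ u ∈ Ω, a u ≠ u := by
    by_contra hcon
    push Not at hcon
    exact hah (odd_fix_of_fix_invol hX a _ hodd hapow B₀ hB₀comm (hB₀inv a)
      (fun b hb hbb => hcon b ⟨hb, hbb⟩) h hh)
  have hu1 : u ≠ 1 := by
    rintro rfl
    exact hau (map_one a)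
  have hφ1 : ∀ φ : MulAut X, ∀ p : X, φ p = 1 → p = 1 := by
    intro φ p hp
    have h1 : φ p = φ 1 := by rw [hp, map_one]
    exact φ.injective h1
  have ha2 : a (a u) ≠ u := by
    intro h2
    obtain ⟨k, hk⟩ := hodd
    have h3 : ∀ j : ℕ, (a ^ (2 * j)) u = u := by
      intro j
      induction j with
      | zero => simp
      | succ j ih =>
        rw [Nat.mul_succ, pow_add, MulAut.mul_apply, pow_two, MulAut.mul_apply, h2, ih]
    have h4 : (a ^ (2 * k + 1)) u = a u := by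
      rw [pow_succ', MulAut.mul_apply, h3]
    rw [← hk, hapow, MulAut.one_apply] at h4
    exact hau h4.symm
  have ha3 : a (a (a u)) = u := by
    by_contra h3
    exact hfive 1 u (a u) (a (a u)) (a (a (a u))) Ω.one_mem hu (hΩinv a _ hu)
      (hΩinv a _ (hΩinv a _ hu)) (hΩinv a _ (hΩinv a _ (hΩinv a _ hu)))
      (Ne.symm hu1) (fun h => hu1 (hφ1 a _ h.symm))
      (fun h => hu1 (hφ1 a _ (hφ1 a _ h.symm)))
      (fun h => hu1 (hφ1 a _ (hφ1 a _ (hφ1 a _ h.symm))))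
      (Ne.symm hau) (Ne.symm ha2) (Ne.symm h3)
      (fun h => hau (a.injective h).symm)
      (fun h => ha2 (a.injective h).symm)
      (fun h => hau (a.injective (a.injective h)).symm)
  have h3q : ∀ q : ℕ, (a ^ (3 * q)) u = u := by
    intro q
    induction q with
    | zero => simp
    | succ q ih =>
      have h3 : (a ^ 3) u = u := by
        rw [pow_succ, pow_two, MulAut.mul_apply, MulAut.mul_apply]
        exact ha3
      rw [Nat.mul_succ, pow_add, MulAut.mul_apply, h3, ih]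
  -- the `3`-part of `a`
  have hcardA : Nat.card A ≠ 0 := Nat.card_pos.ne'
  obtain ⟨e, m', hm'3, hm'⟩ := Nat.exists_eq_pow_mul_and_not_dvd hcardA 3 (by norm_num)
  set ρ : MulAut X := a ^ m' with hρdef
  have hρA : ρ ∈ A := A.pow_mem ha m'
  have hρpow : ρ ^ 3 ^ e = 1 := by
    rw [hρdef, ← pow_mul, mul_comm, ← hm', hapow]
  have hρu : ρ u = a u ∨ ρ u = a (a u) := by
    have hm := Nat.div_add_mod m' 3
    have hr : m' % 3 = 1 ∨ m' % 3 = 2 := by
      have h0 : m' % 3 ≠ 0 := fun h => hm'3 (Nat.dvd_of_mod_eq_zero h)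
      omega
    have h1 : ρ u = (a ^ (m' % 3)) u := by
      have h2 : a ^ m' = a ^ (m' % 3) * a ^ (3 * (m' / 3)) := by
        rw [← pow_add, add_comm, hm]
      rw [hρdef, h2, MulAut.mul_apply, h3q]
    rcases hr with hr | hr
    · left
      rw [h1, hr, pow_one]
    · right
      rw [h1, hr, pow_two, MulAut.mul_apply]
  have hρne : ρ u ≠ u := by
    rcases hρu with h1 | h1 <;> rw [h1]
    · exact hau
    · exact ha2
  have hcube : ρ (ρ (ρ u)) = u := by
    have h1 := h3q m'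
    rw [mul_comm, pow_mul, pow_succ, pow_two, MulAut.mul_apply, MulAut.mul_apply] at h1
    exact h1
  have hρ2ne : ρ (ρ u) ≠ u := by
    intro h2
    rw [h2] at hcube
    exact hρne hcube
  have hmemU : ∀ x : X, x ∈ Ω ↔ x = 1 ∨ x = u ∨ x = ρ u ∨ x = ρ (ρ u) := by
    intro x
    constructor
    · intro hx
      by_contra hcon
      push Not at hcon
      obtain ⟨c1, c2, c3, c4⟩ := hcon
      exact hfive 1 u (ρ u) (ρ (ρ u)) x Ω.one_mem hu (hΩinv ρ _ hu) (hΩinv ρ _ (hΩinv ρ _ hu)) hx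
        (Ne.symm hu1) (fun h => hu1 (hφ1 ρ _ h.symm))
        (fun h => hu1 (hφ1 ρ _ (hφ1 ρ _ h.symm))) (Ne.symm c1)
        (Ne.symm hρne) (Ne.symm hρ2ne) (Ne.symm c2)
        (fun h => hρne (ρ.injective h).symm) (Ne.symm c3) (Ne.symm c4)
    · rintro (rfl | rfl | rfl | rfl)
      · exact Ω.one_mem
      · exact hu
      · exact hΩinv ρ _ hu
      · exact hΩinv ρ _ (hΩinv ρ _ hu)
  have hcen : ∀ φ : MulAut X, ∀ c ∈ Subgroup.center X, φ c ∈ Subgroup.center X := by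
    intro φ c hc
    rw [Subgroup.mem_center_iff] at hc ⊢
    intro g
    have h1 := congrArg φ (hc (φ⁻¹ g))
    rwa [map_mul, map_mul, MulAut.apply_inv_self] at h1
  have hΩbot : Ω ≠ ⊥ := by
    intro h1
    apply hu1
    have h2 : u ∈ (⊥ : Subgroup X) := h1 ▸ hu
    exact Subgroup.mem_bot.1 h2
  haveI := hΩn
  obtain ⟨v, hvΩ, hv1, hvZ⟩ := Cfsg.Agent.Lib.H10.exists_ne_one_mem_center_of_normal hX Ω hΩbot
  have huZ : u ∈ Subgroup.center X := by
    rcases (hmemU v).1 hvΩ with h1 | h1 | h1 | h1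
    · exact absurd h1 hv1
    · rw [← h1]; exact hvZ
    · have h2 := hcen ρ _ (hcen ρ _ hvZ)
      rw [h1, hcube] at h2
      exact h2
    · have h2 := hcen ρ _ hvZ
      rw [h1, hcube] at h2
      exact h2
  refine ⟨ρ, u, Ω, ?_⟩
  exact
    { mem := hρA
      pow := ⟨e, hρpow⟩
      z1 := hu1
      zz := hu.2
      ne := hρne
      cube := hcube
      memU := hmemU
      central := by
        intro x hx
        rcases (hmemU x).1 hx with rfl | rfl | rfl | rfl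
        · exact Subgroup.one_mem _
        · exact huZ
        · exact hcen ρ _ huZ
        · exact hcen ρ _ (hcen ρ _ huZ)
      ainv := fun φ _ x hx => hΩinv φ x hx }

end Cfsg.Agent.Lib.H5.NGP
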