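import Mathlib
import Cfsg.Agent.Lib.H26.TwoMinDefs
import Cfsg.Agent.Lib.H20.TwoMinN1

set_option autoImplicit false
open scoped commutatorElement

/-!
# S4409 piece MA2Q (helper26 architect): the case `X = Q₈ ∘ Q₈`.
-/

namespace Cfsg.Agent.Lib.H5.TwoMin

open Cfsg.Agent.Lib.H26.TwoMin

variable {G : Type*} [Group G]

theorem ma_card_le_of_forall_mem (Y : Subgroup G) (s : Finset G) (h : ∀ y ∈ Y, y ∈ s) :
    Nat.card ↥Y ≤ s.card := by
  classical
  have hinj : Function.Injective (fun y : ↥Y => (⟨(y : G), h y y.2⟩ : ↥s)) := by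
    intro a b hab
    apply Subtype.ext
    exact congrArg (fun t : ↥s => (t : G)) hab
  have := Nat.card_le_card_of_injective _ hinj
  have hs : Nat.card ↥s = s.card := by rw [Nat.card_eq_fintype_card, Fintype.card_coe]
  rwa [hs] at this

theorem ma_mem_zpowers_iff {z : G} (hz : z ^ 2 = 1) (x : G) :
    x ∈ Subgroup.zpowers z ↔ x = 1 ∨ x = z := by
  constructor
  · intro hx
    obtain ⟨k, rfl⟩ := Subgroup.mem_zpowers_iff.1 hx
    have hz' : z ^ (2 : ℤ) = 1 := by
      rw [← hz]; exact zpow_ofNat z 2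
    rcases Int.even_or_odd' k with ⟨m, rfl | rfl⟩
    · left; rw [zpow_mul, hz', one_zpow]
    · right; rw [zpow_add, zpow_one, zpow_mul, hz', one_zpow, one_mul]
  · rintro (rfl | rfl)
    · exact Subgroup.one_mem _
    · exact Subgroup.mem_zpowers _

theorem ma_q8_z_comm {Y : Subgroup G} {z : G} (hQ : Q8Type Y z) : ∀ y ∈ Y, y * z = z * y := by
  intro y hy
  by_cases h1 : y = 1
  · rw [h1, one_mul, mul_one]
  by_cases h2 : y = z
  · rw [h2]
  · have := hQ.2.2.2.2 y hy h1 h2
    rw [← this, pow_two, mul_assoc]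

theorem ma_q8_sq_mem {Y : Subgroup G} {z : G} (hQ : Q8Type Y z) :
    ∀ y ∈ Y, y ^ 2 ∈ Subgroup.zpowers z := by
  intro y hy
  by_cases h1 : y = 1
  · rw [h1, one_pow]; exact Subgroup.one_mem _
  by_cases h2 : y = z
  · rw [h2, hQ.2.2.2.1]; exact Subgroup.one_mem _
  · rw [hQ.2.2.2.2 y hy h1 h2]; exact Subgroup.mem_zpowers _

theorem ma_q8_center {Y : Subgroup G} {z : G} (hQ : Q8Type Y z) (y : G) (hy : y ∈ Y)
    (hc : ∀ b ∈ Y, y * b = b * y) : y = 1 ∨ y = z := by
  classical
  by_contra hne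
  rw [not_or] at hne
  have hy2 := hQ.2.2.2.2 y hy hne.1 hne.2
  have hsub : ∀ b ∈ Y, b ∈ ({1, z, y⁻¹, y⁻¹ * z} : Finset G) := by
    intro b hb
    simp only [Finset.mem_insert, Finset.mem_singleton]
    by_cases hb1 : b = 1
    · left; exact hb1
    by_cases hbz : b = z
    · right; left; exact hbz
    have hb2 := hQ.2.2.2.2 b hb hb1 hbz
    have hyb : (y * b) ^ 2 = 1 := by
      rw [(show Commute y b from hc b hb).mul_pow, hy2, hb2, ← pow_two, hQ.2.2.2.1]
    have hybY : y * b ∈ Y := Y.mul_mem hy hb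
    by_cases h1 : y * b = 1
    · right; right; left; exact eq_inv_of_mul_eq_one_right h1
    · by_cases h2 : y * b = z
      · right; right; right; rw [← h2]; group
      · exfalso
        have := hQ.2.2.2.2 (y * b) hybY h1 h2
        rw [hyb] at this
        exact hQ.2.2.1 this.symm
  have := ma_card_le_of_forall_mem Y _ hsub
  have h4 : ({1, z, y⁻¹, y⁻¹ * z} : Finset G).card ≤ 4 := Finset.card_le_four
  rw [hQ.1] at this
  omega

theorem ma_comm_mem_of_sq_mem (X N : Subgroup G) (hsq : ∀ x ∈ X, x ^ 2 ∈ N)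
    (hcen : ∀ n ∈ N, ∀ x ∈ X, n * x = x * n)
    (a b : G) (ha : a ∈ X) (hb : b ∈ X) : a * b * a⁻¹ * b⁻¹ ∈ N := by
  have hsq' : ∀ x ∈ X, x * x ∈ N := fun x hx => by rw [← pow_two]; exact hsq x hx
  have h1 : a * b * a⁻¹ * b⁻¹ = (a * b) * (a * b) * (b⁻¹ * (a * a)⁻¹ * b) * (b * b)⁻¹ := by group
  have h2 : b⁻¹ * (a * a)⁻¹ * b = (a * a)⁻¹ := by
    have := hcen _ (N.inv_mem (hsq' a ha)) b hb
    rw [mul_assoc, this, ← mul_assoc, inv_mul_cancel, one_mul]
  rw [h1, h2]
  exact N.mul_mem (N.mul_mem (hsq' _ (X.mul_mem ha hb)) (N.inv_mem (hsq' a ha))) (N.inv_mem (hsq' b hb))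

theorem ma_mem_normalizer_centralizer {Y : Subgroup G} {k : G}
    (hk : k ∈ Subgroup.normalizer (Y : Set G)) :
    k ∈ Subgroup.normalizer ((Subgroup.centralizer (Y : Set G) : Subgroup G) : Set G) := by
  rw [Subgroup.mem_normalizer_iff] at hk ⊢
  intro n
  simp only [Subgroup.mem_centralizer_iff, SetLike.mem_coe]
  constructor
  · intro hn y hy
    have hy' : k⁻¹ * y * k ∈ Y := by
      apply (hk (k⁻¹ * y * k)).2
      have e : k * (k⁻¹ * y * k) * k⁻¹ = y := by group
      rw [e]; exact hy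
    have := hn _ hy'
    calc y * (k * n * k⁻¹) = k * ((k⁻¹ * y * k) * n) * k⁻¹ := by group
      _ = k * (n * (k⁻¹ * y * k)) * k⁻¹ := by rw [this]
      _ = k * n * k⁻¹ * y := by group
  · intro hn y hy
    have hy' : k * y * k⁻¹ ∈ Y := (hk y).1 hy
    have := hn _ hy'
    calc y * n = k⁻¹ * ((k * y * k⁻¹) * (k * n * k⁻¹)) * k := by group
      _ = k⁻¹ * ((k * n * k⁻¹) * (k * y * k⁻¹)) * k := by rw [this]
      _ = n * y := by group

/-- **MA2Q**. -/
theorem caseA2_q8 [Finite G] (L : Layer1 G) {X H Y : Subgroup G} {z : G} (h : Setup X H) (hXH : ⁅X, H⁆ = X)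
    (hYX : Y < X) (hQ : Q8Type Y z)
    (hHY : H ≤ Subgroup.normalizer (Y : Set G)) (hnc : ¬ H ≤ Subgroup.centralizer (Y : Set G))
    (hno : ∀ U : Subgroup G, U < X → H ≤ Subgroup.normalizer (U : Set G) → ¬ H ≤ Subgroup.centralizer (U : Set G) →
      ¬ V4Type U) :
    SpecialIn X (Subgroup.zpowers z) ∧ Nat.card ↥X = 32 := by
  classical
  have := h.normal
  have hY8 := hQ.1
  have hzY := hQ.2.1
  have hz1 := hQ.2.2.1
  have hz2 := hQ.2.2.2.1
  have hzz : z * z = 1 := by rw [← pow_two]; exact hz2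
  have hXNY : X ≤ Subgroup.normalizer (Y : Set G) :=
    Cfsg.Agent.Lib.H20.TwoMin.normal_of_invariant L h hYX hHY hnc
  have hHodd : ∀ k ∈ H, Odd (orderOf k) := fun k hk =>
    h.odd.of_dvd_nat (Subgroup.orderOf_dvd_natCard H hk)
  have hNX : ∀ k : G, k ∈ Subgroup.normalizer (X : Set G) := by
    intro k; rw [Subgroup.normalizer_eq_top]; trivial
  obtain ⟨g, hgH, hgC⟩ : ∃ g ∈ H, g ∉ Subgroup.centralizer (Y : Set G) := by
    by_contra hcon
    apply hnc
    intro k hk
    by_contra hkc
    exact hcon ⟨k, hk, hkc⟩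
  obtain ⟨D, hDdef⟩ : ∃ D : Subgroup G, D = X ⊓ Subgroup.centralizer (Y : Set G) := ⟨_, rfl⟩
  have hYD : Y ⊔ D = X := by
    rw [hDdef]
    exact L.q8_factor X Y z g h.two hYX.le hQ hXNY (hHodd g hgH) (hNX g) (hHY hgH) hgC
  have hDX : D ≤ X := hDdef ▸ inf_le_left
  have hDC : ∀ d ∈ D, ∀ y ∈ Y, y * d = d * y := by
    intro d hd y hy
    have : d ∈ Subgroup.centralizer (Y : Set G) := by
      rw [hDdef] at hd; exact hd.2
    exact Subgroup.mem_centralizer_iff.1 this y hy
  have hzcomm := ma_q8_z_comm hQ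
  have hzD : z ∈ D := by
    rw [hDdef]
    exact ⟨hYX.le hzY, Subgroup.mem_centralizer_iff.2 (fun y hy => hzcomm y hy)⟩
  -- `H` normalizes `D`
  have hHD : H ≤ Subgroup.normalizer (D : Set G) := by
    intro k hk
    have h1 := hNX k
    have h2 := ma_mem_normalizer_centralizer (hHY hk)
    rw [Subgroup.mem_normalizer_iff] at h1 h2 ⊢
    intro n
    rw [hDdef, Subgroup.mem_inf, Subgroup.mem_inf]
    exact and_congr (h1 n) (h2 n)
  -- `D < X`
  have hDltX : D < X := by
    refine lt_of_le_of_ne hDX ?_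
    intro hEq
    have hall : ∀ y ∈ Y, y = 1 ∨ y = z := fun y hy =>
      ma_q8_center hQ y hy (fun b hb => (hDC y (hEq ▸ hYX.le hy) b hb).symm)
    have hsub : ∀ y ∈ Y, y ∈ ({1, z} : Finset G) := by
      intro y hy
      simp only [Finset.mem_insert, Finset.mem_singleton]
      exact hall y hy
    have := ma_card_le_of_forall_mem Y _ hsub
    have h2 : ({1, z} : Finset G).card ≤ 2 := Finset.card_le_two
    rw [hY8] at this
    omega
  -- the product map
  have hcommYD : ∀ (y : ↥Y) (d : ↥D), Commute (Y.subtype y) (D.subtype d) :=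
    fun y d => hDC d d.2 y y.2
  obtain ⟨φ, hφdef⟩ : ∃ φ : ↥Y × ↥D →* G, φ = MonoidHom.noncommCoprod Y.subtype D.subtype hcommYD :=
    ⟨_, rfl⟩
  have hφapp : ∀ p : ↥Y × ↥D, φ p = (p.1 : G) * (p.2 : G) := fun p => by
    rw [hφdef]; exact MonoidHom.noncommCoprod_apply _ _ _ p
  have hφrange : φ.range = X := by
    rw [hφdef, MonoidHom.noncommCoprod_range, Subgroup.range_subtype, Subgroup.range_subtype, hYD]
  have hdec : ∀ x ∈ X, ∃ y ∈ Y, ∃ d ∈ D, x = y * d := by
    intro x hx
    rw [← hφrange] at hx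
    obtain ⟨p, rfl⟩ := hx
    exact ⟨p.1, p.1.2, p.2, p.2.2, hφapp p⟩
  -- `H` does not centralize `D`
  have hncD : ¬ H ≤ Subgroup.centralizer (D : Set G) := by
    intro hcen
    have hle : ⁅X, H⁆ ≤ Y := by
      rw [Subgroup.commutator_le]
      intro x hx k hk
      obtain ⟨y, hy, d, hd, rfl⟩ := hdec x hx
      have hdk : d * k = k * d := Subgroup.mem_centralizer_iff.1 (hcen hk) d hd
      have : ⁅y * d, k⁆ = y * (k * y⁻¹ * k⁻¹) := by
        rw [commutatorElement_def]
        calc y * d * k * (y * d)⁻¹ * k⁻¹ = y * (d * k) * d⁻¹ * y⁻¹ * k⁻¹ := by group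
          _ = y * (k * d) * d⁻¹ * y⁻¹ * k⁻¹ := by rw [hdk]
          _ = y * (k * y⁻¹ * k⁻¹) := by group
      rw [this]
      exact Y.mul_mem hy ((Subgroup.mem_normalizer_iff.1 (hHY hk) y⁻¹).1 (Y.inv_mem hy))
    rw [hXH] at hle
    exact (not_le_of_gt hYX) hle
  obtain ⟨g', hg'H, hg'C⟩ : ∃ g' ∈ H, g' ∉ Subgroup.centralizer (D : Set G) := by
    by_contra hcon
    apply hncD
    intro k hk
    by_contra hkc
    exact hcon ⟨k, hk, hkc⟩
  have hD2 : IsPGroup 2 ↥D := h.two.to_le hDX
  have hDA : AFree D := h.inv D hDltX hHD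
  obtain ⟨z', hQD'⟩ : ∃ z', Q8Type D z' := by
    rcases L.lemmaK D g' hD2 hDA (hHodd g' hg'H) (hHD hg'H) hg'C with hV | hQ2
    · exact absurd hV (hno D hDltX hHD hncD)
    · exact hQ2
  have hzz' : z' = z := by
    by_contra hne
    have := hQD'.2.2.2.2 z hzD hz1 (fun h => hne h.symm)
    rw [hz2] at this
    exact hQD'.2.2.1 this.symm
  have hQD : Q8Type D z := hzz' ▸ hQD'
  -- the order of `X`
  have hker : Nat.card φ.ker = 2 := by
    rw [Nat.card_eq_two_iff]
    have he : ((⟨z, hzY⟩, ⟨z, hzD⟩) : ↥Y × ↥D) ∈ φ.ker := by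
      rw [MonoidHom.mem_ker, hφapp]; exact hzz
    refine ⟨1, ⟨_, he⟩, ?_, ?_⟩
    · intro h1
      have := congrArg (fun t : φ.ker => ((t : ↥Y × ↥D).1 : G)) h1
      exact hz1 this.symm
    · ext ⟨⟨y, d⟩, hyd⟩
      simp only [Set.mem_insert_iff, Set.mem_singleton_iff, Set.mem_univ, iff_true]
      rw [MonoidHom.mem_ker, hφapp] at hyd
      have hyd' : (y : G) * (d : G) = 1 := hyd
      have hyD : (y : G) ∈ D := by
        have : (y : G) = (d : G)⁻¹ := eq_inv_of_mul_eq_one_left hyd'
        rw [this]; exact D.inv_mem d.2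
      rcases ma_q8_center hQ y y.2 (fun b hb => (hDC y hyD b hb).symm) with h1 | h1
      · left
        apply Subtype.ext
        apply Prod.ext
        · exact Subtype.ext h1
        · apply Subtype.ext
          show (d : G) = 1
          rw [h1, one_mul] at hyd'
          exact hyd'
      · right
        apply Subtype.ext
        apply Prod.ext
        · exact Subtype.ext h1
        · apply Subtype.ext
          show (d : G) = z
          rw [h1] at hyd'
          calc (d : G) = z * z * d := by rw [hzz, one_mul]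
            _ = z * (z * d) := mul_assoc _ _ _
            _ = z := by rw [hyd', mul_one]
  have hcard : Nat.card ↥X = 32 := by
    have h1 := Subgroup.card_eq_card_quotient_mul_card_subgroup φ.ker
    rw [Nat.card_congr (QuotientGroup.quotientKerEquivRange φ).toEquiv, hφrange, hker,
      Nat.card_prod, hY8, hQD.1] at h1
    omega
  -- squares and centrality
  have hsq : ∀ x ∈ X, x ^ 2 ∈ Subgroup.zpowers z := by
    intro x hx
    obtain ⟨y, hy, d, hd, rfl⟩ := hdec x hx
    rw [(show Commute y d from hDC d hd y hy).mul_pow]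
    exact (Subgroup.zpowers z).mul_mem (ma_q8_sq_mem hQ y hy) (ma_q8_sq_mem hQD d hd)
  have hzX : ∀ x ∈ X, z * x = x * z := by
    intro x hx
    obtain ⟨y, hy, d, hd, rfl⟩ := hdec x hx
    rw [← mul_assoc, ← hzcomm y hy, mul_assoc, hDC d hd z hzY, ← mul_assoc]
  have hcen : ∀ n ∈ Subgroup.zpowers z, ∀ x ∈ X, n * x = x * n := by
    intro n hn x hx
    rcases (ma_mem_zpowers_iff hz2 n).1 hn with rfl | rfl
    · rw [one_mul, mul_one]
    · exact hzX x hx
  refine ⟨⟨?_, ?_, hsq⟩, hcard⟩
  · -- the centre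
    ext x
    rw [Subgroup.mem_inf, Subgroup.mem_centralizer_iff]
    constructor
    · intro hx
      have hxX : x ∈ X := by
        rcases (ma_mem_zpowers_iff hz2 x).1 hx with rfl | rfl
        · exact X.one_mem
        · exact hYX.le hzY
      exact ⟨hxX, fun b hb => (hcen x hx b hb).symm⟩
    · rintro ⟨hxX, hxC⟩
      obtain ⟨y, hy, d, hd, rfl⟩ := hdec x hxX
      have hyc : ∀ b ∈ Y, y * b = b * y := by
        intro b hb
        have h1 : b * (y * d) = y * d * b := hxC b (hYX.le hb)
        have h2 : b * d = d * b := hDC d hd b hb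
        have h3 : y * b * d = b * y * d := by
          calc y * b * d = y * (b * d) := mul_assoc _ _ _
            _ = y * (d * b) := by rw [h2]
            _ = y * d * b := (mul_assoc _ _ _).symm
            _ = b * (y * d) := h1.symm
            _ = b * y * d := (mul_assoc _ _ _).symm
        exact mul_right_cancel h3
      have hdc : ∀ e ∈ D, d * e = e * d := by
        intro e he
        have h1 : e * (y * d) = y * d * e := hxC e (hDX he)
        have h2 : y * e = e * y := hDC e he y hy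
        have h3 : y * (d * e) = y * (e * d) := by
          calc y * (d * e) = y * d * e := (mul_assoc _ _ _).symm
            _ = e * (y * d) := h1.symm
            _ = e * y * d := (mul_assoc _ _ _).symm
            _ = y * e * d := by rw [h2]
            _ = y * (e * d) := mul_assoc _ _ _
        exact mul_left_cancel h3
      have hy' := (ma_mem_zpowers_iff hz2 y).2 (ma_q8_center hQ y hy hyc)
      have hd' := (ma_mem_zpowers_iff hz2 d).2 (ma_q8_center hQD d hd hdc)
      exact (Subgroup.zpowers z).mul_mem hy' hd'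
  · -- the commutator subgroup
    apply le_antisymm
    · rw [Subgroup.commutator_le]
      intro a ha b hb
      rw [commutatorElement_def]
      exact ma_comm_mem_of_sq_mem X _ hsq hcen a b ha hb
    · rw [Subgroup.zpowers_le]
      -- an element of `Y` outside `{1, z}`
      obtain ⟨a, haY, ha1, haz⟩ : ∃ a ∈ Y, a ≠ 1 ∧ a ≠ z := by
        by_contra hcon
        have hsub : ∀ y ∈ Y, y ∈ ({1, z} : Finset G) := by
          intro y hy
          simp only [Finset.mem_insert, Finset.mem_singleton]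
          by_contra hyn
          rw [not_or] at hyn
          exact hcon ⟨y, hy, hyn.1, hyn.2⟩
        have := ma_card_le_of_forall_mem Y _ hsub
        have h2 : ({1, z} : Finset G).card ≤ 2 := Finset.card_le_two
        rw [hY8] at this
        omega
      obtain ⟨b, hbY, hab⟩ : ∃ b ∈ Y, a * b ≠ b * a := by
        by_contra hcon
        have hall : ∀ b ∈ Y, a * b = b * a := by
          intro b hb
          by_contra hne
          exact hcon ⟨b, hb, hne⟩
        rcases ma_q8_center hQ a haY hall with h1 | h1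
        · exact ha1 h1
        · exact haz h1
      have hc := ma_comm_mem_of_sq_mem X _ hsq hcen a b (hYX.le haY) (hYX.le hbY)
      have hcm : ⁅a, b⁆ ∈ ⁅X, X⁆ := Subgroup.commutator_mem_commutator (hYX.le haY) (hYX.le hbY)
      rw [commutatorElement_def] at hcm
      rcases (ma_mem_zpowers_iff hz2 _).1 hc with h1 | h1
      · exfalso
        apply hab
        have : a * b * a⁻¹ = b := by
          have := mul_inv_eq_one.1 h1
          exact this
        calc a * b = a * b * a⁻¹ * a := by group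
          _ = b * a := by rw [this]
      · rw [← h1]; exact hcm

end Cfsg.Agent.Lib.H5.TwoMin
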