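import Mathlib
import Cfsg.Agent.Lib.H23.CycloNorm

/-!
# S4923 piece QUAD (helper5): the stabiliser of `η + η^ε` in the cyclotomic Galois group
-/

set_option autoImplicit false

namespace Cfsg.Agent.Lib.H5.FV

open Cfsg.Agent.Lib.H23

/-- **QUAD** (stabiliser of `η + η^ε` in the cyclotomic Galois group). -/
theorem quad (m : ℕ) [NeZero m] (hm : Even m) (η : CyclotomicField m ℚ) (hη : IsPrimitiveRoot η m)
    (ε : (ZMod m)ˣ) (hε : ε * ε = 1) (hq : (η * η ^ (ε : ZMod m).val) ^ 2 = 1)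
    (σ : Gal(CyclotomicField m ℚ/ℚ)) :
    σ (η + η ^ (ε : ZMod m).val) = η + η ^ (ε : ZMod m).val ↔
      (cycGalEquiv m σ = 1 ∨ cycGalEquiv m σ = ε) := by
  have hm2 : 1 < m := by
    obtain ⟨c, hc⟩ := hm
    have := NeZero.ne m
    omega
  haveI : Fact (1 < m) := ⟨hm2⟩
  have hηm : η ^ m = 1 := hη.pow_eq_one
  obtain ⟨e, he⟩ : ∃ e : ℕ, e = (ε : ZMod m).val := ⟨_, rfl⟩
  rw [← he] at hq ⊢
  have hem : e < m := he ▸ ZMod.val_lt _
  have hee : η ^ (e * e) = η := by
    have h1 : ((e * e : ℕ) : ZMod m) = ((1 : ℕ) : ZMod m) := by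
      rw [Nat.cast_mul, he, ZMod.natCast_zmod_val, ← Units.val_mul, hε, Units.val_one,
        Nat.cast_one]
    have h2 : (e * e) % m = 1 := by
      have h3 := (ZMod.natCast_eq_natCast_iff' (e * e) 1 m).mp h1
      rw [h3, Nat.mod_eq_of_lt hm2]
    rw [← Nat.mod_add_div (e * e) m, h2, pow_add, pow_mul, hηm, one_pow, mul_one, pow_one]
  obtain ⟨u, hu⟩ : ∃ u : ℕ, u = (cycPow m σ).val := ⟨_, rfl⟩
  have hum : u < m := hu ▸ ZMod.val_lt _
  have hση : σ η = η ^ u := by rw [hu]; exact cycAut_pow m σ η hηm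
  have hσηe : σ (η ^ e) = η ^ (u * e) := by rw [map_pow, hση, ← pow_mul]
  have hk : ((cycGalEquiv m σ : (ZMod m)ˣ) : ZMod m) = (u : ZMod m) := by
    rw [hu]; exact (ZMod.natCast_zmod_val (cycPow m σ)).symm
  constructor
  · intro h
    rw [map_add, hση, hσηe] at h
    have hqq : η * η ^ e = 1 ∨ η * η ^ e = -1 := by
      rw [pow_two] at hq; exact mul_self_eq_one_iff.mp hq
    have hσq : σ (η * η ^ e) = η * η ^ e := by
      rcases hqq with h1 | h1
      · rw [h1, map_one]
      · rw [h1, map_neg, map_one]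
    rw [map_mul, hση, hσηe] at hσq
    have hz : (η ^ u - η) * (η ^ u - η ^ e) = 0 := by
      have h1 : (η ^ u - η) * (η ^ u - η ^ e)
          = η ^ u * η ^ u - (η + η ^ e) * η ^ u + η * η ^ e := by ring
      rw [h1, ← h, ← hσq]; ring
    rcases mul_eq_zero.mp hz with h1 | h1
    · left
      have h2 : η ^ u = η ^ 1 := by rw [pow_one]; exact sub_eq_zero.mp h1
      have h3 : u = 1 := hη.pow_inj hum hm2 h2
      apply Units.ext
      rw [hk, h3, Nat.cast_one, Units.val_one]
    · right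
      have h2 : η ^ u = η ^ e := sub_eq_zero.mp h1
      have h3 : u = e := hη.pow_inj hum hem h2
      apply Units.ext
      rw [hk, h3, he, ZMod.natCast_zmod_val]
  · rintro (h | h)
    · have h1 : σ = 1 := by
        apply (cycGalEquiv m).injective
        rw [h, map_one]
      rw [h1]; rfl
    · have hue : u = e := by
        rw [hu, he]
        show (((cycGalEquiv m σ : (ZMod m)ˣ) : ZMod m)).val = _
        rw [h]
      rw [map_add, hση, hσηe, hue, hee, add_comm]

end Cfsg.Agent.Lib.H5.FV
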