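import Cfsg.Agent.Lib.Lead.AschDefs2
import Cfsg.Agent.Lib.H28.GLBasic

/-!
# P2-B5: `SL_n(F)` is not contained in a subfield group (helper5)
-/

set_option autoImplicit false

namespace Cfsg.Agent.Lib.H5.AschP2

open Cfsg Cfsg.Geo Cfsg.Agent.Lib.Lead.Asch
open scoped MatrixGroups Matrix

variable {F : Type*} [Field F] [Fintype F] {n : ℕ}

/-- **P2-B5**. -/
theorem not_sl_le_subfieldSubgroup (hn : 2 ≤ n) (F₀ : Subfield F) (r : ℕ) (P : GL (Fin n) F)
    (hr : r.Prime) (hcard : Fintype.card F = Nat.card F₀ ^ r) :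
    ¬ specialLinear (Fin n) F ≤ subfieldSubgroup F₀ P := by
  intro hle
  have hnormal : (specialLinear (Fin n) F).Normal := by
    unfold specialLinear
    exact MonoidHom.normal_ker _
  set i0 : Fin n := ⟨0, by omega⟩ with hi0
  set i1 : Fin n := ⟨1, by omega⟩ with hi1
  have h01 : i0 ≠ i1 := by
    intro h
    have := congrArg Fin.val h
    simp [hi0, hi1] at this
  -- every c lies in F₀
  have hall : ∀ c : F, c ∈ F₀ := by
    intro c
    have hdet : (Matrix.transvection i0 i1 c).det = 1 := Matrix.det_transvection_of_ne i0 i1 h01 c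
    set τ : GL (Fin n) F := Matrix.GeneralLinearGroup.mkOfDetNeZero (Matrix.transvection i0 i1 c)
      (by rw [hdet]; exact one_ne_zero) with hτ
    have hτv : (τ : Matrix (Fin n) (Fin n) F) = Matrix.transvection i0 i1 c := rfl
    have hτS : τ ∈ specialLinear (Fin n) F := by
      rw [Cfsg.Agent.Lib.H28.mem_specialLinear_iff, hτv, hdet]
    have hconj : P * τ * P⁻¹ ∈ specialLinear (Fin n) F := hnormal.conj_mem τ hτS P
    have hmem := hle hconj
    unfold subfieldSubgroup at hmem
    obtain ⟨x, hx, hxe⟩ := Subgroup.mem_map.mp hmem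
    have hxτ : x = τ := by
      have : P * x * P⁻¹ = P * τ * P⁻¹ := hxe
      have h2 : P⁻¹ * (P * x * P⁻¹) * P = P⁻¹ * (P * τ * P⁻¹) * P := by rw [this]
      simpa [mul_assoc] using h2
    rw [hxτ] at hx
    obtain ⟨y, hy, z, hz, hyz⟩ := Subgroup.mem_sup_of_normal_right.mp hx
    obtain ⟨g0, rfl⟩ := hy
    obtain ⟨l, hl⟩ := (mem_scalars_iff z).mp hz
    -- entries
    have hmat : (τ : Matrix (Fin n) (Fin n) F) =
        ((Matrix.GeneralLinearGroup.map (F₀.subtype : F₀ →+* F) g0 : GL (Fin n) F) :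
          Matrix (Fin n) (Fin n) F) * ((l : F) • (1 : Matrix (Fin n) (Fin n) F)) := by
      rw [← hl, ← Units.val_mul, hyz]
    have hentry : ∀ a b : Fin n, (τ : Matrix (Fin n) (Fin n) F) a b =
        ((g0 : Matrix (Fin n) (Fin n) F₀) a b : F) * (l : F) := by
      intro a b
      rw [hmat, Matrix.mul_smul, Matrix.mul_one, Matrix.smul_apply, smul_eq_mul, mul_comm]
      rfl
    have h00 := hentry i0 i0
    have h01' := hentry i0 i1
    rw [hτv] at h00 h01'
    simp [Matrix.transvection, h01, h01.symm] at h00 h01'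
    -- l = (g0 00)⁻¹ ∈ F₀
    have hl0 : (l : F) ≠ 0 := l.ne_zero
    have hlF : (l : F) ∈ F₀ := by
      have h1 : (l : F) = (((g0 : Matrix (Fin n) (Fin n) F₀) i0 i0 : F₀) : F)⁻¹ := by
        have hg0 : (((g0 : Matrix (Fin n) (Fin n) F₀) i0 i0 : F₀) : F) ≠ 0 := by
          intro h0
          rw [h0, zero_mul] at h00
          exact one_ne_zero h00
        field_simp
        rw [mul_comm]
        exact h00.symm
      rw [h1]
      exact F₀.inv_mem (SetLike.coe_mem _)
    rw [h01']
    exact F₀.mul_mem (SetLike.coe_mem _) hlF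
  -- so F₀ = ⊤ and |F| = |F₀|
  have htop : F₀ = ⊤ := by
    rw [eq_top_iff]
    intro c _
    exact hall c
  have hcardF₀ : Nat.card F₀ = Fintype.card F := by
    rw [htop, ← Nat.card_eq_fintype_card]
    exact Nat.card_congr (Subfield.topEquiv (K := F)).toEquiv
  rw [hcardF₀] at hcard
  have h2 : 2 ≤ Fintype.card F := Fintype.one_lt_card
  have hr2 := hr.two_le
  have : Fintype.card F ^ 1 < Fintype.card F ^ r := Nat.pow_lt_pow_right h2 hr2
  rw [pow_one] at this
  omega

end Cfsg.Agent.Lib.H5.AschP2
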