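import Mathlib

set_option autoImplicit false

/-!
# S2053 piece TR (helper28 architect): the transfer of a central element of a perfect group.
-/

namespace Cfsg.Agent.Lib.H5.Fi22M

open scoped commutatorElement

/-- **TR** -/
theorem pow_index_mem_commutator {P : Type*} [Group P] (hP : commutator P = ⊤) (M : Subgroup P)
    [M.FiniteIndex] (z : P) (hz : z ∈ Subgroup.center P) : z ^ M.index ∈ ⁅M, M⁆ := by
  have hzc : ∀ x : P, x * z = z * x := Subgroup.mem_center_iff.1 hz
  have key : ∀ (k : ℕ) (g₀ : P), g₀⁻¹ * z ^ k * g₀ ∈ M → g₀⁻¹ * z ^ k * g₀ = z ^ k := by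
    intro k g₀ _
    have h1 : Commute g₀ (z ^ k) := (show Commute g₀ z from hzc g₀).pow_right k
    rw [mul_assoc, ← h1.eq, inv_mul_cancel_left]
  have h1 := MonoidHom.transfer_eq_pow (Abelianization.of : ↥M →* Abelianization ↥M) z key
  have h2 : (MonoidHom.transfer (Abelianization.of : ↥M →* Abelianization ↥M)) z = 1 := by
    have h3 : z ∈ (MonoidHom.transfer (Abelianization.of : ↥M →* Abelianization ↥M)).ker := by
      apply Abelianization.commutator_subset_ker
      rw [hP]; trivial
    exact MonoidHom.mem_ker.1 h3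
  rw [h2] at h1
  have h4 := MonoidHom.mem_ker.2 h1.symm
  rw [Abelianization.ker_of] at h4
  have h5 := Subgroup.mem_map_of_mem M.subtype h4
  rw [Subgroup.map_subtype_commutator] at h5
  exact h5

end Cfsg.Agent.Lib.H5.Fi22M
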