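/-
S5664 farm-out (architect helper9), piece P1a `exists_gp`:
a non-perpendicular pair `K v`, `L'` in the `M`-orbit of `K`-points with a common non-zero vector.
-/
import Cfsg.Agent.Lib.H9.ExtSpDefs

set_option autoImplicit false
set_option linter.unusedSectionVars false
set_option linter.unusedVariables false

namespace Cfsg.Agent.Lib.H5.ExtSp

open Module Cfsg.Agent.Lib.H9.ExtSp

variable {F K V : Type*} [Field F] [Field K] [Algebra F K] [AddCommGroup V] [Module F V]
  [Module K V] [IsScalarTower F K V]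
  {B : LinearMap.BilinForm K V} {lam : K →ₗ[F] F} {M : Subgroup (V ≃ₗ[F] V)}

/-- if `B w z = 0` always forces `B x z = 0` (with `w ≠ 0`), then `x` is a `K`-multiple of `w` -/
theorem p1a_mem_span (S : Setup B lam M) {w x : V} (hw : w ≠ 0)
    (h : ∀ z, B w z = 0 → B x z = 0) : x ∈ Submodule.span K {w} := by
  obtain ⟨z₀, hz₀⟩ : ∃ z₀, B w z₀ ≠ 0 := by
    by_contra hcon
    push Not at hcon
    exact hw (S.nondeg w hcon)
  rw [Submodule.mem_span_singleton]
  refine ⟨B x z₀ / B w z₀, ?_⟩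
  have key : ∀ z, B (x - (B x z₀ / B w z₀) • w) z = 0 := by
    intro z
    have h1 : B w (z - (B w z / B w z₀) • z₀) = 0 := by
      rw [map_sub, map_smul, smul_eq_mul, div_mul_cancel₀ _ hz₀, sub_self]
    have h2 := h _ h1
    rw [map_sub, map_smul, smul_eq_mul, sub_eq_zero] at h2
    rw [map_sub, LinearMap.sub_apply, map_smul, LinearMap.smul_apply, smul_eq_mul, h2]
    field_simp
    ring
  have := S.nondeg _ key
  exact (sub_eq_zero.mp this).symm

theorem exists_gp [FiniteDimensional K V] (S : Setup B lam M)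
    (hx : ∃ g ∈ M, ∃ (v : V) (k : K), g (k • v) ∉ Submodule.span K {g v}) :
    ∃ (v : V) (L' : Submodule F V), GP B M v L' ∧ kpt F K v ⊓ L' ≠ ⊥ := by
  obtain ⟨g, hg, v, k, hgk⟩ := hx
  have hv : v ≠ 0 := by
    intro h0
    apply hgk
    rw [h0, smul_zero, map_zero]
    exact Submodule.zero_mem _
  have hw : g v ≠ 0 := fun h => hv (g.map_eq_zero_iff.mp h)
  -- the image of the `K`-point `K v`
  have hwL : g v ∈ (kpt F K v).map (g : V →ₗ[F] V) :=
    Submodule.mem_map.2 ⟨v, self_mem_kpt v, rfl⟩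
  have hxL : g (k • v) ∈ (kpt F K v).map (g : V →ₗ[F] V) :=
    Submodule.mem_map.2 ⟨k • v, smul_mem_kpt k v, rfl⟩
  by_cases hcase : ∃ x ∈ (kpt F K v).map (g : V →ₗ[F] V),
      ∃ w' ∈ (kpt F K v).map (g : V →ₗ[F] V), B x w' ≠ 0
  · -- case (a)
    obtain ⟨x, hxm, w', hw'm, hxw⟩ := hcase
    have hw'0 : w' ≠ 0 := by
      intro h0
      apply hxw
      rw [h0, map_zero]
    refine ⟨w', (kpt F K v).map (g : V →ₗ[F] V), ⟨hw'0, ⟨g, hg, v, hv, rfl⟩, ?_, x, hxm, hxw⟩, ?_⟩
    · intro heq
      rw [heq] at hwL hxL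
      obtain ⟨c, hc⟩ := mem_kpt.1 hwL
      obtain ⟨c', hc'⟩ := mem_kpt.1 hxL
      have hc0 : c ≠ 0 := by
        intro h0
        rw [h0, zero_smul] at hc
        exact hw hc.symm
      apply hgk
      rw [Submodule.mem_span_singleton]
      refine ⟨c' / c, ?_⟩
      rw [← hc, ← hc', smul_smul, div_mul_cancel₀ _ hc0]
    · intro hbot
      have : w' ∈ kpt F K w' ⊓ (kpt F K v).map (g : V →ₗ[F] V) := ⟨self_mem_kpt w', hw'm⟩
      rw [hbot, Submodule.mem_bot] at this
      exact hw'0 this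
  · -- case (b): `B` vanishes on the image
    push Not at hcase
    obtain ⟨z, hz1, hz2⟩ : ∃ z, B (g v) z = 0 ∧ B (g (k • v)) z ≠ 0 := by
      by_contra hcon
      push Not at hcon
      exact hgk (p1a_mem_span S hw hcon)
    set x₀ := g (k • v) with hx₀
    set e := B x₀ z with he
    obtain ⟨t, ht⟩ : ∃ t, lam t ≠ 0 := by
      by_contra hcon
      push Not at hcon
      exact S.lam_ne (LinearMap.ext hcon)
    set b := t / (e * e) with hb
    have hbee : b * e * e = t := by
      rw [hb]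
      field_simp
    set h := ktv (F := F) B S.alt z b with hh
    have hhM : h ∈ M := ktv_mem S z b
    have hhw : h (g v) = g v := by
      rw [hh, ktv_apply, hz1, mul_zero, zero_smul, add_zero]
    have hhx : h x₀ = x₀ + (b * e) • z := by
      rw [hh, ktv_apply]
    have hBx : B x₀ (h x₀) = t := by
      rw [hhx, map_add, S.alt, zero_add, map_smul, smul_eq_mul, ← he, ← hbee]
    have hBx' : B (h x₀) x₀ = -t := by
      rw [B_skew B S.alt, hBx]
    have ht0 : t ≠ 0 := by
      intro h0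
      apply ht
      rw [h0, map_zero]
    -- the new member of the orbit
    set y := g⁻¹ * h * g with hy
    have hyM : y ∈ M := M.mul_mem (M.mul_mem (M.inv_mem hg) hhM) hg
    have hyapp : ∀ u, g (y u) = h (g u) := by
      intro u
      rw [hy]
      show g (g.symm (h (g u))) = h (g u)
      exact g.apply_symm_apply _
    have hyv : y v = v := by
      apply g.injective
      rw [hyapp, hhw]
    have hyx : g (y (k • v)) = h x₀ := hyapp _
    have hxmem : y (k • v) ∈ (kpt F K v).map (y : V →ₗ[F] V) :=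
      Submodule.mem_map.2 ⟨k • v, smul_mem_kpt k v, rfl⟩
    have hvmem : v ∈ (kpt F K v).map (y : V →ₗ[F] V) :=
      Submodule.mem_map.2 ⟨v, self_mem_kpt v, hyv⟩
    refine ⟨v, (kpt F K v).map (y : V →ₗ[F] V), ⟨hv, ⟨y, hyM, v, hv, rfl⟩, ?_, y (k • v), hxmem, ?_⟩, ?_⟩
    · intro heq
      rw [heq] at hxmem
      have h1 : g (y (k • v)) ∈ (kpt F K v).map (g : V →ₗ[F] V) :=
        Submodule.mem_map.2 ⟨_, hxmem, rfl⟩
      rw [hyx] at h1
      have h2 := hcase x₀ hxL (h x₀) h1
      rw [hBx] at h2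
      exact ht0 h2
    · -- non-perpendicular
      intro h0
      have h1 : lam (B (g (y (k • v))) (g (k • v))) = lam (B (y (k • v)) (k • v)) :=
        S.sp g hg _ _
      rw [hyx, ← hx₀, hBx', map_smul, smul_eq_mul, h0, mul_zero, map_zero, map_neg,
        neg_eq_zero] at h1
      exact ht h1
    · intro hbot
      have : v ∈ kpt F K v ⊓ (kpt F K v).map (y : V →ₗ[F] V) := ⟨self_mem_kpt v, hvmem⟩
      rw [hbot, Submodule.mem_bot] at this
      exact hv this

end Cfsg.Agent.Lib.H5.ExtSp
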