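import Cfsg.Agent.Lib.H23.Ito
import Cfsg.Agent.Lib.H8.Clifford

/-!
# S4551 piece 2 (CLIFF): a character over `ϑ` that does not vanish at `x` forces `x` to fix `ϑ`
(abelian quotient) (helper5)
-/

set_option autoImplicit false

namespace Cfsg.Agent.Lib.H5.AP

/-- (CLIFF) `H ⊴ X` with `X/H` abelian, `χ ∈ Irr(X)` over `ϑ ∈ Irr(H)`, `χ x ≠ 0` ⟹ `x` fixes `ϑ`. -/
theorem inv_of_apply_ne_zero {X : Type*} [Group X] [Fintype X] (H : Subgroup X) [hH : H.Normal] [Fintype H]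
    (hab : ∀ a b : X, a * b * a⁻¹ * b⁻¹ ∈ H) (ϑ : H → ℂ) (hϑ : Cfsg.IsIrrCharacter H ϑ) (χ : X → ℂ)
    (hχ : Cfsg.IsIrrCharacter X χ) (hcon : Cfsg.classInner (fun n : H => χ n) ϑ ≠ 0) (x : X) (hx : χ x ≠ 0) :
    ∀ n : H, ϑ ⟨x * n * x⁻¹, hH.conj_mem n n.2 x⟩ = ϑ n := by
  classical
  have hcf : Cfsg.IsClassFunction H ϑ :=
    Cfsg.Agent.Lib.L0.isClassFunction_of_isCharacter (Cfsg.Agent.Lib.L0.isCharacter_of_irr hϑ)
  have hHT : H ≤ Cfsg.Agent.Lib.H23.inertia H ϑ := Cfsg.Agent.Lib.H23.le_inertia H hcf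
  haveI hTn : (Cfsg.Agent.Lib.H23.inertia H ϑ).Normal := by
    constructor
    intro t ht g
    have h1 : g * t * g⁻¹ = (g * t * g⁻¹ * t⁻¹) * t := by group
    rw [h1]
    exact Subgroup.mul_mem _ (hHT (hab g t)) ht
  haveI : Fintype (Cfsg.Agent.Lib.H23.inertia H ϑ) := Fintype.ofFinite _
  obtain ⟨ψ, -, hind, -⟩ := Cfsg.Agent.Lib.H23.clifford_correspondence H
    (Cfsg.Agent.Lib.H23.inertia H ϑ) hHT ϑ hϑ (fun g => Iff.rfl) χ hχ hcon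
  have hxT : x ∈ Cfsg.Agent.Lib.H23.inertia H ϑ := by
    by_contra hxT
    apply hx
    rw [← hind]
    exact Cfsg.Agent.Lib.H8.indFun_of_not_mem_normal _ ψ hxT
  exact hxT

end Cfsg.Agent.Lib.H5.AP
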