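import Mathlib

set_option autoImplicit false
set_option maxHeartbeats 400000

/-! # S4719 piece (F1): a four-group inside an elementary abelian 2-group of order at least 4 -/

namespace Cfsg.Agent.Lib.H5.BI

/-- (F1) a four-group inside an elementary abelian 2-group of order at least 4. -/
theorem exists_four_subgroup {G : Type*} [Group G] [Finite G] (E : Subgroup G)
    (hE2 : ∀ x ∈ E, x * x = 1) (k : ℕ) (hEcard : Nat.card E = 2 ^ (k + 2)) :
    ∃ V : Subgroup G, V ≤ E ∧ Nat.card V = 4 ∧ ∀ v ∈ V, v * v = 1 := by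
  have : Fact (Nat.Prime 2) := ⟨Nat.prime_two⟩
  have hdvd : 2 ^ 2 ∣ Nat.card E := by
    rw [hEcard, pow_add]; exact Dvd.intro_left _ rfl
  obtain ⟨V', hV'⟩ := Sylow.exists_subgroup_card_pow_prime (G := E) 2 hdvd
  refine ⟨V'.map E.subtype, ?_, ?_, ?_⟩
  · rintro x ⟨y, -, rfl⟩
    exact y.2
  · rw [Subgroup.card_map_of_injective E.subtype_injective, hV']; norm_num
  · rintro x ⟨y, -, rfl⟩
    exact hE2 _ y.2

end Cfsg.Agent.Lib.H5.BI
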