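import Mathlib
import Cfsg.Prelude.Def_BlockRank

/-!
# S4640 piece (RANK), helper5

* `preg_mem_of_index_pow`: the `p`-regular elements lie in every normal subgroup of `p`-power index.
* `blockRank_eq_of_restrict`: if all `p`-regular elements of `G` lie in the subgroup `N`, every member
  of `B` restricts to a member of `b` and every member of `b` is such a restriction, then `B` and `b`
  have the same `p`-regular rank.
-/

set_option autoImplicit false

namespace Cfsg.Agent.Lib.H5.BK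

universe u

variable {G : Type u} [Group G]

/-- The `p`-regular elements lie in every normal subgroup of `p`-power index. -/
theorem preg_mem_of_index_pow (p : ℕ) [Fact p.Prime] (N : Subgroup G) [N.Normal]
    (hNi : ∃ k : ℕ, N.index = p ^ k) (g : G) (hg : Cfsg.IsPRegular p g) : g ∈ N := by
  obtain ⟨k, hk⟩ := hNi
  have h1 : g ^ (p ^ k) ∈ N := by
    rw [← hk]; exact Subgroup.pow_index_mem N g
  have hp : p.Prime := Fact.out
  have hcop : (p ^ k).Coprime (orderOf g) := by
    apply Nat.Coprime.pow_left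
    exact (Nat.Prime.coprime_iff_not_dvd hp).mpr hg
  obtain ⟨m, hm⟩ := exists_pow_eq_self_of_coprime hcop
  rw [← hm]
  exact Subgroup.pow_mem N h1 m

/-- restriction of functions to the subgroup, as a linear map -/
noncomputable def resLin (N : Subgroup G) : (G → ℂ) →ₗ[ℂ] (N → ℂ) where
  toFun f := fun n => f (n : G)
  map_add' _ _ := rfl
  map_smul' _ _ := rfl

/-- extension by zero, as a linear map -/
noncomputable def extLin (N : Subgroup G) : (N → ℂ) →ₗ[ℂ] (G → ℂ) where
  toFun f := fun g => by classical exact if h : g ∈ N then f ⟨g, h⟩ else 0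
  map_add' f₁ f₂ := by
    funext g
    by_cases h : g ∈ N <;> simp [h]
  map_smul' c f := by
    funext g
    by_cases h : g ∈ N <;> simp [h]

theorem isPRegular_coe (p : ℕ) (N : Subgroup G) (n : N) :
    Cfsg.IsPRegular p (n : G) ↔ Cfsg.IsPRegular p n := by
  unfold Cfsg.IsPRegular
  rw [Subgroup.orderOf_coe]

theorem resLin_pRegularPart (p : ℕ) (N : Subgroup G) (χ : G → ℂ) (θ : N → ℂ)
    (h : ∀ n : N, χ n = θ n) :
    resLin N (Cfsg.pRegularPart p χ) = Cfsg.pRegularPart p θ := by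
  funext n
  show Cfsg.pRegularPart p χ (n : G) = Cfsg.pRegularPart p θ n
  unfold Cfsg.pRegularPart
  by_cases hr : Cfsg.IsPRegular p n
  · have hr' : Cfsg.IsPRegular p (n : G) := (isPRegular_coe p N n).mpr hr
    rw [if_pos hr, if_pos hr', h n]
  · have hr' : ¬ Cfsg.IsPRegular p (n : G) := fun hc => hr ((isPRegular_coe p N n).mp hc)
    rw [if_neg hr, if_neg hr']

theorem extLin_pRegularPart (p : ℕ) (N : Subgroup G)
    (hreg : ∀ g : G, Cfsg.IsPRegular p g → g ∈ N) (χ : G → ℂ) (θ : N → ℂ)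
    (h : ∀ n : N, χ n = θ n) :
    extLin N (Cfsg.pRegularPart p θ) = Cfsg.pRegularPart p χ := by
  funext g
  show (by classical exact if h : g ∈ N then Cfsg.pRegularPart p θ ⟨g, h⟩ else 0 : ℂ)
    = Cfsg.pRegularPart p χ g
  by_cases hg : g ∈ N
  · rw [dif_pos hg]
    unfold Cfsg.pRegularPart
    by_cases hr : Cfsg.IsPRegular p g
    · have hr' : Cfsg.IsPRegular p (⟨g, hg⟩ : N) := (isPRegular_coe p N ⟨g, hg⟩).mp hr
      rw [if_pos hr, if_pos hr']
      exact (h ⟨g, hg⟩).symm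
    · have hr' : ¬ Cfsg.IsPRegular p (⟨g, hg⟩ : N) :=
        fun hc => hr ((isPRegular_coe p N ⟨g, hg⟩).mpr hc)
      rw [if_neg hr, if_neg hr']
  · rw [dif_neg hg]
    unfold Cfsg.pRegularPart
    have hr : ¬ Cfsg.IsPRegular p g := fun hc => hg (hreg g hc)
    rw [if_neg hr]

/-- If all `p`-regular elements of `G` lie in `N`, every member of `B` restricts to a member of `b`
and every member of `b` is the restriction of a member of `B`, then the `p`-regular ranks agree. -/
theorem blockRank_eq_of_restrict [Finite G] (p : ℕ) (N : Subgroup G)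
    (hreg : ∀ g : G, Cfsg.IsPRegular p g → g ∈ N)
    (B : Set (Cfsg.IrrCharacter G)) (b : Set (Cfsg.IrrCharacter N))
    (h1 : ∀ χ ∈ B, ∃ θ ∈ b, ∀ n : N, (χ : G → ℂ) n = (θ : N → ℂ) n)
    (h2 : ∀ θ ∈ b, ∃ χ ∈ B, ∀ n : N, (χ : G → ℂ) n = (θ : N → ℂ) n) :
    Cfsg.blockRank p B = Cfsg.blockRank p b := by
  unfold Cfsg.blockRank
  set sB : Set (G → ℂ) :=
    (fun χ : Cfsg.IrrCharacter G => Cfsg.pRegularPart p (χ : G → ℂ)) '' B with hsB
  set sb : Set (N → ℂ) :=
    (fun θ : Cfsg.IrrCharacter N => Cfsg.pRegularPart p (θ : N → ℂ)) '' b with hsb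
  have himR : (resLin N) '' sB = sb := by
    ext f
    constructor
    · rintro ⟨_, ⟨χ, hχ, rfl⟩, rfl⟩
      obtain ⟨θ, hθ, hθχ⟩ := h1 χ hχ
      exact ⟨θ, hθ, (resLin_pRegularPart p N _ _ hθχ).symm⟩
    · rintro ⟨θ, hθ, rfl⟩
      obtain ⟨χ, hχ, hθχ⟩ := h2 θ hθ
      exact ⟨_, ⟨χ, hχ, rfl⟩, resLin_pRegularPart p N _ _ hθχ⟩
  have himE : (extLin N) '' sb = sB := by
    ext f
    constructor
    · rintro ⟨_, ⟨θ, hθ, rfl⟩, rfl⟩
      obtain ⟨χ, hχ, hθχ⟩ := h2 θ hθ
      exact ⟨χ, hχ, (extLin_pRegularPart p N hreg _ _ hθχ).symm⟩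
    · rintro ⟨χ, hχ, rfl⟩
      obtain ⟨θ, hθ, hθχ⟩ := h1 χ hχ
      exact ⟨_, ⟨θ, hθ, rfl⟩, extLin_pRegularPart p N hreg _ _ hθχ⟩
  have hmR : (Submodule.span ℂ sB).map (resLin N) = Submodule.span ℂ sb := by
    rw [Submodule.map_span, himR]
  have hmE : (Submodule.span ℂ sb).map (extLin N) = Submodule.span ℂ sB := by
    rw [Submodule.map_span, himE]
  apply le_antisymm
  · rw [← hmE]
    exact Submodule.finrank_map_le (extLin N) (Submodule.span ℂ sb)
  · rw [← hmR]
    exact Submodule.finrank_map_le (resLin N) (Submodule.span ℂ sB)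

end Cfsg.Agent.Lib.H5.BK
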