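import Mathlib
import Cfsg.Agent.Lib.H5.BKRANK

/-!
# S4640 piece (RANK), wrapped to the shape of the frozen conjuncts (helper5)

`rank_of_conjuncts`: from `|G : N| = p ^ k`, conjunct 3 (every member of `B` restricts to a member of
`b`) and conjunct 4 (every fibre has `|G : N|` members) the `p`-regular ranks of `B` and `b` agree.
-/

set_option autoImplicit false

namespace Cfsg.Agent.Lib.H5.BK

universe u

variable {G : Type u} [Group G]

theorem rank_of_conjuncts [Finite G] (p : ℕ) [Fact p.Prime] (N : Subgroup G) [N.Normal]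
    (hNi : ∃ k : ℕ, N.index = p ^ k)
    (B : Set (Cfsg.IrrCharacter G)) (b : Set (Cfsg.IrrCharacter N))
    (h3 : ∀ χ ∈ B, ∃ θ ∈ b, ∀ n : N, (χ : G → ℂ) n = (θ : N → ℂ) n)
    (h4 : ∀ θ ∈ b, Nat.card {χ : Cfsg.IrrCharacter G //
      χ ∈ B ∧ ∀ n : N, (χ : G → ℂ) n = (θ : N → ℂ) n} = N.index) :
    Cfsg.blockRank p B = Cfsg.blockRank p b := by
  refine blockRank_eq_of_restrict p N (preg_mem_of_index_pow p N hNi) B b h3 ?_
  intro θ hθ
  have hne : Nat.card {χ : Cfsg.IrrCharacter G //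
      χ ∈ B ∧ ∀ n : N, (χ : G → ℂ) n = (θ : N → ℂ) n} ≠ 0 := by
    rw [h4 θ hθ]
    obtain ⟨k, hk⟩ := hNi
    rw [hk]
    exact pow_ne_zero k (Fact.out : p.Prime).ne_zero
  obtain ⟨⟨χ, hχB, hχθ⟩⟩ := (Nat.card_ne_zero.mp hne).1
  exact ⟨χ, hχB, hχθ⟩

end Cfsg.Agent.Lib.H5.BK
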