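import Mathlib
import Cfsg.Agent.Lib.H5.CS4a
import Cfsg.Agent.Lib.H26.PSingB

set_option autoImplicit false

/-!
# S4146, part B (no good elements): context, the subgroup `Mp p` of `p`-elements of the abelian
group `M`, and first consequences.
-/

namespace Cfsg.Agent.Lib.H5.CS4

open Cfsg.Agent.Lib.H20.BHM (cs cls stabK)
open Subgroup

variable {G : Type*} [Group G] [Finite G] {n m : ℕ}

/-- Context of part B: `m < n`, no good elements, `M = S_m ∪ Z` abelian. -/
structure Ctx (G : Type*) [Group G] [Finite G] (n m : ℕ) : Prop where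
  hyp : Hyp G n m
  hnm : m < n
  ng : NoGood G n m
  comm : ∀ a ∈ hyp.M hnm, ∀ b ∈ hyp.M hnm, Commute a b

/-- the subgroup `M` of a context -/
def Ctx.M (C : Ctx G n m) : Subgroup G := C.hyp.M C.hnm

theorem Ctx.mem_M (C : Ctx G n m) {g : G} : g ∈ C.M ↔ cs g = 1 ∨ cs g = m := Iff.rfl

instance Ctx.M_normal (C : Ctx G n m) : C.M.Normal := Hyp.M_normal C.hyp C.hnm

theorem Ctx.center_le_M (C : Ctx G n m) : center G ≤ C.M := C.hyp.center_le_M C.hnm

theorem Ctx.cs_eq_m (C : Ctx G n m) {g : G} (hg : g ∈ C.M) (hgZ : g ∉ center G) : cs g = m :=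
  C.hyp.cs_eq_m_of_mem_M C.hnm hg hgZ

theorem Ctx.not_mem_M_of_n (C : Ctx G n m) {x : G} (hx : cs x = n) : x ∉ C.M := by
  intro h
  rcases h with h | h
  · exact C.hyp.hn.ne' (hx ▸ h)
  · exact C.hyp.n_ne_m (hx ▸ h)

/-- a prime-power element of `S_n` is an `r`-element with `r ∣ m` -/
theorem Ctx.dvd_m_of_pe_n (C : Ctx G n m) {r : ℕ} (hr : r.Prime) {x : G} (hx : cs x = n)
    (hpe : PE r x) : r ∣ m := by
  haveI : Fact r.Prime := ⟨hr⟩
  by_contra hrm
  have hrn : ¬ r ∣ n := fun hrn => C.ng.2 r hr hrn x hx hpe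
  have : ¬ r ∣ n * m := fun h => (hr.dvd_mul.1 h).elim hrn hrm
  exact C.hyp.not_central_n hx (C.hyp.central_of_pe this hpe)

/-- a prime-power element of `S_m` is a `p`-element with `p ∣ n` -/
theorem Ctx.dvd_n_of_pe_m (C : Ctx G n m) {p : ℕ} (hp : p.Prime) {h : G} (hh : cs h = m)
    (hpe : PE p h) : p ∣ n := by
  haveI : Fact p.Prime := ⟨hp⟩
  by_contra hpn
  have hpm : ¬ p ∣ m := fun hpm => C.ng.1 p hp hpm h hh hpe
  have : ¬ p ∣ n * m := fun h => (hp.dvd_mul.1 h).elim hpn hpm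
  exact C.hyp.not_central_m hh (C.hyp.central_of_pe this hpe)

theorem Ctx.ne_of_dvd (C : Ctx G n m) {r p : ℕ} (hr : r.Prime) (hrm : r ∣ m) (hpn : p ∣ n) :
    r ≠ p := by
  rintro rfl
  have := Nat.dvd_gcd hpn hrm
  rw [C.hyp.cop] at this
  exact hr.one_lt.ne' (Nat.dvd_one.1 this)

/-- all-or-nothing -/
theorem Ctx.not_commute_conj (C : Ctx G n m) {x h : G} (hx : cs x = n) (hh : cs h = m)
    (hnc : ¬ Commute x h) (g : G) : ¬ Commute x (g * h * g⁻¹) := by
  intro hc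
  apply hnc
  have hcop : (cs x).Coprime (cs (g * h * g⁻¹)) := by
    rw [Cfsg.Agent.Lib.H20.BHM.cs_conj, hx, hh]; exact C.hyp.cop
  have := Cfsg.Agent.Lib.H20.BHM.commute_conj_of_coprime hcop hc.eq g⁻¹
  have e : g⁻¹ * (g * h * g⁻¹) * g⁻¹⁻¹ = h := by group
  rw [e] at this
  exact this

/-- `cs (h x) = n` for non-commuting `x ∈ S_n`, `h ∈ S_m`. -/
theorem Ctx.cs_mul_eq_n (C : Ctx G n m) {x h : G} (hx : cs x = n) (hh : cs h = m)
    (hnc : ¬ Commute x h) : cs (h * x) = n := by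
  have hle := centralizer_inf_le_mul h x
  have hidx : (centralizer ({h} : Set G) ⊓ centralizer ({x} : Set G)).index = m * n := by
    have := Cfsg.Agent.Lib.H20.index_inf_of_coprime (centralizer ({h} : Set G))
      (centralizer ({x} : Set G)) (by
        show (cs h).Coprime (cs x)
        rw [hh, hx]; exact C.hyp.cop.symm)
    rw [this]
    show cs h * cs x = m * n
    rw [hh, hx]
  rcases C.hyp.mem (h * x) with h1 | h1 | h1 | h1
  · exfalso
    have : h * x ∈ C.M := Or.inl h1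
    have hh' : h ∈ C.M := Or.inr hh
    have : x ∈ C.M := by
      have := C.M.mul_mem (C.M.inv_mem hh') this
      rwa [inv_mul_cancel_left] at this
    exact C.not_mem_M_of_n hx this
  · exact h1
  · exfalso
    have : h * x ∈ C.M := Or.inr h1
    have hh' : h ∈ C.M := Or.inr hh
    have : x ∈ C.M := by
      have := C.M.mul_mem (C.M.inv_mem hh') this
      rwa [inv_mul_cancel_left] at this
    exact C.not_mem_M_of_n hx this
  · exfalso
    have heq : centralizer ({h} : Set G) ⊓ centralizer ({x} : Set G) =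
        centralizer ({h * x} : Set G) := by
      apply Cfsg.Agent.Lib.H20.eq_of_le_of_index_eq hle
      rw [hidx]
      show m * n = cs (h * x)
      rw [h1, mul_comm]
    have hmem : h * x ∈ centralizer ({h * x} : Set G) :=
      mem_centralizer_singleton_iff.2 rfl
    rw [← heq, mem_inf, mem_centralizer_singleton_comm, mem_centralizer_singleton_comm] at hmem
    apply hnc
    have h2 : Commute (h * x) x := hmem.2
    have h3 : h * x = x * h := by
      have e : h * x * x = x * h * x := by rw [h2.eq]; group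
      exact mul_right_cancel e
    exact h3.symm

/-- the coset trick: `h⁻¹ (g h g⁻¹)` stabilizes the class of `x`. -/
theorem Ctx.mem_stabK (C : Ctx G n m) {x h : G} (hx : cs x = n) (hh : cs h = m)
    (hnc : ¬ Commute x h) (g : G) : h⁻¹ * (g * h * g⁻¹) ∈ stabK x := by
  apply Cfsg.Agent.Lib.H26.PSing.inv_mul_conj_mem_stabK'
  · rw [hh, hx]; exact C.hyp.cop.symm
  · intro a
    rw [C.cs_mul_eq_n hx (by rw [Cfsg.Agent.Lib.H20.BHM.cs_conj]; exact hh)
      (C.not_commute_conj hx hh hnc a), hx]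


/-- the `p`-elements of the abelian group `M` -/
def Ctx.Mp (C : Ctx G n m) (p : ℕ) : Subgroup G where
  carrier := {a | a ∈ C.M ∧ PE p a}
  one_mem' := ⟨C.M.one_mem, PE.one p⟩
  mul_mem' := by
    rintro a b ⟨ha, hpa⟩ ⟨hb, hpb⟩
    exact ⟨C.M.mul_mem ha hb, hpa.mul hpb (C.comm a ha b hb)⟩
  inv_mem' := by
    rintro a ⟨ha, hpa⟩
    exact ⟨C.M.inv_mem ha, hpa.inv⟩

theorem Ctx.mem_Mp (C : Ctx G n m) {p : ℕ} {a : G} : a ∈ C.Mp p ↔ a ∈ C.M ∧ PE p a := Iff.rfl

theorem Ctx.Mp_le_M (C : Ctx G n m) (p : ℕ) : C.Mp p ≤ C.M := fun _ h => h.1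

theorem Ctx.pe_of_mem_Mp (C : Ctx G n m) {p : ℕ} {a : G} (h : a ∈ C.Mp p) : PE p a := h.2

theorem Ctx.commute_of_mem_M (C : Ctx G n m) {a b : G} (ha : a ∈ C.M) (hb : b ∈ C.M) :
    Commute a b := C.comm a ha b hb

theorem Ctx.commute_of_mem_Mp (C : Ctx G n m) {p : ℕ} {a b : G} (ha : a ∈ C.Mp p)
    (hb : b ∈ C.Mp p) : Commute a b := C.comm a ha.1 b hb.1

instance Ctx.Mp_normal (C : Ctx G n m) (p : ℕ) : (C.Mp p).Normal := by
  constructor
  rintro a ⟨ha, hpa⟩ g
  exact ⟨C.M_normal.conj_mem a ha g, hpa.conj g⟩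

theorem Ctx.conj_mem_Mp (C : Ctx G n m) {p : ℕ} {a : G} (ha : a ∈ C.Mp p) (g : G) :
    g * a * g⁻¹ ∈ C.Mp p := (C.Mp_normal p).conj_mem a ha g

theorem Ctx.isPGroup_Mp (C : Ctx G n m) (p : ℕ) : IsPGroup p (C.Mp p) := by
  rintro ⟨a, ha⟩
  obtain ⟨k, hk⟩ := ha.2
  exact ⟨k, Subtype.ext (by simpa using hk)⟩

/-- a central `p`-element lies in `Mp p` -/
theorem Ctx.mem_Mp_of_central (C : Ctx G n m) {p : ℕ} {a : G} (ha : a ∈ center G) (hp : PE p a) :
    a ∈ C.Mp p := ⟨C.center_le_M ha, hp⟩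

/-- a noncentral element of `Mp p` has class size `m` -/
theorem Ctx.cs_of_mem_Mp (C : Ctx G n m) {p : ℕ} {a : G} (ha : a ∈ C.Mp p) (haZ : a ∉ center G) :
    cs a = m := C.cs_eq_m ha.1 haZ

end Cfsg.Agent.Lib.H5.CS4
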