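import Mathlib
import Cfsg.Agent.Lib.H5.CS4c

set_option autoImplicit false

/-!
# S4146, part B, Theorem I, first half: the subgroup `L = [M_p, G]`
-/

namespace Cfsg.Agent.Lib.H5.CS4

open Cfsg.Agent.Lib.H20.BHM (cs cls stabK)
open Subgroup

variable {G : Type*} [Group G] [Finite G] {n m : ℕ}

omit [Finite G] in
theorem not_central_of_not_commute {x u : G} (h : ¬ Commute x u) : u ∉ center G := fun hz =>
  h (mem_center_iff.1 hz x)

/-- D2: `u⁻¹ (g u g⁻¹)` stabilizes the class of `x`, for every `u ∈ M_p`, as soon as `x` does not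
centralize `M_p`. -/
theorem Ctx.mem_stabK' (C : Ctx G n m) {p : ℕ} {x h : G} (hx : cs x = n) (hh : h ∈ C.Mp p)
    (hnc : ¬ Commute x h) {u : G} (hu : u ∈ C.Mp p) (g : G) :
    u⁻¹ * (g * u * g⁻¹) ∈ stabK x := by
  have hcsh : cs h = m := C.cs_of_mem_Mp hh (not_central_of_not_commute hnc)
  by_cases hc : Commute x u
  · have huh : u * h ∈ C.Mp p := mul_mem hu hh
    have hnc' : ¬ Commute x (u * h) := by
      intro h1
      apply hnc
      have := (hc.inv_right).mul_right h1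
      rwa [inv_mul_cancel_left] at this
    have h1 := C.mem_stabK hx (C.cs_of_mem_Mp huh (not_central_of_not_commute hnc')) hnc' g
    have h2 := C.mem_stabK hx hcsh hnc g
    have h3 := (stabK x).mul_mem h1 ((stabK x).inv_mem h2)
    have hB : Commute h (u⁻¹ * (g * u * g⁻¹)) :=
      C.commute_of_mem_Mp hh (mul_mem (inv_mem hu) (C.conj_mem_Mp hu g))
    have e : (u * h)⁻¹ * (g * (u * h) * g⁻¹) * (h⁻¹ * (g * h * g⁻¹))⁻¹ =
        u⁻¹ * (g * u * g⁻¹) := by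
      calc (u * h)⁻¹ * (g * (u * h) * g⁻¹) * (h⁻¹ * (g * h * g⁻¹))⁻¹
          = h⁻¹ * ((u⁻¹ * (g * u * g⁻¹)) * h) := by group
        _ = h⁻¹ * (h * (u⁻¹ * (g * u * g⁻¹))) := by rw [hB.eq]
        _ = u⁻¹ * (g * u * g⁻¹) := by group
    rwa [e] at h3
  · exact C.mem_stabK hx (C.cs_of_mem_Mp hu (not_central_of_not_commute hc)) hc g

omit [Finite G] in
/-- D3: a `p`-element of `stabK x` commuting with the `r`-element `x` (`r ≠ p`) is trivial. -/
theorem eq_one_of_mem_stabK {x l : G} {r p : ℕ} (hr : r.Prime) (hp : p.Prime) (hrp : r ≠ p)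
    (hx : PE r x) (hl : PE p l) (hk : l ∈ stabK x) (hc : Commute l x) : l = 1 := by
  have h1 : l * x ∈ cls x :=
    Cfsg.Agent.Lib.H20.BHM.mul_mem_cls_of_mem_stabK hk (Cfsg.Agent.Lib.H20.BHM.self_mem_cls x)
  obtain ⟨g, hg⟩ := h1
  have h2 : orderOf (l * x) = orderOf x := by
    rw [← hg]
    exact (MulAut.conj g).orderOf_eq x
  have h3 := hc.orderOf_mul_eq_mul_orderOf_of_coprime (hl.coprime_of_ne hx hp hr hrp.symm)
  rw [h2] at h3
  have hpos : 0 < orderOf x := orderOf_pos_iff.2 (hx.isOfFinOrder hr)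
  have h4 : orderOf l = 1 := by
    have : 1 * orderOf x = orderOf l * orderOf x := by rw [one_mul]; exact h3
    exact (Nat.eq_of_mul_eq_mul_right hpos this).symm
  exact orderOf_eq_one_iff.1 h4

/-- D4: if the `r`-element `x ∈ S_n` does not centralize `M_p` (`p ∣ n`), then `C_{M_p}(x) ≤ Z`. -/
theorem Ctx.central_of_commute (C : Ctx G n m) {p r : ℕ} (hp : p.Prime) (hpn : p ∣ n)
    (hr : r.Prime) {x h : G} (hx : cs x = n) (hxr : PE r x) (hh : h ∈ C.Mp p)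
    (hnc : ¬ Commute x h) {u : G} (hu : u ∈ C.Mp p) (hc : Commute x u) : u ∈ center G := by
  have hrp : r ≠ p := C.ne_of_dvd hr (C.dvd_m_of_pe_n hr hx hxr) hpn
  rw [mem_center_iff]
  intro g
  have hk := C.mem_stabK' hx hh hnc hu g
  have hpe : PE p (u⁻¹ * (g * u * g⁻¹)) :=
    C.pe_of_mem_Mp (mul_mem (inv_mem hu) (C.conj_mem_Mp hu g))
  have hcg : Commute x (g * u * g⁻¹) := by
    by_cases huZ : u ∈ center G
    · have : g * u * g⁻¹ = u := by
        rw [mem_center_iff.1 huZ g]; group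
      rw [this]; exact hc
    · by_contra hnc'
      have hcsu : cs u = m := C.cs_of_mem_Mp hu huZ
      have := C.not_commute_conj hx (by rw [Cfsg.Agent.Lib.H20.BHM.cs_conj]; exact hcsu) hnc' g⁻¹
      apply this
      have e : g⁻¹ * (g * u * g⁻¹) * g⁻¹⁻¹ = u := by group
      rw [e]; exact hc
  have hcomm : Commute (u⁻¹ * (g * u * g⁻¹)) x := (hc.inv_right.mul_right hcg).symm
  have h1 := eq_one_of_mem_stabK hr hp hrp hxr hpe hk hcomm
  have h2 : g * u * g⁻¹ = u := by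
    have : u * (u⁻¹ * (g * u * g⁻¹)) = u * 1 := by rw [h1]
    rwa [mul_inv_cancel_left, mul_one] at this
  calc g * u = g * u * g⁻¹ * g := by group
    _ = u * g := by rw [h2]

/-- `L = [M_p, G]` -/
def Ctx.L (C : Ctx G n m) (p : ℕ) : Subgroup G :=
  closure {k | ∃ u ∈ C.Mp p, ∃ g : G, k = u⁻¹ * (g * u * g⁻¹)}

theorem Ctx.L_le_Mp (C : Ctx G n m) (p : ℕ) : C.L p ≤ C.Mp p := by
  unfold Ctx.L
  rw [closure_le]
  rintro k ⟨u, hu, g, rfl⟩
  exact mul_mem (inv_mem hu) (C.conj_mem_Mp hu g)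

theorem Ctx.L_le_stabK (C : Ctx G n m) {p : ℕ} {x h : G} (hx : cs x = n) (hh : h ∈ C.Mp p)
    (hnc : ¬ Commute x h) : C.L p ≤ stabK x := by
  unfold Ctx.L
  rw [closure_le]
  rintro k ⟨u, hu, g, rfl⟩
  exact C.mem_stabK' hx hh hnc hu g

/-- `C_L(x) = 1` -/
theorem Ctx.eq_one_of_mem_L (C : Ctx G n m) {p r : ℕ} (hp : p.Prime) (hpn : p ∣ n)
    (hr : r.Prime) {x h : G} (hx : cs x = n) (hxr : PE r x) (hh : h ∈ C.Mp p)
    (hnc : ¬ Commute x h) {l : G} (hl : l ∈ C.L p) (hc : Commute l x) : l = 1 :=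
  eq_one_of_mem_stabK hr hp (C.ne_of_dvd hr (C.dvd_m_of_pe_n hr hx hxr) hpn) hxr
    (C.pe_of_mem_Mp (C.L_le_Mp p hl)) (C.L_le_stabK hx hh hnc hl) hc

/-- `L ∩ Z = 1` -/
theorem Ctx.eq_one_of_mem_L_center (C : Ctx G n m) {p r : ℕ} (hp : p.Prime) (hpn : p ∣ n)
    (hr : r.Prime) {x h : G} (hx : cs x = n) (hxr : PE r x) (hh : h ∈ C.Mp p)
    (hnc : ¬ Commute x h) {l : G} (hl : l ∈ C.L p) (hz : l ∈ center G) : l = 1 :=
  C.eq_one_of_mem_L hp hpn hr hx hxr hh hnc hl (mem_center_iff.1 hz x).symm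

/-- `L ≠ 1` -/
theorem Ctx.exists_mem_L_ne_one (C : Ctx G n m) {p : ℕ} {x h : G} (hh : h ∈ C.Mp p)
    (hnc : ¬ Commute x h) : ∃ l ∈ C.L p, l ≠ 1 := by
  refine ⟨h⁻¹ * (x * h * x⁻¹), subset_closure ⟨h, hh, x, rfl⟩, ?_⟩
  intro h1
  apply hnc
  have h2 : x * h * x⁻¹ = h := by
    have : h * (h⁻¹ * (x * h * x⁻¹)) = h * 1 := by rw [h1]
    rwa [mul_inv_cancel_left, mul_one] at this
  show x * h = h * x
  calc x * h = x * h * x⁻¹ * x := by group
    _ = h * x := by rw [h2]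

end Cfsg.Agent.Lib.H5.CS4
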