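import Mathlib
import Cfsg.Agent.Lib.H5.CS4d

set_option autoImplicit false

/-!
# S4146, part B, Theorem I, second half: `S_n` centralizes `S_m` (no good elements, `M` abelian)
-/

namespace Cfsg.Agent.Lib.H5.CS4

open Cfsg.Agent.Lib.H20.BHM (cs cls stabK)
open Subgroup

variable {G : Type*} [Group G] [Finite G] {n m : ℕ}

/-- The situation to be refuted: an `r`-element `x ∈ S_n` not commuting with `h ∈ M_p`, `p ∣ n`. -/
structure Sit (C : Ctx G n m) (p r : ℕ) (x h : G) : Prop where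
  hp : p.Prime
  hpn : p ∣ n
  hr : r.Prime
  hx : cs x = n
  hxr : PE r x
  hh : h ∈ C.Mp p
  hnc : ¬ Commute x h

variable {C : Ctx G n m} {p r : ℕ} {x h : G}

theorem Sit.hrp (S : Sit C p r x h) : r ≠ p :=
  C.ne_of_dvd S.hr (C.dvd_m_of_pe_n S.hr S.hx S.hxr) S.hpn

theorem Sit.not_dvd_m (S : Sit C p r x h) : ¬ p ∣ m := fun hpm =>
  C.ne_of_dvd S.hp hpm S.hpn rfl

theorem Sit.eq_one (S : Sit C p r x h) {l : G} (hl : l ∈ C.L p) (hc : Commute l x) : l = 1 :=
  C.eq_one_of_mem_L S.hp S.hpn S.hr S.hx S.hxr S.hh S.hnc hl hc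

theorem Sit.eq_one_center (S : Sit C p r x h) {l : G} (hl : l ∈ C.L p) (hz : l ∈ center G) :
    l = 1 :=
  C.eq_one_of_mem_L_center S.hp S.hpn S.hr S.hx S.hxr S.hh S.hnc hl hz

theorem Sit.exists_ne_one (S : Sit C p r x h) : ∃ l ∈ C.L p, l ≠ 1 :=
  C.exists_mem_L_ne_one S.hh S.hnc

/-- every prime-power element of `C(x)` centralizes `L` or acts freely on it -/
theorem Sit.dich_pe (S : Sit C p r x h) {s : ℕ} (hs : s.Prime) {y : G} (hys : PE s y)
    (hyx : Commute y x) :
    (∀ l ∈ C.L p, Commute y l) ∨ (∀ l ∈ C.L p, Commute y l → l = 1) := by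
  rcases C.hyp.mem y with h1 | h1 | h1 | h1
  · left
    intro l _
    exact (mem_center_iff.1 ((Cfsg.Agent.Lib.H20.BHM.cs_eq_one_iff y).1 h1) l).symm
  · by_cases hc : ∀ u ∈ C.Mp p, Commute y u
    · left
      intro l hl
      exact hc l (C.L_le_Mp p hl)
    · right
      push Not at hc
      obtain ⟨u, hu, hnu⟩ := hc
      intro l hl hcl
      have := C.central_of_commute S.hp S.hpn hs h1 hys hu hnu (C.L_le_Mp p hl) hcl
      exact S.eq_one_center hl this
  · left
    intro l hl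
    exact C.commute_of_mem_M (Or.inr h1) (C.Mp_le_M p (C.L_le_Mp p hl))
  · right
    intro l hl hcl
    by_cases hsr : s = r
    · have hcop : (orderOf y).Coprime (orderOf l) :=
        hys.coprime_of_ne (C.pe_of_mem_Mp (C.L_le_Mp p hl)) hs S.hp (hsr ▸ S.hrp)
      have hle := C.hyp.centralizer_le_of_nm h1 hcl hcop
      have hx' : x ∈ centralizer ({y} : Set G) := mem_centralizer_singleton_comm.2 hyx.symm
      exact S.eq_one hl (mem_centralizer_singleton_comm.1 (hle hx')).symm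
    · have hcop : (orderOf y).Coprime (orderOf x) := hys.coprime_of_ne S.hxr hs S.hr hsr
      have hle := C.hyp.centralizer_le_of_nm h1 hyx hcop
      have hl' : l ∈ centralizer ({y} : Set G) := mem_centralizer_singleton_comm.2 hcl.symm
      exact S.eq_one hl (mem_centralizer_singleton_comm.1 (hle hl'))

/-- every element of `C(x)` centralizes `L` or acts freely on it -/
theorem Sit.dich (S : Sit C p r x h) {y : G} (hyx : Commute y x) :
    (∀ l ∈ C.L p, Commute y l) ∨ (∀ l ∈ C.L p, Commute y l → l = 1) := by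
  by_cases hall : y ∈ centralizer (C.L p : Set G)
  · left
    intro l hl
    exact (mem_centralizer_iff.1 hall l hl).symm
  · right
    obtain ⟨s, hs, y', hy', hpe, hnot⟩ :=
      exists_pe_part (centralizer (C.L p : Set G)) _ y rfl hall
    obtain ⟨j, rfl⟩ := mem_zpowers_iff.1 hy'
    rcases S.dich_pe hs hpe (hyx.zpow_left j) with h1 | h1
    · exact absurd (mem_centralizer_iff.2 (fun l hl => (h1 l hl).eq.symm)) hnot
    · intro l hl hcl
      exact h1 l hl (hcl.zpow_left j)

/-- `T = C(x) ∩ C(L)` -/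
def Ctx.T (C : Ctx G n m) (p : ℕ) (x : G) : Subgroup G :=
  centralizer ({x} : Set G) ⊓ centralizer (C.L p : Set G)

theorem Ctx.mem_T {C : Ctx G n m} {p : ℕ} {x y : G} :
    y ∈ C.T p x ↔ Commute y x ∧ ∀ l ∈ C.L p, Commute y l := by
  unfold Ctx.T
  rw [mem_inf, mem_centralizer_singleton_comm, mem_centralizer_iff]
  constructor
  · rintro ⟨h1, h2⟩
    exact ⟨h1, fun l hl => (h2 l hl).symm⟩
  · rintro ⟨h1, h2⟩
    exact ⟨h1, fun l hl => (h2 l hl).eq.symm⟩

theorem Sit.cs_of_mem_L (S : Sit C p r x h) {l : G} (hl : l ∈ C.L p) (hl1 : l ≠ 1) : cs l = m :=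
  C.cs_of_mem_Mp (C.L_le_Mp p hl) (fun hz => hl1 (S.eq_one_center hl hz))

theorem Sit.T_eq (S : Sit C p r x h) {l : G} (hl : l ∈ C.L p) (hl1 : l ≠ 1) :
    centralizer ({x} : Set G) ⊓ centralizer ({l} : Set G) = C.T p x := by
  ext y
  rw [Ctx.mem_T, mem_inf, mem_centralizer_singleton_comm, mem_centralizer_singleton_comm]
  constructor
  · rintro ⟨h1, h2⟩
    refine ⟨h1, ?_⟩
    rcases S.dich h1 with h3 | h3
    · exact h3
    · exact absurd (h3 l hl h2) hl1
  · rintro ⟨h1, h2⟩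
    exact ⟨h1, h2 l hl⟩

theorem Sit.index_T (S : Sit C p r x h) : (C.T p x).index = n * m := by
  obtain ⟨l, hl, hl1⟩ := S.exists_ne_one
  rw [← S.T_eq hl hl1]
  have := Cfsg.Agent.Lib.H20.index_inf_of_coprime (centralizer ({x} : Set G))
    (centralizer ({l} : Set G)) (by
      show (cs x).Coprime (cs l)
      rw [S.hx, S.cs_of_mem_L hl hl1]; exact C.hyp.cop)
  rw [this]
  show cs x * cs l = n * m
  rw [S.hx, S.cs_of_mem_L hl hl1]

theorem Ctx.center_le_T (C : Ctx G n m) (p : ℕ) (x : G) : center G ≤ C.T p x := by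
  intro z hz
  rw [Ctx.mem_T]
  exact ⟨(mem_center_iff.1 hz x).symm, fun l _ => (mem_center_iff.1 hz l).symm⟩

/-- `T ≠ Z` -/
theorem Sit.exists_T_not_central (S : Sit C p r x h) : ∃ y ∈ C.T p x, y ∉ center G := by
  by_contra hcon
  push Not at hcon
  have hTZ : C.T p x = center G := le_antisymm hcon (C.center_le_T p x)
  obtain ⟨w, hw⟩ := C.hyp.ex_nm
  have hle : center G ≤ centralizer ({w} : Set G) := Subgroup.center_le_centralizer _
  have heq : center G = centralizer ({w} : Set G) := by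
    apply Cfsg.Agent.Lib.H20.eq_of_le_of_index_eq hle
    rw [← hTZ, S.index_T]
    exact hw.symm
  have hwZ : w ∈ center G := by
    rw [heq]; exact mem_centralizer_singleton_iff.2 rfl
  have h1 := (Cfsg.Agent.Lib.H20.BHM.cs_eq_one_iff w).2 hwZ
  rw [hw] at h1
  have hn := C.hyp.hn
  have hm := C.hyp.hm
  nlinarith

/-- `C_M(x) = Z` -/
theorem Sit.central_of_mem_M (S : Sit C p r x h) {y : G} (hy : y ∈ C.M) (hyx : Commute y x) :
    y ∈ center G := by
  by_contra hyZ
  obtain ⟨s, hs, y', hy', hpe, hnot⟩ := exists_pe_part (center G) _ y rfl hyZ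
  have hy'M : y' ∈ C.M := (zpowers_le.2 hy) hy'
  have hy'x : Commute y' x := by
    obtain ⟨j, rfl⟩ := mem_zpowers_iff.1 hy'
    exact hyx.zpow_left j
  by_cases hsp : s = p
  · subst hsp
    exact hnot (C.central_of_commute S.hp S.hpn S.hr S.hx S.hxr S.hh S.hnc ⟨hy'M, hpe⟩ hy'x.symm)
  · obtain ⟨l, hl, hl1⟩ := S.exists_ne_one
    have hlM : l ∈ C.M := C.Mp_le_M p (C.L_le_Mp p hl)
    have hc : Commute y' l := C.commute_of_mem_M hy'M hlM
    have hcop : (orderOf y').Coprime (orderOf l) :=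
      hpe.coprime_of_ne (C.pe_of_mem_Mp (C.L_le_Mp p hl)) hs S.hp hsp
    have hcsy : cs y' = m := C.cs_eq_m hy'M hnot
    have hcsyl : cs (y' * l) = m := by
      have hmem : y' * l ∈ C.M := C.M.mul_mem hy'M hlM
      rcases hmem with h1 | h1
      · have := cs_dvd_cs_mul_left hc hcop
        rw [h1, hcsy] at this
        exact absurd (Nat.eq_one_of_dvd_one this) C.hyp.hm.ne'
      · exact h1
    have hinf : centralizer ({y'} : Set G) ⊓ centralizer ({l} : Set G) =
        centralizer ({y'} : Set G) := by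
      apply Cfsg.Agent.Lib.H20.eq_of_le_of_index_eq inf_le_left
      rw [← Cfsg.Agent.Lib.H20.centralizer_mul_of_coprime hc hcop]
      exact hcsyl.trans hcsy.symm
    have hle : centralizer ({y'} : Set G) ≤ centralizer ({l} : Set G) := inf_eq_left.1 hinf
    have hx' : x ∈ centralizer ({y'} : Set G) := mem_centralizer_singleton_comm.2 hy'x.symm
    exact hl1 (S.eq_one hl (mem_centralizer_singleton_comm.1 (hle hx')).symm)

/-- the `p`-elements of `T` are central -/
theorem Sit.central_of_pe_T (S : Sit C p r x h) {y : G} (hy : y ∈ C.T p x) (hpe : PE p y) :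
    y ∈ center G := by
  rw [Ctx.mem_T] at hy
  rcases C.hyp.mem y with h1 | h1 | h1 | h1
  · exact (Cfsg.Agent.Lib.H20.BHM.cs_eq_one_iff y).1 h1
  · exact absurd hpe (C.ng.2 p S.hp S.hpn y h1)
  · exact S.central_of_mem_M (Or.inr h1) hy.1
  · exfalso
    have hcop : (orderOf y).Coprime (orderOf x) := hpe.coprime_of_ne S.hxr S.hp S.hr S.hrp.symm
    have hle := C.hyp.centralizer_le_of_nm h1 hy.1 hcop
    obtain ⟨l, hl, hl1⟩ := S.exists_ne_one
    have hl' : l ∈ centralizer ({y} : Set G) := mem_centralizer_singleton_comm.2 (hy.2 l hl).symm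
    exact hl1 (S.eq_one hl (mem_centralizer_singleton_comm.1 (hle hl')))

/-- `T ≤ M` (Sylow `p`-counting) -/
theorem Sit.T_le_M (S : Sit C p r x h) : C.T p x ≤ C.M := by
  intro y hy
  by_contra hyM
  have : Fact p.Prime := ⟨S.hp⟩
  have hn0 : 0 < n := by have := C.hyp.hn; omega
  -- `cs y = n * c` with `c ∣ m`
  obtain ⟨c, hc, hcm⟩ : ∃ c, cs y = n * c ∧ c ∣ m := by
    rcases C.hyp.mem y with h1 | h1 | h1 | h1
    · exact absurd (Or.inl h1) hyM
    · exact ⟨1, by rw [h1, mul_one], one_dvd _⟩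
    · exact absurd (Or.inr h1) hyM
    · exact ⟨m, h1, dvd_rfl⟩
  have hG1 : Nat.card (centralizer ({y} : Set G)) * cs y = Nat.card G :=
    Subgroup.card_mul_index _
  have hG2 : Nat.card (C.T p x) * (n * m) = Nat.card G := by
    rw [← S.index_T]; exact Subgroup.card_mul_index _
  have hdvd1 : Nat.card (centralizer ({y} : Set G)) ∣ Nat.card (C.T p x) * m := by
    refine ⟨c, ?_⟩
    have e : n * (Nat.card (centralizer ({y} : Set G)) * c) = n * (Nat.card (C.T p x) * m) := by
      rw [hc] at hG1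
      calc n * (Nat.card (centralizer ({y} : Set G)) * c)
          = Nat.card (centralizer ({y} : Set G)) * (n * c) := by ring
        _ = Nat.card G := hG1
        _ = Nat.card (C.T p x) * (n * m) := hG2.symm
        _ = n * (Nat.card (C.T p x) * m) := by ring
    exact (Nat.eq_of_mul_eq_mul_left hn0 e).symm
  -- the p-group `U`
  set U : Subgroup G := C.L p ⊔ (C.Mp p ⊓ center G) with hU
  have hUle : U ≤ C.Mp p := sup_le (C.L_le_Mp p) inf_le_left
  have hUp : IsPGroup p U := (C.isPGroup_Mp p).to_le hUle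
  obtain ⟨e, he⟩ := IsPGroup.iff_card.1 hUp
  have hyT := Ctx.mem_T.1 hy
  have hUy : U ≤ centralizer ({y} : Set G) := by
    apply sup_le
    · intro l hl
      exact mem_centralizer_singleton_comm.2 (hyT.2 l hl).symm
    · exact inf_le_right.trans (Subgroup.center_le_centralizer _)
  have hdvd2 : p ^ e ∣ Nat.card (C.T p x) * m := by
    rw [← he]; exact (Subgroup.card_dvd_of_le hUy).trans hdvd1
  have hcop : (p ^ e).Coprime m :=
    Nat.Coprime.pow_left e ((Nat.Prime.coprime_iff_not_dvd S.hp).2 S.not_dvd_m)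
  have hdvd3 : p ^ e ∣ Nat.card (C.T p x) := hcop.dvd_of_dvd_mul_right hdvd2
  obtain ⟨K, hK⟩ := Sylow.exists_subgroup_card_pow_prime p hdvd3
  have hKp : IsPGroup p K := IsPGroup.of_card hK
  have hK' : K.map (C.T p x).subtype ≤ C.Mp p ⊓ center G := by
    rintro _ ⟨k, hk, rfl⟩
    have hpe : PE p ((C.T p x).subtype k) := by
      obtain ⟨j, hj⟩ := hKp ⟨k, hk⟩
      refine ⟨j, ?_⟩
      have := congrArg (fun z : K => ((z : C.T p x) : G)) hj
      simpa using this
    have hz := S.central_of_pe_T k.2 hpe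
    exact ⟨C.mem_Mp_of_central hz hpe, hz⟩
  have hcard : Nat.card (K.map (C.T p x).subtype) = p ^ e := by
    rw [Subgroup.card_map_of_injective (C.T p x).subtype_injective, hK]
  have hle1 : Nat.card U ≤ Nat.card (C.Mp p ⊓ center G : Subgroup G) := by
    rw [he, ← hcard]
    exact Subgroup.card_le_of_le hK'
  have hUeq : (C.Mp p ⊓ center G : Subgroup G) = U :=
    Subgroup.eq_of_le_of_card_ge le_sup_right hle1
  obtain ⟨l, hl, hl1⟩ := S.exists_ne_one
  have hlU : l ∈ U := (le_sup_left : C.L p ≤ U) hl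
  rw [← hUeq] at hlU
  exact hl1 (S.eq_one_center hl hlU.2)

theorem Sit.false (S : Sit C p r x h) : False := by
  obtain ⟨y, hy, hyZ⟩ := S.exists_T_not_central
  exact hyZ (S.central_of_mem_M (S.T_le_M hy) (Ctx.mem_T.1 hy).1)

/-- T6 (B3 = "Theorem I"): `S_n` commutes with `S_m`. -/
theorem Hyp.commute_n_m (H : Hyp G n m) (hnm : m < n) (hng : NoGood G n m)
    (hM : ∀ a ∈ H.M hnm, ∀ b ∈ H.M hnm, Commute a b) :
    ∀ x h : G, cs x = n → cs h = m → Commute x h := by
  intro x₀ h₀ hx₀ hh₀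
  by_contra hnc
  have C : Ctx G n m := ⟨H, hnm, hng, hM⟩
  -- prime-power part of `x₀`
  have h1 : x₀ ∉ centralizer ({h₀} : Set G) := fun h => hnc (mem_centralizer_singleton_comm.1 h)
  obtain ⟨r, hr, x, hx, hxr, hxnot⟩ := exists_pe_part (centralizer ({h₀} : Set G)) _ x₀ rfl h1
  have hxh₀ : ¬ Commute x h₀ := fun h => hxnot (mem_centralizer_singleton_comm.2 h)
  have hxZ : x ∉ center G := fun hz => hxh₀ (mem_center_iff.1 hz h₀).symm
  have hcsx : cs x = n := H.cs_of_mem_zpowers_n hx₀ hx hxZ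
  -- prime-power part of `h₀`
  have h2 : h₀ ∉ centralizer ({x} : Set G) := fun h =>
    hxh₀ (mem_centralizer_singleton_comm.1 h).symm
  obtain ⟨p, hp, h, hh, hhp, hhnot⟩ := exists_pe_part (centralizer ({x} : Set G)) _ h₀ rfl h2
  have hxh : ¬ Commute x h := fun h' => hhnot (mem_centralizer_singleton_comm.2 h'.symm)
  have hhZ : h ∉ center G := fun hz => hxh (mem_center_iff.1 hz x)
  have hcsh : cs h = m := H.cs_of_mem_zpowers_m hh₀ hh hhZ
  have hpn : p ∣ n := C.dvd_n_of_pe_m hp hcsh hhp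
  have S : Sit C p r x h := ⟨hp, hpn, hr, hcsx, hxr, ⟨Or.inr hcsh, hhp⟩, hxh⟩
  exact S.false

end Cfsg.Agent.Lib.H5.CS4
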