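import Mathlib
import Cfsg.Agent.Lib.H5.CS4a
import Cfsg.Agent.Lib.H1.IndexBasic

set_option autoImplicit false

/-!
# S4146, task T5 (B2): without good elements, `M = S_m ∪ Z(G)` is abelian
-/

namespace Cfsg.Agent.Lib.H5.CS4

open Cfsg.Agent.Lib.H20.BHM (cs)
open Subgroup

variable {G : Type*} [Group G] [Finite G] {n m : ℕ}

/-- Without good elements, `|M : Z|` is prime to `m`. -/
theorem Hyp.coprime_relIndex_center (H : Hyp G n m) (hnm : m < n) (hng : NoGood G n m) :
    ((center G).relIndex (H.M hnm)).Coprime m := by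
  apply Nat.Coprime.symm
  apply Nat.coprime_of_dvd
  intro t ht htm htz
  haveI : Fact t.Prime := ⟨ht⟩
  have hcard : Nat.card (center G) * (center G).relIndex (H.M hnm) = Nat.card (H.M hnm) := by
    have := Subgroup.relIndex_mul_relIndex ⊥ (center G) (H.M hnm) bot_le (H.center_le_M hnm)
    simpa [Subgroup.relIndex_bot_left] using this
  obtain ⟨T⟩ : Nonempty (Sylow t (H.M hnm)) := inferInstance
  have hT : (T : Subgroup (H.M hnm)).map (H.M hnm).subtype ≤ center G := by
    rintro _ ⟨k, hk, rfl⟩
    by_contra hkZ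
    have hpe : PE t ((H.M hnm).subtype k) := by
      obtain ⟨j, hj⟩ := T.isPGroup' ⟨k, hk⟩
      refine ⟨j, ?_⟩
      have := congrArg (fun z : (T : Subgroup (H.M hnm)) => ((z : H.M hnm) : G)) hj
      simpa using this
    exact hng.1 t ht htm _ (H.cs_eq_m_of_mem_M hnm k.2 hkZ) hpe
  have hTcard : Nat.card ((T : Subgroup (H.M hnm)).map (H.M hnm).subtype) =
      t ^ (Nat.card (H.M hnm)).factorization t := by
    rw [Subgroup.card_map_of_injective (H.M hnm).subtype_injective]
    exact T.card_eq_multiplicity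
  have h1 : t ^ (Nat.card (H.M hnm)).factorization t ∣ Nat.card (center G) := by
    rw [← hTcard]; exact Subgroup.card_dvd_of_le hT
  have h2 : t ^ ((Nat.card (H.M hnm)).factorization t + 1) ∣ Nat.card (H.M hnm) := by
    have h3 : t ^ ((Nat.card (H.M hnm)).factorization t + 1) ∣
        Nat.card (center G) * (center G).relIndex (H.M hnm) := by
      rw [pow_succ]
      exact Nat.mul_dvd_mul h1 htz
    rwa [hcard] at h3
  exact Nat.pow_succ_factorization_not_dvd Nat.card_pos.ne' ht h2

/-- T5 (B2): without good elements `M = S_m ∪ Z(G)` is abelian. -/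
theorem Hyp.M_comm (H : Hyp G n m) (hnm : m < n) (hng : NoGood G n m) :
    ∀ a ∈ H.M hnm, ∀ b ∈ H.M hnm, Commute a b := by
  intro a ha b hb
  have h1 : (centralizer ({a} : Set G)).relIndex (H.M hnm) ∣ cs a :=
    Cfsg.Agent.Lib.H1.relIndex_dvd_index_of_normal_right _ _
  have h2 : (centralizer ({a} : Set G)).relIndex (H.M hnm) ∣ m := by
    rcases ha with h | h
    · rw [h] at h1; exact h1.trans (one_dvd m)
    · rwa [h] at h1
  have h3 : (centralizer ({a} : Set G)).relIndex (H.M hnm) ∣ (center G).relIndex (H.M hnm) :=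
    Subgroup.relIndex_dvd_of_le_left _ (Subgroup.center_le_centralizer _)
  have h4 : (centralizer ({a} : Set G)).relIndex (H.M hnm) = 1 :=
    Nat.eq_one_of_dvd_coprimes (H.coprime_relIndex_center hnm hng) h3 h2
  have h5 := Subgroup.relIndex_eq_one.1 h4 hb
  exact (mem_centralizer_singleton_comm.1 h5).symm

end Cfsg.Agent.Lib.H5.CS4
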