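import Mathlib
import Cfsg.Agent.Lib.H23.AbSylD

/-!
# S1950 pieces ORB and ORBZ (helper5)

Exact signatures of `tools/blueprints/S1950_sigs_h12.lean` (`orbit_card_le`, `rel_apply_eq_one`).
-/

set_option autoImplicit false
set_option linter.unusedSectionVars false

namespace Cfsg.Agent.Lib.H5.CY

open Cfsg
open scoped ComplexConjugate

variable {G : Type*} [Group G] [Finite G] {p : ℕ} [Fact p.Prime]

/-- ORB.  The `N_G(P)`-orbit of `ψ` has at most `|N_G(P) : C_G(P)|` elements. -/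
theorem orbit_card_le (P : Sylow p G) (ψ : ↥(P : Subgroup G) →* ℂˣ) :
    Nat.card {ψ' : ↥(P : Subgroup G) →* ℂˣ // Cfsg.Agent.Lib.H23.AbSyl.Rel (P : Subgroup G) ψ ψ'} ≤
      (Subgroup.centralizer ((P : Subgroup G) : Set G)).relIndex
        (Subgroup.normalizer ((P : Subgroup G) : Set G)) := by
  classical
  set N := Subgroup.normalizer ((P : Subgroup G) : Set G) with hN
  set C' := (Subgroup.centralizer ((P : Subgroup G) : Set G)).subgroupOf N with hC'
  -- for every related `ψ'` choose `x` with `twist x ψ' = ψ`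
  have hex : ∀ ψ' : {ψ' : ↥(P : Subgroup G) →* ℂˣ //
      Cfsg.Agent.Lib.H23.AbSyl.Rel (P : Subgroup G) ψ ψ'},
      ∃ x : ↥N, Cfsg.Agent.Lib.H23.AbSyl.twist (P : Subgroup G) x ψ'.1 = ψ :=
    fun ψ' => (Cfsg.Agent.Lib.H23.AbSyl.rel_iff (P : Subgroup G) ψ ψ'.1).1 ψ'.2
  choose F hF using hex
  let f : {ψ' : ↥(P : Subgroup G) →* ℂˣ //
      Cfsg.Agent.Lib.H23.AbSyl.Rel (P : Subgroup G) ψ ψ'} → ↥N ⧸ C' := fun ψ' => (F ψ' : ↥N ⧸ C')
  have hinj : Function.Injective f := by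
    intro a b hab
    have h1 : (F a)⁻¹ * F b ∈ C' := QuotientGroup.eq.mp hab
    have h2 : (((F a)⁻¹ * F b : ↥N) : G) ∈ Subgroup.centralizer ((P : Subgroup G) : Set G) :=
      Subgroup.mem_subgroupOf.mp h1
    -- twist by `F a⁻¹ * F b` is trivial
    have h3 := Cfsg.Agent.Lib.H23.AbSyl.twist_of_mem_centralizer (P : Subgroup G) ((F a)⁻¹ * F b) h2
    apply Subtype.ext
    -- a = twist (F a)⁻¹ ψ, b = twist (F b)⁻¹ ψ
    have ea : a.1 = Cfsg.Agent.Lib.H23.AbSyl.twist (P : Subgroup G) (F a)⁻¹ ψ := by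
      calc a.1 = Cfsg.Agent.Lib.H23.AbSyl.twist (P : Subgroup G) (F a)⁻¹
            (Cfsg.Agent.Lib.H23.AbSyl.twist (P : Subgroup G) (F a) a.1) := by
              rw [Cfsg.Agent.Lib.H23.AbSyl.twist_twist, mul_inv_cancel,
                Cfsg.Agent.Lib.H23.AbSyl.twist_one]
        _ = Cfsg.Agent.Lib.H23.AbSyl.twist (P : Subgroup G) (F a)⁻¹ ψ := by rw [hF a]
    have eb : b.1 = Cfsg.Agent.Lib.H23.AbSyl.twist (P : Subgroup G) (F b)⁻¹ ψ := by
      calc b.1 = Cfsg.Agent.Lib.H23.AbSyl.twist (P : Subgroup G) (F b)⁻¹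
            (Cfsg.Agent.Lib.H23.AbSyl.twist (P : Subgroup G) (F b) b.1) := by
              rw [Cfsg.Agent.Lib.H23.AbSyl.twist_twist, mul_inv_cancel,
                Cfsg.Agent.Lib.H23.AbSyl.twist_one]
        _ = Cfsg.Agent.Lib.H23.AbSyl.twist (P : Subgroup G) (F b)⁻¹ ψ := by rw [hF b]
    -- twist (F b) a = twist (F b) (twist (F a)⁻¹ ψ) = twist ((F a)⁻¹ * F b) ψ = ψ = twist (F b) b
    have e1 : Cfsg.Agent.Lib.H23.AbSyl.twist (P : Subgroup G) (F b) a.1 = ψ := by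
      rw [ea, Cfsg.Agent.Lib.H23.AbSyl.twist_twist]
      exact h3 ψ
    have e2 : a.1 = Cfsg.Agent.Lib.H23.AbSyl.twist (P : Subgroup G) (F b)⁻¹
        (Cfsg.Agent.Lib.H23.AbSyl.twist (P : Subgroup G) (F b) a.1) := by
      rw [Cfsg.Agent.Lib.H23.AbSyl.twist_twist, mul_inv_cancel, Cfsg.Agent.Lib.H23.AbSyl.twist_one]
    rw [e2, e1, ← eb]
  have hle := Nat.card_le_card_of_injective f hinj
  exact hle

/-- ORBZ.  `N_G(P)`-conjugates of a character trivial at `z` are trivial at `z`. -/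
theorem rel_apply_eq_one (P : Sylow p G) (hP : IsCyclic ↥(P : Subgroup G)) {z : G} (hzP : z ∈ (P : Subgroup G))
    (hz : orderOf z = p) {ψ ψ' : ↥(P : Subgroup G) →* ℂˣ}
    (h : Cfsg.Agent.Lib.H23.AbSyl.Rel (P : Subgroup G) ψ ψ') (hψ : ψ ⟨z, hzP⟩ = 1) : ψ' ⟨z, hzP⟩ = 1 := by
  classical
  have := hP
  have : Fintype ↥(P : Subgroup G) := Fintype.ofFinite _
  have hp : p.Prime := Fact.out
  obtain ⟨n, hn, hrel⟩ := h
  -- `w = n⁻¹ z n ∈ P`
  have hwP : n⁻¹ * z * n ∈ (P : Subgroup G) := by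
    have hn' : n⁻¹ ∈ Subgroup.normalizer ((P : Subgroup G) : Set G) := Subgroup.inv_mem _ hn
    have := (Subgroup.mem_normalizer_iff.mp hn' z).mp hzP
    simpa using this
  have hval : ψ' ⟨z, hzP⟩ = ψ ⟨n⁻¹ * z * n, hwP⟩ := by
    apply hrel ⟨n⁻¹ * z * n, hwP⟩ ⟨z, hzP⟩
    show z = n * (n⁻¹ * z * n) * n⁻¹
    group
  rw [hval]
  -- `w ^ p = 1`, so `w ∈ zpowers z` inside the cyclic group `P`
  set zP : ↥(P : Subgroup G) := ⟨z, hzP⟩ with hzPdef
  set w : ↥(P : Subgroup G) := ⟨n⁻¹ * z * n, hwP⟩ with hwdef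
  have hzPord : orderOf zP = p := (Subgroup.orderOf_mk z hzP).trans hz
  have hzp : z ^ p = 1 := by
    have := pow_orderOf_eq_one z
    rwa [hz] at this
  have hzPp : zP ^ p = 1 := by
    have := pow_orderOf_eq_one zP
    rwa [hzPord] at this
  have hwp : w ^ p = 1 := by
    apply Subtype.ext
    show (n⁻¹ * z * n) ^ p = 1
    have : (n⁻¹ * z * n) ^ p = n⁻¹ * z ^ p * n := by
      have h0 := conj_pow (i := p) (a := n⁻¹) (b := z)
      rwa [inv_inv] at h0
    rw [this, hzp]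
    group
  have hcard : (Finset.univ.filter (fun a : ↥(P : Subgroup G) => a ^ p = 1)).card ≤ p :=
    IsCyclic.card_pow_eq_one_le hp.pos
  have hsub : (Finset.univ.filter (fun a : ↥(P : Subgroup G) => a ∈ Subgroup.zpowers zP)) ⊆
      Finset.univ.filter (fun a : ↥(P : Subgroup G) => a ^ p = 1) := by
    intro a ha
    rw [Finset.mem_filter] at ha ⊢
    refine ⟨Finset.mem_univ _, ?_⟩
    obtain ⟨k, rfl⟩ := Subgroup.mem_zpowers_iff.mp ha.2
    rw [← zpow_natCast, ← zpow_mul, mul_comm, zpow_mul, zpow_natCast, hzPp, one_zpow]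
  have hcardz : (Finset.univ.filter (fun a : ↥(P : Subgroup G) => a ∈ Subgroup.zpowers zP)).card = p := by
    have hc := Nat.card_zpowers zP
    rw [hzPord] at hc
    refine Eq.trans ?_ hc
    rw [Nat.card_eq_fintype_card]
    exact (Fintype.card_subtype _).symm
  have heq := Finset.eq_of_subset_of_card_le hsub (by rw [hcardz]; exact hcard)
  have hwmem : w ∈ Subgroup.zpowers zP := by
    have : w ∈ Finset.univ.filter (fun a : ↥(P : Subgroup G) => a ^ p = 1) :=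
      Finset.mem_filter.mpr ⟨Finset.mem_univ _, hwp⟩
    rw [← heq] at this
    exact (Finset.mem_filter.mp this).2
  obtain ⟨k, hk⟩ := Subgroup.mem_zpowers_iff.mp hwmem
  rw [← hk, map_zpow, hψ, one_zpow]

end Cfsg.Agent.Lib.H5.CY
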