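/-
S5664 farm-out (architect helper9), piece P2b `hasFtv_of_star_all`:
property (*) for all functionals gives a non-trivial `F`-transvection in `M`
(unless `|F| = 2 = [K:F]`).
-/
import Cfsg.Agent.Lib.H9.ExtSpDefs

set_option autoImplicit false
set_option linter.unusedSectionVars false
set_option linter.unusedVariables false

namespace Cfsg.Agent.Lib.H5.ExtSp

open Module Cfsg.Agent.Lib.H9.ExtSp

variable {F K V : Type*} [Field F] [Field K] [Algebra F K] [AddCommGroup V] [Module F V]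
  [Module K V] [IsScalarTower F K V]
  {B : LinearMap.BilinForm K V} {lam : K →ₗ[F] F} {M : Subgroup (V ≃ₗ[F] V)}

/-- the pairing `(k, β) ↦ lam (k β)` is non-degenerate -/
theorem p2b_pairing (S : Setup B lam M) {β : K} (h : ∀ k : K, lam (k * β) = 0) : β = 0 := by
  by_contra hβ
  apply S.lam_ne
  apply LinearMap.ext
  intro k
  have := h (k / β)
  rw [div_mul_cancel₀ _ hβ] at this
  rw [this]
  rfl

/-- the `K`-form of `u⁻¹ x` against `w₀`, for `u` inducing `k ↦ k + lam (k t') c` on `K w₀` -/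
theorem p2b_B_symm (S : Setup B lam M) {w₀ : V} {u : V ≃ₗ[F] V} (hu : u ∈ M) (c t' : K)
    (huk : ∀ k : K, u (k • w₀) = (k + lam (k * t') • c) • w₀) (x : V) :
    B (u.symm x) w₀ = B x w₀ + lam (c * B x w₀) • t' := by
  have key : ∀ k : K, lam (k * (B (u.symm x) w₀ - (B x w₀ + lam (c * B x w₀) • t'))) = 0 := by
    intro k
    have h1 : lam (B (u (u.symm x)) (u (k • w₀))) = lam (B (u.symm x) (k • w₀)) := S.sp u hu _ _
    rw [u.apply_symm_apply, huk k] at h1
    have e1 : B x ((k + lam (k * t') • c) • w₀) = (k + lam (k * t') • c) * B x w₀ := by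
      rw [map_smul, smul_eq_mul]
    have e2 : B (u.symm x) (k • w₀) = k * B (u.symm x) w₀ := by
      rw [map_smul, smul_eq_mul]
    rw [e1, e2, add_mul, smul_mul_assoc, map_add, map_smul, smul_eq_mul] at h1
    rw [mul_sub, mul_add, mul_smul_comm, map_sub, map_add, map_smul, ← h1, smul_eq_mul]
    ring
  exact sub_eq_zero.mp (p2b_pairing S key)

/-- the commutator `[u, t_{w₀,b}]` -/
theorem p2b_comm (S : Setup B lam M) {w₀ : V} {u : V ≃ₗ[F] V} (hu : u ∈ M) (c t' b : K)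
    (huk : ∀ k : K, u (k • w₀) = (k + lam (k * t') • c) • w₀) (x : V) :
    (u * ktv (F := F) B S.alt w₀ b * u⁻¹ * (ktv (F := F) B S.alt w₀ b)⁻¹) x =
      x + lam (B x (c • w₀)) • ((b * t') • w₀) + lam (B x ((b * t') • w₀)) • (c • w₀)
        + (lam (b * t' * t') * lam (B x (c • w₀))) • (c • w₀) := by
  show u (ktv (F := F) B S.alt w₀ b (u.symm ((ktv (F := F) B S.alt w₀ b).symm x))) = _
  have hsymm : (ktv (F := F) B S.alt w₀ b).symm x = x - (b * B x w₀) • w₀ := rfl
  set x₁ := x - (b * B x w₀) • w₀ with hx₁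
  have hB1 : B x₁ w₀ = B x w₀ := by
    rw [hx₁, map_sub, LinearMap.sub_apply, map_smul, LinearMap.smul_apply, S.alt, smul_zero,
      sub_zero]
  have hB2 : B (u.symm x₁) w₀ = B x w₀ + lam (c * B x w₀) • t' := by
    rw [p2b_B_symm S hu c t' huk, hB1]
  rw [hsymm, ktv_apply, hB2, map_add, u.apply_symm_apply, huk]
  have e1 : B x (c • w₀) = c * B x w₀ := by rw [map_smul, smul_eq_mul]
  have e2 : B x ((b * t') • w₀) = b * t' * B x w₀ := by rw [map_smul, smul_eq_mul]
  rw [e1, e2, hx₁]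
  set β := B x w₀ with hβ
  set φ := lam (c * β) with hφ
  have e3 : lam (b * (β + φ • t') * t') = lam (b * t' * β) + lam (b * t' * t') * φ := by
    have : b * (β + φ • t') * t' = b * t' * β + φ • (b * t' * t') := by
      rw [Algebra.smul_def, Algebra.smul_def]; ring
    rw [this, map_add, map_smul, smul_eq_mul]
    ring
  have hκ : b * (β + φ • t') = b * β + φ • (b * t') := by rw [mul_add, mul_smul_comm]
  rw [e3, hκ]
  simp only [add_smul, smul_assoc]
  abel

/-- two distinct non-zero elements of `ker lam` (unless `|F| = 2 = [K:F]`) -/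
theorem p2b_exists_ker [Finite F] [FiniteDimensional F K] (lam : K →ₗ[F] F)
    (hr2 : 2 ≤ finrank F K) (h22 : ¬ (Nat.card F = 2 ∧ finrank F K = 2)) :
    ∃ t₁ t₂ : K, t₁ ≠ 0 ∧ t₂ ≠ 0 ∧ t₁ ≠ t₂ ∧ lam t₁ = 0 ∧ lam t₂ = 0 := by
  have hrk := LinearMap.finrank_range_add_finrank_ker lam
  have hrange : finrank F ↥(LinearMap.range lam) ≤ 1 := by
    have := Submodule.finrank_le (LinearMap.range lam)
    rwa [finrank_self] at this
  have hker1 : 0 < finrank F ↥(LinearMap.ker lam) := by omega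
  obtain ⟨t₁, ht₁⟩ := Module.finrank_pos_iff_exists_ne_zero.mp hker1
  have ht₁0 : (t₁ : K) ≠ 0 := fun h => ht₁ (Subtype.ext h)
  have ht₁l : lam (t₁ : K) = 0 := LinearMap.mem_ker.mp t₁.2
  by_cases hκ : ∃ κ : F, κ ≠ 0 ∧ κ ≠ 1
  · obtain ⟨κ, hκ0, hκ1⟩ := hκ
    refine ⟨t₁, κ • (t₁ : K), ht₁0, smul_ne_zero hκ0 ht₁0, ?_, ht₁l, ?_⟩
    · intro h
      have h2 : (1 - κ) • (t₁ : K) = 0 := by rw [sub_smul, one_smul, ← h, sub_self]
      rcases smul_eq_zero.mp h2 with h3 | h3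
      · exact hκ1 (sub_eq_zero.mp h3).symm
      · exact ht₁0 h3
    · rw [map_smul, ht₁l, smul_zero]
  · push Not at hκ
    have hcard : Nat.card F = 2 := by
      rw [Nat.card_eq_two_iff]
      refine ⟨0, 1, zero_ne_one, ?_⟩
      ext κ
      simp only [Set.mem_insert_iff, Set.mem_singleton_iff, Set.mem_univ, iff_true]
      by_cases h0 : κ = 0
      · exact Or.inl h0
      · exact Or.inr (hκ κ h0)
    have hr3 : 3 ≤ finrank F K := by
      rcases Nat.lt_or_ge 2 (finrank F K) with h | h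
      · exact h
      · exact absurd ⟨hcard, le_antisymm h hr2⟩ h22
    have hker2 : 1 < finrank F ↥(LinearMap.ker lam) := by omega
    obtain ⟨t₂, hind⟩ := exists_linearIndependent_pair_of_one_lt_finrank hker2 ht₁
    rw [LinearIndependent.pair_iff] at hind
    have ht₂0 : (t₂ : K) ≠ 0 := by
      intro h
      have h2 : t₂ = 0 := Subtype.ext h
      have := hind 0 1 (by rw [h2, zero_smul, smul_zero, add_zero])
      exact one_ne_zero this.2
    have hne : (t₁ : K) ≠ (t₂ : K) := by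
      intro h
      have h2 : t₁ = t₂ := Subtype.ext h
      have := hind 1 (-1) (by rw [h2, one_smul, neg_smul, one_smul, add_neg_cancel])
      exact one_ne_zero this.1
    exact ⟨t₁, t₂, ht₁0, ht₂0, hne, ht₁l, LinearMap.mem_ker.mp t₂.2⟩

theorem hasFtv_of_star_all [Finite F] [FiniteDimensional F K] (S : Setup B lam M) {w₀ : V}
    (hw : w₀ ≠ 0) (hall : ∀ θ' : K →ₗ[F] F, Star M w₀ θ')
    (hr2 : 2 ≤ finrank F K) (h22 : ¬ (Nat.card F = 2 ∧ finrank F K = 2)) :
    HasFtv B lam M := by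
  obtain ⟨t₁, t₂, ht₁, ht₂, hne, hl₁, hl₂⟩ := p2b_exists_ker lam hr2 h22
  -- the two functionals `lam (· t_i)`, both vanishing at `c = 1`
  obtain ⟨u₁, hu₁M, hu₁⟩ := hall (lam.comp (LinearMap.mulRight F t₁)) 1 (by
    show lam (1 * t₁) = 0
    rw [one_mul, hl₁])
  obtain ⟨u₂, hu₂M, hu₂⟩ := hall (lam.comp (LinearMap.mulRight F t₂)) 1 (by
    show lam (1 * t₂) = 0
    rw [one_mul, hl₂])
  have hu₁' : ∀ k : K, u₁ (k • w₀) = (k + lam (k * t₁) • (1 : K)) • w₀ := hu₁
  have hu₂' : ∀ k : K, u₂ (k • w₀) = (k + lam (k * t₂) • (1 : K)) • w₀ := hu₂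
  -- `n` separating the two functionals
  obtain ⟨n, hn⟩ : ∃ n : K, lam (n * t₁) ≠ lam (n * t₂) := by
    by_contra hcon
    push Not at hcon
    apply hne
    apply sub_eq_zero.mp
    apply p2b_pairing S
    intro k
    rw [mul_sub, map_sub, hcon k, sub_self]
  set b₁ := n / t₁ with hb₁
  set b₂ := n / t₂ with hb₂
  have hbt₁ : b₁ * t₁ = n := div_mul_cancel₀ _ ht₁
  have hbt₂ : b₂ * t₂ = n := div_mul_cancel₀ _ ht₂
  set g₁ := u₁ * ktv (F := F) B S.alt w₀ b₁ * u₁⁻¹ * (ktv (F := F) B S.alt w₀ b₁)⁻¹ with hg₁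
  set g₂ := u₂ * ktv (F := F) B S.alt w₀ b₂ * u₂⁻¹ * (ktv (F := F) B S.alt w₀ b₂)⁻¹ with hg₂
  have hg₁M : g₁ ∈ M :=
    M.mul_mem (M.mul_mem (M.mul_mem hu₁M (ktv_mem S _ _)) (M.inv_mem hu₁M))
      (M.inv_mem (ktv_mem S _ _))
  have hg₂M : g₂ ∈ M :=
    M.mul_mem (M.mul_mem (M.mul_mem hu₂M (ktv_mem S _ _)) (M.inv_mem hu₂M))
      (M.inv_mem (ktv_mem S _ _))
  set c' := (1 : K) • w₀ with hc'
  set z := n • w₀ with hz
  have hf₁ : ∀ x, g₁ x = x + lam (B x c') • z + lam (B x z) • c'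
      + (lam (n * t₁) * lam (B x c')) • c' := by
    intro x
    have := p2b_comm S hu₁M 1 t₁ b₁ hu₁' x
    rw [hbt₁] at this
    exact this
  have hf₂ : ∀ x, g₂ x = x + lam (B x c') • z + lam (B x z) • c'
      + (lam (n * t₂) * lam (B x c')) • c' := by
    intro x
    have := p2b_comm S hu₂M 1 t₂ b₂ hu₂' x
    rw [hbt₂] at this
    exact this
  -- the vectors `c'`, `z` are mutually perpendicular
  have hcc : B c' c' = 0 := S.alt _
  have hzz : B z z = 0 := S.alt _
  have hzc : B z c' = 0 := by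
    rw [hz, hc', one_smul, map_smul, LinearMap.smul_apply, S.alt, smul_zero]
  have hcz : B c' z = 0 := by rw [B_skew B S.alt, hzc, neg_zero]
  have hc'0 : c' ≠ 0 := by rw [hc', one_smul]; exact hw
  refine ⟨g₁ * g₂⁻¹, M.mul_mem hg₁M (M.inv_mem hg₂M), c', hc'0,
    lam (n * t₁) - lam (n * t₂), sub_ne_zero.mpr hn, ?_⟩
  intro x
  show g₁ (g₂.symm x) = _
  set y := x - lam (B x c') • z - lam (B x z) • c' - (lam (n * t₂) * lam (B x c')) • c' with hy
  have hyc : B y c' = B x c' := by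
    rw [hy]
    simp only [map_sub, LinearMap.sub_apply, B_smul_left_F, hzc, hcc, smul_zero, sub_zero]
  have hyz : B y z = B x z := by
    rw [hy]
    simp only [map_sub, LinearMap.sub_apply, B_smul_left_F, hzz, hcz, smul_zero, sub_zero]
  have hsymm : g₂.symm x = y := by
    rw [LinearEquiv.symm_apply_eq, hf₂, hyc, hyz, hy]
    abel
  rw [hsymm, hf₁, hyc, hyz, hy, sub_mul, sub_smul]
  abel

end Cfsg.Agent.Lib.H5.ExtSp
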