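/-
S5664 farm-out (architect helper9), piece P4 `all_ftv_of_hasFtv`:
one non-trivial `F`-transvection in `M` gives all of them.
(Contains a private copy `p4_klin_map` of piece TR so that the file only depends on the defs.)
-/
import Cfsg.Agent.Lib.H9.ExtSpDefs

set_option autoImplicit false
set_option linter.unusedSectionVars false
set_option linter.unusedVariables false

namespace Cfsg.Agent.Lib.H5.ExtSp

open Module Cfsg.Agent.Lib.H9.ExtSp

variable {F K V : Type*} [Field F] [Field K] [Algebra F K] [AddCommGroup V] [Module F V]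
  [Module K V] [IsScalarTower F K V]
  {B : LinearMap.BilinForm K V} {lam : K →ₗ[F] F} {M : Subgroup (V ≃ₗ[F] V)}

theorem p4_exists_ne (S : Setup B lam M) {v : V} (hv : v ≠ 0) : ∃ u, B v u ≠ 0 := by
  by_contra hcon
  push Not at hcon
  exact hv (S.nondeg v hcon)

/-- one step: `B v w ≠ 0` -/
theorem p4_klin_step (S : Setup B lam M) {v w : V} (h : B v w ≠ 0) :
    ∃ g ∈ M, (∀ (k : K) (x : V), g (k • x) = k • g x) ∧ g v = w := by
  refine ⟨ktv (F := F) B S.alt (v - w) (1 / B v w), ktv_mem S _ _, ktv_klin B S.alt _ _, ?_⟩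
  rw [ktv_apply, map_sub, S.alt, zero_sub, mul_neg, one_div, inv_mul_cancel₀ h, neg_smul,
    one_smul]
  abel

/-- (TR) the `K`-linear elements of `M` are transitive on non-zero vectors -/
theorem p4_klin_map (S : Setup B lam M) {v w : V} (hv : v ≠ 0) (hw : w ≠ 0) :
    ∃ g ∈ M, (∀ (k : K) (x : V), g (k • x) = k • g x) ∧ g v = w := by
  by_cases h : B v w ≠ 0
  · exact p4_klin_step S h
  · push Not at h
    -- an intermediate vector
    obtain ⟨u, hu1, hu2⟩ : ∃ u, B v u ≠ 0 ∧ B u w ≠ 0 := by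
      obtain ⟨u₁, hu₁⟩ := p4_exists_ne S hv
      obtain ⟨u₂, hu₂'⟩ := p4_exists_ne S hw
      have hu₂ : B u₂ w ≠ 0 := by
        rw [B_skew B S.alt]
        exact neg_ne_zero.mpr hu₂'
      by_cases h1 : B u₁ w ≠ 0
      · exact ⟨u₁, hu₁, h1⟩
      · push Not at h1
        by_cases h2 : B v u₂ ≠ 0
        · exact ⟨u₂, h2, hu₂⟩
        · push Not at h2
          refine ⟨u₁ + u₂, ?_, ?_⟩
          · rw [map_add, h2, add_zero]; exact hu₁
          · rw [map_add, LinearMap.add_apply, h1, zero_add]; exact hu₂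
    obtain ⟨g₁, hg₁, hk₁, he₁⟩ := p4_klin_step S hu1
    obtain ⟨g₂, hg₂, hk₂, he₂⟩ := p4_klin_step S hu2
    refine ⟨g₂ * g₁, M.mul_mem hg₂ hg₁, ?_, ?_⟩
    · intro k x
      show g₂ (g₁ (k • x)) = k • g₂ (g₁ x)
      rw [hk₁, hk₂]
    · show g₂ (g₁ v) = w
      rw [he₁, he₂]

theorem p4_ftv_zero (hB : ∀ x, B x x = 0) (a : F) : ftv B lam hB (0 : V) a = 1 := by
  apply LinearEquiv.ext
  intro x
  rw [ftv_apply, smul_zero, add_zero]
  rfl

theorem p4_ftv_param_zero (hB : ∀ x, B x x = 0) (c : V) : ftv B lam hB c (0 : F) = 1 := by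
  apply LinearEquiv.ext
  intro x
  rw [ftv_apply, zero_mul, zero_smul, add_zero]
  rfl

theorem p4_ftv_mul (hB : ∀ x, B x x = 0) (c : V) (h₁ h₂ : F) :
    ftv B lam hB c h₁ * ftv B lam hB c h₂ = ftv B lam hB c (h₁ + h₂) := by
  apply LinearEquiv.ext
  intro x
  show ftv B lam hB c h₁ (ftv B lam hB c h₂ x) = _
  rw [ftv_apply, ftv_apply, ftv_apply]
  have h1 : B (x + (h₂ * lam (B x c)) • c) c = B x c := by
    rw [map_add, LinearMap.add_apply, B_smul_left_F, hB, smul_zero, add_zero]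
  rw [h1, add_mul, add_smul]
  abel

theorem p4_ftv_smul (hB : ∀ x, B x x = 0) (c : V) (s h : F) :
    ftv B lam hB (s • c) h = ftv B lam hB c (s ^ 2 * h) := by
  apply LinearEquiv.ext
  intro x
  rw [ftv_apply, ftv_apply, B_smul_right_F, map_smul, smul_eq_mul, smul_smul]
  congr 2
  ring

/-- conjugation of an `F`-transvection by a `K`-linear element of `M` -/
theorem p4_conj (S : Setup B lam M) {g : V ≃ₗ[F] V} (hg : g ∈ M) (c : V) (h : F) :
    g * ftv B lam S.alt c h * g⁻¹ = ftv B lam S.alt (g c) h := by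
  apply LinearEquiv.ext
  intro x
  show g (ftv B lam S.alt c h (g.symm x)) = _
  rw [ftv_apply, ftv_apply, map_add, map_smul, g.apply_symm_apply]
  have h1 : lam (B (g (g.symm x)) (g c)) = lam (B (g.symm x) c) := S.sp g hg _ _
  rw [g.apply_symm_apply] at h1
  rw [h1]

theorem all_ftv_of_hasFtv [Finite F] (S : Setup B lam M) (h : HasFtv B lam M) (c : V) (a : F) :
    ftv B lam S.alt c a ∈ M := by
  obtain ⟨g₀, hg₀, c₀, hc₀, h₀, hh₀, hg₀x⟩ := h
  have hg₀' : g₀ = ftv B lam S.alt c₀ h₀ := by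
    apply LinearEquiv.ext
    intro x
    rw [hg₀x, ftv_apply]
  rw [hg₀'] at hg₀
  by_cases hc : c = 0
  · rw [hc, p4_ftv_zero]
    exact M.one_mem
  -- every non-zero centre, parameter `h₀`
  have hstep1 : ∀ c' : V, c' ≠ 0 → ftv B lam S.alt c' h₀ ∈ M := by
    intro c' hc'
    obtain ⟨g', hg', -, hgc⟩ := p4_klin_map S hc₀ hc'
    have := M.mul_mem (M.mul_mem hg' hg₀) (M.inv_mem hg')
    rw [p4_conj S hg', hgc] at this
    exact this
  -- parameters `s² h₀`
  have hstep2 : ∀ s : F, ftv B lam S.alt c (s ^ 2 * h₀) ∈ M := by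
    intro s
    by_cases hs : s = 0
    · rw [hs]
      have : ((0 : F) ^ 2 * h₀) = 0 := by ring
      rw [this, p4_ftv_param_zero]
      exact M.one_mem
    · rw [← p4_ftv_smul]
      exact hstep1 _ (smul_ne_zero hs hc)
  -- additive closure
  have hadd : ∀ a₁ a₂ : F, ftv B lam S.alt c a₁ ∈ M → ftv B lam S.alt c a₂ ∈ M →
      ftv B lam S.alt c (a₁ + a₂) ∈ M := by
    intro a₁ a₂ h1 h2
    rw [← p4_ftv_mul]
    exact M.mul_mem h1 h2
  have hneg : ∀ a₁ : F, ftv B lam S.alt c a₁ ∈ M → ftv B lam S.alt c (-a₁) ∈ M := by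
    intro a₁ h1
    have h2 : ftv B lam S.alt c (-a₁) = (ftv B lam S.alt c a₁)⁻¹ := by
      apply eq_inv_of_mul_eq_one_left
      rw [p4_ftv_mul, neg_add_cancel, p4_ftv_param_zero]
    rw [h2]
    exact M.inv_mem h1
  -- every parameter
  set x := a / h₀ with hx
  have hax : a = x * h₀ := by rw [hx, div_mul_cancel₀ _ hh₀]
  by_cases h2 : (2 : F) = 0
  · have hchar : ringChar F = 2 := by
      apply CharP.ringChar_of_prime_eq_zero Nat.prime_two
      exact_mod_cast h2
    obtain ⟨s, hs⟩ := FiniteField.isSquare_of_char_two hchar x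
    rw [hax, hs, ← pow_two]
    exact hstep2 s
  · have hdecomp : a = ((x + 1) / 2) ^ 2 * h₀ + -(((x - 1) / 2) ^ 2 * h₀) := by
      rw [hax]
      field_simp
      ring
    rw [hdecomp]
    exact hadd _ _ (hstep2 _) (hneg _ (hstep2 _))

end Cfsg.Agent.Lib.H5.ExtSp
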