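import Cfsg.Agent.Lib.H1.FG19.Defs
import Cfsg.Prelude.Def_Transfer
import Cfsg.Prelude.Def_CaseTheorems

/-!
# S4404 piece A1 (helper5): `comm_of_cube`

Paper proof: `tools/blueprints/S4404.md` §A1.  We work in the ring `End(A)` (written additively, characteristic 2).
-/

set_option autoImplicit false

namespace Cfsg.Agent.Lib.H5.FG19

open Cfsg Cfsg.Agent.Lib.H1.FG19
open scoped IsMulCommutative

/-! ## The commutative core -/

theorem a1_comm_core {S : Type*} [CommRing S] (two : (2 : S) = 0) (g0 g1 g2 e0 e1 e2 : S)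
    (he0 : e0 = 1 + g0 + g0 ^ 2) (he1 : e1 = 1 + g1 + g1 ^ 2) (he2 : e2 = 1 + g2 + g2 ^ 2)
    (h0 : g0 ^ 3 = 1) (h1 : g1 ^ 3 = 1) (h2 : g2 ^ 3 = 1) (hp : g0 * g1 * g2 = 1)
    (p0 : e0 * (1 + e1) = 0) (p1 : e1 * (1 + e2) = 0) (p2 : e2 * (1 + e0) = 0) : g0 = g1 := by
  have A0 : e0 = e0 * e1 := by linear_combination p0 - e0 * e1 * two
  have A1 : e1 = e1 * e2 := by linear_combination p1 - e1 * e2 * two
  have A2 : e2 = e2 * e0 := by linear_combination p2 - e2 * e0 * two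
  have E01 : e0 = e1 := by linear_combination A0 + e0 * A1 - A1 - e1 * A2
  have E12 : e1 = e2 := by linear_combination A1 + e1 * A2 - A2 - e2 * A0
  have G0 : g0 * e0 = e0 := by linear_combination (g0 - 1) * he0 + h0
  have G1 : g1 * e0 = e0 := by linear_combination (g1 - 1) * E01 + (g1 - 1) * he1 + h1
  have I0 : e0 * e0 = e0 := by
    linear_combination (e0 + (1 + g0 + g0 ^ 2) - 1) * he0 + g0 * h0 + (g0 + g0 ^ 2 + g0 ^ 3) * two
  have FE : (1 + e0) * e0 = 0 := by linear_combination I0 + e0 * two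
  have F0 : (1 + e0) * g0 ^ 2 = (1 + e0) * (1 + g0) := by
    linear_combination -(1 + e0) * he0 + FE - (1 + e0) * (1 + g0) * two
  have F1 : (1 + e0) * g1 ^ 2 = (1 + e0) * (1 + g1) := by
    linear_combination -(1 + e0) * he1 - (1 + e0) * E01 + FE - (1 + e0) * (1 + g1) * two
  have Cc : g0 * g1 = g2 ^ 2 := by linear_combination (-(g0 * g1)) * h2 + g2 ^ 2 * hp
  have Cc2 : (g0 * g1) ^ 2 = g2 := by linear_combination (g0 * g1 + g2 ^ 2) * Cc + g2 * h2
  have K1 : (1 + e0) * (1 + g0 * g1 + (g0 * g1) ^ 2) = 0 := by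
    linear_combination (1 + e0) * Cc + (1 + e0) * Cc2 - (1 + e0) * he2 - (1 + e0) * E12
      - (1 + e0) * E01 + FE
  have K2 : (1 + e0) * (g0 * g1) ^ 2 = (1 + e0) * (1 + g0 + g1 + g0 * g1) := by
    linear_combination g1 ^ 2 * F0 + (1 + g0) * F1
  have K3 : (1 + e0) * (g0 + g1) = 0 := by
    linear_combination K1 - K2 - (1 + e0) * (1 + g0 * g1) * two
  have K4 : e0 * (g0 + g1) = 0 := by linear_combination G0 + G1 + e0 * two
  linear_combination K3 + K4 - (e0 * (g0 + g1) + g1) * two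

/-! ## Transfer to a non-commutative ring -/

theorem a1_ring_core {R : Type*} [Ring R] (two : (2 : R) = 0) (g0 g1 g2 : R)
    (c01 : g0 * g1 = g1 * g0) (c02 : g0 * g2 = g2 * g0) (c12 : g1 * g2 = g2 * g1)
    (h0 : g0 ^ 3 = 1) (h1 : g1 ^ 3 = 1) (h2 : g2 ^ 3 = 1) (hp : g0 * g1 * g2 = 1)
    (p0 : (1 + g0 + g0 ^ 2) * (1 + (1 + g1 + g1 ^ 2)) = 0)
    (p1 : (1 + g1 + g1 ^ 2) * (1 + (1 + g2 + g2 ^ 2)) = 0)
    (p2 : (1 + g2 + g2 ^ 2) * (1 + (1 + g0 + g0 ^ 2)) = 0) : g0 = g1 := by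
  have hcomm : ∀ a ∈ ({g0, g1, g2} : Set R), ∀ b ∈ ({g0, g1, g2} : Set R), a * b = b * a := by
    intro a ha b hb
    simp only [Set.mem_insert_iff, Set.mem_singleton_iff] at ha hb
    rcases ha with ha | ha | ha <;> rcases hb with hb | hb | hb <;> rw [ha, hb] <;>
      first | rfl | assumption | (symm; assumption)
  haveI := Subring.isMulCommutative_closure hcomm
  have m0 : g0 ∈ Subring.closure ({g0, g1, g2} : Set R) := Subring.subset_closure (by simp)
  have m1 : g1 ∈ Subring.closure ({g0, g1, g2} : Set R) := Subring.subset_closure (by simp)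
  have m2 : g2 ∈ Subring.closure ({g0, g1, g2} : Set R) := Subring.subset_closure (by simp)
  have key := a1_comm_core (S := Subring.closure ({g0, g1, g2} : Set R)) (Subtype.ext two)
    ⟨g0, m0⟩ ⟨g1, m1⟩ ⟨g2, m2⟩ _ _ _ rfl rfl rfl (Subtype.ext h0) (Subtype.ext h1) (Subtype.ext h2)
    (Subtype.ext hp) (Subtype.ext p0) (Subtype.ext p1) (Subtype.ext p2)
  exact congrArg Subtype.val key

/-! ## Ring-level lemmas -/

section ring

variable {R : Type*} [Ring R]

theorem a1_conj_e {x a b : R} (h : x * a = b * x) :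
    x * (1 + a + a ^ 2) = (1 + b + b ^ 2) * x := by
  have h2 : x * a ^ 2 = b ^ 2 * x := by
    rw [pow_two, pow_two, ← mul_assoc, h, mul_assoc, h, ← mul_assoc]
  rw [mul_add, mul_add, add_mul, add_mul, mul_one, one_mul, h, h2]

theorem a1_conj_pi {x e0 e1 e2 : R} (h0 : x * e0 = e1 * x) (h1 : x * e1 = e2 * x) :
    x * (e0 * (1 + e1)) = (e1 * (1 + e2)) * x := by
  rw [← mul_assoc, h0, mul_assoc, mul_add, mul_one, h1, mul_assoc, add_mul, one_mul]

theorem a1_idem (two : (2 : R) = 0) {g : R} (hg : g ^ 3 = 1) :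
    (1 + g + g ^ 2) * (1 + g + g ^ 2) = 1 + g + g ^ 2 := by
  linear_combination (norm := noncomm_ring) g * hg + (g + g ^ 2 + g ^ 3) * two

theorem a1_comm_e {a b : R} (h : a * b = b * a) :
    (1 + a + a ^ 2) * (1 + b + b ^ 2) = (1 + b + b ^ 2) * (1 + a + a ^ 2) := by
  have h' : Commute a b := h
  have h1 : Commute a (1 + b + b ^ 2) :=
    ((Commute.one_right a).add_right h').add_right (h'.pow_right 2)
  exact (((Commute.one_left _).add_left h1).add_left (h1.pow_left 2)).eq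

theorem a1_pi_facts (two : ∀ r : R, r + r = 0) {e0 e1 e2 : R} (i0 : e0 * e0 = e0)
    (i1 : e1 * e1 = e1) (c01 : e0 * e1 = e1 * e0) (c12 : e1 * e2 = e2 * e1) :
    (e0 * (1 + e1)) * (e0 * (1 + e1)) = e0 * (1 + e1) ∧
    (e1 * (1 + e2)) * (e0 * (1 + e1)) = 0 ∧
    (e2 * (1 + e0)) * (e0 * (1 + e1)) = 0 ∧
    e1 * (e0 * (1 + e1)) = 0 := by
  have c01' : Commute e0 e1 := c01
  have c12' : Commute e1 e2 := c12
  have z1 : e1 * (1 + e1) = 0 := by rw [mul_add, mul_one, i1, two]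
  have z0' : (1 + e0) * e0 = 0 := by rw [add_mul, one_mul, i0, two]
  have sq1 : (1 + e1) * (1 + e1) = 1 + e1 := by
    rw [mul_add, mul_one, add_mul, one_mul, i1, two e1, add_zero]
  refine ⟨?_, ?_, ?_, ?_⟩
  · have hc' : Commute (1 + e1) e0 := (Commute.one_left e0).add_left c01'.symm
    calc (e0 * (1 + e1)) * (e0 * (1 + e1)) = e0 * (((1 + e1) * e0) * (1 + e1)) := by
          simp only [mul_assoc]
      _ = e0 * ((e0 * (1 + e1)) * (1 + e1)) := by rw [hc'.eq]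
      _ = (e0 * e0) * ((1 + e1) * (1 + e1)) := by simp only [mul_assoc]
      _ = e0 * (1 + e1) := by rw [i0, sq1]
  · have hc : Commute e1 ((1 + e2) * e0) :=
      ((Commute.one_right e1).add_right c12').mul_right c01'.symm
    calc (e1 * (1 + e2)) * (e0 * (1 + e1)) = (e1 * ((1 + e2) * e0)) * (1 + e1) := by
          simp only [mul_assoc]
      _ = ((1 + e2) * e0) * (e1 * (1 + e1)) := by rw [hc.eq, mul_assoc]
      _ = 0 := by rw [z1, mul_zero]
  · calc (e2 * (1 + e0)) * (e0 * (1 + e1)) = e2 * (((1 + e0) * e0) * (1 + e1)) := by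
          simp only [mul_assoc]
      _ = 0 := by rw [z0', zero_mul, mul_zero]
  · rw [← mul_assoc, ← c01, mul_assoc, mul_add, mul_one, i1, two e1, mul_zero]

end ring

/-! ## The module part: `π_0 = 0` -/

section module

variable {V : Type*} [AddCommGroup V]

theorem a1_w0_trivial [Finite V] (hV2 : ∀ v : V, v + v = 0)
    (x xi p0 p1 p2 e1 g1 : AddMonoid.End V)
    (hxi : xi * x = 1)
    (hp0 : p0 * p0 = p0) (h10 : p1 * p0 = 0) (h20 : p2 * p0 = 0)
    (hx1 : p1 * x = x * p0) (hx12 : p1 * (x * x) = x * x * p2) (hx2 : p2 * (x * x) = x * x * p0)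
    (he1 : e1 * p0 = 0) (he1' : e1 = 1 + g1 + g1 ^ 2) (hg13 : g1 ^ 3 = 1)
    (hc : g1 * p0 = p0 * g1)
    (hcard : Nat.card (Set.range ⇑(x + 1)) ≤ 4) : p0 = 0 := by
  have two : ∀ r : AddMonoid.End V, r + r = 0 := fun r => AddMonoidHom.ext fun v => hV2 (r v)
  have sq : (x + 1) * (x + 1) = x * x + 1 := by
    rw [mul_add, add_mul, mul_one, one_mul, add_assoc, ← add_assoc x x 1, two x, zero_add]
  have A1 : p1 * (x + 1) * p0 = x * p0 := by
    rw [mul_add, mul_one, add_mul, h10, add_zero, hx1, mul_assoc, hp0]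
  have B1 : p1 * ((x + 1) * (x + 1)) * p0 = 0 := by
    rw [sq, mul_add, mul_one, add_mul, h10, add_zero, hx12, mul_assoc, h20, mul_zero]
  have C2 : p2 * ((x + 1) * (x + 1)) * p0 = x * x * p0 := by
    rw [sq, mul_add, mul_one, add_mul, h20, add_zero, hx2, mul_assoc, hp0]
  have xinj : ∀ v : V, x v = 0 → v = 0 := by
    intro v hv
    have : (xi * x) v = xi (x v) := rfl
    rw [hxi, hv, map_zero] at this
    exact this
  have key : ∀ d d' : V, p0 d = d → p0 d' = d' → (x + 1) (d + (x + 1) d') = 0 →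
      d = 0 ∧ d' = 0 := by
    intro d d' hd hd' h
    have h' : (x + 1) d + ((x + 1) * (x + 1)) d' = 0 := by
      rw [map_add] at h; exact h
    have hd0 : d = 0 := by
      apply xinj
      have := congrArg p1 h'
      rw [map_add, map_zero] at this
      have t1 : p1 ((x + 1) d) = x d := by
        conv_lhs => rw [← hd]
        show (p1 * (x + 1) * p0) d = x d
        rw [A1]
        show x (p0 d) = x d
        rw [hd]
      have t2 : p1 (((x + 1) * (x + 1)) d') = 0 := by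
        conv_lhs => rw [← hd']
        show (p1 * ((x + 1) * (x + 1)) * p0) d' = 0
        rw [B1]; rfl
      rw [t1, t2, add_zero] at this
      exact this
    refine ⟨hd0, ?_⟩
    rw [hd0, map_zero, zero_add] at h'
    apply xinj; apply xinj
    have := congrArg p2 h'
    rw [map_zero] at this
    have t3 : p2 (((x + 1) * (x + 1)) d') = x (x d') := by
      conv_lhs => rw [← hd']
      show (p2 * ((x + 1) * (x + 1)) * p0) d' = x (x d')
      rw [C2]
      show x (x (p0 d')) = x (x d')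
      rw [hd']
    rw [t3] at this; exact this
  have hW : ∀ w : V, p0 w = w → w = 0 := by
    by_contra hne
    push Not at hne
    obtain ⟨w, hw, hw0⟩ := hne
    have hinj : Function.Injective (fun p : {v : V // p0 v = v} × {v : V // p0 v = v} =>
        (⟨(x + 1) (p.1.1 + (x + 1) p.2.1), ⟨_, rfl⟩⟩ : Set.range ⇑(x + 1))) := by
      rintro ⟨⟨a, ha⟩, ⟨b, hb⟩⟩ ⟨⟨c, hc'⟩, ⟨d, hd⟩⟩ h
      have h1 : (x + 1) (a + (x + 1) b) = (x + 1) (c + (x + 1) d) := congrArg Subtype.val h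
      have h' : (x + 1) ((a - c) + (x + 1) (b - d)) = 0 := by
        rw [map_sub (x + 1) b d, ← add_sub_add_comm, map_sub, h1, sub_self]
      obtain ⟨k1, k2⟩ := key (a - c) (b - d) (by rw [map_sub, ha, hc']) (by rw [map_sub, hb, hd]) h'
      have ac : a = c := sub_eq_zero.mp k1
      have bd : b = d := sub_eq_zero.mp k2
      subst ac; subst bd; rfl
    have hcW : Nat.card {v : V // p0 v = v} * Nat.card {v : V // p0 v = v} ≤ 4 := by
      have := Nat.card_le_card_of_injective _ hinj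
      rw [Nat.card_prod] at this
      exact this.trans hcard
    have hW2 : Nat.card {v : V // p0 v = v} ≤ 2 := by nlinarith
    have hg1w : p0 (g1 w) = g1 w := by
      show (p0 * g1) w = g1 w
      rw [← hc]
      show g1 (p0 w) = g1 w
      rw [hw]
    have h3 : g1 * g1 * g1 = 1 := by rw [← hg13, pow_succ, pow_two]
    have g1inj : ∀ v : V, g1 v = 0 → v = 0 := by
      intro v hv
      have : (g1 * g1 * g1) v = g1 (g1 (g1 v)) := rfl
      rw [h3, hv, map_zero, map_zero] at this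
      exact this
    have hne1 : g1 w ≠ w := by
      intro h
      have t : e1 w = w := by
        rw [he1', pow_two]
        show w + g1 w + g1 (g1 w) = w
        rw [h, h, hV2 w, zero_add]
      have t0 : e1 w = 0 := by
        conv_lhs => rw [← hw]
        show (e1 * p0) w = 0
        rw [he1]; rfl
      exact hw0 (t.symm.trans t0)
    have hne2 : g1 w ≠ 0 := fun h => hw0 (g1inj w h)
    haveI : Fintype {v : V // p0 v = v} := Fintype.ofFinite _
    have h3' : 2 < Fintype.card {v : V // p0 v = v} :=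
      Fintype.two_lt_card_iff.mpr ⟨⟨0, map_zero _⟩, ⟨w, hw⟩, ⟨g1 w, hg1w⟩,
        fun h => hw0 (congrArg Subtype.val h).symm, fun h => hne2 (congrArg Subtype.val h).symm,
        fun h => hne1 (congrArg Subtype.val h).symm⟩
    rw [← Nat.card_eq_fintype_card] at h3'
    omega
  exact AddMonoidHom.ext fun v => hW (p0 v) (by show (p0 * p0) v = p0 v; rw [hp0])

end module

section grp

variable {G : Type*} [Group G]

theorem a1_grp_e1 (X Y : G) :
    (X * Y * X⁻¹) * (X ^ 2 * Y * (X ^ 2)⁻¹) = X * (Y * (X * Y * X⁻¹)) * X⁻¹ := by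
  simp [pow_succ, mul_assoc]

theorem a1_grp_e2 (X Y : G) :
    (X ^ 2 * Y * (X ^ 2)⁻¹) * (X * Y * X⁻¹) = X * ((X * Y * X⁻¹) * Y) * X⁻¹ := by
  simp [pow_succ, mul_assoc]

theorem a1_grp_k1 (Y Z : G) : (Y * Z * Y⁻¹) ^ 3 = Y * Z ^ 3 * Y⁻¹ := conj_pow

theorem a1_grp_cube (X Y : G) : (X * Y) ^ 3 =
    (X * Y * X⁻¹) * (X ^ 2 * Y * (X ^ 2)⁻¹) * (X ^ 3 * Y * (X ^ 3)⁻¹) * X ^ 3 := by
  simp [pow_succ, mul_assoc]

theorem a1_grp_r0 (X Y : G) : X * Y = (X * Y * X⁻¹) * X := by group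

theorem a1_grp_r1 (X Y : G) : X * (X * Y * X⁻¹) = (X ^ 2 * Y * (X ^ 2)⁻¹) * X := by
  simp [pow_succ, mul_assoc]

theorem a1_grp_r2 (X Y : G) :
    X * (X ^ 2 * Y * (X ^ 2)⁻¹) = X ^ 3 * Y * X * (X ^ 3)⁻¹ := by
  simp [pow_succ, mul_assoc]

theorem a1_grp_fin (X Y : G) : X * Y = X * Y * X⁻¹ * X := by group

end grp

/-! ## The main theorem -/

section main

variable {A : Type*} [CommGroup A]

/-- `MulAut A` acting on `Additive A` by additive endomorphisms -/
def toEnd (A : Type*) [CommGroup A] : MulAut A →* AddMonoid.End (Additive A) where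
  toFun X := MonoidHom.toAdditive X.toMonoidHom
  map_one' := rfl
  map_mul' _ _ := rfl

theorem toEnd_apply (X : MulAut A) (a : A) :
    toEnd A X (Additive.ofMul a) = Additive.ofMul (X a) := rfl

theorem toEnd_injective : Function.Injective (toEnd A) := by
  intro X Y h
  ext a
  exact congrArg Additive.toMul (DFunLike.congr_fun h (Additive.ofMul a))

/-- A1 (H). -/
theorem comm_of_cube [Finite A] (h2 : ∀ a : A, a * a = 1) (X Γ : MulAut A) (hX : X ^ 3 = 1)
    (hΓ : Γ ^ 3 = 1) (hc1 : Commute Γ (X * Γ * X⁻¹)) (hc2 : Commute Γ (X ^ 2 * Γ * (X ^ 2)⁻¹))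
    (hXΓ : (X * Γ) ^ 3 = 1) (hV : Nat.card (cm X) ≤ 4) : X * Γ = Γ * X := by
  -- group level
  have c12 : (X * Γ * X⁻¹) * (X ^ 2 * Γ * (X ^ 2)⁻¹) =
      (X ^ 2 * Γ * (X ^ 2)⁻¹) * (X * Γ * X⁻¹) := by
    rw [a1_grp_e1, a1_grp_e2, hc1.eq]
  have k1 : (X * Γ * X⁻¹) ^ 3 = 1 := by
    rw [a1_grp_k1, hΓ, mul_one, mul_inv_cancel]
  have k2 : (X ^ 2 * Γ * (X ^ 2)⁻¹) ^ 3 = 1 := by
    rw [a1_grp_k1, hΓ, mul_one, mul_inv_cancel]
  have kp : Γ * (X * Γ * X⁻¹) * (X ^ 2 * Γ * (X ^ 2)⁻¹) = 1 := by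
    have e := a1_grp_cube X Γ
    rw [hXΓ, hX, one_mul, inv_one, mul_one, mul_one] at e
    have cc : Commute Γ ((X * Γ * X⁻¹) * (X ^ 2 * Γ * (X ^ 2)⁻¹)) := hc1.mul_right hc2
    rw [mul_assoc, cc.eq]; exact e.symm
  have r0 : X * Γ = (X * Γ * X⁻¹) * X := a1_grp_r0 X Γ
  have r1 : X * (X * Γ * X⁻¹) = (X ^ 2 * Γ * (X ^ 2)⁻¹) * X := a1_grp_r1 X Γ
  have r2 : X * (X ^ 2 * Γ * (X ^ 2)⁻¹) = Γ * X := by
    rw [a1_grp_r2, hX, one_mul, inv_one, mul_one]
  -- ring level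
  have hV2 : ∀ v : Additive A, v + v = 0 := fun v => congrArg Additive.ofMul (h2 (Additive.toMul v))
  have two : ∀ r : AddMonoid.End (Additive A), r + r = 0 :=
    fun r => AddMonoidHom.ext fun v => hV2 (r v)
  have two' : (2 : AddMonoid.End (Additive A)) = 0 := by
    rw [← one_add_one_eq_two]; exact two 1
  obtain ⟨x, hx⟩ : ∃ x, x = toEnd A X := ⟨_, rfl⟩
  obtain ⟨xi, hxi⟩ : ∃ xi, xi = toEnd A X⁻¹ := ⟨_, rfl⟩
  obtain ⟨g0, hg0⟩ : ∃ g0, g0 = toEnd A Γ := ⟨_, rfl⟩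
  obtain ⟨g1, hg1⟩ : ∃ g1, g1 = toEnd A (X * Γ * X⁻¹) := ⟨_, rfl⟩
  obtain ⟨g2, hg2⟩ : ∃ g2, g2 = toEnd A (X ^ 2 * Γ * (X ^ 2)⁻¹) := ⟨_, rfl⟩
  have xix : xi * x = 1 := by rw [hx, hxi, ← map_mul, inv_mul_cancel, map_one]
  have xxi : x * xi = 1 := by rw [hx, hxi, ← map_mul, mul_inv_cancel, map_one]
  have x0 : x * g0 = g1 * x := by rw [hx, hg0, hg1, ← map_mul, ← map_mul]; exact congrArg _ r0
  have x1 : x * g1 = g2 * x := by rw [hx, hg1, hg2, ← map_mul, ← map_mul]; exact congrArg _ r1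
  have x2 : x * g2 = g0 * x := by rw [hx, hg0, hg2, ← map_mul, ← map_mul]; exact congrArg _ r2
  have c01 : g0 * g1 = g1 * g0 := by rw [hg0, hg1, ← map_mul, ← map_mul, hc1.eq]
  have c02 : g0 * g2 = g2 * g0 := by rw [hg0, hg2, ← map_mul, ← map_mul, hc2.eq]
  have c12' : g1 * g2 = g2 * g1 := by rw [hg1, hg2, ← map_mul, ← map_mul, c12]
  have t0 : g0 ^ 3 = 1 := by rw [hg0, ← map_pow, hΓ, map_one]
  have t1 : g1 ^ 3 = 1 := by rw [hg1, ← map_pow, k1, map_one]
  have t2 : g2 ^ 3 = 1 := by rw [hg2, ← map_pow, k2, map_one]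
  have tp : g0 * g1 * g2 = 1 := by rw [hg0, hg1, hg2, ← map_mul, ← map_mul, kp, map_one]
  -- idempotents
  have E0 := a1_conj_e x0
  have E1 := a1_conj_e x1
  have E2 := a1_conj_e x2
  have P0 := a1_conj_pi E0 E1
  have P1 := a1_conj_pi E1 E2
  have P2 := a1_conj_pi E2 E0
  have i0 := a1_idem two' t0
  have i1 := a1_idem two' t1
  have ce01 := a1_comm_e c01
  have ce12 := a1_comm_e c12'
  obtain ⟨f1, f2, f3, f4⟩ := a1_pi_facts two i0 i1 ce01 ce12 (e2 := 1 + g2 + g2 ^ 2)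
  have hcg : g1 * ((1 + g0 + g0 ^ 2) * (1 + (1 + g1 + g1 ^ 2))) =
      ((1 + g0 + g0 ^ 2) * (1 + (1 + g1 + g1 ^ 2))) * g1 := by
    have a : Commute g1 g0 := c01.symm
    have b : Commute g1 g1 := Commute.refl g1
    have a' : Commute g1 (1 + g0 + g0 ^ 2) :=
      ((Commute.one_right g1).add_right a).add_right (a.pow_right 2)
    have b' : Commute g1 (1 + g1 + g1 ^ 2) :=
      ((Commute.one_right g1).add_right b).add_right (b.pow_right 2)
    exact (a'.mul_right ((Commute.one_right g1).add_right b')).eq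
  -- cardinality
  have bridge : ∀ m : A, (x + 1) (Additive.ofMul m) = Additive.ofMul (X m * m⁻¹) := by
    intro m
    have hinv : m⁻¹ = m := inv_eq_of_mul_eq_one_left (h2 m)
    rw [hinv, hx]; rfl
  have hcard : Nat.card (Set.range ⇑(x + 1)) ≤ 4 := by
    have e : Set.range ⇑(x + 1) ≃ cm X :=
      Equiv.subtypeEquiv Additive.toMul (fun v => by
        constructor
        · rintro ⟨u, rfl⟩
          rw [mem_cm]
          exact ⟨Additive.toMul u, (congrArg Additive.toMul (bridge (Additive.toMul u))).symm⟩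
        · intro h
          rw [mem_cm] at h
          obtain ⟨m, hm⟩ := h
          refine ⟨Additive.ofMul m, ?_⟩
          rw [bridge m, hm]; rfl)
    rw [Nat.card_congr e]; exact hV
  have hp0 : (1 + g0 + g0 ^ 2) * (1 + (1 + g1 + g1 ^ 2)) = 0 :=
    a1_w0_trivial hV2 x xi _ _ _ (1 + g1 + g1 ^ 2) g1 xix f1 f2 f3 P0.symm
      (by rw [← mul_assoc, ← P0, mul_assoc, ← P2, ← mul_assoc])
      (by rw [← mul_assoc, ← P1, mul_assoc, ← P0, ← mul_assoc])
      f4 rfl t1 hcg hcard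
  have hp1 : (1 + g1 + g1 ^ 2) * (1 + (1 + g2 + g2 ^ 2)) = 0 := by
    have : (1 + g1 + g1 ^ 2) * (1 + (1 + g2 + g2 ^ 2)) =
        x * ((1 + g0 + g0 ^ 2) * (1 + (1 + g1 + g1 ^ 2))) * xi := by
      rw [P0, mul_assoc, xxi, mul_one]
    rw [this, hp0, mul_zero, zero_mul]
  have hp2 : (1 + g2 + g2 ^ 2) * (1 + (1 + g0 + g0 ^ 2)) = 0 := by
    have : (1 + g2 + g2 ^ 2) * (1 + (1 + g0 + g0 ^ 2)) =
        x * ((1 + g1 + g1 ^ 2) * (1 + (1 + g2 + g2 ^ 2))) * xi := by
      rw [P1, mul_assoc, xxi, mul_one]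
    rw [this, hp1, mul_zero, zero_mul]
  have hfin : g0 = g1 := a1_ring_core two' g0 g1 g2 c01 c02 c12' t0 t1 t2 tp hp0 hp1 hp2
  rw [hg0, hg1] at hfin
  have hgrp : Γ = X * Γ * X⁻¹ := toEnd_injective hfin
  calc X * Γ = X * Γ * X⁻¹ * X := a1_grp_fin X Γ
    _ = Γ * X := by rw [← hgrp]

end main

end Cfsg.Agent.Lib.H5.FG19
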