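import Mathlib

/-!
# S4563/S4564 pieces GLUE and GLUECYC (helper5): `W₀ = (S ∩ K) Z ≤ W₁ = S Z`
-/

set_option autoImplicit false

open Pointwise

namespace Cfsg.Agent.Lib.H5.FRS

/-- index of `N` in `A N` when `A` normalizes `N` -/
theorem relIndex_sup_of_le_normalizer_frs {G : Type*} [Group G] (A N : Subgroup G)
    (hLE : A ≤ Subgroup.normalizer (N : Set G)) :
    N.relIndex (A ⊔ N) = N.relIndex A := by
  haveI := Subgroup.normal_subgroupOf_of_le_normalizer hLE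
  haveI := Subgroup.normal_subgroupOf_sup_of_le_normalizer hLE
  exact (Nat.card_congr
    (QuotientGroup.quotientInfEquivProdNormalizerQuotient A N hLE).toEquiv).symm

/-- GLUE (pure group theory): `W₁ = S Z` normalizes `W₀ = (S ∩ K) Z` and `Z`, `W₁ ∩ K = W₀`,
`|W₁ : W₀|` is a power of `p`. -/
theorem sylow_glue {H : Type*} [Group H] [Finite H] (Z K : Subgroup H) [Z.Normal] [K.Normal]
    (hZK : Z ≤ K) (p : ℕ) [Fact p.Prime] (S : Sylow p H) (W₀ W₁ : Subgroup H)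
    (hW₀ : W₀ = ((S : Subgroup H) ⊓ K) ⊔ Z) (hW₁ : W₁ = (S : Subgroup H) ⊔ Z) :
    Z ≤ W₀ ∧ W₀ ≤ W₁ ∧ W₀ ≤ K ∧ W₁ ≤ Subgroup.normalizer (W₀ : Set H) ∧
      W₁ ≤ Subgroup.normalizer (Z : Set H) ∧ W₁ ⊓ K = W₀ ∧ ∃ m : ℕ, W₀.relIndex W₁ = p ^ m := by
  subst hW₀ hW₁
  have h1 : Z ≤ ((S : Subgroup H) ⊓ K) ⊔ Z := le_sup_right
  have h2 : ((S : Subgroup H) ⊓ K) ⊔ Z ≤ (S : Subgroup H) ⊔ Z := sup_le_sup_right inf_le_left Z
  have h3 : ((S : Subgroup H) ⊓ K) ⊔ Z ≤ K := sup_le inf_le_right hZK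
  have h6 : ((S : Subgroup H) ⊔ Z) ⊓ K = ((S : Subgroup H) ⊓ K) ⊔ Z := by
    apply le_antisymm
    · intro x hx
      obtain ⟨hx1, hxK⟩ := Subgroup.mem_inf.mp hx
      have hx2 : x ∈ ((S : Subgroup H) : Set H) * (Z : Set H) := by
        rw [← Subgroup.mul_normal]; exact hx1
      obtain ⟨s, hs, z, hz, rfl⟩ := Set.mem_mul.mp hx2
      have hsK : s ∈ K := by
        have e : s = s * z * z⁻¹ := by group
        rw [e]; exact K.mul_mem hxK (K.inv_mem (hZK hz))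
      exact Subgroup.mul_mem_sup ⟨hs, hsK⟩ hz
    · exact le_inf h2 h3
  have h4 : (S : Subgroup H) ⊔ Z
      ≤ Subgroup.normalizer ((((S : Subgroup H) ⊓ K) ⊔ Z : Subgroup H) : Set H) := by
    intro g hg
    rw [Subgroup.mem_normalizer_iff]
    intro h
    rw [← h6]
    constructor
    · rintro ⟨hh1, hhK⟩
      exact ⟨Subgroup.mul_mem _ (Subgroup.mul_mem _ hg hh1) (Subgroup.inv_mem _ hg),
        ‹K.Normal›.conj_mem h hhK g⟩
    · rintro ⟨hh1, hhK⟩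
      have e : h = g⁻¹ * (g * h * g⁻¹) * g⁻¹⁻¹ := by group
      rw [e]
      exact ⟨Subgroup.mul_mem _ (Subgroup.mul_mem _ (Subgroup.inv_mem _ hg) hh1)
        (Subgroup.inv_mem _ (Subgroup.inv_mem _ hg)), ‹K.Normal›.conj_mem _ hhK g⁻¹⟩
  have h5 : (S : Subgroup H) ⊔ Z ≤ Subgroup.normalizer (Z : Set H) := by
    rw [Subgroup.normalizer_eq_top]; exact le_top
  refine ⟨h1, h2, h3, h4, h5, h6, ?_⟩
  have hS : (S : Subgroup H)
      ≤ Subgroup.normalizer ((((S : Subgroup H) ⊓ K) ⊔ Z : Subgroup H) : Set H) :=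
    le_sup_left.trans h4
  have hsup : (S : Subgroup H) ⊔ Z = (S : Subgroup H) ⊔ (((S : Subgroup H) ⊓ K) ⊔ Z) := by
    apply le_antisymm
    · exact sup_le le_sup_left (h1.trans le_sup_right)
    · exact sup_le le_sup_left h2
  have hrel : (((S : Subgroup H) ⊓ K) ⊔ Z).relIndex ((S : Subgroup H) ⊔ Z)
      = (((S : Subgroup H) ⊓ K) ⊔ Z).relIndex (S : Subgroup H) := by
    rw [hsup]; exact relIndex_sup_of_le_normalizer_frs _ _ hS
  have hdvd : (((S : Subgroup H) ⊓ K) ⊔ Z).relIndex (S : Subgroup H)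
      ∣ Nat.card (S : Subgroup H) := Subgroup.relIndex_dvd_card _ _
  obtain ⟨k, hk⟩ := IsPGroup.iff_card.mp S.isPGroup'
  rw [hk] at hdvd
  obtain ⟨m, _, hm⟩ := (Nat.dvd_prime_pow (Fact.out)).mp hdvd
  exact ⟨m, hrel.trans hm⟩

/-- GLUECYC (pure group theory): if a Sylow `p`-subgroup of `H/K` is cyclic then `W₁ = ⟨x⟩ W₀` for
some `x ∈ W₁`. -/
theorem cyclic_glue {H : Type*} [Group H] [Finite H] (Z K : Subgroup H) [Z.Normal] [K.Normal]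
    (hZK : Z ≤ K) (p : ℕ) [Fact p.Prime] (S : Sylow p H) (W₀ W₁ : Subgroup H)
    (hW₀ : W₀ = ((S : Subgroup H) ⊓ K) ⊔ Z) (hW₁ : W₁ = (S : Subgroup H) ⊔ Z)
    (P : Sylow p (H ⧸ K)) (hcyc : IsCyclic ↥(P : Subgroup (H ⧸ K))) :
    ∃ x ∈ W₁, ∀ w ∈ W₁, ∃ k : ℕ, (x ^ k)⁻¹ * w ∈ W₀ := by
  subst hW₀ hW₁
  have hsurj : Function.Surjective (QuotientGroup.mk' K) := QuotientGroup.mk'_surjective K
  obtain ⟨Q, hQ⟩ : ∃ Q : Sylow p (H ⧸ K), Q = S.mapSurjective hsurj := ⟨_, rfl⟩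
  have hQmap : (Q : Subgroup (H ⧸ K)) = (S : Subgroup H).map (QuotientGroup.mk' K) := by
    rw [hQ]; rfl
  obtain ⟨g, hg⟩ := MulAction.exists_smul_eq (H ⧸ K) P Q
  haveI : IsCyclic ↥(Q : Subgroup (H ⧸ K)) := by
    rw [← hg]
    exact isCyclic_of_surjective (P.equivSMul g).toMonoidHom (P.equivSMul g).surjective
  obtain ⟨⟨y, hy⟩, hgen⟩ := IsCyclic.exists_generator (α := ↥(Q : Subgroup (H ⧸ K)))
  have hy' : y ∈ (S : Subgroup H).map (QuotientGroup.mk' K) := hQmap ▸ hy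
  obtain ⟨x, hxS, hxy⟩ := Subgroup.mem_map.mp hy'
  refine ⟨x, Subgroup.mem_sup_left hxS, ?_⟩
  intro w hw
  have hw2 : w ∈ ((S : Subgroup H) : Set H) * (Z : Set H) := by
    rw [← Subgroup.mul_normal]; exact hw
  obtain ⟨s, hs, z, hz, rfl⟩ := Set.mem_mul.mp hw2
  have hsQ : QuotientGroup.mk' K s ∈ (Q : Subgroup (H ⧸ K)) := by
    rw [hQmap]; exact Subgroup.mem_map_of_mem _ hs
  have h1 := hgen ⟨_, hsQ⟩
  obtain ⟨k, hk⟩ : ∃ k : ℕ, y ^ k = QuotientGroup.mk' K s := by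
    have h2 := (isOfFinOrder_of_finite
      (⟨y, hy⟩ : ↥(Q : Subgroup (H ⧸ K)))).mem_powers_iff_mem_zpowers.mpr h1
    obtain ⟨k, hk⟩ := (Submonoid.mem_powers_iff _ _).mp h2
    exact ⟨k, congrArg Subtype.val hk⟩
  refine ⟨k, ?_⟩
  have h3 : (x ^ k)⁻¹ * s ∈ K := by
    apply QuotientGroup.eq.mp
    show (QuotientGroup.mk' K (x ^ k)) = QuotientGroup.mk' K s
    rw [map_pow, hxy]; exact hk
  have h4 : (x ^ k)⁻¹ * s ∈ (S : Subgroup H) :=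
    Subgroup.mul_mem _ (Subgroup.inv_mem _ (Subgroup.pow_mem _ hxS k)) hs
  have e : (x ^ k)⁻¹ * (s * z) = ((x ^ k)⁻¹ * s) * z := by group
  rw [e]
  exact Subgroup.mul_mem_sup ⟨h4, h3⟩ hz

end Cfsg.Agent.Lib.H5.FRS
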