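/-
S5401-CENT (helper17 third farm-out): in a faithful primitive action, a non-trivial element fixing `z`
and centralised by the stabiliser of `z` has centraliser exactly that stabiliser.
-/
import Mathlib

set_option autoImplicit false

namespace Cfsg.Agent.Lib.H5.FT

theorem smul_eq_of_commute {G : Type*} {X : Type*} [Group G] [MulAction G X] [FaithfulSMul G X]
    [MulAction.IsPreprimitive G X] (z : X) (t : G) (ht : t ≠ 1) (htz : t • z = z)
    (hstab : ∀ g : G, g • z = z → g * t = t * g) :
    ∀ g : G, g * t = t * g → g • z = z := by
  intro g hg
  by_cases hX : Nontrivial X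
  · have := hX
    have hco : IsCoatom (MulAction.stabilizer G z) :=
      MulAction.IsPreprimitive.isCoatom_stabilizer_of_isPreprimitive G z
    -- the centraliser of t
    let C : Subgroup G := Subgroup.centralizer {t}
    have hle : MulAction.stabilizer G z ≤ C := by
      intro h hh
      rw [Subgroup.mem_centralizer_iff]
      intro x hx
      rw [Set.mem_singleton_iff] at hx
      subst hx
      exact (hstab h (MulAction.mem_stabilizer_iff.mp hh)).symm
    have hCne : C ≠ ⊤ := by
      intro hC
      apply ht
      have hcomm : ∀ h : G, h * t = t * h := by
        intro h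
        have : h ∈ C := by rw [hC]; trivial
        rw [Subgroup.mem_centralizer_iff] at this
        exact (this t rfl).symm
      apply FaithfulSMul.eq_of_smul_eq_smul (α := X)
      intro x
      obtain ⟨h, rfl⟩ := MulAction.exists_smul_eq G z x
      rw [one_smul, smul_smul, ← hcomm h, mul_smul, htz]
    have hgC : g ∈ C := by
      rw [Subgroup.mem_centralizer_iff]
      intro x hx
      rw [Set.mem_singleton_iff] at hx
      subst hx
      exact hg.symm
    rcases eq_or_lt_of_le hle with h | h
    · have : g ∈ MulAction.stabilizer G z := by rw [h]; exact hgC
      exact MulAction.mem_stabilizer_iff.mp this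
    · exact absurd (hco.2 C h) hCne
  · rw [not_nontrivial_iff_subsingleton] at hX
    exact Subsingleton.elim _ _

end Cfsg.Agent.Lib.H5.FT
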