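import Cfsg.Agent.Lib.H28.Fi22M.Base
import Cfsg.Agent.Lib.H17.Fi22Ord.Transp

set_option autoImplicit false
set_option maxRecDepth 100000

/-!
# S2053 piece FA (helper28 architect): the `Fi22` facts for **KL**

`t = a = fg 0`, `d0` = helper17's `Fi22Transp.d0`; the rank 3 analysis `Fi22Transp.conj_cases` gives the
hypothesis (rank) of **KL**, the seven commuting transpositions of `heptadL` with product `1` give the odd
relation; the identities of words are decided by helper17's word problem `Fi22Word.e_eq_e`.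
-/

namespace Cfsg.Agent.Lib.H5.Fi22M

open Cfsg.Agent.Lib.H28.Fi22M
open Cfsg.Agent.Lib.H14.SuzM (wv)
open Cfsg.Agent.Lib.H17.CosetCert
open Cfsg.Agent.Lib.H17.Fi22U62 (sbase z)
open Cfsg.Agent.Lib.H17.Fi22Word (e e_nil e_cons e_append e_reverse e_singleton e_eq_e e_eq_one tw)
open Cfsg.Agent.Lib.H17.Fi22Transp (zel zel_eq zel_sq d0 d1 pow_d1 d1_ne comm_of_mem_H conj_cases
  zel_conj_of_mem_H smul_val)

/-- the seven words `u` (the transposition is `u⁻¹ a u`) -/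
def heptadW : List (List ℕ) := [
  [1, 0, 2, 1],
  [1, 0, 2, 1, 3, 2, 4, 3],
  [1, 0, 2, 1, 3, 2, 4, 3, 5, 4, 6, 5],
  [1, 0, 2, 1, 3, 2, 7, 3],
  [1, 0, 2, 1, 3, 4, 7, 3],
  [1, 0, 2, 1, 3, 4, 5, 6, 7, 3, 4, 5],
  [1, 0, 2, 1, 3, 4, 5, 6, 7, 3, 4, 5, 8, 7, 3, 2, 4, 3, 7, 8]]

/-- the word of the transposition `u⁻¹ a u` -/
def cw (u : List ℕ) : List ℕ := u.reverse ++ [0] ++ u

/-- the check of `Fi22Word.e_eq_e` -/
noncomputable def eqChk (L1 L2 : List ℕ) : Bool :=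
  sbase.all fun c => Nat.beq (applyT 12 4096 (tw (L1 ++ L2.reverse)) c) c

theorem e_eq_of_eqChk (L1 L2 : List ℕ) (h : eqChk L1 L2 = true) : e L1 = e L2 := by
  apply e_eq_e
  intro c hc
  have h2 := List.all_eq_true.1 h c hc
  exact Nat.eq_of_beq_eq_true h2

/-- a point where the two words differ -/
noncomputable def neChk (L1 L2 : List ℕ) (c : ℕ) : Bool :=
  !(Nat.beq (applyT 12 4096 (tw L1).reverse c) (applyT 12 4096 (tw L2).reverse c))

attribute [local instance] Cfsg.Agent.Lib.H17.Fi22Simple.actInst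

theorem e_ne_of_neChk (L1 L2 : List ℕ) (c : ℕ) (hc : c < 3510) (h : neChk L1 L2 c = true) :
    e L1 ≠ e L2 := by
  intro he
  have h2 := congrArg (fun g : Cfsg.Agent.Lib.H17.Fi22U62.G =>
    ((g • (⟨c, hc⟩ : Fin 3510) : Fin 3510) : ℕ)) he
  simp only [smul_val] at h2
  unfold neChk at h
  rw [h2] at h
  have h3 : Nat.beq (applyT 12 4096 (tw L2).reverse c) (applyT 12 4096 (tw L2).reverse c) = true :=
    Nat.beq_refl _
  rw [h3] at h
  exact Bool.noConfusion h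

theorem wv_fg (u : List ℕ) : wv fg u = e u := rfl

theorem fg_zero : fg 0 = e [0] := (e_singleton 0).symm

theorem conj_eq (u : List ℕ) : (wv fg u)⁻¹ * fg 0 * ((wv fg u)⁻¹)⁻¹ = e (cw u) := by
  rw [wv_fg, fg_zero, inv_inv, ← e_reverse, ← e_append, ← e_append]
  rfl

theorem prod_map_e (f : List ℕ → List ℕ) (L : List (List ℕ)) :
    (L.map fun u => e (f u)).prod = e (L.flatMap f) := by
  induction L with
  | nil => rfl
  | cons u L ih => rw [List.map_cons, List.prod_cons, ih, List.flatMap_cons, e_append]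

theorem heptad_ne : ∀ u ∈ heptadW, ∃ c < 3510, neChk (cw u) [0] c = true := by
  decide +kernel

theorem heptad_comm_a : ∀ u ∈ heptadW, eqChk (cw u ++ [0]) ([0] ++ cw u) = true := by
  decide +kernel

theorem heptad_comm : ∀ u ∈ heptadW, ∀ v ∈ heptadW, eqChk (cw u ++ cw v) (cw v ++ cw u) = true := by
  decide +kernel

theorem heptad_prod : eqChk (heptadW.flatMap cw) [] = true := by
  decide +kernel

theorem rank_fi22 (x : FG) (hne : x * fg 0 * x⁻¹ ≠ fg 0)
    (hcomm : (x * fg 0 * x⁻¹) * fg 0 = fg 0 * (x * fg 0 * x⁻¹)) :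
    ∃ h : FG, h * fg 0 = fg 0 * h ∧ x * fg 0 * x⁻¹ = h * d0 * h⁻¹ := by
  have hz : fg 0 = zel := fg_zero
  rw [hz] at hne hcomm ⊢
  rcases conj_cases x with hx | ⟨h, hh, he⟩ | ⟨h, hh, he⟩
  · exact absurd (zel_conj_of_mem_H x hx) hne
  · exact ⟨h, (comm_of_mem_H h hh).symm, he⟩
  · exfalso
    -- `d1` commutes with `zel`
    have hh' := comm_of_mem_H h hh
    have hd : d1 = h⁻¹ * (x * zel * x⁻¹) * h := by rw [he]; group
    have hhi : zel * h⁻¹ = h⁻¹ * zel := by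
      calc zel * h⁻¹ = h⁻¹ * (h * zel) * h⁻¹ := by group
        _ = h⁻¹ * (zel * h) * h⁻¹ := by rw [hh']
        _ = h⁻¹ * zel := by group
    have hc1 : d1 * zel = zel * d1 := by
      rw [hd]
      calc h⁻¹ * (x * zel * x⁻¹) * h * zel = h⁻¹ * (x * zel * x⁻¹) * (h * zel) := by group
        _ = h⁻¹ * (x * zel * x⁻¹) * (zel * h) := by rw [hh']
        _ = h⁻¹ * ((x * zel * x⁻¹) * zel) * h := by group
        _ = h⁻¹ * (zel * (x * zel * x⁻¹)) * h := by rw [hcomm]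
        _ = (h⁻¹ * zel) * (x * zel * x⁻¹) * h := by group
        _ = (zel * h⁻¹) * (x * zel * x⁻¹) * h := by rw [hhi]
        _ = zel * (h⁻¹ * (x * zel * x⁻¹) * h) := by group
    have hd1sq : d1 * d1 = 1 := by
      rw [hd]
      calc h⁻¹ * (x * zel * x⁻¹) * h * (h⁻¹ * (x * zel * x⁻¹) * h)
          = h⁻¹ * x * (zel * zel) * x⁻¹ * h := by group
        _ = 1 := by rw [zel_sq]; group
    have h2 : (zel * d1) ^ 2 = 1 := by
      rw [pow_two]
      calc zel * d1 * (zel * d1) = zel * (d1 * zel) * d1 := by group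
        _ = zel * (zel * d1) * d1 := by rw [hc1]
        _ = (zel * zel) * (d1 * d1) := by group
        _ = 1 := by rw [zel_sq, hd1sq, one_mul]
    have h3 := pow_d1
    have h1 : zel * d1 = 1 := by
      have : (zel * d1) ^ 3 = (zel * d1) ^ 2 * (zel * d1) := pow_succ _ 2
      rw [h3, h2, one_mul] at this
      exact this.symm
    apply d1_ne
    calc d1 = zel * (zel * d1) := by rw [← mul_assoc, zel_sq, one_mul]
      _ = zel := by rw [h1, mul_one]

/-- **FA** -/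
theorem involLift_fi22
    (hKL : ∀ (Γ : Type) [Group Γ] (σ : Γ →* FG), Function.Surjective σ → σ.ker ≤ Subgroup.center Γ →
      ∀ (t d0 : FG), t * t = 1 →
      (∀ x : FG, x * t * x⁻¹ ≠ t → (x * t * x⁻¹) * t = t * (x * t * x⁻¹) →
        ∃ h : FG, h * t = t * h ∧ x * t * x⁻¹ = h * d0 * h⁻¹) →
      ∀ X : List FG, Odd X.length → (∀ x ∈ X, x * t * x⁻¹ ≠ t) →
      (∀ x ∈ X, (x * t * x⁻¹) * t = t * (x * t * x⁻¹)) →
      (∀ x ∈ X, ∀ y ∈ X, (x * t * x⁻¹) * (y * t * y⁻¹) = (y * t * y⁻¹) * (x * t * x⁻¹)) →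
      (X.map fun x => x * t * x⁻¹).prod = 1 →
      ∃ t' : Γ, σ t' = t ∧ t' * t' = 1 ∧
        ∀ x y : Γ, σ (x * t' * x⁻¹) * σ (y * t' * y⁻¹) = σ (y * t' * y⁻¹) * σ (x * t' * x⁻¹) →
          (x * t' * x⁻¹) * (y * t' * y⁻¹) = (y * t' * y⁻¹) * (x * t' * x⁻¹)) :
    ∀ (Γ : Type) [Group Γ] (σ : Γ →* FG), Function.Surjective σ → σ.ker ≤ Subgroup.center Γ →
      ∃ t' : Γ, σ t' = fg 0 ∧ t' * t' = 1 ∧
        ∀ x y : Γ, σ (x * t' * x⁻¹) * σ (y * t' * y⁻¹) = σ (y * t' * y⁻¹) * σ (x * t' * x⁻¹) →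
          (x * t' * x⁻¹) * (y * t' * y⁻¹) = (y * t' * y⁻¹) * (x * t' * x⁻¹) := by
  intro Γ _ σ hs hc
  have ht : fg 0 * fg 0 = 1 := by
    rw [fg_zero]
    exact zel_sq
  refine hKL Γ σ hs hc (fg 0) d0 ht rank_fi22 (heptadW.map fun u => (wv fg u)⁻¹) ?_ ?_ ?_ ?_ ?_
  · rw [List.length_map]; decide
  · rw [List.forall_mem_map]
    intro u hu
    rw [conj_eq, fg_zero]
    obtain ⟨c, hc, hcc⟩ := heptad_ne u hu
    exact e_ne_of_neChk _ _ c hc hcc
  · rw [List.forall_mem_map]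
    intro u hu
    rw [conj_eq, fg_zero, ← e_append, ← e_append]
    exact e_eq_of_eqChk _ _ (heptad_comm_a u hu)
  · rw [List.forall_mem_map]
    intro u hu
    rw [List.forall_mem_map]
    intro v hv
    rw [conj_eq, conj_eq, ← e_append, ← e_append]
    exact e_eq_of_eqChk _ _ (heptad_comm u hu v hv)
  · rw [List.map_map]
    have h1 : ((fun x : FG => x * fg 0 * x⁻¹) ∘ fun u : List ℕ => (wv fg u)⁻¹) = fun u => e (cw u) := by
      funext u
      exact conj_eq u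
    rw [h1, prod_map_e, ← e_nil]
    exact e_eq_of_eqChk _ _ heptad_prod

end Cfsg.Agent.Lib.H5.Fi22M
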