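import Cfsg.Agent.Lib.H28.Fi22M.Cov
import Cfsg.Agent.Lib.H5.Fi22MFA

set_option autoImplicit false
set_option maxRecDepth 100000

/-!
# S2053 piece W (helper28 architect; file written by helper9, built and landed by helper5):
`(cdefghi)⁹ = 1` in `Fi22`, decided in helper17's faithful action on 3510 points.
-/

namespace Cfsg.Agent.Lib.H5.Fi22M

open Cfsg.Agent.Lib.H28.Fi22M
open Cfsg.Agent.Lib.H14.SuzM (wv)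

/-- the word `(cdefghi)⁹` -/
def wD : List ℕ := [2, 3, 4, 5, 6, 7, 8, 2, 3, 4, 5, 6, 7, 8, 2, 3, 4, 5, 6, 7, 8, 2, 3, 4, 5, 6, 7, 8,
      2, 3, 4, 5, 6, 7, 8, 2, 3, 4, 5, 6, 7, 8, 2, 3, 4, 5, 6, 7, 8, 2, 3, 4, 5, 6, 7, 8,
      2, 3, 4, 5, 6, 7, 8]

theorem wD_chk : eqChk wD [] = true := by decide +kernel

/-- **W** -/
theorem wv_fg_D : wv fg [2, 3, 4, 5, 6, 7, 8, 2, 3, 4, 5, 6, 7, 8, 2, 3, 4, 5, 6, 7, 8, 2, 3, 4, 5, 6, 7, 8,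
      2, 3, 4, 5, 6, 7, 8, 2, 3, 4, 5, 6, 7, 8, 2, 3, 4, 5, 6, 7, 8, 2, 3, 4, 5, 6, 7, 8,
      2, 3, 4, 5, 6, 7, 8] = 1 := by
  have h := e_eq_of_eqChk wD [] wD_chk
  rw [Cfsg.Agent.Lib.H17.Fi22Word.e_nil] at h
  exact h

end Cfsg.Agent.Lib.H5.Fi22M
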