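import Mathlib
import Cfsg.Agent.Lib.H28.G23M.Words
import Cfsg.Agent.Lib.H28.TitsM.Steinberg
import Cfsg.Agent.Lib.H20.G23L3

set_option autoImplicit false

/-!
# S2101 piece LF: lifting the twelve generators with `Rels` through a central extension.
-/

namespace Cfsg.Agent.Lib.H5.G23M

open Cfsg.Agent.Lib.H28.G23M Cfsg.Agent.Lib.H28.TitsM

section basics

variable {G : Type*} [Group G]

theorem lf_lv_congr {x y : ℕ → G} (h : ∀ i < 12, x i = y i) (l : ℕ) : lv x l = lv y l := by
  unfold lv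
  have hl : l % 12 < 12 := Nat.mod_lt _ (by norm_num)
  rw [h _ hl]

theorem lf_ev_congr {x y : ℕ → G} (h : ∀ i < 12, x i = y i) (w : List ℕ) : ev x w = ev y w := by
  induction w with
  | nil => rfl
  | cons l w ih => rw [ev_cons, ev_cons, ih, lf_lv_congr h]

theorem lf_ev_comm (x : ℕ → G) {p q : ℕ} (hp : p < 12) (hq : q < 12) :
    ev x [p, q, p + 12, q + 12] = x p * x q * (x p)⁻¹ * (x q)⁻¹ := by
  rw [ev_cons, ev_cons, ev_cons, ev_single]
  have h0 : lv x p = x p := lv_of_lt x hp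
  have h4 : lv x q = x q := lv_of_lt x hq
  have l1 : linv p = p + 12 := by
    unfold linv
    rw [if_pos (by omega)]
  have l2 : linv q = q + 12 := by
    unfold linv
    rw [if_pos (by omega)]
  have h12 : lv x (p + 12) = (x p)⁻¹ := by
    rw [← l1, lv_linv, h0]
  have h16 : lv x (q + 12) = (x q)⁻¹ := by
    rw [← l2, lv_linv, h4]
  rw [h0, h4, h12, h16]
  group

/-- commuting from a trivial commutator word -/
theorem lf_comm_of_ev {x : ℕ → G} {p q : ℕ} (hp : p < 12) (hq : q < 12)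
    (h : ev x [p, q, p + 12, q + 12] = 1) : x p * x q = x q * x p := by
  rw [lf_ev_comm x hp hq, mul_inv_eq_one, mul_inv_eq_iff_eq_mul] at h
  exact h

/-- conjugation by a central element is trivial -/
theorem lf_central_conj {k : G} (hk : k ∈ Subgroup.center G) (g : G) : k * g * k⁻¹ = g := by
  rw [mul_inv_eq_iff_eq_mul]
  exact ((Subgroup.mem_center_iff.mp hk) g).symm

/-- if `w` commutes with `a` and `b` modulo central elements then it commutes with their commutator -/
theorem lf_comm_commutator {Γ : Type*} [Group Γ] (σ : Γ →* G) (hc : σ.ker ≤ Subgroup.center Γ)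
    {w a b : Γ} (ha : σ w * σ a = σ a * σ w) (hb : σ w * σ b = σ b * σ w) :
    (a * b * a⁻¹ * b⁻¹) * w = w * (a * b * a⁻¹ * b⁻¹) := by
  set k := w * a * w⁻¹ * a⁻¹ with hk
  set k' := w * b * w⁻¹ * b⁻¹ with hk'
  have hkc : k ∈ Subgroup.center Γ := by
    apply hc
    rw [MonoidHom.mem_ker, hk, map_mul, map_mul, map_mul, map_inv, map_inv, ha]
    group
  have hkc' : k' ∈ Subgroup.center Γ := by
    apply hc
    rw [MonoidHom.mem_ker, hk', map_mul, map_mul, map_mul, map_inv, map_inv, hb]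
    group
  have e1 : w * a * w⁻¹ = k * a := by rw [hk]; group
  have e2 : w * b * w⁻¹ = k' * b := by rw [hk']; group
  have f2 : ∀ g : Γ, (k * a) * g * (k * a)⁻¹ = a * g * a⁻¹ := by
    intro g
    have : (k * a) * g * (k * a)⁻¹ = k * (a * g * a⁻¹) * k⁻¹ := by group
    rw [this, lf_central_conj hkc]
  have hconj : w * (a * b * a⁻¹ * b⁻¹) * w⁻¹ = a * b * a⁻¹ * b⁻¹ := by
    have : w * (a * b * a⁻¹ * b⁻¹) * w⁻¹
        = (w * a * w⁻¹) * (w * b * w⁻¹) * (w * a * w⁻¹)⁻¹ * (w * b * w⁻¹)⁻¹ := by group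
    rw [this, e1, e2, f2]
    have hak : a * k' = k' * a := (Subgroup.mem_center_iff.mp hkc') a
    have : a * (k' * b) * a⁻¹ * (k' * b)⁻¹ = (a * k') * b * a⁻¹ * b⁻¹ * k'⁻¹ := by group
    rw [this, hak]
    have : k' * a * b * a⁻¹ * b⁻¹ * k'⁻¹ = k' * (a * b * a⁻¹ * b⁻¹) * k'⁻¹ := by group
    rw [this, lf_central_conj hkc']
  rw [mul_inv_eq_iff_eq_mul] at hconj
  exact hconj.symm

end basics

/-- the twelve lifts as a function -/
def lfx {Γ : Type*} [Group Γ] (f0 f1 f2 f3 f4 f5 f6 f7 f8 f9 f10 f11 : Γ) : ℕ → Γ := fun i =>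
  match i with
  | 0 => f0 | 1 => f1 | 2 => f2 | 3 => f3 | 4 => f4 | 5 => f5
  | 6 => f6 | 7 => f7 | 8 => f8 | 9 => f9 | 10 => f10 | 11 => f11
  | _ => 1

theorem lf_long {G : Type*} [Group G] {X : ℕ → G} (hX : Rels X) :
    St3 (X 0) (X 6) (X 1) (X 10) (X 5) (X 11) where
  c01 := hX.cube 0 (by norm_num)
  c12 := hX.cube 6 (by norm_num)
  c02 := hX.cube 1 (by norm_num)
  c20 := hX.cube 10 (by norm_num)
  c21 := hX.cube 5 (by norm_num)
  c10 := hX.cube 11 (by norm_num)
  k01_02 := hX.comm (0, 1) (by decide)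
  k01_21 := hX.comm (0, 5) (by decide)
  k02_12 := (hX.comm (6, 1) (by decide)).symm
  k10_12 := (hX.comm (6, 11) (by decide)).symm
  k10_20 := (hX.comm (10, 11) (by decide)).symm
  k20_21 := hX.comm (10, 5) (by decide)
  s01_12 := hX.st (0, 6, 1) (by decide)
  s02_21 := hX.st (1, 5, 0) (by decide)
  s10_02 := hX.st (11, 1, 6) (by decide)
  s12_20 := hX.st (6, 10, 11) (by decide)
  s20_01 := hX.st (10, 0, 5) (by decide)
  s21_10 := hX.st (5, 11, 10) (by decide)

theorem lf_short {G : Type*} [Group G] {X : ℕ → G} (hX : Rels X) :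
    St3 (X 2) (X 7) (X 3) (X 8) (X 4) (X 9) where
  c01 := hX.cube 2 (by norm_num)
  c12 := hX.cube 7 (by norm_num)
  c02 := hX.cube 3 (by norm_num)
  c20 := hX.cube 8 (by norm_num)
  c21 := hX.cube 4 (by norm_num)
  c10 := hX.cube 9 (by norm_num)
  k01_02 := hX.comm (2, 3) (by decide)
  k01_21 := hX.comm (2, 4) (by decide)
  k02_12 := (hX.comm (7, 3) (by decide)).symm
  k10_12 := (hX.comm (7, 9) (by decide)).symm
  k10_20 := (hX.comm (8, 9) (by decide)).symm
  k20_21 := hX.comm (8, 4) (by decide)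
  s01_12 := hX.st (2, 7, 3) (by decide)
  s02_21 := hX.st (3, 4, 2) (by decide)
  s10_02 := hX.st (9, 3, 7) (by decide)
  s12_20 := hX.st (7, 8, 9) (by decide)
  s20_01 := hX.st (8, 2, 4) (by decide)
  s21_10 := hX.st (4, 9, 8) (by decide)

/-- **LF**, with the lifting lemma **L3** as a hypothesis. -/
theorem exists_lift_rels_of {G Γ : Type*} [Group G] [Group Γ] (σ : Γ →* G)
    (hL3 : ∀ {e01 e12 e02 e20 e21 e10 : G}, St3 e01 e12 e02 e20 e21 e10 →
      ∃ f01 f12 f02 f20 f21 f10 : Γ, St3 f01 f12 f02 f20 f21 f10 ∧ σ f01 = e01 ∧ σ f12 = e12 ∧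
        σ f02 = e02 ∧ σ f20 = e20 ∧ σ f21 = e21 ∧ σ f10 = e10)
    (hc : σ.ker ≤ Subgroup.center Γ) (X : ℕ → G) (hX : Rels X) (hXc : ∀ c ∈ cenL, ev X c = 1) :
    ∃ x : ℕ → Γ, (∀ i < 12, σ (x i) = X i) ∧ Rels x := by
  obtain ⟨f0, f6, f1, f10, f5, f11, hL, h0, h6, h1, h10, h5, h11⟩ := hL3 (lf_long hX)
  obtain ⟨f2, f7, f3, f8, f4, f9, hS, h2, h7, h3, h8, h4, h9⟩ := hL3 (lf_short hX)
  set x : ℕ → Γ := lfx f0 f1 f2 f3 f4 f5 f6 f7 f8 f9 f10 f11 with hx
  have hσ : ∀ i < 12, σ (x i) = X i := by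
    intro i hi
    interval_cases i
    · exact h0
    · exact h1
    · exact h2
    · exact h3
    · exact h4
    · exact h5
    · exact h6
    · exact h7
    · exact h8
    · exact h9
    · exact h10
    · exact h11
  -- commutation in `G` of the pairs needed below
  have cG : ∀ p ∈ commL, X p.1 * X p.2 = X p.2 * X p.1 := hX.comm
  have cZ : ∀ {p q : ℕ}, p < 12 → q < 12 → [p, q, p + 12, q + 12] ∈ cenL → X p * X q = X q * X p :=
    fun hp hq hm => lf_comm_of_ev hp hq (hXc _ hm)
  -- `w` commutes with `[a, b]` when the images commute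
  have key : ∀ {w a b : ℕ}, w < 12 → a < 12 → b < 12 → X w * X a = X a * X w →
      X w * X b = X b * X w →
      (x a * x b * (x a)⁻¹ * (x b)⁻¹) * x w = x w * (x a * x b * (x a)⁻¹ * (x b)⁻¹) := by
    intro w a b hw ha hb h1 h2
    apply lf_comm_commutator σ hc
    · rw [hσ w hw, hσ a ha]; exact h1
    · rw [hσ w hw, hσ b hb]; exact h2
  refine ⟨x, hσ, ?_, ?_, ?_, ?_⟩
  · -- cubes
    intro i hi
    interval_cases i
    · exact hL.c01
    · exact hL.c02
    · exact hS.c01
    · exact hS.c02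
    · exact hS.c21
    · exact hL.c21
    · exact hL.c12
    · exact hS.c12
    · exact hS.c20
    · exact hS.c10
    · exact hL.c20
    · exact hL.c10
  · -- Steinberg relations
    intro s hs
    simp only [stL, List.mem_cons, List.not_mem_nil, or_false] at hs
    rcases hs with rfl | rfl | rfl | rfl | rfl | rfl | rfl | rfl | rfl | rfl | rfl | rfl
    · exact hL.s01_12
    · exact hL.s12_20
    · exact hL.s02_21
    · exact hL.s20_01
    · exact hL.s21_10
    · exact hL.s10_02
    · exact hS.s01_12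
    · exact hS.s12_20
    · exact hS.s02_21
    · exact hS.s20_01
    · exact hS.s21_10
    · exact hS.s10_02
  · -- commuting pairs
    intro p hp
    simp only [commL, List.mem_cons, List.not_mem_nil, or_false] at hp
    rcases hp with rfl | rfl | rfl | rfl | rfl | rfl | rfl | rfl | rfl | rfl | rfl | rfl |
      rfl | rfl | rfl | rfl | rfl | rfl | rfl | rfl | rfl | rfl | rfl | rfl
    · exact hL.k01_02
    · exact hL.k01_21
    · exact hL.k02_12.symm
    · exact hL.k10_12.symm
    · exact hL.k20_21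
    · exact hL.k10_20.symm
    · exact hS.k01_02
    · exact hS.k01_21
    · exact hS.k02_12.symm
    · exact hS.k10_12.symm
    · exact hS.k20_21
    · exact hS.k10_20.symm
    · -- (0, 2): x 0 = [x 1, x 5]
      show x 0 * x 2 = x 2 * x 0
      have e : x 0 = x 1 * x 5 * (x 1)⁻¹ * (x 5)⁻¹ := hL.s02_21.symm
      rw [e]
      exact key (w := 2) (a := 1) (b := 5) (by norm_num) (by norm_num) (by norm_num)
        (cG (1, 2) (by decide)).symm (cZ (p := 5) (q := 2) (by norm_num) (by norm_num) (by decide)).symm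
    · -- (0, 3)
      show x 0 * x 3 = x 3 * x 0
      have e : x 0 = x 1 * x 5 * (x 1)⁻¹ * (x 5)⁻¹ := hL.s02_21.symm
      rw [e]
      exact key (w := 3) (a := 1) (b := 5) (by norm_num) (by norm_num) (by norm_num)
        (cZ (p := 1) (q := 3) (by norm_num) (by norm_num) (by decide)).symm (cG (5, 3) (by decide)).symm
    · -- (1, 2): x 1 = [x 0, x 6]
      show x 1 * x 2 = x 2 * x 1
      have e : x 1 = x 0 * x 6 * (x 0)⁻¹ * (x 6)⁻¹ := hL.s01_12.symm
      rw [e]
      exact key (w := 2) (a := 0) (b := 6) (by norm_num) (by norm_num) (by norm_num)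
        (cG (0, 2) (by decide)).symm (cZ (p := 6) (q := 2) (by norm_num) (by norm_num) (by decide)).symm
    · -- (1, 4)
      show x 1 * x 4 = x 4 * x 1
      have e : x 1 = x 0 * x 6 * (x 0)⁻¹ * (x 6)⁻¹ := hL.s01_12.symm
      rw [e]
      exact key (w := 4) (a := 0) (b := 6) (by norm_num) (by norm_num) (by norm_num)
        (cZ (p := 0) (q := 4) (by norm_num) (by norm_num) (by decide)).symm (cG (6, 4) (by decide)).symm
    · -- (5, 3): x 5 = [x 10, x 0]
      show x 5 * x 3 = x 3 * x 5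
      have e : x 5 = x 10 * x 0 * (x 10)⁻¹ * (x 0)⁻¹ := hL.s20_01.symm
      rw [e]
      exact key (w := 3) (a := 10) (b := 0) (by norm_num) (by norm_num) (by norm_num)
        (cZ (p := 10) (q := 3) (by norm_num) (by norm_num) (by decide)).symm (cG (0, 3) (by decide)).symm
    · -- (5, 7)
      show x 5 * x 7 = x 7 * x 5
      have e : x 5 = x 10 * x 0 * (x 10)⁻¹ * (x 0)⁻¹ := hL.s20_01.symm
      rw [e]
      exact key (w := 7) (a := 10) (b := 0) (by norm_num) (by norm_num) (by norm_num)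
        (cG (10, 7) (by decide)).symm (cZ (p := 0) (q := 7) (by norm_num) (by norm_num) (by decide)).symm
    · -- (6, 4): x 6 = [x 11, x 1]
      show x 6 * x 4 = x 4 * x 6
      have e : x 6 = x 11 * x 1 * (x 11)⁻¹ * (x 1)⁻¹ := hL.s10_02.symm
      rw [e]
      exact key (w := 4) (a := 11) (b := 1) (by norm_num) (by norm_num) (by norm_num)
        (cZ (p := 11) (q := 4) (by norm_num) (by norm_num) (by decide)).symm (cG (1, 4) (by decide)).symm
    · -- (6, 8)
      show x 6 * x 8 = x 8 * x 6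
      have e : x 6 = x 11 * x 1 * (x 11)⁻¹ * (x 1)⁻¹ := hL.s10_02.symm
      rw [e]
      exact key (w := 8) (a := 11) (b := 1) (by norm_num) (by norm_num) (by norm_num)
        (cG (11, 8) (by decide)).symm (cZ (p := 1) (q := 8) (by norm_num) (by norm_num) (by decide)).symm
    · -- (10, 7): x 10 = [x 5, x 11]
      show x 10 * x 7 = x 7 * x 10
      have e : x 10 = x 5 * x 11 * (x 5)⁻¹ * (x 11)⁻¹ := hL.s21_10.symm
      rw [e]
      exact key (w := 7) (a := 5) (b := 11) (by norm_num) (by norm_num) (by norm_num)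
        (cG (5, 7) (by decide)).symm (cZ (p := 11) (q := 7) (by norm_num) (by norm_num) (by decide)).symm
    · -- (10, 9)
      show x 10 * x 9 = x 9 * x 10
      have e : x 10 = x 5 * x 11 * (x 5)⁻¹ * (x 11)⁻¹ := hL.s21_10.symm
      rw [e]
      exact key (w := 9) (a := 5) (b := 11) (by norm_num) (by norm_num) (by norm_num)
        (cZ (p := 5) (q := 9) (by norm_num) (by norm_num) (by decide)).symm (cG (11, 9) (by decide)).symm
    · -- (11, 8): x 11 = [x 6, x 10]
      show x 11 * x 8 = x 8 * x 11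
      have e : x 11 = x 6 * x 10 * (x 6)⁻¹ * (x 10)⁻¹ := hL.s12_20.symm
      rw [e]
      exact key (w := 8) (a := 6) (b := 10) (by norm_num) (by norm_num) (by norm_num)
        (cG (6, 8) (by decide)).symm (cZ (p := 10) (q := 8) (by norm_num) (by norm_num) (by decide)).symm
    · -- (11, 9)
      show x 11 * x 9 = x 9 * x 11
      have e : x 11 = x 6 * x 10 * (x 6)⁻¹ * (x 10)⁻¹ := hL.s12_20.symm
      rw [e]
      exact key (w := 9) (a := 6) (b := 10) (by norm_num) (by norm_num) (by norm_num)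
        (cZ (p := 6) (q := 9) (by norm_num) (by norm_num) (by decide)).symm (cG (10, 9) (by decide)).symm
  · -- central words
    intro c hcm q _
    have hker : ev x c ∈ σ.ker := by
      rw [MonoidHom.mem_ker, map_ev, lf_ev_congr (y := X) hσ]
      exact hXc c hcm
    exact (Subgroup.mem_center_iff.mp (hc hker) (x q)).symm

theorem exists_lift_rels {G Γ : Type*} [Group G] [Group Γ] (σ : Γ →* G) (hs : Function.Surjective σ)
    (hc : σ.ker ≤ Subgroup.center Γ) (X : ℕ → G) (hX : Rels X) (hXc : ∀ c ∈ cenL, ev X c = 1) :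
    ∃ x : ℕ → Γ, (∀ i < 12, σ (x i) = X i) ∧ Rels x :=
  exists_lift_rels_of σ (fun h => Cfsg.Agent.Lib.H20.G23M.st3_exists_lift σ hs hc h) hc X hX hXc

end Cfsg.Agent.Lib.H5.G23M
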