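import Mathlib
import Cfsg.Prelude.Def_Blocks
import Cfsg.Prelude.Def_Characters
import Cfsg.Agent.Lib.H23.GagDefs
import Cfsg.Agent.Lib.H5.GAGPHI

/-!
# S4561 piece CARD (`card_tw`, `index_zstar`) (helper5)
-/

set_option autoImplicit false

universe u

namespace Cfsg.Agent.Lib.H5.GAG

open Cfsg Cfsg.Agent.Lib.H23.Gag

section tw

variable {H₀ : Type u} [Group H₀] [Finite H₀] (p : ℕ) [Fact p.Prime]

theorem card_Cp : Nat.card (Cp p) = p := by
  show Nat.card (Multiplicative (ZMod p)) = p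
  rw [Nat.card_congr Multiplicative.toAdd, Nat.card_zmod]

/-- CARD. -/
theorem card_tw : Nat.card (Tw H₀ p) = (Nat.card H₀) ^ p * p ^ 3 := by
  rw [Nat.card_congr (Tw.equivProd (H₀ := H₀) (p := p)), Nat.card_prod, Nat.card_prod, Nat.card_prod,
    Nat.card_fun, card_Cp, Nat.card_zmod]
  ring

/-- IDX.  `|Tw : Z*| = |H₀ : Z(H₀)|^p p²`. -/
theorem index_zstar : (Tw.zstar H₀ p).index = (Subgroup.center H₀).index ^ p * p ^ 2 := by
  rw [← ker_phi p, Subgroup.index_ker, MonoidHom.range_eq_top.2 (phi_surjective p), Subgroup.card_top,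
    Nat.card_prod, RegularWreathProduct.card, card_Cp]
  have h2 : Nat.card (H₀ ⧸ Subgroup.center H₀) = (Subgroup.center H₀).index := rfl
  rw [h2]
  ring

end tw

end Cfsg.Agent.Lib.H5.GAG
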