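import Mathlib
import Cfsg.Prelude.Def_Blocks
import Cfsg.Prelude.Def_Characters
import Cfsg.Agent.Lib.H23.GagDefs

/-!
# S4561 piece EXP (`zstar_pow`) (helper5)
-/

set_option autoImplicit false

universe u

namespace Cfsg.Agent.Lib.H5.GAG

open Cfsg Cfsg.Agent.Lib.H23.Gag

section tw

variable {H₀ : Type u} [Group H₀] [Finite H₀] (p : ℕ) [Fact p.Prime]

/-- powers of an element with `s = 1`, `v = 0`. -/
theorem pow_of_s_v (z : Tw H₀ p) (hs : z.s = 1) (hv : z.v = 0) (n : ℕ) :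
    (z ^ n).f = (fun t => (z.f t) ^ n) ∧ (z ^ n).s = 1 ∧ (z ^ n).v = 0 ∧ (z ^ n).c = n • z.c := by
  induction n with
  | zero =>
    refine ⟨?_, ?_, ?_, ?_⟩
    · funext t; simp
    · simp
    · simp
    · simp
  | succ n ih =>
    obtain ⟨h1, h2, h3, h4⟩ := ih
    rw [pow_succ]
    refine ⟨?_, ?_, ?_, ?_⟩
    · funext t
      rw [Tw.mul_f, h2, h1]
      simp [pow_succ]
    · rw [Tw.mul_s, h2, hs, one_mul]
    · rw [Tw.mul_v, h3, hv, add_zero]
    · rw [Tw.mul_c, h4, hv, mul_zero, add_zero, succ_nsmul]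

/-- EXP.  Elements of `Z*` have order dividing `lcm(|Z(H₀)|, p)`. -/
theorem zstar_pow (z : Tw H₀ p) (hz : z ∈ Tw.zstar H₀ p) :
    z ^ (Nat.lcm (Nat.card (Subgroup.center H₀)) p) = 1 := by
  obtain ⟨hs, hv, hf⟩ := Tw.mem_zstar.1 hz
  set n := Nat.lcm (Nat.card (Subgroup.center H₀)) p with hn
  obtain ⟨h1, h2, h3, h4⟩ := pow_of_s_v p z hs hv n
  have hd1 : Nat.card (Subgroup.center H₀) ∣ n := Nat.dvd_lcm_left _ _
  have hd2 : p ∣ n := Nat.dvd_lcm_right _ _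
  apply Tw.ext
  · rw [h1]
    funext t
    show (z.f t) ^ n = 1
    obtain ⟨k, hk⟩ := hd1
    have h5 : (⟨z.f t, hf t⟩ : Subgroup.center H₀) ^ Nat.card (Subgroup.center H₀) = 1 :=
      pow_card_eq_one'
    have h6 : (z.f t) ^ Nat.card (Subgroup.center H₀) = 1 := by
      have h7 := congrArg Subtype.val h5
      rw [Subgroup.coe_pow] at h7
      exact h7
    rw [hk, pow_mul, h6, one_pow]
  · rw [h2]; rfl
  · rw [h3]; rfl
  · rw [h4]
    show n • z.c = 0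
    obtain ⟨k, hk⟩ := hd2
    have h8 : p • z.c = 0 := by
      rw [nsmul_eq_mul]
      simp
    rw [hk, mul_comm, mul_nsmul', h8, nsmul_zero]

end tw

end Cfsg.Agent.Lib.H5.GAG
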