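import Mathlib

/-!
# S1950 piece RANK (helper5): the positive-semidefinite rank-one lemma

If a nonnegative combination `∑ w_i v_i v_i^*` of rank-one matrices equals the rank-one matrix
`κ h h^*`, then every `v_i` with `w_i > 0` is parallel to `h`:
`v_i a * h c = v_i c * h a` for all `a c`.
-/

set_option autoImplicit false

namespace Cfsg.Agent.Lib.H5.GR1950

open scoped ComplexConjugate

/-- RANK (core). -/
theorem rank_one_parallel {ι A : Type*} [Fintype ι] (w : ι → ℝ) (hw : ∀ i, 0 ≤ w i)
    (v : ι → A → ℂ) (h : A → ℂ) (κ : ℂ)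
    (hM : ∀ a c : A, ∑ i, (w i : ℂ) * v i a * conj (v i c) = κ * h a * conj (h c)) :
    ∀ i, 0 < w i → ∀ a c : A, v i a * h c = v i c * h a := by
  intro i hi a c
  -- the weighted sum of `|T_j|²` vanishes
  have hsum : ∑ j, (w j : ℂ) * ((v j a * h c - v j c * h a) * conj (v j a * h c - v j c * h a)) = 0 := by
    have e : ∀ j, (w j : ℂ) * ((v j a * h c - v j c * h a) * conj (v j a * h c - v j c * h a))
        = (h c * conj (h c)) * ((w j : ℂ) * v j a * conj (v j a))
          - (h c * conj (h a)) * ((w j : ℂ) * v j a * conj (v j c))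
          - (h a * conj (h c)) * ((w j : ℂ) * v j c * conj (v j a))
          + (h a * conj (h a)) * ((w j : ℂ) * v j c * conj (v j c)) := by
      intro j
      simp only [map_sub, map_mul]
      ring
    simp only [e]
    rw [Finset.sum_add_distrib, Finset.sum_sub_distrib, Finset.sum_sub_distrib,
      ← Finset.mul_sum, ← Finset.mul_sum, ← Finset.mul_sum, ← Finset.mul_sum,
      hM a a, hM a c, hM c a, hM c c]
    ring
  -- pass to real parts
  have hre : ∑ j, w j * Complex.normSq (v j a * h c - v j c * h a) = 0 := by
    have := congrArg Complex.re hsum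
    rw [Complex.re_sum] at this
    simp only [Complex.zero_re] at this
    rw [← this]
    apply Finset.sum_congr rfl
    intro j _
    rw [Complex.mul_conj, ← Complex.ofReal_mul, Complex.ofReal_re]
  have hnn : ∀ j ∈ (Finset.univ : Finset ι), 0 ≤ w j * Complex.normSq (v j a * h c - v j c * h a) :=
    fun j _ => mul_nonneg (hw j) (Complex.normSq_nonneg _)
  have hz := (Finset.sum_eq_zero_iff_of_nonneg hnn).mp hre i (Finset.mem_univ i)
  have hz' : Complex.normSq (v i a * h c - v i c * h a) = 0 := by
    rcases mul_eq_zero.mp hz with h0 | h0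
    · exact absurd h0 (ne_of_gt hi)
    · exact h0
  have := Complex.normSq_eq_zero.mp hz'
  exact sub_eq_zero.mp this

end Cfsg.Agent.Lib.H5.GR1950
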