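import Cfsg.Agent.Lib.H5.HSA5S
import Cfsg.Agent.Lib.H24.HSA5F
import Cfsg.Agent.Lib.H7.HSA5N
import Cfsg.Agent.Lib.H24.HSA5E
import Cfsg.Agent.Lib.H23.BurnsidePQ

/-!
# S2535 piece A5 (case A, alternating version): assembly along the Burnside route
-/

set_option autoImplicit false

namespace Cfsg.Agent.Lib.H5.HS
open Equiv MulAction Cfsg.Agent.Lib.H13.HS
open scoped Pointwise

/-- `caseA_alt` modulo the `n = 5` endgame (`A_5` has no subgroup of index `3`). -/
theorem caseA_alt_of {α : Type*} [Finite α] {π : Set ℕ} {M : Subgroup (Perm α)}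
    (hE : Nat.card α = 5 → M ≤ altSub α → M.relIndex (altSub α) = 3 → False)
    (hM : Cfsg.IsPiHallOf π M (altSub α)) (htr : IsPretransitive M α)
    (hn : (Nat.card α).Prime) (h5 : 5 ≤ Nat.card α) (h2 : 2 ∈ π)
    (hfew : ∀ s : ℕ, s.Prime → s ∈ π → s ≤ Nat.card α → s = 2 ∨ s = Nat.card α) : False := by
  classical
  obtain ⟨a, b, hab⟩ := Cfsg.Agent.Lib.H24.HS.a5_card_eq hM hn hfew
  have hs : Group.IsSolvable M :=
    Cfsg.Agent.Lib.H23.isSolvable_of_card_eq_prime_pow_mul_prime_pow 2 (Nat.card α) a b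
      Nat.prime_two hn hab
  have hdvd := a5_card_dvd_of_solvable M hs htr hn
  -- `2 * ([A : M] * |M|) = n!`
  have hAidx : (altSub α).index = 2 := by
    have : Nontrivial α := Finite.one_lt_card_iff_nontrivial.mp (by omega)
    unfold altSub
    exact @alternatingGroup.index_eq_two α (Fintype.ofFinite α) (Classical.decEq α) this
  have h1 : M.relIndex (altSub α) * (altSub α).index = M.index := Subgroup.relIndex_mul_index hM.1
  have h3 : M.index * Nat.card M = Nat.card (Perm α) := M.index_mul_card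
  have hfac : 2 * (M.relIndex (altSub α) * Nat.card M) = (Nat.card α).factorial := by
    rw [← Nat.card_perm, ← h3, ← h1, hAidx]; ring
  have h2r : ¬ 2 ∣ M.relIndex (altSub α) := hM.2.2 2 Nat.prime_two h2
  rcases le_or_gt 6 (Nat.card α) with h6 | h6
  · exact h2r (Cfsg.Agent.Lib.H7.HS.a5_two_dvd h6 hdvd hfac)
  · have h5' : Nat.card α = 5 := by omega
    -- `n ∣ |M|`
    have hnM : Nat.card α ∣ Nat.card M := by
      haveI : Nonempty α := (Nat.card_ne_zero.mp hn.ne_zero).1
      obtain ⟨x⟩ := ‹Nonempty α›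
      rw [← index_stabilizer_of_transitive M x]
      exact Subgroup.index_dvd_card _
    refine hE h5' hM.1 ?_
    rw [h5'] at hdvd hfac hnM
    generalize M.relIndex (altSub α) = r at hfac h2r ⊢
    generalize Nat.card M = m at hfac hdvd hnM
    have hm20 : m ≤ 20 := Nat.le_of_dvd (by norm_num) hdvd
    have hfac' : 2 * (r * m) = 120 := by rw [hfac]; rfl
    obtain ⟨k, rfl⟩ := hnM
    have hk : k ≤ 4 := by omega
    interval_cases k
    · simp at hfac'
    · omega
    · omega
    · exfalso; revert hdvd; decide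
    · omega

theorem caseA_alt {α : Type*} [Finite α] {π : Set ℕ} {M : Subgroup (Perm α)}
    (hM : Cfsg.IsPiHallOf π M (altSub α)) (htr : IsPretransitive M α)
    (hn : (Nat.card α).Prime) (h5 : 5 ≤ Nat.card α) (h2 : 2 ∈ π)
    (hfew : ∀ s : ℕ, s.Prime → s ∈ π → s ≤ Nat.card α → s = 2 ∨ s = Nat.card α) : False :=
  caseA_alt_of (fun h5' hle h => Cfsg.Agent.Lib.H24.HS.a5_no_index_three h5' M hle h)
    hM htr hn h5 h2 hfew

end Cfsg.Agent.Lib.H5.HS
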