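import Cfsg.Agent.Lib.H13.HSDefs2

/-!
# S2535 piece A5-S: a solvable transitive permutation group of prime degree `n` has order
dividing `n * (n - 1)` (Galois).
-/

set_option autoImplicit false

namespace Cfsg.Agent.Lib.H5.HS
open Equiv MulAction Cfsg.Agent.Lib.H13.HS
open scoped Pointwise

/-- a nontrivial solvable group has a nontrivial abelian normal subgroup. -/
theorem exists_normal_abelian_of_solvable {G : Type*} [Group G] [Nontrivial G]
    (hs : Group.IsSolvable G) :
    ∃ A : Subgroup G, A.Normal ∧ A ≠ ⊥ ∧ ⁅A, A⁆ = ⊥ := by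
  classical
  obtain ⟨hk⟩ := hs
  have hk0 : Nat.find hk ≠ 0 := by
    intro h0
    have := Nat.find_spec hk
    rw [h0, derivedSeries_zero] at this
    exact top_ne_bot this
  obtain ⟨k, hk1⟩ := Nat.exists_eq_succ_of_ne_zero hk0
  refine ⟨derivedSeries G k, derivedSeries_normal G k, ?_, ?_⟩
  · exact Nat.find_min hk (by omega)
  · have := Nat.find_spec hk
    rw [hk1, derivedSeries_succ] at this
    exact this

theorem card_dvd_of_solvable_prime {G X : Type*} [Group G] [Finite G] [MulAction G X]
    [FaithfulSMul G X] [IsPretransitive G X] (hs : Group.IsSolvable G)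
    (hn : (Nat.card X).Prime) :
    Nat.card G ∣ Nat.card X * (Nat.card X - 1) := by
  classical
  haveI : Finite X := (Nat.card_ne_zero.mp hn.ne_zero).2
  haveI : Nonempty X := (Nat.card_ne_zero.mp hn.ne_zero).1
  haveI : Nontrivial G := by
    by_contra hnt
    rw [not_nontrivial_iff_subsingleton] at hnt
    have : Subsingleton X := ⟨fun x y => by
      obtain ⟨g, hg⟩ := exists_smul_eq G x y
      rw [Subsingleton.elim g 1, one_smul] at hg
      exact hg⟩
    have := Finite.card_le_one_iff_subsingleton.mpr this
    exact absurd hn.one_lt (by omega)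
  obtain ⟨A, hAn, hA1, hAc⟩ := exists_normal_abelian_of_solvable hs
  haveI := hAn
  haveI : IsPreprimitive G X := IsPreprimitive.of_prime_card hn
  have hAtr : IsPretransitive A X := by
    apply IsQuasiPreprimitive.isPretransitive_of_normal (G := G)
    intro hfix
    apply hA1
    rw [Subgroup.eq_bot_iff_forall]
    intro a ha
    apply FaithfulSMul.eq_of_smul_eq_smul (α := X)
    intro x
    have hx : x ∈ fixedPoints A X := by rw [hfix]; trivial
    rw [one_smul]
    exact hx ⟨a, ha⟩
  have hcomm : ∀ a ∈ A, ∀ b ∈ A, a * b = b * a := by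
    have := Subgroup.commutator_eq_bot_iff_le_centralizer.mp hAc
    intro a ha b hb
    exact (this hb a ha)
  obtain ⟨x₀⟩ := ‹Nonempty X›
  have key : ∀ g : G, g • x₀ = x₀ → (∀ a ∈ A, g * a = a * g) → g = 1 := by
    intro g hg hc
    apply FaithfulSMul.eq_of_smul_eq_smul (α := X)
    intro y
    obtain ⟨a, ha⟩ := hAtr.exists_smul_eq x₀ y
    rw [one_smul, ← ha]
    change g • ((a : G) • x₀) = (a : G) • x₀
    rw [← mul_smul, hc a a.2, mul_smul, hg]
  have hAcard : Nat.card A = Nat.card X := by
    have h1 := index_stabilizer_of_transitive A x₀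
    have h2 : stabilizer A x₀ = ⊥ := by
      rw [Subgroup.eq_bot_iff_forall]
      intro a ha
      have := key (a : G) ha (fun b hb => hcomm _ a.2 _ hb)
      exact Subtype.ext this
    rw [h2, Subgroup.index_bot] at h1
    exact h1
  haveI : Fact (Nat.card X).Prime := ⟨hn⟩
  haveI : IsCyclic A := isCyclic_of_prime_card hAcard
  have hAut : Nat.card (MulAut A) = Nat.card X - 1 := by
    rw [IsCyclic.card_mulAut, hAcard, Nat.totient_prime hn]
  let ψ : stabilizer G x₀ →* MulAut A :=
    (MulAut.conjNormal (H := A)).comp (stabilizer G x₀).subtype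
  have hψ : Function.Injective ψ := by
    rw [injective_iff_map_eq_one]
    intro g hg
    apply Subtype.ext
    apply key (g : G) g.2
    intro a ha
    have h1 := congrArg (fun f : MulAut A => ((f ⟨a, ha⟩ : A) : G)) hg
    simp only [ψ, MonoidHom.comp_apply, Subgroup.coe_subtype, MulAut.conjNormal_apply,
      MulAut.one_apply] at h1
    exact mul_inv_eq_iff_eq_mul.mp h1
  have h3 : Nat.card (stabilizer G x₀) ∣ Nat.card X - 1 := by
    rw [← hAut]; exact Subgroup.card_dvd_of_injective ψ hψ
  have h4 := index_stabilizer_of_transitive G x₀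
  have h5 := (stabilizer G x₀).card_mul_index
  rw [← h5, h4, mul_comm]
  exact Nat.mul_dvd_mul_left _ h3

theorem a5_card_dvd_of_solvable {α : Type*} [Finite α] (M : Subgroup (Perm α))
    (hs : Group.IsSolvable M) (htr : IsPretransitive M α) (hn : (Nat.card α).Prime) :
    Nat.card M ∣ Nat.card α * (Nat.card α - 1) :=
  card_dvd_of_solvable_prime hs hn

end Cfsg.Agent.Lib.H5.HS
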