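import Cfsg.Agent.Lib.H13.HSDefs

/-!
# S2536 piece L1F (Kummer): a prime not dividing a binomial coefficient means no carries
-/

set_option autoImplicit false

namespace Cfsg.Agent.Lib.H5.HS
open Equiv MulAction Cfsg.Agent.Lib.H13.HS
open scoped Pointwise

/-- L1F (Kummer): no carries. -/
theorem noCarry {a m l : ℕ} (hl : l.Prime) (h : ¬ l ∣ (a + m).choose a) (j : ℕ) :
    a % l ^ j + m % l ^ j < l ^ j := by
  rcases Nat.eq_zero_or_pos j with rfl | hj
  · simp [Nat.mod_one]
  · set b := max (Nat.log l (m + a) + 1) (j + 1) with hb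
    have hnb : Nat.log l (m + a) < b := lt_of_lt_of_le (Nat.lt_succ_self _) (le_max_left _ _)
    have hK := Nat.Prime.emultiplicity_choose' (p := l) (n := m) (k := a) (b := b) hl hnb
    have h' : ¬ l ∣ (m + a).choose a := by rwa [add_comm] at h
    rw [emultiplicity_eq_zero.mpr h'] at hK
    have hcard : (Finset.filter (fun i => l ^ i ≤ a % l ^ i + m % l ^ i) (Finset.Ico 1 b)).card = 0 := by
      exact_mod_cast hK.symm
    rw [Finset.card_eq_zero, Finset.filter_eq_empty_iff] at hcard
    have hjmem : j ∈ Finset.Ico 1 b := by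
      rw [Finset.mem_Ico]
      exact ⟨hj, lt_of_lt_of_le (Nat.lt_succ_self _) (le_max_right _ _)⟩
    exact not_le.mp (hcard hjmem)

end Cfsg.Agent.Lib.H5.HS
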