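import Cfsg.Agent.Lib.H13.HSDefs

/-!
# S2536 piece P3 (INTRANS): an intransitive group stabilizes a nonempty set of at most half the points
-/

set_option autoImplicit false

namespace Cfsg.Agent.Lib.H5.HS
open Equiv MulAction Cfsg.Agent.Lib.H13.HS
open scoped Pointwise

theorem le_stabilizer_orbit {α : Type*} (H : Subgroup (Perm α)) (x : α) :
    H ≤ stabilizer (Perm α) (orbit H x) := by
  intro g hg
  rw [mem_stabilizer_iff]
  ext z
  rw [Set.mem_smul_set_iff_inv_smul_mem]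
  constructor
  · rintro ⟨h, hh⟩
    refine ⟨⟨g, hg⟩ * h, ?_⟩
    change g • (h • x) = z
    have hh' : h • x = g⁻¹ • z := hh
    rw [hh', smul_inv_smul]
  · rintro ⟨h, hh⟩
    refine ⟨⟨g, hg⟩⁻¹ * h, ?_⟩
    change g⁻¹ • (h • x) = g⁻¹ • z
    have hh' : h • x = z := hh
    rw [hh']

theorem exists_invariant_set {α : Type*} [Finite α] [Nonempty α] (H : Subgroup (Perm α))
    (h : ¬ IsPretransitive H α) :
    ∃ s : Set α, H ≤ stabilizer (Perm α) s ∧ 1 ≤ s.ncard ∧ 2 * s.ncard ≤ Nat.card α := by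
  classical
  -- two points in different orbits
  have hxy : ∃ x y : α, y ∉ orbit H x := by
    by_contra hcon
    push Not at hcon
    apply h
    refine ⟨fun x y => ?_⟩
    obtain ⟨g, hg⟩ := hcon x y
    exact ⟨g, hg⟩
  obtain ⟨x, y, hy⟩ := hxy
  set s : Set α := orbit H x with hs
  have hst : H ≤ stabilizer (Perm α) s := le_stabilizer_orbit H x
  have hxs : x ∈ s := mem_orbit_self x
  have hsum : s.ncard + sᶜ.ncard = Nat.card α := Set.ncard_add_ncard_compl s
  have hpos : 1 ≤ s.ncard := by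
    rw [Nat.succ_le_iff, Set.ncard_pos]
    exact ⟨x, hxs⟩
  have hposc : 1 ≤ sᶜ.ncard := by
    rw [Nat.succ_le_iff, Set.ncard_pos]
    exact ⟨y, hy⟩
  by_cases hle : 2 * s.ncard ≤ Nat.card α
  · exact ⟨s, hst, hpos, hle⟩
  · refine ⟨sᶜ, ?_, hposc, by omega⟩
    rw [stabilizer_compl]
    exact hst

end Cfsg.Agent.Lib.H5.HS
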