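import Cfsg.Agent.Lib.H13.HSDefs

/-!
# S2536 piece P5 (case C): a transitive group whose point stabilizer is a full two-point stabilizer
-/

set_option autoImplicit false

namespace Cfsg.Agent.Lib.H5.HS
open Equiv MulAction Cfsg.Agent.Lib.H13.HS
open scoped Pointwise

/-- the "partner" of a point: transport of the hypothesis along the transitive action. -/
theorem caseC_partner {α : Type*} {H : Subgroup (Perm α)}
    (htr : IsPretransitive H α) (a b : α) (hab : a ≠ b)
    (hst : ∀ g : Perm α, g a = a → (g ∈ H ↔ g b = b)) (x : α) :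
    ∃ x' : α, x' ≠ x ∧ ∀ g : Perm α, g x = x → (g ∈ H ↔ g x' = x') := by
  obtain ⟨h, hh⟩ := htr.exists_smul_eq a x
  have hh' : (h : Perm α) a = x := hh
  refine ⟨(h : Perm α) b, ?_, ?_⟩
  · intro e
    apply hab
    apply (h : Perm α).injective
    rw [hh', e]
  · intro g hg
    have h1 : ((h : Perm α)⁻¹ * g * (h : Perm α)) a = a := by
      simp only [Perm.mul_apply, hh', hg]
      rw [← hh']; simp
    have h2 := hst _ h1
    have h3 : ((h : Perm α)⁻¹ * g * (h : Perm α)) ∈ H ↔ g ∈ H := by
      constructor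
      · intro hm
        have := H.mul_mem (H.mul_mem h.2 hm) (H.inv_mem h.2)
        simpa [mul_assoc] using this
      · intro hm
        exact H.mul_mem (H.mul_mem (H.inv_mem h.2) hm) h.2
    rw [← h3, h2]
    simp only [Perm.mul_apply]
    constructor
    · intro e
      have := congrArg (h : Perm α) e
      simpa using this
    · intro e
      rw [e]; simp

theorem caseC {α : Type*} [Finite α] (h5 : 5 ≤ Nat.card α) {H : Subgroup (Perm α)}
    (htr : IsPretransitive H α) (a b : α) (hab : a ≠ b)
    (hst : ∀ g : Perm α, g a = a → (g ∈ H ↔ g b = b)) : False := by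
  classical
  have := Fintype.ofFinite α
  -- three points outside `{a, b}`
  have hcard : 2 < (Finset.univ \ {a, b} : Finset α).card := by
    have h1 : (Finset.univ \ {a, b} : Finset α).card = Fintype.card α - ({a, b} : Finset α).card := by
      rw [Finset.card_sdiff_of_subset (Finset.subset_univ _), Finset.card_univ]
    have h2 : ({a, b} : Finset α).card = 2 := Finset.card_pair hab
    rw [Nat.card_eq_fintype_card] at h5
    omega
  obtain ⟨y, hy, u, hu, v, hv, hyu, hyv, huv⟩ := Finset.two_lt_card.mp hcard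
  simp only [Finset.mem_sdiff, Finset.mem_univ, Finset.mem_insert, Finset.mem_singleton, true_and,
    not_or] at hy hu hv
  obtain ⟨hya, hyb⟩ := hy
  obtain ⟨hua, hub⟩ := hu
  obtain ⟨hva, hvb⟩ := hv
  -- elements of `Sym_{a,b}` lie in `H`
  have memH : ∀ g : Perm α, g a = a → g b = b → g ∈ H := fun g ga gb => (hst g ga).2 gb
  -- the partner of `y`
  obtain ⟨y', hy'y, hy'⟩ := caseC_partner htr a b hab hst y
  -- `y' ∈ {a, b}`
  have hy'ab : y' = a ∨ y' = b := by
    by_contra hcon
    rw [not_or] at hcon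
    obtain ⟨hy'a, hy'b⟩ := hcon
    -- a point `e` outside `{a, b, y, y'}`
    obtain ⟨e, hea, heb, hey, hey'⟩ : ∃ e : α, e ≠ a ∧ e ≠ b ∧ e ≠ y ∧ e ≠ y' := by
      by_cases huy' : u = y'
      · exact ⟨v, hva, hvb, fun h => hyv h.symm, fun h => huv (huy'.trans h.symm)⟩
      · exact ⟨u, hua, hub, fun h => hyu h.symm, huy'⟩
    have hg : swap y' e ∈ H := memH _ (swap_apply_of_ne_of_ne (Ne.symm hy'a) (Ne.symm hea))
      (swap_apply_of_ne_of_ne (Ne.symm hy'b) (Ne.symm heb))
    have := (hy' (swap y' e) (swap_apply_of_ne_of_ne (Ne.symm hy'y) (Ne.symm hey))).1 hg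
    rw [swap_apply_left] at this
    exact hey' this
  rcases hy'ab with hya' | hyb'
  · -- partner of `y` is `a`
    rw [hya'] at hy'
    have hg : swap b u ∈ H := (hy' (swap b u) (swap_apply_of_ne_of_ne hyb hyu)).2
      (swap_apply_of_ne_of_ne hab (Ne.symm hua))
    have := (hst (swap b u) (swap_apply_of_ne_of_ne hab (Ne.symm hua))).1 hg
    rw [swap_apply_left] at this
    exact hub this
  · -- partner of `y` is `b`: look at the partner `p` of `b`
    rw [hyb'] at hy'
    obtain ⟨p, hpb, hp⟩ := caseC_partner htr a b hab hst b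
    -- `swap a u ∈ H` fixes `b`
    have hg : swap a u ∈ H := (hy' (swap a u) (swap_apply_of_ne_of_ne hya hyu)).2
      (swap_apply_of_ne_of_ne (Ne.symm hab) (Ne.symm hub))
    have hpa : p ≠ a := by
      intro hpa
      have := (hp (swap a u) (swap_apply_of_ne_of_ne (Ne.symm hab) (Ne.symm hub))).1 hg
      rw [hpa, swap_apply_left] at this
      exact hua this
    -- a point `e` outside `{a, b, p}`
    obtain ⟨e, hea, heb, hep⟩ : ∃ e : α, e ≠ a ∧ e ≠ b ∧ e ≠ p := by
      by_cases hup : u = p
      · exact ⟨v, hva, hvb, fun h => huv (hup.trans h.symm)⟩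
      · exact ⟨u, hua, hub, hup⟩
    have hg2 : swap p e ∈ H := memH _ (swap_apply_of_ne_of_ne (Ne.symm hpa) (Ne.symm hea))
      (swap_apply_of_ne_of_ne (Ne.symm hpb) (Ne.symm heb))
    have := (hp (swap p e) (swap_apply_of_ne_of_ne (Ne.symm hpb) (Ne.symm heb))).1 hg2
    rw [swap_apply_left] at this
    exact hep this

end Cfsg.Agent.Lib.H5.HS
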