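import Cfsg.Agent.Lib.H4.HT.Defs

set_option autoImplicit false

/-!
# S3371 piece END (helper4 architect): the endgame for `|V| = q²` (blueprint §3b, `d = 1`)

Coordinates `e₁ ∈ C_V(b)`, `e₂ = ρ t e₁`; `G_{e₁} = {1, b}`; `g_u : e₁ ↦ u e₂, e₂ ↦ u⁻¹ e₁` from `hstar`,
`k_u = g_1 g_u = diag(u, u⁻¹)`; every `g` is one of `k_a, k_a b, g_a, g_a b`.
-/

namespace Cfsg.Agent.Lib.H5.HT

open Cfsg.Agent.Lib.H4.HT

variable {q : ℕ} {V : Type*} [AddCommGroup V] [Module (ZMod q) V] {G : Type*} [Group G]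

/-- **END** -/
theorem two_endgame [Fact q.Prime] [Finite V] [Finite G] (hq2 : 2 ≠ q) (ρ : G →* (V ≃ₗ[ZMod q] V))
    (hρ : Function.Injective ρ) (z b : G) (hz : z ∈ Subgroup.center G) (hzneg : ∀ v : V, ρ z v = -v)
    (hb2 : b * b = 1) (hb1 : b ≠ 1) (hconj : ∀ g : G, g * b * g⁻¹ = b ∨ g * b * g⁻¹ = b * z)
    (hw : ∃ w : V, w ≠ 0 ∧ ρ b w = w) (ht : ∃ t : G, t * b * t⁻¹ = b * z)
    (hstar : ∀ w₁ w₂ : V, w₁ ≠ 0 → w₂ ≠ 0 → ρ b w₁ = w₁ → ρ b w₂ = -w₂ →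
      (∃ x : G, x * b * x⁻¹ = b * z ∧ ρ x w₁ = w₂ ∧ ρ x w₂ = w₁) ∧
        2 * Nat.card ↥(stab ρ w₁ ⊓ stab ρ w₂) = Nat.card (stab ρ w₁))
    (hQ : Nat.card {w : V // ρ b w = w} = q) (hV : Nat.card V = q ^ 2) :
    ∃ e : V ≃ₗ[ZMod q] (Fin 2 → ZMod q), ∀ f : (Fin 2 → ZMod q) ≃ₗ[ZMod q] (Fin 2 → ZMod q),
      (∃ g : G, f = e.symm.trans ((ρ g).trans e)) ↔
      ∃ a s : ZMod q, a ≠ 0 ∧ (s = 1 ∨ s = -1) ∧
        ((∀ v, f v = ![a * v 0, s * a⁻¹ * v 1]) ∨ (∀ v, f v = ![s * a⁻¹ * v 1, a * v 0])) := by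
  classical
  have hq : q.Prime := Fact.out
  haveI : NeZero q := ⟨hq.ne_zero⟩
  have h2ne : (2 : ZMod q) ≠ 0 := by
    intro h
    have h' : ((2 : ℕ) : ZMod q) = 0 := by exact_mod_cast h
    rw [ZMod.natCast_eq_zero_iff] at h'
    exact hq2 ((Nat.prime_dvd_prime_iff_eq hq Nat.prime_two).1 h').symm
  have hdbl : ∀ x : ZMod q, x + x = 0 → x = 0 := by
    intro x hx
    rw [← two_mul] at hx
    exact (mul_eq_zero.1 hx).resolve_left h2ne
  obtain ⟨e₁, he₁0, he₁⟩ := hw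
  obtain ⟨t, ht⟩ := ht
  have hF1 : ∀ g : G, g * b * g⁻¹ = b → ∀ v : V, ρ b (ρ g v) = ρ g (ρ b v) := by
    intro g hg v
    have h1 : b * g = g * b := by
      calc b * g = g * b * g⁻¹ * g := by rw [hg]
        _ = g * b := by group
    rw [← rho_mul, ← rho_mul, h1]
  have hF2 : ∀ g : G, g * b * g⁻¹ = b * z → ∀ v : V, ρ b (ρ g v) = -ρ g (ρ b v) := by
    intro g hg v
    have h1 : g * b = b * z * g := by
      calc g * b = g * b * g⁻¹ * g := by group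
        _ = b * z * g := by rw [hg]
    have h2 : ρ g (ρ b v) = -ρ b (ρ g v) := by
      rw [← rho_mul, h1, rho_mul, rho_mul, hzneg, map_neg]
    rw [h2, neg_neg]
  set e₂ : V := ρ t e₁ with he₂def
  have he₂ : ρ b e₂ = -e₂ := by
    rw [he₂def, hF2 t ht e₁, he₁]
  have he₂0 : e₂ ≠ 0 := fun h => he₁0 ((LinearEquiv.map_eq_zero_iff (ρ t)).1 h)
  -- the coordinate map
  have hindep : ∀ x y : ZMod q, x • e₁ + y • e₂ = 0 → x = 0 ∧ y = 0 := by
    intro x y h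
    have h1 : x • e₁ - y • e₂ = 0 := by
      have h3 := congrArg (ρ b) h
      rw [map_add, map_smul, map_smul, he₁, he₂, smul_neg, map_zero, ← sub_eq_add_neg] at h3
      exact h3
    have h2 : x • e₁ + x • e₁ = 0 := by
      calc x • e₁ + x • e₁ = (x • e₁ + y • e₂) + (x • e₁ - y • e₂) := by abel
        _ = 0 := by rw [h, h1, add_zero]
    rw [← add_smul] at h2
    have hx : x = 0 := by
      rcases smul_eq_zero.1 h2 with h4 | h4
      · exact hdbl x h4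
      · exact absurd h4 he₁0
    refine ⟨hx, ?_⟩
    rw [hx, zero_smul, zero_add] at h
    rcases smul_eq_zero.1 h with h4 | h4
    · exact h4
    · exact absurd h4 he₂0
  let φ : (Fin 2 → ZMod q) →ₗ[ZMod q] V :=
    (LinearMap.proj 0 : (Fin 2 → ZMod q) →ₗ[ZMod q] ZMod q).smulRight e₁ +
    (LinearMap.proj 1 : (Fin 2 → ZMod q) →ₗ[ZMod q] ZMod q).smulRight e₂
  have hφ : ∀ v, φ v = v 0 • e₁ + v 1 • e₂ := fun v => rfl
  have hinj : Function.Injective φ := by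
    rw [injective_iff_map_eq_zero]
    intro v hv
    rw [hφ] at hv
    obtain ⟨h0, h1⟩ := hindep _ _ hv
    funext i
    fin_cases i
    · exact h0
    · exact h1
  have hcardF : Nat.card (Fin 2 → ZMod q) = q ^ 2 := by
    rw [Nat.card_eq_fintype_card, Fintype.card_fun, ZMod.card, Fintype.card_fin]
  have hbij : Function.Bijective φ :=
    hinj.bijective_of_nat_card_le (by rw [hV, hcardF])
  set e : V ≃ₗ[ZMod q] (Fin 2 → ZMod q) := (LinearEquiv.ofBijective φ hbij).symm with hedef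
  have hes : ∀ v, e.symm v = v 0 • e₁ + v 1 • e₂ := by
    intro v
    rw [hedef, LinearEquiv.symm_symm, LinearEquiv.ofBijective_apply, hφ]
  have he2 : ∀ x y : ZMod q, e (x • e₁ + y • e₂) = ![x, y] := by
    intro x y
    have h1 := e.apply_symm_apply ![x, y]
    rw [hes] at h1
    simpa using h1
  have hT : ∀ (g : G) (v : Fin 2 → ZMod q),
      (e.symm.trans ((ρ g).trans e)) v = e (ρ g (v 0 • e₁ + v 1 • e₂)) := by
    intro g v
    rw [LinearEquiv.trans_apply, LinearEquiv.trans_apply, hes]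
  have hS1 : ∀ (g : G) (a d : ZMod q), ρ g e₁ = a • e₁ → ρ g e₂ = d • e₂ →
      ∀ v, (e.symm.trans ((ρ g).trans e)) v = ![a * v 0, d * v 1] := by
    intro g a d h1 h2 v
    rw [hT, map_add, map_smul, map_smul, h1, h2, smul_smul, smul_smul, he2, mul_comm (v 0),
      mul_comm (v 1)]
  have hS2 : ∀ (g : G) (a d : ZMod q), ρ g e₁ = a • e₂ → ρ g e₂ = d • e₁ →
      ∀ v, (e.symm.trans ((ρ g).trans e)) v = ![d * v 1, a * v 0] := by
    intro g a d h1 h2 v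
    rw [hT, map_add, map_smul, map_smul, h1, h2, smul_smul, smul_smul, add_comm, he2,
      mul_comm (v 0), mul_comm (v 1)]
  -- eigenvectors
  have hplus : ∀ w : V, ρ b w = w → ∃ c : ZMod q, w = c • e₁ := by
    intro w hw
    obtain ⟨v, rfl⟩ := hbij.2 w
    rw [hφ] at hw ⊢
    rw [map_add, map_smul, map_smul, he₁, he₂, smul_neg] at hw
    have h1 : (0 : ZMod q) • e₁ + (v 1 + v 1) • e₂ = 0 := by
      rw [zero_smul, zero_add, add_smul]
      have h2 : v 1 • e₂ + v 1 • e₂ = (v 0 • e₁ + v 1 • e₂) - (v 0 • e₁ + -(v 1 • e₂)) := by abel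
      rw [h2, hw, sub_self]
    have h3 := hdbl _ (hindep _ _ h1).2
    exact ⟨v 0, by rw [h3, zero_smul, add_zero]⟩
  have hminus : ∀ w : V, ρ b w = -w → ∃ c : ZMod q, w = c • e₂ := by
    intro w hw
    obtain ⟨v, rfl⟩ := hbij.2 w
    rw [hφ] at hw ⊢
    rw [map_add, map_smul, map_smul, he₁, he₂, smul_neg] at hw
    have h1 : (v 0 + v 0) • e₁ + (0 : ZMod q) • e₂ = 0 := by
      rw [zero_smul, add_zero, add_smul]
      have h2 : v 0 • e₁ + v 0 • e₁ = (v 0 • e₁ + -(v 1 • e₂)) - -(v 0 • e₁ + v 1 • e₂) := by abel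
      rw [h2, hw, sub_self]
    have h3 := hdbl _ (hindep _ _ h1).1
    exact ⟨v 1, by rw [h3, zero_smul, zero_add]⟩
  -- the stabiliser of `e₁`
  have hstab : ∀ h : G, ρ h e₁ = e₁ → h = 1 ∨ h = b := by
    have h1 := (hstar e₁ e₂ he₁0 he₂0 he₁ he₂).2
    have h2 : stab ρ e₁ ⊓ stab ρ e₂ = ⊥ := by
      rw [Subgroup.eq_bot_iff_forall]
      rintro h ⟨hh1, hh2⟩
      have hh1' : ρ h e₁ = e₁ := hh1
      have hh2' : ρ h e₂ = e₂ := hh2
      apply hρ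
      rw [map_one]
      apply LinearEquiv.ext
      intro w
      obtain ⟨v, rfl⟩ := hbij.2 w
      rw [hφ, map_add, map_smul, map_smul, hh1', hh2']
      rfl
    rw [h2, Subgroup.card_bot, mul_one] at h1
    obtain ⟨y, hy, hyu⟩ := (Nat.card_eq_two_iff' (1 : stab ρ e₁)).1 h1.symm
    intro h hh
    by_cases hh1 : h = 1
    · exact Or.inl hh1
    · right
      have e1 : (⟨h, hh⟩ : stab ρ e₁) = y :=
        hyu _ (fun hc => hh1 (congrArg Subtype.val hc))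
      have e2 : (⟨b, he₁⟩ : stab ρ e₁) = y :=
        hyu _ (fun hc => hb1 (congrArg Subtype.val hc))
      exact congrArg Subtype.val (e1.trans e2.symm)
  -- the swapping elements
  have hD : ∀ u : ZMod q, u ≠ 0 → ∃ g : G, ρ g e₁ = u • e₂ ∧ ρ g e₂ = u⁻¹ • e₁ := by
    intro u hu
    have hne : u • e₂ ≠ 0 := smul_ne_zero hu he₂0
    have hneg : ρ b (u • e₂) = -(u • e₂) := by rw [map_smul, he₂, smul_neg]
    obtain ⟨x, -, hx1, hx2⟩ := (hstar e₁ (u • e₂) he₁0 hne he₁ hneg).1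
    refine ⟨x, hx1, ?_⟩
    rw [map_smul] at hx2
    rw [← hx2, smul_smul, inv_mul_cancel₀ hu, one_smul]
  have hE : ∀ u : ZMod q, u ≠ 0 → ∃ k : G, ρ k e₁ = u • e₁ ∧ ρ k e₂ = u⁻¹ • e₂ := by
    intro u hu
    obtain ⟨g₁, h11, h12⟩ := hD 1 one_ne_zero
    obtain ⟨gu, hu1, hu2⟩ := hD u hu
    rw [inv_one, one_smul] at h12
    rw [one_smul] at h11
    refine ⟨g₁ * gu, ?_, ?_⟩
    · rw [rho_mul, hu1, map_smul, h12]
    · rw [rho_mul, hu2, map_smul, h11]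
  -- every element has one of the two shapes
  have hM1 : ∀ g : G, ∃ a s : ZMod q, a ≠ 0 ∧ (s = 1 ∨ s = -1) ∧
      ((ρ g e₁ = a • e₁ ∧ ρ g e₂ = (s * a⁻¹) • e₂) ∨
        (ρ g e₁ = a • e₂ ∧ ρ g e₂ = (s * a⁻¹) • e₁)) := by
    intro g
    have hge₁0 : ρ g e₁ ≠ 0 := fun h => he₁0 ((LinearEquiv.map_eq_zero_iff (ρ g)).1 h)
    rcases hconj g with hg | hg
    · have h1 : ρ b (ρ g e₁) = ρ g e₁ := by rw [hF1 g hg, he₁]
      obtain ⟨α, hα⟩ := hplus _ h1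
      have hα0 : α ≠ 0 := by
        rintro rfl
        rw [zero_smul] at hα
        exact hge₁0 hα
      obtain ⟨k, hk1, hk2⟩ := hE α hα0
      have h2 : ρ (k⁻¹ * g) e₁ = e₁ := by
        rw [rho_mul, hα, ← hk1, rho_inv_apply]
      rcases hstab _ h2 with h3 | h3
      · have hgk : g = k := by
          calc g = k * (k⁻¹ * g) := by group
            _ = k := by rw [h3, mul_one]
        refine ⟨α, 1, hα0, Or.inl rfl, Or.inl ⟨hα, ?_⟩⟩
        rw [hgk, hk2, one_mul]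
      · have hgk : g = k * b := by
          calc g = k * (k⁻¹ * g) := by group
            _ = k * b := by rw [h3]
        refine ⟨α, -1, hα0, Or.inr rfl, Or.inl ⟨hα, ?_⟩⟩
        rw [hgk, rho_mul, he₂, map_neg, hk2, neg_mul, one_mul, neg_smul]
    · have h1 : ρ b (ρ g e₁) = -ρ g e₁ := by rw [hF2 g hg, he₁]
      obtain ⟨β, hβ⟩ := hminus _ h1
      have hβ0 : β ≠ 0 := by
        rintro rfl
        rw [zero_smul] at hβ
        exact hge₁0 hβ
      obtain ⟨g', hg1, hg2⟩ := hD β hβ0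
      have h2 : ρ (g'⁻¹ * g) e₁ = e₁ := by
        rw [rho_mul, hβ, ← hg1, rho_inv_apply]
      rcases hstab _ h2 with h3 | h3
      · have hgk : g = g' := by
          calc g = g' * (g'⁻¹ * g) := by group
            _ = g' := by rw [h3, mul_one]
        refine ⟨β, 1, hβ0, Or.inl rfl, Or.inr ⟨hβ, ?_⟩⟩
        rw [hgk, hg2, one_mul]
      · have hgk : g = g' * b := by
          calc g = g' * (g'⁻¹ * g) := by group
            _ = g' * b := by rw [h3]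
        refine ⟨β, -1, hβ0, Or.inr rfl, Or.inr ⟨hβ, ?_⟩⟩
        rw [hgk, rho_mul, he₂, map_neg, hg2, neg_mul, one_mul, neg_smul]
  -- all shapes occur
  have hM2 : ∀ a : ZMod q, a ≠ 0 → ∀ s : ZMod q, (s = 1 ∨ s = -1) →
      (∃ g : G, ρ g e₁ = a • e₁ ∧ ρ g e₂ = (s * a⁻¹) • e₂) ∧
        (∃ g : G, ρ g e₁ = a • e₂ ∧ ρ g e₂ = (s * a⁻¹) • e₁) := by
    intro a ha s hs
    obtain ⟨k, hk1, hk2⟩ := hE a ha
    obtain ⟨g', hg1, hg2⟩ := hD a ha
    rcases hs with rfl | rfl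
    · refine ⟨⟨k, hk1, ?_⟩, ⟨g', hg1, ?_⟩⟩
      · rw [hk2, one_mul]
      · rw [hg2, one_mul]
    · refine ⟨⟨k * b, ?_, ?_⟩, ⟨g' * b, ?_, ?_⟩⟩
      · rw [rho_mul, he₁, hk1]
      · rw [rho_mul, he₂, map_neg, hk2, neg_mul, one_mul, neg_smul]
      · rw [rho_mul, he₁, hg1]
      · rw [rho_mul, he₂, map_neg, hg2, neg_mul, one_mul, neg_smul]
  refine ⟨e, fun f => ⟨?_, ?_⟩⟩
  · rintro ⟨g, rfl⟩
    obtain ⟨a, s, ha, hs, h | h⟩ := hM1 g
    · exact ⟨a, s, ha, hs, Or.inl (hS1 g a (s * a⁻¹) h.1 h.2)⟩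
    · exact ⟨a, s, ha, hs, Or.inr (hS2 g a (s * a⁻¹) h.1 h.2)⟩
  · rintro ⟨a, s, ha, hs, h | h⟩
    · obtain ⟨g, hg1, hg2⟩ := (hM2 a ha s hs).1
      refine ⟨g, LinearEquiv.ext fun v => ?_⟩
      rw [h v, hS1 g a (s * a⁻¹) hg1 hg2 v]
    · obtain ⟨g, hg1, hg2⟩ := (hM2 a ha s hs).2
      refine ⟨g, LinearEquiv.ext fun v => ?_⟩
      rw [h v, hS2 g a (s * a⁻¹) hg1 hg2 v]

end Cfsg.Agent.Lib.H5.HT
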