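import Mathlib
import Cfsg.Agent.Lib.H5.PSL2MaxExc3
import Cfsg.Agent.Lib.H5.SubgroupCard

/-!
# Maximal subgroups of `PSL₂(q)`, `q` odd: the cyclic, dihedral and Borel cases
-/

set_option autoImplicit false
set_option linter.style.haveILetI false

namespace Cfsg.Agent.Lib.H5.PSL2MaxDih

section Generic

variable {G : Type*} [Group G]

/-- an element inverting `y` normalizes the cyclic group generated by `y` -/
theorem mem_normalizer_zpowers_of_inv [Finite G] {y s : G} (h : s * y * s⁻¹ = y⁻¹) :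
    s ∈ Subgroup.normalizer ((Subgroup.zpowers y : Subgroup G) : Set G) := by
  apply Cfsg.Agent.Lib.H5.A4Recog.mem_normalizer_of_conj_mem
  intro v hv
  obtain ⟨n, rfl⟩ := Subgroup.mem_zpowers_iff.mp hv
  have : s * y ^ n * s⁻¹ = (s * y * s⁻¹) ^ n := by
    rw [conj_zpow]
  rw [this, h]
  exact Subgroup.zpow_mem _ (Subgroup.inv_mem _ (Subgroup.mem_zpowers y)) n

/-- the normalizer of a Sylow subgroup of prime order `r`, of order `2 r`, is not maximal if
some proper subgroup of larger order contains a dihedral subgroup of order `2 r` -/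
theorem not_coatom_normalizer_of_sylow [Finite G] (r : ℕ) [Fact r.Prime] (hr2 : r ≠ 2)
    (T : Subgroup G) (hT : Nat.card T = r) (hrG : ¬ r ^ 2 ∣ Nat.card G)
    (hN : Nat.card (Subgroup.normalizer (T : Set G)) = 2 * r)
    (K : Subgroup G) {y s : G} (hy : y ∈ K) (hs : s ∈ K) (hyr : orderOf y = r)
    (hss : s * s = 1) (hs1 : s ≠ 1) (hsy : s * y * s⁻¹ = y⁻¹)
    (hKtop : K ≠ ⊤) (hKcard : 2 * r < Nat.card K) :
    ¬ IsCoatom (Subgroup.normalizer (T : Set G)) := by
  have hr : r.Prime := Fact.out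
  have hG0 : Nat.card G ≠ 0 := Nat.card_pos.ne'
  have hrdvd : r ∣ Nat.card G := hT ▸ Subgroup.card_subgroup_dvd_card T
  have hfac : (Nat.card G).factorization r = 1 := by
    have h1 : 1 ≤ (Nat.card G).factorization r :=
      (hr.pow_dvd_iff_le_factorization hG0).mp (by rwa [pow_one])
    have h2 : ¬ 2 ≤ (Nat.card G).factorization r := fun h =>
      hrG ((hr.pow_dvd_iff_le_factorization hG0).mpr h)
    omega
  have hT' : Nat.card (Subgroup.zpowers y) = r := by rw [Nat.card_zpowers, hyr]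
  obtain ⟨P, hP⟩ : ∃ P : Sylow r G, (P : Subgroup G) = T :=
    ⟨Sylow.ofCard T (by rw [hT, hfac, pow_one]), rfl⟩
  obtain ⟨P', hP'⟩ : ∃ P' : Sylow r G, (P' : Subgroup G) = Subgroup.zpowers y :=
    ⟨Sylow.ofCard (Subgroup.zpowers y) (by rw [hT', hfac, pow_one]), rfl⟩
  obtain ⟨g, hg⟩ : ∃ g : G, Subgroup.normalizer ((P : Subgroup G) : Set G) =
      (Subgroup.normalizer ((P' : Subgroup G) : Set G)).map (MulAut.conj g).toMonoidHom := by
    obtain ⟨g, hg⟩ := MulAction.exists_smul_eq G P' P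
    refine ⟨g, ?_⟩
    rw [Subgroup.map_equiv_normalizer_eq, ← hg]
    congr 2
  rw [hP, hP'] at hg
  have hcN' : Nat.card (Subgroup.normalizer ((Subgroup.zpowers y : Subgroup G) : Set G)) =
      2 * r := by
    have h1 : Nat.card (Subgroup.normalizer (T : Set G)) =
        Nat.card ((Subgroup.normalizer ((Subgroup.zpowers y : Subgroup G) : Set G)).map
          (MulAut.conj g).toMonoidHom) := by rw [← hg]
    rw [Subgroup.card_map_of_injective (MulAut.conj g).injective, hN] at h1
    exact h1.symm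
  -- the normalizer of `⟨y⟩` lies in `K`
  have hyX : y ∈ K ⊓ Subgroup.normalizer ((Subgroup.zpowers y : Subgroup G) : Set G) :=
    Subgroup.mem_inf.mpr ⟨hy, Subgroup.le_normalizer (Subgroup.mem_zpowers y)⟩
  have hsX : s ∈ K ⊓ Subgroup.normalizer ((Subgroup.zpowers y : Subgroup G) : Set G) :=
    Subgroup.mem_inf.mpr ⟨hs, mem_normalizer_zpowers_of_inv hsy⟩
  have hos : orderOf s = 2 := orderOf_eq_prime (by rw [pow_two, hss]) hs1
  have hXr : r ∣ Nat.card (K ⊓ Subgroup.normalizer
      ((Subgroup.zpowers y : Subgroup G) : Set G) : Subgroup G) := by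
    rw [← hyr]; exact Subgroup.orderOf_dvd_natCard _ hyX
  have hX2 : 2 ∣ Nat.card (K ⊓ Subgroup.normalizer
      ((Subgroup.zpowers y : Subgroup G) : Set G) : Subgroup G) := by
    rw [← hos]; exact Subgroup.orderOf_dvd_natCard _ hsX
  have hcop : Nat.Coprime 2 r := (Nat.coprime_primes Nat.prime_two hr).mpr (fun h => hr2 h.symm)
  have hX2r : 2 * r ∣ Nat.card (K ⊓ Subgroup.normalizer
      ((Subgroup.zpowers y : Subgroup G) : Set G) : Subgroup G) :=
    hcop.mul_dvd_of_dvd_of_dvd hX2 hXr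
  have hXeq : (K ⊓ Subgroup.normalizer ((Subgroup.zpowers y : Subgroup G) : Set G) :
      Subgroup G) = Subgroup.normalizer ((Subgroup.zpowers y : Subgroup G) : Set G) := by
    apply Subgroup.eq_of_le_of_card_ge inf_le_right
    rw [hcN']
    exact Nat.le_of_dvd Nat.card_pos hX2r
  have hNK : Subgroup.normalizer ((Subgroup.zpowers y : Subgroup G) : Set G) ≤ K := by
    rw [← hXeq]; exact inf_le_left
  intro hco
  have hle : Subgroup.normalizer (T : Set G) ≤ K.map (MulAut.conj g).toMonoidHom := by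
    rw [hg]; exact Subgroup.map_mono hNK
  have hcK' : Nat.card (K.map (MulAut.conj g).toMonoidHom) = Nat.card K :=
    Subgroup.card_map_of_injective (MulAut.conj g).injective
  rcases hco.le_iff.1 hle with h | h
  · apply hKtop
    have : K.map (MulAut.conj g).toMonoidHom = (⊤ : Subgroup G).map (MulAut.conj g).toMonoidHom := by
      rw [h, ← MonoidHom.range_eq_map]
      exact (MonoidHom.range_eq_top.mpr (MulAut.conj g).surjective).symm
    exact Subgroup.map_injective (MulAut.conj g).injective this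
  · rw [h, hN] at hcK'
    omega

set_option maxRecDepth 100000 in
theorem perm4_dihedral_pair : ∃ y s : Equiv.Perm (Fin 4), y ^ 3 = 1 ∧ y ≠ 1 ∧ s * s = 1 ∧
    s ≠ 1 ∧ s * y * s⁻¹ = y⁻¹ := by decide

set_option maxRecDepth 100000 in
theorem alt5_dihedral_pair : ∃ y s : Equiv.Perm (Fin 5), Equiv.Perm.sign y = 1 ∧
    Equiv.Perm.sign s = 1 ∧ y ^ 5 = 1 ∧ y ≠ 1 ∧ s * s = 1 ∧ s ≠ 1 ∧ s * y * s⁻¹ = y⁻¹ := by
  decide

theorem d4_klein : (DihedralGroup.r 2 : DihedralGroup 4) * DihedralGroup.r 2 = 1 ∧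
    (DihedralGroup.sr 0 : DihedralGroup 4) * DihedralGroup.sr 0 = 1 ∧
    (DihedralGroup.r 2 : DihedralGroup 4) * DihedralGroup.sr 0 =
      DihedralGroup.sr 0 * DihedralGroup.r 2 ∧
    (DihedralGroup.r 2 : DihedralGroup 4) ≠ 1 ∧ (DihedralGroup.sr 0 : DihedralGroup 4) ≠ 1 ∧
    (DihedralGroup.sr 0 : DihedralGroup 4) ≠ DihedralGroup.r 2 := by decide

theorem conj_r_one (k : ℕ) (d : DihedralGroup k) :
    d * DihedralGroup.r 1 * d⁻¹ = DihedralGroup.r 1 ∨
      d * DihedralGroup.r 1 * d⁻¹ = (DihedralGroup.r 1)⁻¹ := by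
  cases d with
  | r i => left; simp
  | sr i => right; simp

/-- transfer of a dihedral pair along an isomorphism -/
theorem exists_dihedral_pair {X : Type*} [Group X] (K : Subgroup G) (e' : K ≃* X) (r : ℕ)
    [Fact r.Prime] (y₀ s₀ : X) (hy : y₀ ^ r = 1) (hy1 : y₀ ≠ 1) (hss : s₀ * s₀ = 1)
    (hs1 : s₀ ≠ 1) (hsy : s₀ * y₀ * s₀⁻¹ = y₀⁻¹) :
    ∃ y s : G, y ∈ K ∧ s ∈ K ∧ orderOf y = r ∧ s * s = 1 ∧ s ≠ 1 ∧ s * y * s⁻¹ = y⁻¹ := by
  obtain ⟨f, hf⟩ : ∃ f : X →* G, f = K.subtype.comp e'.symm.toMonoidHom := ⟨_, rfl⟩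
  have hfinj : Function.Injective f := by
    rw [hf]
    exact K.subtype_injective.comp e'.symm.injective
  have hfK : ∀ z, f z ∈ K := fun z => by rw [hf]; exact (e'.symm z).2
  refine ⟨f y₀, f s₀, hfK _, hfK _, ?_, ?_, ?_, ?_⟩
  · rw [orderOf_injective f hfinj]
    exact orderOf_eq_prime hy hy1
  · rw [← map_mul, hss, map_one]
  · intro h
    exact hs1 (hfinj (by rw [h, map_one]))
  · rw [← map_inv, ← map_mul, ← map_mul, hsy, map_inv]

end Generic

section PSL

open Matrix Cfsg.Agent.Lib.H5.PSL2Torus Cfsg.Agent.Lib.H5.PSL2DihOdd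
  Cfsg.Agent.Lib.H5.PSL2MaxExc

variable {F : Type*} [Field F] [Fintype F]

local notation "SL2" => Matrix.SpecialLinearGroup (Fin 2) F
local notation "M2" => Matrix (Fin 2) (Fin 2) F
local notation "PSL2" => Matrix.ProjectiveSpecialLinearGroup (Fin 2) F

theorem card_tb_cases (hodd : Odd (Fintype.card F)) {x : PSL2} (hx : IsRegSS x) :
    2 * Nat.card (tb x) = Fintype.card F - 1 ∨ 2 * Nat.card (tb x) = Fintype.card F + 1 := by
  obtain ⟨g, rfl⟩ := pr_surjective x
  have ht := hx g rfl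
  rw [tb_pr]
  by_cases hs : IsSquare ((g : M2).trace ^ 2 - 4)
  · exact Or.inl (card_torus_split hodd ht hs)
  · exact Or.inr (card_torus_nonsplit hodd ht hs)

theorem sixty_le_card (hodd : Odd (Fintype.card F)) (h5 : 5 ≤ Fintype.card F) :
    60 ≤ Nat.card PSL2 := by
  have hcG := PSL2PrimeMax.two_mul_card hodd
  have h1 : 5 * (5 ^ 2 - 1) ≤ Fintype.card F * (Fintype.card F ^ 2 - 1) :=
    Nat.mul_le_mul h5 (Nat.sub_le_sub_right (Nat.pow_le_pow_left h5 2) 1)
  omega

/-- `|PSL₂(q)| > 2 (q + 1)` for `q ≥ 5` -/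
theorem card_gt (hodd : Odd (Fintype.card F)) (h5 : 5 ≤ Fintype.card F) :
    2 * (Fintype.card F + 1) < Nat.card PSL2 := by
  have hcG := PSL2PrimeMax.two_mul_card hodd
  have h1 : Fintype.card F ^ 2 - 1 = (Fintype.card F + 1) * (Fintype.card F - 1) := by
    have : 1 ≤ Fintype.card F := by omega
    obtain ⟨k, hk⟩ : ∃ k, Fintype.card F = k + 1 := ⟨Fintype.card F - 1, by omega⟩
    rw [hk]
    simp only [Nat.add_sub_cancel]
    have : (k + 1) ^ 2 - 1 = (k + 1 + 1) * k := by
      have : (k + 1) ^ 2 = (k + 1 + 1) * k + 1 := by ring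
      omega
    exact this
  rw [h1] at hcG
  have h2 : 5 * 4 ≤ Fintype.card F * (Fintype.card F - 1) :=
    Nat.mul_le_mul h5 (by omega)
  have h3 : 2 * Nat.card PSL2 = (Fintype.card F + 1) * (Fintype.card F * (Fintype.card F - 1)) := by
    rw [hcG]; ring
  have h4 : (Fintype.card F + 1) * 20 ≤
      (Fintype.card F + 1) * (Fintype.card F * (Fintype.card F - 1)) :=
    Nat.mul_le_mul_left _ h2
  omega

theorem normalizer_tb_ne_top (hodd : Odd (Fintype.card F)) (h5 : 5 ≤ Fintype.card F)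
    {x : PSL2} (hx : IsRegSS x) :
    Subgroup.normalizer ((tb x : Subgroup PSL2) : Set PSL2) ≠ ⊤ := by
  intro h
  have h1 := card_normalizer_tb hodd hx
  rw [h, Subgroup.card_top] at h1
  have h2 := card_gt hodd h5
  rcases card_tb_cases hodd hx with h3 | h3 <;> omega

theorem tb_lt_normalizer (hodd : Odd (Fintype.card F)) {x : PSL2} (hx : IsRegSS x) :
    tb x < Subgroup.normalizer ((tb x : Subgroup PSL2) : Set PSL2) := by
  apply lt_of_le_of_ne Subgroup.le_normalizer
  intro h
  have h1 := card_normalizer_tb hodd hx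
  rw [← h] at h1
  have : 0 < Nat.card (tb x) := Nat.card_pos
  omega

variable (p : ℕ) [Fact p.Prime] [CharP F p]

/-- a subgroup of a torus is not maximal -/
theorem not_coatom_of_le_tb (hodd : Odd (Fintype.card F)) (h5 : 5 ≤ Fintype.card F)
    (M : Subgroup PSL2) (hM : IsCoatom M) {x : PSL2} (hx : IsRegSS x) (hle : M ≤ tb x) :
    False := by
  have hlt := tb_lt_normalizer hodd hx
  rcases hM.le_iff.1 hle with h | h
  · apply normalizer_tb_ne_top hodd h5 hx
    rw [eq_top_iff, ← h]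
    exact Subgroup.le_normalizer
  · have hlt' : M < Subgroup.normalizer ((tb x : Subgroup PSL2) : Set PSL2) := by
      rw [← h]; exact hlt
    exact normalizer_tb_ne_top hodd h5 hx (hM.2 _ hlt')

include p in
/-- a cyclic `p'`-subgroup is not maximal -/
theorem not_coatom_of_isCyclic (hodd : Odd (Fintype.card F)) (h5 : 5 ≤ Fintype.card F)
    (M : Subgroup PSL2) (hM : IsCoatom M) (hpM : ¬ p ∣ Nat.card M) (hcyc : IsCyclic M) :
    False := by
  obtain ⟨g, hg⟩ := hcyc.exists_generator
  by_cases hx1 : (g : PSL2) = 1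
  · -- the trivial subgroup
    have hbot : M = ⊥ := by
      rw [eq_bot_iff]
      intro m hm
      obtain ⟨n, hn⟩ := Subgroup.mem_zpowers_iff.mp (hg ⟨m, hm⟩)
      have : ((g ^ n : M) : PSL2) = m := congrArg Subtype.val hn
      rw [Subgroup.mem_bot, ← this, Subgroup.coe_zpow, hx1, _root_.one_zpow]
    obtain ⟨k, hk, -⟩ := exists_nonsplit (F := F) hodd
    have hy : IsRegSS (pr k) := PSL2DihOddMax.isRegSS_pr hk
    exact not_coatom_of_le_tb hodd h5 M hM hy (by rw [hbot]; exact bot_le)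
  · have hx : IsRegSS (g : PSL2) := by
      apply PSL2PPrime.isRegSS_of_not_dvd p hx1
      intro hd
      apply hpM
      rw [← Subgroup.orderOf_mk (g : PSL2) g.2] at hd
      exact hd.trans (orderOf_dvd_natCard _)
    apply not_coatom_of_le_tb hodd h5 M hM hx
    intro m hm
    obtain ⟨n, hn⟩ := Subgroup.mem_zpowers_iff.mp (hg ⟨m, hm⟩)
    have : ((g ^ n : M) : PSL2) = m := congrArg Subtype.val hn
    rw [Subgroup.coe_zpow] at this
    rw [← this]
    exact Subgroup.zpow_mem _ (self_mem_tb _) n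

omit p in
/-- a subgroup of order `8` containing a Klein four-subgroup is not maximal -/
theorem not_coatom_of_card_eight (hodd : Odd (Fintype.card F)) (h5 : 5 ≤ Fintype.card F)
    (M : Subgroup PSL2) (hM : IsCoatom M) (V : Subgroup PSL2) (hV : IsKleinFour V)
    (hVM : V ≤ M) (hcM : Nat.card M = 8) : False := by
  have hMN : M ≤ Subgroup.normalizer (V : Set PSL2) :=
    Cfsg.Agent.Lib.H5.le_normalizer_of_card_eq_two_mul hVM (by rw [hcM, hV.card_four])
  have h8 : 8 ∣ Nat.card (Subgroup.normalizer (V : Set PSL2)) :=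
    hcM ▸ Subgroup.card_dvd_of_le hMN
  have h24 : Nat.card (Subgroup.normalizer (V : Set PSL2)) = 24 := by
    rcases PSL2KleinNorm.card_normalizer_klein hodd V hV with h | h
    · rw [h] at h8; omega
    · exact h
  have h60 := sixty_le_card hodd h5
  rcases hM.le_iff.1 hMN with h | h
  · rw [h, Subgroup.card_top] at h24; omega
  · rw [h, hcM] at h24; omega

omit p in
/-- the normalizer of a torus of order `3` is not maximal in `PSL₂(7)` -/
theorem not_coatom_normalizer_tb_three (hodd : Odd (Fintype.card F))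
    (hq : Fintype.card F = 7) {x : PSL2} (hx : IsRegSS x) (hc : Nat.card (tb x) = 3) :
    ¬ IsCoatom (Subgroup.normalizer ((tb x : Subgroup PSL2) : Set PSL2)) := by
  haveI : Fact (Nat.Prime 3) := ⟨Nat.prime_three⟩
  have h2F : (2 : F) ≠ 0 := Cfsg.Agent.Lib.H12.two_ne_zero_of_odd hodd
  have hcG := PSL2PrimeMax.two_mul_card hodd
  rw [hq] at hcG
  have hG : Nat.card PSL2 = 168 := by omega
  obtain ⟨V, hV⟩ := PSL2KleinNorm.exists_klein (F := F) hodd
  have h24 := PSL2MaxKlein.card_normalizer_of_eight_dvd hodd V hV (by rw [hG]; norm_num)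
  obtain ⟨e'⟩ := PSL2KleinNorm.normalizer_equiv_S4 V hV
    (PSL2KleinNorm.centralizer_klein_le h2F V hV) h24
  obtain ⟨y₀, s₀, hy, hy1, hss, hs1, hsy⟩ := perm4_dihedral_pair
  obtain ⟨y, s, hyK, hsK, hoy, hss', hs1', hsy'⟩ :=
    exists_dihedral_pair _ e' 3 y₀ s₀ hy hy1 hss hs1 hsy
  have hN := card_normalizer_tb hodd hx
  rw [hc] at hN
  apply not_coatom_normalizer_of_sylow 3 (by norm_num) (tb x) hc (by rw [hG]; norm_num) hN
    (Subgroup.normalizer (V : Set PSL2)) hyK hsK hoy hss' hs1' hsy'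
  · intro h
    rw [h, Subgroup.card_top] at h24; omega
  · rw [h24]; norm_num

omit p in
/-- the normalizer of a torus of order `5` is not maximal in `PSL₂(9)` and `PSL₂(11)` -/
theorem not_coatom_normalizer_tb_five (hodd : Odd (Fintype.card F))
    (hq : Fintype.card F = 9 ∨ Fintype.card F = 11) {x : PSL2} (hx : IsRegSS x)
    (hc : Nat.card (tb x) = 5) :
    ¬ IsCoatom (Subgroup.normalizer ((tb x : Subgroup PSL2) : Set PSL2)) := by
  haveI : Fact (Nat.Prime 5) := ⟨by norm_num⟩
  have hcG := PSL2PrimeMax.two_mul_card hodd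
  have hG : Nat.card PSL2 = 360 ∨ Nat.card PSL2 = 660 := by
    rcases hq with h | h <;> rw [h] at hcG
    · left; omega
    · right; omega
  have h5dvd : 5 ∣ Fintype.card F * (Fintype.card F ^ 2 - 1) := by
    rcases hq with h | h <;> rw [h] <;> norm_num
  obtain ⟨K, ⟨e'⟩⟩ := PSL2A5.exists_A5 h5dvd
  have hcK : Nat.card K = 60 := by
    rw [Nat.card_congr e'.toEquiv, PSL2PrimeMax.card_alt_five]
  obtain ⟨y₀, s₀, hsy₀, hss₀, hy, hy1, hss, hs1, hsy⟩ := alt5_dihedral_pair
  obtain ⟨y, s, hyK, hsK, hoy, hss', hs1', hsy'⟩ :=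
    exists_dihedral_pair K e' 5
      (⟨y₀, Equiv.Perm.mem_alternatingGroup.mpr hsy₀⟩ : alternatingGroup (Fin 5))
      ⟨s₀, Equiv.Perm.mem_alternatingGroup.mpr hss₀⟩
      (Subtype.ext (by simpa using hy))
      (fun h => hy1 (by simpa using congrArg Subtype.val h))
      (Subtype.ext (by simpa using hss))
      (fun h => hs1 (by simpa using congrArg Subtype.val h))
      (Subtype.ext (by simpa using hsy))
  have hN := card_normalizer_tb hodd hx
  rw [hc] at hN
  apply not_coatom_normalizer_of_sylow 5 (by norm_num) (tb x) hc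
    (by rcases hG with h | h <;> rw [h] <;> norm_num) hN K hyK hsK hoy hss' hs1' hsy'
  · intro h
    rw [h, Subgroup.card_top] at hcK
    rcases hG with h | h <;> omega
  · rw [hcK]; norm_num

include p in
/-- **the dihedral case of the list of maximal subgroups** -/
theorem dihedral_case (hodd : Odd (Fintype.card F)) (h5 : 5 ≤ Fintype.card F)
    (M : Subgroup PSL2) (hM : IsCoatom M) (hpM : ¬ p ∣ Nat.card M) (k : ℕ)
    (e : M ≃* DihedralGroup k) :
    (13 ≤ Fintype.card F ∧ 2 * k = Fintype.card F - 1) ∨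
    (Fintype.card F ≠ 7 ∧ Fintype.card F ≠ 9 ∧ 2 * k = Fintype.card F + 1) := by
  have hcM : Nat.card M = 2 * k := by
    rw [Nat.card_congr e.toEquiv, DihedralGroup.nat_card]
  have hk0 : k ≠ 0 := by
    rintro rfl
    have : 0 < Nat.card M := Nat.card_pos
    omega
  have h60 := sixty_le_card hodd h5
  by_cases hk1 : k = 1
  · exfalso
    subst hk1
    haveI : Fact (Nat.Prime 2) := ⟨Nat.prime_two⟩
    exact not_coatom_of_isCyclic p hodd h5 M hM hpM (isCyclic_of_prime_card (p := 2) hcM)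
  by_cases hk2 : k = 2
  · exfalso
    subst hk2
    have hV : IsKleinFour M :=
      ⟨by rw [hcM], by rw [Monoid.exponent_eq_of_mulEquiv e]; exact IsKleinFour.exponent_two⟩
    have h12 := PSL2KleinNorm.twelve_le_card_normalizer hodd M hV
    have h24 := PSL2KleinNorm.card_normalizer_klein hodd M hV
    rcases hM.le_iff.1 (Subgroup.le_normalizer (H := M)) with h | h
    · rw [h, Subgroup.card_top] at h24; omega
    · rw [h, hcM] at h12; omega
  have hk3 : 3 ≤ k := by omega
  -- the rotation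
  obtain ⟨x, hxdef⟩ : ∃ x : PSL2, x = ((e.symm (DihedralGroup.r 1) : M) : PSL2) := ⟨_, rfl⟩
  have hox : orderOf x = k := by
    rw [hxdef, Subgroup.orderOf_coe, e.symm.orderOf_eq, DihedralGroup.orderOf_r_one]
  have hx1 : x ≠ 1 := by
    rintro rfl
    rw [orderOf_one] at hox
    omega
  have hxM : x ∈ M := by rw [hxdef]; exact (e.symm _).2
  have hxreg : IsRegSS x := by
    apply PSL2PPrime.isRegSS_of_not_dvd p hx1
    intro hd
    apply hpM
    rw [hox] at hd
    rw [hcM]
    exact hd.trans (Dvd.intro_left 2 rfl)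
  have hMN : M ≤ Subgroup.normalizer ((tb x : Subgroup PSL2) : Set PSL2) := by
    intro m hm
    rw [mem_normalizer_tb_iff hx1]
    have hconj := conj_r_one k (e ⟨m, hm⟩)
    have key : ∀ z : DihedralGroup k, e ⟨m, hm⟩ * DihedralGroup.r 1 * (e ⟨m, hm⟩)⁻¹ = z →
        m * x * m⁻¹ = ((e.symm z : M) : PSL2) := by
      intro z hz
      have h1 : (⟨m, hm⟩ : M) * e.symm (DihedralGroup.r 1) * (⟨m, hm⟩ : M)⁻¹ = e.symm z := by
        apply e.injective
        rw [map_mul, map_mul, map_inv, e.apply_symm_apply, e.apply_symm_apply, hz]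
      have := congrArg Subtype.val h1
      rw [hxdef]
      exact this
    rcases hconj with h | h
    · rw [key _ h, ← hxdef]
      exact self_mem_tb x
    · rw [key _ h, map_inv, Subgroup.coe_inv, ← hxdef]
      exact Subgroup.inv_mem _ (self_mem_tb x)
  have hMeq : M = Subgroup.normalizer ((tb x : Subgroup PSL2) : Set PSL2) := by
    rcases hM.le_iff.1 hMN with h | h
    · exact absurd h (normalizer_tb_ne_top hodd h5 hxreg)
    · exact h.symm
  have hcN := card_normalizer_tb hodd hxreg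
  rw [← hMeq, hcM] at hcN
  have hctb : Nat.card (tb x) = k := by omega
  have hcases := card_tb_cases hodd hxreg
  rw [hctb] at hcases
  have hco : IsCoatom (Subgroup.normalizer ((tb x : Subgroup PSL2) : Set PSL2)) := hMeq ▸ hM
  have hqodd : Fintype.card F % 2 = 1 := Nat.odd_iff.mp hodd
  -- the Klein four-subgroup of a dihedral group of order eight
  have hk4 : k ≠ 4 := by
    rintro rfl
    obtain ⟨h1, h2, h3, h4, h5', h6⟩ := d4_klein
    obtain ⟨f, hf⟩ : ∃ f : DihedralGroup 4 →* PSL2, f = M.subtype.comp e.symm.toMonoidHom :=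
      ⟨_, rfl⟩
    have hfinj : Function.Injective f := by
      rw [hf]
      exact M.subtype_injective.comp e.symm.injective
    have hfM : ∀ z, f z ∈ M := fun z => by rw [hf]; exact (e.symm z).2
    have g1 : f (DihedralGroup.r 2) * f (DihedralGroup.sr 0) =
        f (DihedralGroup.sr 0) * f (DihedralGroup.r 2) := by rw [← map_mul, h3, map_mul]
    have g2 : f (DihedralGroup.r 2) * f (DihedralGroup.r 2) = 1 := by
      rw [← map_mul, h1, map_one]
    have g3 : f (DihedralGroup.sr 0) * f (DihedralGroup.sr 0) = 1 := by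
      rw [← map_mul, h2, map_one]
    have g4 : f (DihedralGroup.r 2) ≠ 1 := fun h => h4 (hfinj (by rw [h, map_one]))
    have g5 : f (DihedralGroup.sr 0) ≠ 1 := fun h => h5' (hfinj (by rw [h, map_one]))
    have g6 : f (DihedralGroup.sr 0) ≠ f (DihedralGroup.r 2) := fun h => h6 (hfinj h)
    have hV := KleinCount.isKleinFour_kleinSub g1 g2 g3 g4 g5 g6
    refine not_coatom_of_card_eight hodd h5 M hM _ hV ?_ (by rw [hcM])
    intro v hv
    rcases (KleinCount.mem_kleinSub g1 g2 g3 v).mp hv with rfl | rfl | rfl | rfl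
    · exact M.one_mem
    · exact hfM _
    · exact hfM _
    · exact M.mul_mem (hfM _) (hfM _)
  rcases hcases with h | h
  · left
    refine ⟨?_, h⟩
    by_contra hlt
    push Not at hlt
    have hq : Fintype.card F = 7 ∨ Fintype.card F = 9 ∨ Fintype.card F = 11 := by omega
    rcases hq with hq | hq | hq
    · exact not_coatom_normalizer_tb_three hodd hq hxreg (by rw [hctb]; omega) hco
    · exact hk4 (by omega)
    · exact not_coatom_normalizer_tb_five hodd (Or.inr hq) hxreg (by rw [hctb]; omega) hco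
  · right
    refine ⟨?_, ?_, h⟩
    · intro hq
      exact hk4 (by omega)
    · intro hq
      exact not_coatom_normalizer_tb_five hodd (Or.inl hq) hxreg (by rw [hctb]; omega) hco

end PSL

end Cfsg.Agent.Lib.H5.PSL2MaxDih
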