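import Mathlib
import Cfsg.Prelude.Def_OddOrderLocal
import Cfsg.Agent.Lib.H5.PSL2MaxDih
import Cfsg.Agent.Lib.H5.PSL2PPrime
import Cfsg.Agent.Lib.H1.Hall
import Cfsg.Agent.Lib.H5.PSL2Solvable

/-!
# Hall `{2,3}`-subgroups of `PSL₂(q)`, `q` prime to `6`
-/

set_option autoImplicit false
set_option linter.style.haveILetI false

namespace Cfsg.Agent.Lib.H5.PSL2Hall23

section Arith

/-- the `{2,3}`-part of a number -/
def part23 (M : ℕ) : ℕ := 2 ^ M.factorization 2 * 3 ^ M.factorization 3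

theorem part23_dvd (M : ℕ) : part23 M ∣ M := by
  apply Nat.Coprime.mul_dvd_of_dvd_of_dvd
  · exact Nat.Coprime.pow _ _ (by norm_num)
  · exact Nat.ordProj_dvd M 2
  · exact Nat.ordProj_dvd M 3

theorem not_two_mul_part23_dvd {M : ℕ} (hM : M ≠ 0) : ¬ 2 * part23 M ∣ M := by
  intro h
  apply Nat.pow_succ_factorization_not_dvd hM Nat.prime_two
  refine Dvd.dvd.trans ?_ h
  exact ⟨3 ^ M.factorization 3, by rw [part23]; ring⟩

theorem not_three_mul_part23_dvd {M : ℕ} (hM : M ≠ 0) : ¬ 3 * part23 M ∣ M := by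
  intro h
  apply Nat.pow_succ_factorization_not_dvd hM Nat.prime_three
  refine Dvd.dvd.trans ?_ h
  exact ⟨2 ^ M.factorization 2, by rw [part23]; ring⟩

theorem exists_cofactor {M : ℕ} (hM : M ≠ 0) :
    ∃ n, M = part23 M * n ∧ ¬ 2 ∣ n ∧ ¬ 3 ∣ n := by
  obtain ⟨n, hn⟩ := part23_dvd M
  refine ⟨n, hn, ?_, ?_⟩
  · rintro ⟨c, hc⟩
    apply not_two_mul_part23_dvd hM
    exact ⟨c, by rw [hc] at hn; exact hn.trans (by ring)⟩
  · rintro ⟨c, hc⟩
    apply not_three_mul_part23_dvd hM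
    exact ⟨c, by rw [hc] at hn; exact hn.trans (by ring)⟩

theorem prime_dvd_part23 {M r : ℕ} (hr : r.Prime) (h : r ∣ part23 M) : r = 2 ∨ r = 3 := by
  rw [part23] at h
  rcases (Nat.Prime.dvd_mul hr).mp h with h | h
  · left
    exact (Nat.prime_dvd_prime_iff_eq hr Nat.prime_two).mp (hr.dvd_of_dvd_pow h)
  · right
    exact (Nat.prime_dvd_prime_iff_eq hr Nat.prime_three).mp (hr.dvd_of_dvd_pow h)

theorem coprime_part23 {M n : ℕ} (h2 : ¬ 2 ∣ n) (h3 : ¬ 3 ∣ n) : (part23 M).Coprime n := by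
  rw [part23]
  apply Nat.Coprime.mul_left
  · exact Nat.Coprime.pow_left _ ((Nat.Prime.coprime_iff_not_dvd Nat.prime_two).mpr h2)
  · exact Nat.Coprime.pow_left _ ((Nat.Prime.coprime_iff_not_dvd Nat.prime_three).mpr h3)

/-- a number all of whose prime factors are `2` or `3`, times a number prime to `6` -/
theorem eq_part23_of_mul {x i M : ℕ} (hx : ∀ r : ℕ, r.Prime → r ∣ x → r = 2 ∨ r = 3)
    (hi2 : ¬ 2 ∣ i) (hi3 : ¬ 3 ∣ i) (hM : M ≠ 0) (h : x * i = M) : x = part23 M := by
  have hx0 : x ≠ 0 := by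
    rintro rfl
    rw [zero_mul] at h
    exact hM h.symm
  have hi0 : i ≠ 0 := by
    rintro rfl
    rw [mul_zero] at h
    exact hM h.symm
  have hp0 : part23 M ≠ 0 := by
    rw [part23]
    positivity
  apply Nat.eq_of_factorization_eq hx0 hp0
  intro r
  have hfac : ∀ r, M.factorization r = x.factorization r + i.factorization r := by
    intro r
    rw [← h, Nat.factorization_mul hx0 hi0, Finsupp.add_apply]
  have hP : (part23 M).factorization r
      = M.factorization 2 * (if 2 = r then 1 else 0) + M.factorization 3 * (if 3 = r then 1 else 0) := by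
    rw [part23, Nat.factorization_mul (pow_ne_zero _ (by norm_num)) (pow_ne_zero _ (by norm_num)),
      Nat.factorization_pow, Nat.factorization_pow, Nat.prime_two.factorization,
      Nat.prime_three.factorization]
    simp [Finsupp.single_apply]
  rw [hP]
  by_cases hr : r.Prime
  · by_cases h2 : r = 2
    · subst h2
      rw [hfac 2, Nat.factorization_eq_zero_of_not_dvd hi2]
      simp
    · by_cases h3 : r = 3
      · subst h3
        rw [hfac 3, Nat.factorization_eq_zero_of_not_dvd hi3]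
        simp
      · have : ¬ r ∣ x := by
          intro hd
          rcases hx r hr hd with h' | h'
          · exact h2 h'
          · exact h3 h'
        rw [Nat.factorization_eq_zero_of_not_dvd this]
        have e2 : ¬ (2 = r) := fun h => h2 h.symm
        have e3 : ¬ (3 = r) := fun h => h3 h.symm
        simp [e2, e3]
  · rw [Nat.factorization_eq_zero_of_not_prime _ hr]
    have e2 : ¬ (2 = r) := fun h => hr (h ▸ Nat.prime_two)
    have e3 : ¬ (3 = r) := fun h => hr (h ▸ Nat.prime_three)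
    simp [e2, e3]

theorem part23_mul {A B : ℕ} (hA : A ≠ 0) (hB : B ≠ 0) :
    part23 (A * B) = part23 A * part23 B := by
  rw [part23, part23, part23, Nat.factorization_mul hA hB, Finsupp.add_apply, Finsupp.add_apply,
    pow_add, pow_add]
  ring

theorem part23_eq_one {q : ℕ} (hq2 : ¬ 2 ∣ q) (hq3 : ¬ 3 ∣ q) : part23 q = 1 := by
  rw [part23, Nat.factorization_eq_zero_of_not_dvd hq2, Nat.factorization_eq_zero_of_not_dvd hq3]
  norm_num

theorem part23_two_mul {u : ℕ} (hu2 : ¬ 2 ∣ u) (hu3 : ¬ 3 ∣ u) : part23 (2 * u) = 2 := by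
  have hu0 : u ≠ 0 := by
    rintro rfl
    exact hu2 (dvd_zero 2)
  symm
  apply eq_part23_of_mul _ hu2 hu3 (by positivity) rfl
  intro r hr hd
  left
  exact (Nat.prime_dvd_prime_iff_eq hr Nat.prime_two).mp hd

theorem arith_aux1 {q : ℕ} (h1 : q % 2 = 1) (h3 : ¬ 3 ∣ q) (h4 : ¬ 4 ∣ q + 1)
    (h3' : ¬ 3 ∣ q + 1) : 3 ∣ q - 1 ∧ q % 4 = 1 := by
  have : q % 3 = 0 ∨ q % 3 = 1 ∨ q % 3 = 2 := by omega
  rcases this with h | h | h <;> constructor <;> omega

theorem arith_aux2 {q : ℕ} (h1 : q % 2 = 1) (h3 : ¬ 3 ∣ q) (h4 : ¬ 4 ∣ q - 1)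
    (h3' : ¬ 3 ∣ q - 1) : 3 ∣ q + 1 ∧ q % 4 = 3 := by
  have : q % 3 = 0 ∨ q % 3 = 1 ∨ q % 3 = 2 := by omega
  rcases this with h | h | h <;> constructor <;> omega

end Arith

section Generic

variable {G : Type*} [Group G]

/-- the order of a Hall `{2,3}`-subgroup -/
theorem hall_two_mul_card (H : Subgroup G) (hH : Cfsg.IsPiHall ({2, 3} : Set ℕ) H) {q N : ℕ}
    (hG : 2 * Nat.card G = q * N) (hq2 : ¬ 2 ∣ q) (hq3 : ¬ 3 ∣ q) (hN : N ≠ 0) :
    2 * Nat.card H = part23 N := by
  have hq0 : q ≠ 0 := by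
    rintro rfl
    exact hq2 (dvd_zero 2)
  have h1 : 2 * Nat.card H = part23 (q * N) := by
    apply eq_part23_of_mul (i := H.index)
    · intro r hr hd
      rcases (Nat.Prime.dvd_mul hr).mp hd with h | h
      · left
        exact (Nat.prime_dvd_prime_iff_eq hr Nat.prime_two).mp h
      · have := hH.1 r hr h
        simpa using this
    · exact hH.2 2 Nat.prime_two (by simp)
    · exact hH.2 3 Nat.prime_three (by simp)
    · exact mul_ne_zero hq0 hN
    · rw [← hG, ← H.card_mul_index]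
      ring
  rw [h1, part23_mul hq0 hN, part23_eq_one hq2 hq3, one_mul]

/-- a subgroup of the right order is a Hall `{2,3}`-subgroup -/
theorem isPiHall_of_card (H : Subgroup G) {q N : ℕ}
    (hG : 2 * Nat.card G = q * N) (hq2 : ¬ 2 ∣ q) (hq3 : ¬ 3 ∣ q) (hN : N ≠ 0)
    (hH : 2 * Nat.card H = part23 N) : Cfsg.IsPiHall ({2, 3} : Set ℕ) H := by
  obtain ⟨n, hn, hn2, hn3⟩ := exists_cofactor hN
  have hidx : H.index = q * n := by
    have h1 : part23 N * H.index = part23 N * (q * n) := by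
      rw [← hH]
      calc 2 * Nat.card H * H.index = 2 * (Nat.card H * H.index) := by ring
        _ = 2 * Nat.card G := by rw [H.card_mul_index]
        _ = q * N := hG
        _ = q * (part23 N * n) := by rw [← hn]
        _ = 2 * Nat.card H * (q * n) := by rw [hH]; ring
    have hp0 : 0 < part23 N := by
      rw [part23]
      positivity
    exact Nat.eq_of_mul_eq_mul_left hp0 h1
  refine ⟨?_, ?_⟩
  · intro r hr hd
    have : r ∣ part23 N := by
      rw [← hH]
      exact Dvd.dvd.mul_left hd 2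
    rcases prime_dvd_part23 hr this with h | h
    · simp [h]
    · simp [h]
  · intro r hr hmem
    rw [hidx]
    intro hd
    have hmem' : r = 2 ∨ r = 3 := by simpa using hmem
    rcases hmem' with rfl | rfl
    · rcases (Nat.Prime.dvd_mul hr).mp hd with h | h
      · exact hq2 h
      · exact hn2 h
    · rcases (Nat.Prime.dvd_mul hr).mp hd with h | h
      · exact hq3 h
      · exact hn3 h

end Generic

section PSL

open Matrix Cfsg.Agent.Lib.H5.PSL2Torus Cfsg.Agent.Lib.H5.PSL2DihOdd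

variable {F : Type*} [Field F] [Fintype F]

local notation "SL2" => Matrix.SpecialLinearGroup (Fin 2) F
local notation "M2" => Matrix (Fin 2) (Fin 2) F
local notation "PSL2" => Matrix.ProjectiveSpecialLinearGroup (Fin 2) F

/-- Hall subgroups of the normalizer of a torus, by Hall's theorem -/
theorem exists_of_dihedral (hodd : Odd (Fintype.card F)) {x : PSL2} (hx : IsRegSS x) {m n : ℕ}
    (h : 2 * Nat.card (tb x) = m * n) (hmn : m.Coprime n) :
    ∃ H : Subgroup PSL2, Nat.card H = m := by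
  obtain ⟨e⟩ := normalizer_tb_dihedral hodd hx
  haveI := Cfsg.Agent.Lib.H5.PSL2Solvable.isSolvable_dihedral (Nat.card (tb x))
  haveI : Group.IsSolvable ↥(Subgroup.normalizer ((tb x : Subgroup PSL2) : Set PSL2)) :=
    Cfsg.Agent.Lib.H5.PSL2Solvable.isSolvable_of_mulEquiv e
  have hc := card_normalizer_tb hodd hx
  rw [h] at hc
  obtain ⟨H₀, hH₀⟩ := Cfsg.Agent.Lib.H1.hall_exists hc hmn
  refine ⟨H₀.map (Subgroup.subtype _), ?_⟩
  rw [Subgroup.card_map_of_injective (Subgroup.subtype_injective _), hH₀]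

theorem sq_sub_one (q : ℕ) (hq : 1 ≤ q) : q ^ 2 - 1 = (q - 1) * (q + 1) := by
  obtain ⟨k, rfl⟩ : ∃ k, q = k + 1 := ⟨q - 1, by omega⟩
  simp only [Nat.add_sub_cancel]
  have : (k + 1) ^ 2 = k * (k + 1 + 1) + 1 := by ring
  omega

variable (p : ℕ) [Fact p.Prime] [CharP F p]

include p in
theorem card_facts (hp : 5 ≤ p) : Odd (Fintype.card F) ∧ ¬ 2 ∣ Fintype.card F ∧
    ¬ 3 ∣ Fintype.card F ∧ 5 ≤ Fintype.card F := by
  have hpp : p.Prime := Fact.out
  obtain ⟨n, -, hn⟩ := FiniteField.card F p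
  have h2 : ¬ 2 ∣ Fintype.card F := by
    rw [hn]
    intro h
    have := (Nat.prime_dvd_prime_iff_eq Nat.prime_two hpp).mp (Nat.prime_two.dvd_of_dvd_pow h)
    omega
  have h3 : ¬ 3 ∣ Fintype.card F := by
    rw [hn]
    intro h
    have := (Nat.prime_dvd_prime_iff_eq Nat.prime_three hpp).mp (Nat.prime_three.dvd_of_dvd_pow h)
    omega
  refine ⟨?_, h2, h3, ?_⟩
  · rw [← Nat.not_even_iff_odd, even_iff_two_dvd]
    exact h2
  · have h1 : p ≤ Fintype.card F :=
      Nat.le_of_dvd Fintype.card_pos (Cfsg.Agent.Lib.H5.PSL2DihOddMax.char_dvd_card p)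
    omega

/-- the order of a Hall `{2,3}`-subgroup of `PSL₂(q)` forces the arithmetic conditions -/
theorem forward (hp : 5 ≤ p) (H : Subgroup PSL2) (hH : Cfsg.IsPiHall ({2, 3} : Set ℕ) H) :
    (3 ∣ Fintype.card F - 1 ∧ Fintype.card F % 4 = 1) ∨
    (3 ∣ Fintype.card F + 1 ∧ Fintype.card F % 4 = 3) ∨
    part23 (Fintype.card F ^ 2 - 1) = 24 ∨ part23 (Fintype.card F ^ 2 - 1) = 48 := by
  have hpp : p.Prime := Fact.out
  obtain ⟨hodd, hq2, hq3, hq5⟩ := card_facts (F := F) p hp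
  have hcG := PSL2PrimeMax.two_mul_card hodd
  have hN := sq_sub_one (Fintype.card F) (by omega)
  have hN0 : Fintype.card F ^ 2 - 1 ≠ 0 := by
    rw [hN]
    apply mul_ne_zero <;> omega
  have hcard := hall_two_mul_card H hH hcG hq2 hq3 hN0
  have hpH : ¬ p ∣ Nat.card H := by
    intro hd
    have := hH.1 p hpp hd
    have h' : p = 2 ∨ p = 3 := by simpa using this
    omega
  have hnot2 := not_two_mul_part23_dvd hN0
  have hnot3 := not_three_mul_part23_dvd hN0
  obtain ⟨c, hc⟩ : ∃ c, Fintype.card F = 2 * c + 1 := id hodd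
  rcases PSL2PPrime.classify_of_coprime p hodd H hpH with ⟨-, h | h⟩ | ⟨k, h, ⟨e⟩⟩ | ⟨⟨e⟩⟩ |
    ⟨⟨e⟩⟩ | ⟨⟨e⟩⟩
  · exfalso
    apply hnot2
    rw [← hcard, hN]
    have h2 : 2 ∣ Fintype.card F + 1 := by omega
    exact Dvd.dvd.trans ⟨1, by ring⟩ (Nat.mul_dvd_mul h h2)
  · exfalso
    apply hnot2
    rw [← hcard, hN]
    have h2 : 2 ∣ Fintype.card F - 1 := by omega
    exact Dvd.dvd.trans ⟨1, by ring⟩ (Nat.mul_dvd_mul h2 h)
  · have hk : Nat.card H = 2 * k := by
      rw [Nat.card_congr e.toEquiv, DihedralGroup.nat_card]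
    rw [hk] at hcard
    rcases h with h | h
    · left
      have h4 : ¬ 4 ∣ Fintype.card F + 1 := by
        intro h4
        apply hnot2
        rw [← hcard, hN]
        have := Nat.mul_dvd_mul h h4
        refine Dvd.dvd.trans ?_ this
        exact ⟨1, by ring⟩
      have h6 : ¬ 6 ∣ Fintype.card F + 1 := by
        intro h6
        apply hnot3
        rw [← hcard, hN]
        have := Nat.mul_dvd_mul h h6
        refine Dvd.dvd.trans ?_ this
        exact ⟨1, by ring⟩
      have h3 : ¬ 3 ∣ Fintype.card F + 1 := by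
        intro h3
        apply h6
        exact Nat.Coprime.mul_dvd_of_dvd_of_dvd (by norm_num : Nat.Coprime 2 3) (by omega) h3
      exact arith_aux1 (by omega) hq3 h4 h3
    · right; left
      have h4 : ¬ 4 ∣ Fintype.card F - 1 := by
        intro h4
        apply hnot2
        rw [← hcard, hN]
        have := Nat.mul_dvd_mul h4 h
        refine Dvd.dvd.trans ?_ this
        exact ⟨1, by ring⟩
      have h6 : ¬ 6 ∣ Fintype.card F - 1 := by
        intro h6
        apply hnot3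
        rw [← hcard, hN]
        have := Nat.mul_dvd_mul h6 h
        refine Dvd.dvd.trans ?_ this
        exact ⟨1, by ring⟩
      have h3 : ¬ 3 ∣ Fintype.card F - 1 := by
        intro h3
        apply h6
        exact Nat.Coprime.mul_dvd_of_dvd_of_dvd (by norm_num : Nat.Coprime 2 3) (by omega) h3
      exact arith_aux2 (by omega) hq3 h4 h3
  · right; right; left
    rw [← hcard, Nat.card_congr e.toEquiv, PSL2PrimeMax.card_alt_four]
  · right; right; right
    rw [← hcard, Nat.card_congr e.toEquiv, PSL2PrimeMax.card_perm_four]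
  · exfalso
    have h5 : 5 ∣ Nat.card H := by
      rw [Nat.card_congr e.toEquiv, PSL2PrimeMax.card_alt_five]
      norm_num
    have := hH.1 5 (by norm_num) h5
    simp at this

/-- existence of Hall `{2,3}`-subgroups of `PSL₂(q)` -/
theorem backward (hp : 5 ≤ p)
    (h : (3 ∣ Fintype.card F - 1 ∧ Fintype.card F % 4 = 1) ∨
      (3 ∣ Fintype.card F + 1 ∧ Fintype.card F % 4 = 3) ∨
      part23 (Fintype.card F ^ 2 - 1) = 24 ∨ part23 (Fintype.card F ^ 2 - 1) = 48) :
    ∃ H : Subgroup PSL2, Cfsg.IsPiHall ({2, 3} : Set ℕ) H := by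
  obtain ⟨hodd, hq2, hq3, hq5⟩ := card_facts (F := F) p hp
  have hcG := PSL2PrimeMax.two_mul_card hodd
  have hN := sq_sub_one (Fintype.card F) (by omega)
  have hm0 : Fintype.card F - 1 ≠ 0 := by omega
  have hp0 : Fintype.card F + 1 ≠ 0 := by omega
  have hN0 : Fintype.card F ^ 2 - 1 ≠ 0 := by
    rw [hN]
    exact mul_ne_zero hm0 hp0
  suffices hs : ∃ H : Subgroup PSL2, 2 * Nat.card H = part23 (Fintype.card F ^ 2 - 1) by
    obtain ⟨H, hH⟩ := hs
    exact ⟨H, isPiHall_of_card H hcG hq2 hq3 hN0 hH⟩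
  rcases h with ⟨h3, h4⟩ | ⟨h3, h4⟩ | h | h
  · -- split torus normalizer
    obtain ⟨g, ht, hs, -⟩ := exists_split (F := F) (by omega)
    have hx := Cfsg.Agent.Lib.H5.PSL2DihOddMax.isRegSS_pr ht
    have hc := card_torus_split hodd ht hs
    rw [← tb_pr] at hc
    obtain ⟨n, hn, hn2, hn3⟩ := exists_cofactor hm0
    obtain ⟨H, hH⟩ := exists_of_dihedral hodd hx (hc.trans hn) (coprime_part23 hn2 hn3)
    refine ⟨H, ?_⟩
    rw [hH, hN, part23_mul hm0 hp0]
    obtain ⟨u, hu⟩ : ∃ u, Fintype.card F + 1 = 2 * u := ⟨(Fintype.card F + 1) / 2, by omega⟩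
    rw [hu, part23_two_mul (by omega) (by omega), mul_comm]
  · obtain ⟨g, ht, hs⟩ := exists_nonsplit (F := F) hodd
    have hx := Cfsg.Agent.Lib.H5.PSL2DihOddMax.isRegSS_pr ht
    have hc := card_torus_nonsplit hodd ht hs
    rw [← tb_pr] at hc
    obtain ⟨n, hn, hn2, hn3⟩ := exists_cofactor hp0
    obtain ⟨H, hH⟩ := exists_of_dihedral hodd hx (hc.trans hn) (coprime_part23 hn2 hn3)
    refine ⟨H, ?_⟩
    rw [hH, hN, part23_mul hm0 hp0]
    obtain ⟨u, hu⟩ : ∃ u, Fintype.card F - 1 = 2 * u := ⟨(Fintype.card F - 1) / 2, by omega⟩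
    rw [hu, part23_two_mul (by omega) (by omega)]
  · obtain ⟨H, ⟨e⟩⟩ := Cfsg.Agent.Lib.H5.PSL2KleinNorm.exists_A4 (F := F) hodd
    refine ⟨H, ?_⟩
    rw [h, Nat.card_congr e.toEquiv, PSL2PrimeMax.card_alt_four]
  · obtain ⟨V, hV⟩ := Cfsg.Agent.Lib.H5.PSL2KleinNorm.exists_klein (F := F) hodd
    have h16 : 16 ∣ Fintype.card F ^ 2 - 1 := by
      refine Dvd.dvd.trans ?_ (part23_dvd _)
      rw [h]
      norm_num
    have h8 : 8 ∣ Nat.card PSL2 := by
      have : 16 ∣ 2 * Nat.card PSL2 := by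
        rw [hcG]
        exact Dvd.dvd.mul_left h16 _
      omega
    refine ⟨Subgroup.normalizer (V : Set PSL2), ?_⟩
    rw [h, Cfsg.Agent.Lib.H5.PSL2MaxKlein.card_normalizer_of_eight_dvd hodd V hV h8]

end PSL

end Cfsg.Agent.Lib.H5.PSL2Hall23
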