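import Mathlib
import Cfsg.Agent.Lib.H5.PSL2MaxDih
import Cfsg.Agent.Lib.H5.PSL2PPrime
import Cfsg.Agent.Lib.H5.DicksonTwo.Torus

/-!
# The set of element orders of `PSL₂(q)`
-/

set_option autoImplicit false
set_option linter.style.haveILetI false

namespace Cfsg.Agent.Lib.H5.PSL2Spectrum

open Matrix Cfsg.Agent.Lib.H5.PSL2Torus Cfsg.Agent.Lib.H5.PSL2DihOdd Cfsg.Agent.Lib.H12

section Generic

variable {G : Type*} [Group G]

/-- a cyclic subgroup contains elements of every order dividing its order -/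
theorem exists_orderOf_of_dvd (T : Subgroup G) [Finite T] [IsCyclic T] {n : ℕ}
    (hn : n ∣ Nat.card T) : ∃ x : G, orderOf x = n := by
  obtain ⟨g, hg⟩ := IsCyclic.exists_ofOrder_eq_natCard (α := T)
  obtain ⟨k, hk⟩ := hn
  have hpos : 0 < Nat.card T := Nat.card_pos
  have hk0 : k ≠ 0 := by
    rintro rfl
    rw [mul_zero] at hk
    omega
  refine ⟨((g ^ k : T) : G), ?_⟩
  rw [Subgroup.orderOf_coe, orderOf_pow_of_dvd hk0 (by rw [hg, hk]; exact dvd_mul_left k n), hg, hk]
  exact Nat.mul_div_cancel n (Nat.pos_of_ne_zero hk0)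

end Generic

section PSL

variable {F : Type*} [Field F] [Fintype F]

local notation "SL2" => Matrix.SpecialLinearGroup (Fin 2) F
local notation "M2" => Matrix (Fin 2) (Fin 2) F
local notation "PSL2" => Matrix.ProjectiveSpecialLinearGroup (Fin 2) F

variable (p : ℕ) [Fact p.Prime] [CharP F p]

/-- the image of a non-scalar element of trace two has order `p` -/
theorem orderOf_pr_of_trace_two {k : SL2} (hns : NonScalar (k : M2)) (ht : (k : M2).trace = 2)
    (h1 : pr k ≠ 1) : orderOf (pr k) = p := by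
  have hpp : p.Prime := Fact.out
  have ho := (sl2_orderOf_eq_char_iff p k).mpr ⟨hns, ht⟩
  have hxp : (pr k) ^ p = 1 := by
    rw [← map_pow, ← ho, pow_orderOf_eq_one, map_one]
  have hd := orderOf_dvd_of_pow_eq_one hxp
  rcases (Nat.dvd_prime hpp).mp hd with h | h
  · exact absurd (orderOf_eq_one_iff.mp h) h1
  · exact h

/-- element orders of `PSL₂(q)`, `q` odd: upper bound -/
theorem orderOf_cases_odd (hodd : Odd (Fintype.card F)) (x : PSL2) :
    orderOf x ∣ p ∨ 2 * orderOf x ∣ Fintype.card F - 1 ∨ 2 * orderOf x ∣ Fintype.card F + 1 := by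
  by_cases hx1 : x = 1
  · left
    rw [hx1, orderOf_one]
    exact one_dvd p
  by_cases hx : IsRegSS x
  · right
    have hd : orderOf x ∣ Nat.card (tb x) := by
      have := orderOf_dvd_natCard (⟨x, self_mem_tb x⟩ : tb x)
      rwa [Subgroup.orderOf_mk] at this
    rcases PSL2PPrime.card_tb hodd hx with h | h
    · left; rw [← h]; exact Nat.mul_dvd_mul_left 2 hd
    · right; rw [← h]; exact Nat.mul_dvd_mul_left 2 hd
  · left
    unfold IsRegSS at hx
    push Not at hx
    obtain ⟨g, hg, ht⟩ := hx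
    have h4 : ((g : M2).trace - 2) * ((g : M2).trace + 2) = 0 := by linear_combination ht
    rcases mul_eq_zero.mp h4 with h | h
    · have hns : NonScalar (g : M2) := nonScalar_of_pr_ne_one (hg ▸ hx1)
      rw [← hg, orderOf_pr_of_trace_two p hns (by linear_combination h) (hg ▸ hx1)]
    · have hg' : pr (-g) = x := by
        rw [← hg]
        exact ((pr_eq_pr_iff g (-g)).mpr (Or.inr rfl)).symm
      have hns : NonScalar ((-g : SL2) : M2) := nonScalar_of_pr_ne_one (hg' ▸ hx1)
      rw [← hg', orderOf_pr_of_trace_two p hns _ (hg' ▸ hx1)]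
      rw [Matrix.SpecialLinearGroup.coe_neg, Matrix.trace_neg]
      linear_combination -h

include p in
/-- element orders of `PSL₂(q)`, `q` odd: existence -/
theorem exists_orderOf_odd (hodd : Odd (Fintype.card F)) (h4 : 4 ≤ Fintype.card F) {n : ℕ}
    (hn : n ∣ p ∨ 2 * n ∣ Fintype.card F - 1 ∨ 2 * n ∣ Fintype.card F + 1) :
    ∃ x : PSL2, orderOf x = n := by
  have hpp : p.Prime := Fact.out
  rcases hn with hn | hn | hn
  · rcases (Nat.dvd_prime hpp).mp hn with rfl | rfl
    · exact ⟨1, orderOf_one⟩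
    · apply exists_prime_orderOf_dvd_card' n
      have hcG := PSL2PrimeMax.two_mul_card hodd
      have hpq : n ∣ Fintype.card F := Cfsg.Agent.Lib.H5.PSL2DihOddMax.char_dvd_card n
      have h2 : n ∣ 2 * Nat.card PSL2 := by
        rw [hcG]
        exact Dvd.dvd.mul_right hpq _
      rcases (Nat.Prime.dvd_mul hpp).mp h2 with h | h
      · exfalso
        have h2n : n = 2 := ((Nat.prime_dvd_prime_iff_eq hpp Nat.prime_two).mp h)
        rw [h2n] at hpq
        obtain ⟨k, hk⟩ := hodd
        omega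
      · exact h
  · obtain ⟨g, ht, hs, -⟩ := exists_split (F := F) h4
    have hx := Cfsg.Agent.Lib.H5.PSL2DihOddMax.isRegSS_pr ht
    have hc := card_torus_split hodd ht hs
    rw [← tb_pr] at hc
    haveI := isCyclic_tb hodd hx
    apply exists_orderOf_of_dvd (tb (pr g))
    rw [← hc] at hn
    exact Nat.dvd_of_mul_dvd_mul_left (by norm_num) hn
  · obtain ⟨g, ht, hs⟩ := exists_nonsplit (F := F) hodd
    have hx := Cfsg.Agent.Lib.H5.PSL2DihOddMax.isRegSS_pr ht
    have hc := card_torus_nonsplit hodd ht hs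
    rw [← tb_pr] at hc
    haveI := isCyclic_tb hodd hx
    apply exists_orderOf_of_dvd (tb (pr g))
    rw [← hc] at hn
    exact Nat.dvd_of_mul_dvd_mul_left (by norm_num) hn

omit [Fintype F] in
theorem pr_injective_two (h2 : (2 : F) = 0) : Function.Injective (pr (F := F)) := by
  intro a b h
  rcases (pr_eq_pr_iff a b).mp h with h' | h'
  · exact h'.symm
  · rw [h']
    apply Subtype.ext
    rw [Matrix.SpecialLinearGroup.coe_neg]
    ext i j
    rw [Matrix.neg_apply]
    exact (Cfsg.Agent.Lib.H5.DicksonTwo.neg_eq h2 _).symm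

/-- element orders of `PSL₂(q)`, `q` even: upper bound -/
theorem orderOf_cases_even (h2 : (2 : F) = 0) (x : PSL2) :
    orderOf x ∣ 2 ∨ orderOf x ∣ Fintype.card F - 1 ∨ orderOf x ∣ Fintype.card F + 1 := by
  obtain ⟨g, rfl⟩ := pr_surjective x
  rw [orderOf_injective _ (pr_injective_two h2)]
  by_cases ht : (g : M2).trace = 0
  · left
    apply orderOf_dvd_of_pow_eq_one
    rw [pow_two]
    exact Cfsg.Agent.Lib.H5.DicksonTwo.mul_self_of_trace h2 g ht
  · right
    obtain ⟨-, hc⟩ := Cfsg.Agent.Lib.H5.DicksonTwo.regular_centralizer2 h2 g ht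
    have hd : orderOf g ∣ Nat.card (Subgroup.centralizer ({g} : Set SL2)) := by
      have := orderOf_dvd_natCard (⟨g, Subgroup.mem_centralizer_singleton_iff.mpr rfl⟩ :
        Subgroup.centralizer ({g} : Set SL2))
      rwa [Subgroup.orderOf_mk] at this
    rcases hc with h | h
    · left; rw [← h]; exact hd
    · right; rw [← h]; exact hd

/-- element orders of `PSL₂(q)`, `q` even: existence -/
theorem exists_orderOf_even (h2 : (2 : F) = 0) (h4 : 4 ≤ Fintype.card F) {n : ℕ}
    (hn : n ∣ 2 ∨ n ∣ Fintype.card F - 1 ∨ n ∣ Fintype.card F + 1) :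
    ∃ x : PSL2, orderOf x = n := by
  haveI : CharP F 2 := Cfsg.Agent.Lib.H5.DicksonTwo.charP_two h2
  haveI : Fact (Nat.Prime 2) := ⟨Nat.prime_two⟩
  have hq2 : 2 ∣ Fintype.card F := Cfsg.Agent.Lib.H5.PSL2DihOddMax.char_dvd_card 2
  rcases hn with hn | hn | hn
  · rcases (Nat.dvd_prime Nat.prime_two).mp hn with rfl | rfl
    · exact ⟨1, orderOf_one⟩
    · apply exists_prime_orderOf_dvd_card' 2
      have hcG := Cfsg.Agent.Lib.H2.card_PSL2_mul (F := F)
      have hg : Nat.gcd 2 (Fintype.card F - 1) = 1 := by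
        rw [Nat.coprime_iff_gcd_eq_one.symm, Nat.Prime.coprime_iff_not_dvd Nat.prime_two]
        omega
      rw [hg, one_mul] at hcG
      rw [hcG]
      exact Dvd.dvd.mul_right hq2 _
  · obtain ⟨g, ht, hs, ho⟩ := exists_split (F := F) h4
    obtain ⟨k, hk⟩ := hn
    have hk0 : k ≠ 0 := by
      rintro rfl
      rw [mul_zero] at hk
      omega
    refine ⟨pr (g ^ k), ?_⟩
    rw [orderOf_injective _ (pr_injective_two h2),
      orderOf_pow_of_dvd hk0 (by rw [ho, hk]; exact dvd_mul_left k n), ho, hk]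
    exact Nat.mul_div_cancel n (Nat.pos_of_ne_zero hk0)
  · obtain ⟨t, ht⟩ := exists_noRoot (F := F)
    haveI := ht.fact
    haveI : IsCyclic (torusT t) := isCyclic_torusT
    obtain ⟨y, hy⟩ := Cfsg.Agent.Lib.H5.PSL2Spectrum.exists_orderOf_of_dvd (torusT t)
      (n := n) (by rw [card_torusT]; exact hn)
    exact ⟨pr y, by rw [orderOf_injective _ (pr_injective_two h2), hy]⟩

include p in
/-- **the spectrum of `PSL₂(q)`**: the element orders are the divisors of `p`, `(q - 1)/d` and
`(q + 1)/d`, `d = gcd(2, q - 1)`; these three numbers are pairwise coprime. -/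
theorem spectrum (h4 : 4 ≤ Fintype.card F) :
    ∃ m₁ m₂ : ℕ, m₁ ∣ Fintype.card F - 1 ∧ m₂ ∣ Fintype.card F + 1 ∧ m₁.Coprime m₂ ∧
      p.Coprime m₁ ∧ p.Coprime m₂ ∧
      ∀ n : ℕ, (∃ x : PSL2, orderOf x = n) ↔ n ∣ p ∨ n ∣ m₁ ∨ n ∣ m₂ := by
  have hpp : p.Prime := Fact.out
  have hpq : p ∣ Fintype.card F := Cfsg.Agent.Lib.H5.PSL2DihOddMax.char_dvd_card p
  have hp2 := hpp.two_le
  have hcop1 : ∀ m, m ∣ Fintype.card F - 1 → p.Coprime m := by
    intro m hm
    rw [Nat.Prime.coprime_iff_not_dvd hpp]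
    intro hd
    have h1 : p ∣ Fintype.card F - 1 := hd.trans hm
    have h2 : p ∣ 1 := by
      have := (Nat.dvd_sub hpq h1)
      have e : Fintype.card F - (Fintype.card F - 1) = 1 := by omega
      rwa [e] at this
    have := Nat.le_of_dvd (by norm_num) h2
    omega
  have hcop2 : ∀ m, m ∣ Fintype.card F + 1 → p.Coprime m := by
    intro m hm
    rw [Nat.Prime.coprime_iff_not_dvd hpp]
    intro hd
    have h1 : p ∣ Fintype.card F + 1 := hd.trans hm
    have h2 : p ∣ 1 := by
      have := (Nat.dvd_sub h1 hpq)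
      have e : Fintype.card F + 1 - Fintype.card F = 1 := by omega
      rwa [e] at this
    have := Nat.le_of_dvd (by norm_num) h2
    omega
  rcases Nat.even_or_odd (Fintype.card F) with heven | hodd
  · -- characteristic two
    have hp2' : p = 2 := by
      obtain ⟨n, -, hn⟩ := FiniteField.card F p
      rw [hn] at heven
      have := (Nat.Prime.dvd_of_dvd_pow Nat.prime_two (even_iff_two_dvd.mp heven))
      exact ((Nat.prime_dvd_prime_iff_eq Nat.prime_two hpp).mp this).symm
    subst hp2'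
    have h2 : (2 : F) = 0 := by
      have := CharP.cast_eq_zero F 2
      exact_mod_cast this
    refine ⟨Fintype.card F - 1, Fintype.card F + 1, dvd_rfl, dvd_rfl, ?_, hcop1 _ dvd_rfl,
      hcop2 _ dvd_rfl, ?_⟩
    · obtain ⟨k, hk⟩ := heven
      have e1 : Fintype.card F + 1 = (Fintype.card F - 1) + 2 := by omega
      rw [e1, Nat.coprime_self_add_right]
      rw [Nat.coprime_comm, Nat.Prime.coprime_iff_not_dvd Nat.prime_two]
      omega
    · intro n
      constructor
      · rintro ⟨x, rfl⟩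
        exact orderOf_cases_even h2 x
      · intro hn
        exact exists_orderOf_even h2 h4 hn
  · obtain ⟨k, hk⟩ := id hodd
    refine ⟨k, k + 1, ⟨2, by omega⟩, ⟨2, by omega⟩, ?_, hcop1 _ ⟨2, by omega⟩,
      hcop2 _ ⟨2, by omega⟩, ?_⟩
    · rw [Nat.coprime_self_add_right]
      exact Nat.coprime_one_right k
    · intro n
      have e1 : Fintype.card F - 1 = 2 * k := by omega
      have e2 : Fintype.card F + 1 = 2 * (k + 1) := by omega
      have i1 : 2 * n ∣ Fintype.card F - 1 ↔ n ∣ k := by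
        rw [e1]
        exact Nat.mul_dvd_mul_iff_left (by norm_num)
      have i2 : 2 * n ∣ Fintype.card F + 1 ↔ n ∣ k + 1 := by
        rw [e2]
        exact Nat.mul_dvd_mul_iff_left (by norm_num)
      constructor
      · rintro ⟨x, rfl⟩
        rw [← i1, ← i2]
        exact orderOf_cases_odd p hodd x
      · intro hn
        rw [← i1, ← i2] at hn
        exact exists_orderOf_odd p hodd h4 hn

end PSL

end Cfsg.Agent.Lib.H5.PSL2Spectrum
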