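import Mathlib
import Cfsg.Agent.Lib.H5.PSL2Spectrum
import Cfsg.Agent.Lib.H5.PSL2Hall23

set_option autoImplicit false

namespace Cfsg.Agent.Lib.H5.IsospectralLL

section Generic

variable {G : Type*} [Group G]

/-- a cyclic subgroup contains elements of every order dividing its order -/
theorem exists_mem_orderOf_of_dvd (T : Subgroup G) [Finite T] [IsCyclic T] {n : ℕ}
    (hn : n ∣ Nat.card T) : ∃ x ∈ T, orderOf x = n := by
  obtain ⟨g, hg⟩ := IsCyclic.exists_ofOrder_eq_natCard (α := T)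
  obtain ⟨k, hk⟩ := hn
  have hpos : 0 < Nat.card T := Nat.card_pos
  have hk0 : k ≠ 0 := by
    rintro rfl
    rw [mul_zero] at hk
    omega
  refine ⟨((g ^ k : T) : G), (g ^ k).2, ?_⟩
  rw [Subgroup.orderOf_coe, orderOf_pow_of_dvd hk0 (by rw [hg, hk]; exact dvd_mul_left k n), hg, hk]
  exact Nat.mul_div_cancel n (Nat.pos_of_ne_zero hk0)

end Generic

section Aff

variable (K : Type*) [Field K] (C : Subgroup Kˣ)

/-- the action of `C` on the additive group of `K`, written multiplicatively -/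
def affHom : ↥C →* MulAut (Multiplicative K) where
  toFun c := AddEquiv.toMultiplicative (DistribMulAction.toAddAut ↥C K c)
  map_one' := by
    ext v
    simp
  map_mul' a b := by
    ext v
    simp [mul_smul]

/-- the affine-type group `K ⋊ C` -/
abbrev Aff := Multiplicative K ⋊[affHom K C] ↥C

variable {K C}

theorem affHom_apply (c : ↥C) (v : K) :
    (affHom K C c) (Multiplicative.ofAdd v) = Multiplicative.ofAdd (((c : Kˣ) : K) * v) := rfl

/-- elements with nontrivial linear part are conjugate to their linear part -/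
theorem aff_conj (v : K) {c : ↥C} (hc : c ≠ 1) :
    ∃ a : Aff K C, a * SemidirectProduct.inr c * a⁻¹ = ⟨Multiplicative.ofAdd v, c⟩ := by
  have hc1 : (1 : K) - ((c : Kˣ) : K) ≠ 0 := by
    intro h
    apply hc
    apply Subtype.ext
    apply Units.ext
    rw [Subgroup.coe_one, Units.val_one]
    exact (sub_eq_zero.mp h).symm
  refine ⟨SemidirectProduct.inl (Multiplicative.ofAdd (v / (1 - ((c : Kˣ) : K)))), ?_⟩
  ext
  · simp only [SemidirectProduct.mul_left, SemidirectProduct.mul_right, SemidirectProduct.inv_left,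
      SemidirectProduct.left_inl, SemidirectProduct.right_inl,
      SemidirectProduct.left_inr, SemidirectProduct.right_inr, map_one, mul_one, one_mul, inv_one,
      MulAut.one_apply]
    rw [← ofAdd_neg, affHom_apply, ← ofAdd_add, toAdd_ofAdd, toAdd_ofAdd]
    field_simp
    ring
  · simp

instance : Group.IsSolvable (Aff K C) :=
  Group.isSolvable_of_ker_le_range (SemidirectProduct.inl : Multiplicative K →* Aff K C)
    SemidirectProduct.rightHom (by rw [SemidirectProduct.range_inl_eq_ker_rightHom])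

instance [Finite K] : Finite (Aff K C) :=
  Finite.of_equiv _ SemidirectProduct.equivProd.symm

variable (p : ℕ) [Fact p.Prime] [CharP K p]

/-- element orders of the affine-type group: upper bound -/
theorem orderOf_aff (x : Aff K C) : orderOf x ∣ p ∨ ∃ c : ↥C, orderOf x = orderOf c := by
  obtain ⟨v, c⟩ := x
  by_cases hc : c = 1
  · left
    subst hc
    apply orderOf_dvd_of_pow_eq_one
    have : (⟨v, 1⟩ : Aff K C) = SemidirectProduct.inl v := by
      ext <;> simp
    rw [this, ← map_pow]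
    have : v ^ p = 1 := by
      have h1 : v ^ p = Multiplicative.ofAdd (p • v.toAdd) := by
        rw [ofAdd_nsmul, ofAdd_toAdd]
      rw [h1, nsmul_eq_mul, CharP.cast_eq_zero K p, zero_mul, ofAdd_zero]
    rw [this, map_one]
  · right
    refine ⟨c, ?_⟩
    obtain ⟨a, ha⟩ := aff_conj (C := C) v.toAdd hc
    have h1 : (⟨v, c⟩ : Aff K C) = MulAut.conj a (SemidirectProduct.inr c) := by
      rw [MulAut.conj_apply, ha, ofAdd_toAdd]
    rw [h1, MulEquiv.orderOf_eq, orderOf_injective _ SemidirectProduct.inr_injective]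

/-- element orders of the affine-type group: existence -/
theorem exists_orderOf_aff {n : ℕ} (hn : n ∣ p ∨ ∃ c : ↥C, orderOf c = n) :
    ∃ x : Aff K C, orderOf x = n := by
  have hpp : p.Prime := Fact.out
  rcases hn with hn | ⟨c, rfl⟩
  · rcases (Nat.dvd_prime hpp).mp hn with rfl | rfl
    · exact ⟨1, orderOf_one⟩
    · refine ⟨SemidirectProduct.inl (Multiplicative.ofAdd (1 : K)), ?_⟩
      rw [orderOf_injective _ SemidirectProduct.inl_injective, orderOf_ofAdd_eq_addOrderOf]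
      exact CharP.eq K (CharP.addOrderOf_one K) inferInstance
  · exact ⟨SemidirectProduct.inr c, orderOf_injective _ SemidirectProduct.inr_injective c⟩

/-- the spectrum of the affine-type group -/
theorem spectrum_aff [Finite K] (n : ℕ) :
    (∃ x : Aff K C, orderOf x = n) ↔ n ∣ p ∨ n ∣ Nat.card C := by
  constructor
  · rintro ⟨x, rfl⟩
    rcases orderOf_aff p x with h | ⟨c, hc⟩
    · exact Or.inl h
    · right
      rw [hc]
      exact orderOf_dvd_natCard c
  · rintro (h | h)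
    · exact exists_orderOf_aff p (Or.inl h)
    · apply exists_orderOf_aff p
      right
      obtain ⟨x, hx, hxo⟩ := exists_mem_orderOf_of_dvd (⊤ : Subgroup ↥C) (n := n)
        (by rw [Subgroup.card_top]; exact h)
      exact ⟨x, hxo⟩

/-- subgroups of the multiplicative group of a finite field of every possible order -/
theorem exists_subgroup_card [Fintype K] {m : ℕ} (hm : m ∣ Fintype.card K - 1) :
    ∃ C : Subgroup Kˣ, Nat.card C = m := by
  obtain ⟨x, -, hx⟩ := exists_mem_orderOf_of_dvd (⊤ : Subgroup Kˣ) (n := m)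
    (by rw [Subgroup.card_top, Nat.card_units, Nat.card_eq_fintype_card]; exact hm)
  exact ⟨Subgroup.zpowers x, by rw [Nat.card_zpowers, hx]⟩

end Aff

section Arith

theorem eq_lcm_of_dvd_mul {s t n : ℕ} (h : s.Coprime t) (hn : n ∣ s * t) :
    n = Nat.lcm (n.gcd s) (n.gcd t) := by
  have hc : (n.gcd s).Coprime (n.gcd t) :=
    Nat.Coprime.coprime_dvd_left (Nat.gcd_dvd_right n s)
      (Nat.Coprime.coprime_dvd_right (Nat.gcd_dvd_right n t) h)
  rw [hc.lcm_eq_mul, ← Nat.Coprime.gcd_mul n h, Nat.gcd_eq_left hn]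

theorem lcm_dvd_mul {a b s t : ℕ} (ha : a ∣ s) (hb : b ∣ t) : Nat.lcm a b ∣ s * t :=
  Nat.lcm_dvd (ha.mul_right t) (hb.mul_left s)

theorem lcm_dvd_mul' {a b s t : ℕ} (ha : a ∣ t) (hb : b ∣ s) : Nat.lcm a b ∣ s * t :=
  Nat.lcm_dvd (ha.mul_left s) (hb.mul_right t)

variable {p m₁ m₂ : ℕ}

/-- the spectrum of `L × L` -/
theorem prod_LL (h12 : m₁.Coprime m₂) (hp1 : p.Coprime m₁) (hp2 : p.Coprime m₂) (n : ℕ) :
    (∃ a b : ℕ, (a ∣ p ∨ a ∣ m₁ ∨ a ∣ m₂) ∧ (b ∣ p ∨ b ∣ m₁ ∨ b ∣ m₂) ∧ n = Nat.lcm a b) ↔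
      (n ∣ p * m₁ ∨ n ∣ p * m₂ ∨ n ∣ m₁ * m₂) := by
  constructor
  · rintro ⟨a, b, ha, hb, rfl⟩
    rcases ha with ha | ha | ha <;> rcases hb with hb | hb | hb
    · exact Or.inl ((Nat.lcm_dvd ha hb).mul_right _)
    · exact Or.inl (lcm_dvd_mul ha hb)
    · exact Or.inr (Or.inl (lcm_dvd_mul ha hb))
    · exact Or.inl (lcm_dvd_mul' ha hb)
    · exact Or.inl ((Nat.lcm_dvd ha hb).mul_left _)
    · exact Or.inr (Or.inr (lcm_dvd_mul ha hb))
    · exact Or.inr (Or.inl (lcm_dvd_mul' ha hb))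
    · exact Or.inr (Or.inr (lcm_dvd_mul' ha hb))
    · exact Or.inr (Or.inl ((Nat.lcm_dvd ha hb).mul_left _))
  · rintro (h | h | h)
    · exact ⟨_, _, Or.inl (Nat.gcd_dvd_right n p), Or.inr (Or.inl (Nat.gcd_dvd_right n m₁)),
        eq_lcm_of_dvd_mul hp1 h⟩
    · exact ⟨_, _, Or.inl (Nat.gcd_dvd_right n p), Or.inr (Or.inr (Nat.gcd_dvd_right n m₂)),
        eq_lcm_of_dvd_mul hp2 h⟩
    · exact ⟨_, _, Or.inr (Or.inl (Nat.gcd_dvd_right n m₁)), Or.inr (Or.inr (Nat.gcd_dvd_right n m₂)),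
        eq_lcm_of_dvd_mul h12 h⟩

/-- the spectrum of the product of the two affine-type groups -/
theorem prod_XY (h12 : m₁.Coprime m₂) (hp1 : p.Coprime m₁) (hp2 : p.Coprime m₂) (n : ℕ) :
    (∃ a b : ℕ, (a ∣ p ∨ a ∣ m₁) ∧ (b ∣ p ∨ b ∣ m₂) ∧ n = Nat.lcm a b) ↔
      (n ∣ p * m₁ ∨ n ∣ p * m₂ ∨ n ∣ m₁ * m₂) := by
  constructor
  · rintro ⟨a, b, ha, hb, rfl⟩
    rcases ha with ha | ha <;> rcases hb with hb | hb
    · exact Or.inl ((Nat.lcm_dvd ha hb).mul_right _)
    · exact Or.inr (Or.inl (lcm_dvd_mul ha hb))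
    · exact Or.inl (lcm_dvd_mul' ha hb)
    · exact Or.inr (Or.inr (lcm_dvd_mul ha hb))
  · rintro (h | h | h)
    · refine ⟨_, _, Or.inr (Nat.gcd_dvd_right n m₁), Or.inl (Nat.gcd_dvd_right n p), ?_⟩
      rw [Nat.lcm_comm]
      exact eq_lcm_of_dvd_mul hp1 h
    · exact ⟨_, _, Or.inl (Nat.gcd_dvd_right n p), Or.inr (Nat.gcd_dvd_right n m₂),
        eq_lcm_of_dvd_mul hp2 h⟩
    · exact ⟨_, _, Or.inr (Nat.gcd_dvd_right n m₁), Or.inr (Nat.gcd_dvd_right n m₂),
        eq_lcm_of_dvd_mul h12 h⟩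

end Arith

section Main

theorem spectrum_prod {G₁ G₂ : Type*} [Group G₁] [Group G₂] (n : ℕ) :
    (∃ z : G₁ × G₂, orderOf z = n) ↔
      ∃ a b : ℕ, (∃ x : G₁, orderOf x = a) ∧ (∃ y : G₂, orderOf y = b) ∧ n = Nat.lcm a b := by
  constructor
  · rintro ⟨z, rfl⟩
    exact ⟨_, _, ⟨z.1, rfl⟩, ⟨z.2, rfl⟩, Prod.orderOf z⟩
  · rintro ⟨a, b, ⟨x, rfl⟩, ⟨y, rfl⟩, rfl⟩
    exact ⟨(x, y), Prod.orderOf (x, y)⟩

/-- **a solvable group with the same element orders as `PSL₂(q) × PSL₂(q)`** -/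
theorem exists_isospectral {F : Type*} [Field F] [Fintype F] (h4 : 4 ≤ Fintype.card F) :
    ∃ (H : Type) (_ : Group H) (_ : Finite H), Group.IsSolvable H ∧
      Set.range (orderOf : H → ℕ) =
        Set.range (orderOf : Matrix.ProjectiveSpecialLinearGroup (Fin 2) F ×
          Matrix.ProjectiveSpecialLinearGroup (Fin 2) F → ℕ) := by
  obtain ⟨p, hp⟩ := CharP.exists F
  haveI := hp
  haveI : Fact p.Prime := ⟨CharP.char_is_prime F p⟩
  have hpp : p.Prime := Fact.out
  obtain ⟨k, -, hk⟩ := FiniteField.card F p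
  obtain ⟨m₁, m₂, hm1, hm2, h12, hp1, hp2, hspec⟩ :=
    Cfsg.Agent.Lib.H5.PSL2Spectrum.spectrum (F := F) p h4
  have hk0 : (k : ℕ) ≠ 0 := k.ne_zero
  have hk0' : 2 * (k : ℕ) ≠ 0 := by omega
  haveI : Fintype (GaloisField p k) := Fintype.ofFinite _
  haveI : Fintype (GaloisField p (2 * k)) := Fintype.ofFinite _
  have hc1 : Fintype.card (GaloisField p k) = Fintype.card F := by
    rw [← Nat.card_eq_fintype_card, GaloisField.card p k hk0, hk]
  have hc2 : Fintype.card (GaloisField p (2 * k)) = Fintype.card F ^ 2 := by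
    rw [← Nat.card_eq_fintype_card, GaloisField.card p (2 * k) hk0', hk, ← pow_mul, mul_comm]
  obtain ⟨C₁, hC₁⟩ := exists_subgroup_card (K := GaloisField p k) (m := m₁) (by rw [hc1]; exact hm1)
  obtain ⟨C₂, hC₂⟩ := exists_subgroup_card (K := GaloisField p (2 * k)) (m := m₂) (by
    rw [hc2]
    refine hm2.trans ?_
    have hq1 : 1 ≤ Fintype.card F := by omega
    exact ⟨Fintype.card F - 1, by
      rw [Cfsg.Agent.Lib.H5.PSL2Hall23.sq_sub_one _ hq1]; ring⟩)
  refine ⟨Aff (GaloisField p k) C₁ × Aff (GaloisField p (2 * k)) C₂, inferInstance, inferInstance,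
    inferInstance, ?_⟩
  ext n
  simp only [Set.mem_range]
  rw [spectrum_prod, spectrum_prod]
  simp only [spectrum_aff p, hC₁, hC₂, hspec]
  rw [prod_LL h12 hp1 hp2, prod_XY h12 hp1 hp2]

end Main

end Cfsg.Agent.Lib.H5.IsospectralLL
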