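import Mathlib
import Cfsg.Agent.Lib.H24.JRXFER
import Cfsg.Agent.Lib.H16.JRCOMB

/-!
# S3206 piece COVER2: no perfect central extension with kernel of order 2 over a group whose
Sylow 2-subgroup is elementary abelian of order 8 with `N_G(S)` transitive on `S ∖ 1`.
-/

set_option autoImplicit false

namespace Cfsg.Agent.Lib.H5.JRCOVER2

theorem COVER2 {G : Type*} [Group G] [Finite G] (S : Sylow 2 G)
    (hcard : Nat.card ↥(S : Subgroup G) = 8) (hexp : ∀ s ∈ (S : Subgroup G), s * s = 1)
    (htr : ∀ a ∈ (S : Subgroup G), ∀ b ∈ (S : Subgroup G), a ≠ 1 → b ≠ 1 →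
      ∃ n ∈ Subgroup.normalizer ((S : Subgroup G) : Set G), n * a * n⁻¹ = b)
    {L : Type*} [Group L] [Finite L] (hperf : commutator L = ⊤) (f : L →* G)
    (hf : Function.Surjective f) (hkc : f.ker ≤ Subgroup.center L) (hk2 : Nat.card ↥f.ker = 2) :
    False := by
  classical
  -- the kernel is `{1, z}`
  obtain ⟨⟨z, hzk⟩, hz1', hzu⟩ := (Nat.card_eq_two_iff' (1 : f.ker)).mp hk2
  have hz1 : z ≠ 1 := fun h => hz1' (Subtype.ext h)
  have hfz : f z = 1 := hzk
  have hkerz : ∀ k : L, f k = 1 → k = 1 ∨ k = z := by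
    intro k hk
    by_cases h1 : k = 1
    · exact Or.inl h1
    · right
      have := hzu ⟨k, hk⟩ (fun h => h1 (congrArg Subtype.val h))
      exact congrArg Subtype.val this
  have hker : ∀ k : L, f k = 1 ↔ k = 1 ∨ k = z := by
    intro k
    refine ⟨hkerz k, ?_⟩
    rintro (rfl | rfl)
    · exact map_one f
    · exact hfz
  have hzcen : z ∈ Subgroup.center L := hkc hzk
  have hzc : ∀ x : L, z * x = x * z := fun x => ((Subgroup.mem_center_iff.mp hzcen) x).symm
  have hzz : z * z = 1 := by
    have h1 : f (z * z) = 1 := by rw [map_mul, hfz, one_mul]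
    rcases hkerz _ h1 with h | h
    · exact h
    · exfalso
      apply hz1
      have : z * z = z * 1 := by rw [mul_one]; exact h
      exact mul_left_cancel this
  -- the index of `T` is odd
  have hTodd : Odd ((S : Subgroup G).comap f).index := by
    rw [Subgroup.index_comap_of_surjective _ hf, ← Nat.not_even_iff_odd, even_iff_two_dvd]
    exact S.not_dvd_index
  have hzT : z ∈ (S : Subgroup G).comap f := by
    rw [Subgroup.mem_comap, hfz]
    exact Subgroup.one_mem _
  have hzcomm := Cfsg.Agent.Lib.H24.JRXFER.XFER hperf ((S : Subgroup G).comap f) hTodd z hzcen hzT hzz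
  -- all squares agree
  have hsq : ∀ a b : L, f a ∈ (S : Subgroup G) → f b ∈ (S : Subgroup G) → f a ≠ 1 → f b ≠ 1 →
      a * a = b * b := by
    intro a b ha hb ha1 hb1
    obtain ⟨n, -, hn⟩ := htr (f a) ha (f b) hb ha1 hb1
    obtain ⟨m, rfl⟩ := hf n
    have h1 : f (b⁻¹ * (m * a * m⁻¹)) = 1 := by
      simp only [map_mul, map_inv]
      rw [hn, inv_mul_cancel]
    -- `a * a` is central
    have haa : a * a ∈ Subgroup.center L := by
      apply hkc
      rw [MonoidHom.mem_ker, map_mul]
      exact hexp _ ha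
    have haa' : m * (a * a) * m⁻¹ = a * a := by
      rw [(Subgroup.mem_center_iff.mp haa) m, mul_assoc, mul_inv_cancel, mul_one]
    have hconj : m * (a * a) * m⁻¹ = (m * a * m⁻¹) * (m * a * m⁻¹) := by group
    rcases hkerz _ h1 with h | h
    · have h2 : m * a * m⁻¹ = b := by
        have := inv_mul_eq_one.mp h
        exact this.symm
      rw [← haa', hconj, h2]
    · have h2 : m * a * m⁻¹ = b * z := by
        have := inv_mul_eq_iff_eq_mul.mp h
        exact this
      rw [← haa', hconj, h2]
      calc b * z * (b * z) = b * (z * b) * z := by group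
        _ = b * (b * z) * z := by rw [hzc b]
        _ = b * b * (z * z) := by group
        _ = b * b := by rw [hzz, mul_one]
  exact Cfsg.Agent.Lib.H16.JRCOMB.COMB f hf (S : Subgroup G) (by rw [hcard]; norm_num) hexp z hz1
    hker hzc hsq hzcomm

end Cfsg.Agent.Lib.H5.JRCOVER2
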