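import Mathlib

set_option autoImplicit false

namespace Cfsg.Agent.Lib.H5.KB

/-- descent step for the reduction of a positive definite integral binary form:
any unimodular basis whose first vector has value at most `n` can be reduced. -/
theorem red_descent (a b c : ℤ)
    (hpos : ∀ x y : ℤ, (x ≠ 0 ∨ y ≠ 0) → 0 < a * x * x + 2 * b * x * y + c * y * y) :
    ∀ n : ℕ, ∀ s t u v : ℤ, (s * v - t * u = 1 ∨ s * v - t * u = -1) →
      a * s * s + 2 * b * s * u + c * u * u ≤ n →
      ∃ s' t' u' v' : ℤ, (s' * v' - t' * u' = 1 ∨ s' * v' - t' * u' = -1) ∧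
        0 < a * s' * s' + 2 * b * s' * u' + c * u' * u' ∧
        0 ≤ 2 * (a * s' * t' + b * (s' * v' + t' * u') + c * u' * v') ∧
        2 * (a * s' * t' + b * (s' * v' + t' * u') + c * u' * v') ≤
          a * s' * s' + 2 * b * s' * u' + c * u' * u' ∧
        a * s' * s' + 2 * b * s' * u' + c * u' * u' ≤ a * t' * t' + 2 * b * t' * v' + c * v' * v' := by
  intro n
  induction n with
  | zero =>
    intro s t u v hdet hle
    exfalso
    have hsu : s ≠ 0 ∨ u ≠ 0 := by
      by_contra h
      push Not at h
      obtain ⟨h1, h2⟩ := h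
      subst h1; subst h2
      rcases hdet with h | h <;> simp at h
    have := hpos s u hsu
    simp only [Nat.cast_zero] at hle
    linarith
  | succ n ih =>
    intro s t u v hdet hle
    have hsu : s ≠ 0 ∨ u ≠ 0 := by
      by_contra h
      push Not at h
      obtain ⟨h1, h2⟩ := h
      subst h1; subst h2
      rcases hdet with h | h <;> simp at h
    have hα : 0 < a * s * s + 2 * b * s * u + c * u * u := hpos s u hsu
    set α : ℤ := a * s * s + 2 * b * s * u + c * u * u with hαdef
    set β : ℤ := a * s * t + b * (s * v + t * u) + c * u * v with hβdef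
    set γ : ℤ := a * t * t + 2 * b * t * v + c * v * v with hγdef
    -- choose the shift
    set q : ℤ := (2 * β + α) / (2 * α) with hqdef
    set r : ℤ := (2 * β + α) % (2 * α) with hrdef
    have h2α : 0 < 2 * α := by linarith
    have hr0 : 0 ≤ r := Int.emod_nonneg _ (ne_of_gt h2α)
    have hr1 : r < 2 * α := Int.emod_lt_of_pos _ h2α
    have hqr : 2 * α * q + r = 2 * β + α := Int.mul_ediv_add_emod _ _
    set k : ℤ := -q with hkdef
    set t' : ℤ := t + k * s with ht'
    set v' : ℤ := v + k * u with hv'
    have hβ' : a * s * t' + b * (s * v' + t' * u) + c * u * v' = β + k * α := by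
      rw [ht', hv', hβdef, hαdef]; ring
    have hγ' : a * t' * t' + 2 * b * t' * v' + c * v' * v' = γ + 2 * k * β + k * k * α := by
      rw [ht', hv', hβdef, hαdef, hγdef]; ring
    have hdet' : s * v' - t' * u = s * v - t * u := by
      rw [ht', hv']; ring
    have hβlo : -α ≤ 2 * (β + k * α) := by
      rw [hkdef]; nlinarith
    have hβhi : 2 * (β + k * α) < α := by
      rw [hkdef]; nlinarith
    by_cases hlt : a * t' * t' + 2 * b * t' * v' + c * v' * v' < α
    · -- swap and descend
      have hdet2 : t' * u - s * v' = 1 ∨ t' * u - s * v' = -1 := by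
        rcases hdet with h | h
        · right; linarith
        · left; linarith
      have hle2 : a * t' * t' + 2 * b * t' * v' + c * v' * v' ≤ (n : ℤ) := by
        have : α ≤ ((n + 1 : ℕ) : ℤ) := hle
        push_cast at this
        linarith
      exact ih t' s v' u hdet2 hle2
    · push Not at hlt
      by_cases hβs : 0 ≤ β + k * α
      · refine ⟨s, t', u, v', ?_, hα, ?_, ?_, hlt⟩
        · rw [hdet']; exact hdet
        · rw [hβ']; linarith
        · rw [hβ']; linarith
      · push Not at hβs
        refine ⟨s, -t', u, -v', ?_, hα, ?_, ?_, ?_⟩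
        · have : s * -v' - -t' * u = -(s * v' - t' * u) := by ring
          rw [this, hdet']
          rcases hdet with h | h
          · right; linarith
          · left; linarith
        · have : a * s * -t' + b * (s * -v' + -t' * u) + c * u * -v' =
              -(a * s * t' + b * (s * v' + t' * u) + c * u * v') := by ring
          rw [this, hβ']; linarith
        · have : a * s * -t' + b * (s * -v' + -t' * u) + c * u * -v' =
              -(a * s * t' + b * (s * v' + t' * u) + c * u * v') := by ring
          rw [this, hβ']; linarith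
        · have : a * -t' * -t' + 2 * b * -t' * -v' + c * -v' * -v' =
              a * t' * t' + 2 * b * t' * v' + c * v' * v' := by ring
          rw [this]; exact hlt

/-- (RED) reduction of positive definite integral binary quadratic forms. -/
theorem exists_reduced (a b c : ℤ)
    (hpos : ∀ x y : ℤ, (x ≠ 0 ∨ y ≠ 0) → 0 < a * x * x + 2 * b * x * y + c * y * y) :
    ∃ s t u v : ℤ, (s * v - t * u = 1 ∨ s * v - t * u = -1) ∧
      0 < a * s * s + 2 * b * s * u + c * u * u ∧
      0 ≤ 2 * (a * s * t + b * (s * v + t * u) + c * u * v) ∧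
      2 * (a * s * t + b * (s * v + t * u) + c * u * v) ≤ a * s * s + 2 * b * s * u + c * u * u ∧
      a * s * s + 2 * b * s * u + c * u * u ≤ a * t * t + 2 * b * t * v + c * v * v := by
  have h := red_descent a b c hpos (a * 1 * 1 + 2 * b * 1 * 0 + c * 0 * 0).toNat 1 0 0 1
    (by left; norm_num) (by
      have : 0 < a * 1 * 1 + 2 * b * 1 * 0 + c * 0 * 0 := hpos 1 0 (by left; norm_num)
      rw [Int.toNat_of_nonneg this.le])
  exact h

end Cfsg.Agent.Lib.H5.KB
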