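import Mathlib
import Cfsg.Prelude.Def_Blocks
import Cfsg.Prelude.Def_BlockLocal
import Cfsg.Prelude.Def_BlockRank
import Cfsg.Agent.Lib.H5.BKRANK

/-!
# S4640 piece 3 (RANK) in the exact signature of `tools/blueprints/S4640_sigs.lean` (helper5)
-/

set_option autoImplicit false

namespace Cfsg.Agent.Lib.H5.KK

section blocks
variable {G : Type*} [Group G] [Fintype G] {p : ℕ} [Fact p.Prime] {M : Ideal Cfsg.AlgInt}

/-- (RANK) `G/N` a `p`-group, so the `p`-regular elements lie in `N`; restriction maps the spanning set of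
`B` onto the spanning set of `b` and extension by zero maps it back, so the spans have the same dimension. -/
theorem blockRank_eq_of_restrict (N : Subgroup G) [N.Normal] (hNi : ∃ k : ℕ, N.index = p ^ k)
    (B : Set (Cfsg.IrrCharacter G)) (b : Set (Cfsg.IrrCharacter N))
    (h1 : ∀ χ ∈ B, ∃ θ ∈ b, ∀ n : N, (χ : G → ℂ) n = (θ : N → ℂ) n)
    (h2 : ∀ θ ∈ b, ∃ χ ∈ B, ∀ n : N, (χ : G → ℂ) n = (θ : N → ℂ) n) :
    Cfsg.blockRank p B = Cfsg.blockRank p b :=
  Cfsg.Agent.Lib.H5.BK.blockRank_eq_of_restrict p N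
    (Cfsg.Agent.Lib.H5.BK.preg_mem_of_index_pow p N hNi) B b h1 h2

end blocks

end Cfsg.Agent.Lib.H5.KK
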