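import Mathlib

set_option autoImplicit false

namespace Cfsg.Agent.Lib.H5.KX

/-- (ABS') PURE Mathlib: the arithmetic. -/
theorem card_le_two_pow_of_compl {ι : Type*} [DecidableEq ι] (K : Finset ι) (h : ι → ℕ)
    (A : ι → ℤ) (d l : ℕ) (hk : K.card ≤ l + 3)
    (hT : ∑ χ ∈ K, A χ = (l : ℤ) * 2 ^ d)
    (hpos : ∀ χ ∈ K, 0 < A χ)
    (hlt : 2 ≤ K.card → ∀ χ ∈ K, A χ < 2 ^ d)
    (hodd : ∀ χ ∈ K, h χ = 0 → Odd (A χ))
    (hdiv : ∀ χ ∈ K, 1 ≤ h χ → (2 : ℤ) ^ (h χ + 1) ∣ A χ)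
    (hJ : ∀ χ₀ ∈ K, h χ₀ = 0 → ∑ ψ ∈ K.erase χ₀, (4 : ℤ) ^ h ψ ≤ A χ₀ * (2 ^ d - A χ₀)) :
    K.card ≤ 2 ^ d := by
  rcases Nat.lt_or_ge K.card 2 with hk2 | hk2
  · have : 1 ≤ 2 ^ d := Nat.one_le_two_pow
    omega
  have hltK := hlt hk2
  -- the goal in `ℤ`
  suffices hgoal : (K.card : ℤ) ≤ 2 ^ d by exact_mod_cast hgoal
  have hpow_pos : (0 : ℤ) < 2 ^ d := by positivity
  -- the sum of the complements
  have hsumA' : ∑ χ ∈ K, ((2 : ℤ) ^ d - A χ) = ((K.card : ℤ) - l) * 2 ^ d := by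
    rw [Finset.sum_sub_distrib, hT, Finset.sum_const, nsmul_eq_mul]
    ring
  by_cases hcase : ∃ χ₀ ∈ K, h χ₀ = 0 ∧ (2 : ℤ) ^ d - A χ₀ = 1
  · obtain ⟨χ₀, hχ₀, hh0, hA1⟩ := hcase
    have hj := hJ χ₀ hχ₀ hh0
    rw [hA1, mul_one] at hj
    have hge : ((K.erase χ₀).card : ℤ) ≤ ∑ ψ ∈ K.erase χ₀, (4 : ℤ) ^ h ψ := by
      have : ∑ ψ ∈ K.erase χ₀, (1 : ℤ) ≤ ∑ ψ ∈ K.erase χ₀, (4 : ℤ) ^ h ψ :=
        Finset.sum_le_sum (fun ψ _ => one_le_pow₀ (by norm_num))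
      simpa using this
    have hcard : ((K.erase χ₀).card : ℤ) = (K.card : ℤ) - 1 := by
      rw [Finset.card_erase_of_mem hχ₀]
      have : 1 ≤ K.card := by omega
      push_cast [Nat.cast_sub this]
      ring
    rw [hcard] at hge
    linarith
  · push Not at hcase
    -- d ≥ 1
    have hd1 : 1 ≤ d := by
      by_contra hd0
      have hd : d = 0 := by omega
      obtain ⟨χ, hχ⟩ : K.Nonempty := Finset.card_pos.mp (by omega)
      have h1 := hltK χ hχ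
      have h2 := hpos χ hχ
      rw [hd, pow_zero] at h1
      omega
    have heven : Even ((2 : ℤ) ^ d) := by
      obtain ⟨d', rfl⟩ : ∃ d', d = d' + 1 := ⟨d - 1, by omega⟩
      rw [pow_succ]
      exact even_two.mul_left _
    have hthree : ∀ χ ∈ K, (3 : ℤ) ≤ 2 ^ d - A χ := by
      intro χ hχ
      have hA1 := hltK χ hχ
      have hA0 := hpos χ hχ
      rcases Nat.eq_zero_or_pos (h χ) with hh0 | hh1
      · have hoddA := hodd χ hχ hh0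
        have hne := hcase χ hχ hh0
        have hoddA' : Odd ((2 : ℤ) ^ d - A χ) := heven.sub_odd hoddA
        obtain ⟨c, hc⟩ := hoddA'
        have : 1 ≤ (2 : ℤ) ^ d - A χ := by linarith
        omega
      · have hdvd := hdiv χ hχ hh1
        have hle : (2 : ℤ) ^ (h χ + 1) ≤ A χ := Int.le_of_dvd hA0 hdvd
        have hlt' : (2 : ℤ) ^ (h χ + 1) < 2 ^ d := lt_of_le_of_lt hle hA1
        have hexp : h χ + 1 < d := by
          by_contra hcon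
          have : d ≤ h χ + 1 := by omega
          have : (2 : ℤ) ^ d ≤ 2 ^ (h χ + 1) := pow_le_pow_right₀ (by norm_num) this
          linarith
        have hdvd2 : (2 : ℤ) ^ (h χ + 1) ∣ 2 ^ d := pow_dvd_pow 2 hexp.le
        have hdvd3 : (2 : ℤ) ^ (h χ + 1) ∣ 2 ^ d - A χ := dvd_sub hdvd2 hdvd
        have hpos' : (0 : ℤ) < 2 ^ d - A χ := by linarith
        have hle2 : (2 : ℤ) ^ (h χ + 1) ≤ 2 ^ d - A χ := Int.le_of_dvd hpos' hdvd3
        have h4 : (4 : ℤ) ≤ 2 ^ (h χ + 1) := by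
          have : (2 : ℤ) ^ 2 ≤ 2 ^ (h χ + 1) := pow_le_pow_right₀ (by norm_num) (by omega)
          linarith
        linarith
    have hsum3 : (3 : ℤ) * K.card ≤ ∑ χ ∈ K, ((2 : ℤ) ^ d - A χ) := by
      have : ∑ χ ∈ K, (3 : ℤ) ≤ ∑ χ ∈ K, ((2 : ℤ) ^ d - A χ) := Finset.sum_le_sum hthree
      simpa [mul_comm] using this
    rw [hsumA'] at hsum3
    have hkl : (K.card : ℤ) - l ≤ 3 := by
      have : (K.card : ℤ) ≤ l + 3 := by exact_mod_cast hk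
      linarith
    have : ((K.card : ℤ) - l) * 2 ^ d ≤ 3 * 2 ^ d :=
      mul_le_mul_of_nonneg_right hkl hpow_pos.le
    linarith

end Cfsg.Agent.Lib.H5.KX
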