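import Mathlib

set_option autoImplicit false

namespace Cfsg.Agent.Lib.H5.KY

open scoped ComplexConjugate

/-- freshman's dream modulo `2`: `(z - 1)^(2^k) = z^(2^k) + 1 + 2 t`. -/
theorem cy3_sub_one_pow_two_pow {R : Type*} [CommRing R] (z : R) (k : ℕ) :
    ∃ t : R, (z - 1) ^ (2 ^ k) = z ^ (2 ^ k) + 1 + 2 * t := by
  induction k with
  | zero => exact ⟨-1, by ring⟩
  | succ k ih =>
    obtain ⟨t, ht⟩ := ih
    refine ⟨z ^ (2 ^ k) + 2 * t * z ^ (2 ^ k) + 2 * t + 2 * t ^ 2, ?_⟩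
    rw [pow_succ, pow_mul, ht, pow_mul]
    ring

/-- in a local ring of residue characteristic `2`, a root of unity of 2-power order is `≡ 1`. -/
theorem cy3_sub_one_mem {R : Type*} [CommRing R] [IsLocalRing R]
    (h2 : (2 : R) ∈ IsLocalRing.maximalIdeal R) (z : R) (a : ℕ) (hz : z ^ (2 ^ a) = -1) :
    z - 1 ∈ IsLocalRing.maximalIdeal R := by
  obtain ⟨t, ht⟩ := cy3_sub_one_pow_two_pow z a
  have hmem : (z - 1) ^ (2 ^ a) ∈ IsLocalRing.maximalIdeal R := by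
    rw [ht, hz]
    have : (-1 : R) + 1 + 2 * t = 2 * t := by ring
    rw [this]
    exact Ideal.mul_mem_right _ _ h2
  exact (IsLocalRing.maximalIdeal.isMaximal R).isPrime.mem_of_pow_mem _ hmem

/-- an integer divisible by all powers of two vanishes. -/
theorem cy3_eq_zero_of_forall_two_pow_dvd (b : ℤ) (h : ∀ k : ℕ, (2 : ℤ) ^ k ∣ b) : b = 0 := by
  apply Int.eq_zero_of_abs_lt_dvd (h b.natAbs)
  have h1 : b.natAbs < 2 ^ b.natAbs := Nat.lt_two_pow_self
  have h2 : |b| = (b.natAbs : ℤ) := Int.abs_eq_natAbs b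
  rw [h2]
  exact_mod_cast h1

/-- (CY3, core) a REAL element `y = ∑_{i<n} γ_i ζ^i` of the maximal ideal has `γ_0` even; the uniqueness of the
coefficients (CY2) is an explicit hypothesis. -/
theorem real_parity_core (R : Subring ℂ) [IsLocalRing R] (h2 : (2 : R) ∈ IsLocalRing.maximalIdeal R)
    (ζ : ℂ) (hζR : ζ ∈ R) (a : ℕ) (hζ : ζ ^ (2 ^ a) = -1)
    (hCY2 : ∀ (β : ℕ → ℤ) (h : ℕ) (r : ℂ), r ∈ R →
      ∑ i ∈ Finset.range (2 ^ a), (β i : ℂ) * ζ ^ i = 2 ^ h * r → ∀ i < 2 ^ a, (2 : ℤ) ^ h ∣ β i)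
    (γ : ℕ → ℤ)
    (hreal : conj (∑ i ∈ Finset.range (2 ^ a), (γ i : ℂ) * ζ ^ i) =
      ∑ i ∈ Finset.range (2 ^ a), (γ i : ℂ) * ζ ^ i)
    (y : R) (hy : (y : ℂ) = ∑ i ∈ Finset.range (2 ^ a), (γ i : ℂ) * ζ ^ i)
    (hym : y ∈ IsLocalRing.maximalIdeal R) : (2 : ℤ) ∣ γ 0 := by
  obtain ⟨m, hm⟩ : ∃ m, 2 ^ a = m + 1 := ⟨2 ^ a - 1, by have := Nat.one_le_two_pow (n := a); omega⟩
  -- uniqueness of coefficients
  have huniq : ∀ β : ℕ → ℤ, ∑ i ∈ Finset.range (2 ^ a), (β i : ℂ) * ζ ^ i = 0 →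
      ∀ i < 2 ^ a, β i = 0 := by
    intro β hβ i hi
    apply cy3_eq_zero_of_forall_two_pow_dvd
    intro k
    exact hCY2 β k 0 (Subring.zero_mem R) (by rw [hβ]; ring) i hi
  -- `conj (ζ ^ i) = - ζ ^ (n - i)`
  have hnorm : ‖ζ‖ = 1 := by
    have h1 : ζ ^ (2 ^ (a + 1)) = 1 := by rw [pow_succ, pow_mul, hζ]; norm_num
    exact Complex.norm_eq_one_of_pow_eq_one h1 (by positivity)
  have hζ0 : ζ ≠ 0 := by
    intro h0; rw [h0] at hnorm; simp at hnorm
  have hconjζ : conj ζ = ζ⁻¹ := (Complex.inv_eq_conj hnorm).symm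
  have hconj : ∀ i, i ≤ m → conj (ζ ^ (i + 1)) = -ζ ^ (m - i) := by
    intro i hi
    rw [map_pow, hconjζ, inv_pow]
    have hprod : ζ ^ (i + 1) * (-ζ ^ (m - i)) = 1 := by
      have : ζ ^ (i + 1) * ζ ^ (m - i) = ζ ^ (m + 1) := by
        rw [← pow_add]; congr 1; omega
      rw [mul_neg, this, ← hm, hζ]; norm_num
    exact inv_eq_of_mul_eq_one_right hprod
  -- the reality relation
  set g : ℕ → ℤ := fun i => γ (i + 1) with hg
  have hsplit : ∀ f : ℕ → ℂ, ∑ i ∈ Finset.range (2 ^ a), f i =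
      ∑ i ∈ Finset.range m, f (i + 1) + f 0 := by
    intro f; rw [hm, Finset.sum_range_succ']
  have hL : conj (∑ i ∈ Finset.range (2 ^ a), (γ i : ℂ) * ζ ^ i) =
      ∑ j ∈ Finset.range m, (-(g (m - 1 - j) : ℂ)) * ζ ^ (j + 1) + (γ 0 : ℂ) := by
    rw [hsplit, map_add, map_sum]
    congr 1
    · rw [← Finset.sum_range_reflect]
      apply Finset.sum_congr rfl
      intro j hj
      have hj' : j < m := Finset.mem_range.mp hj
      rw [map_mul, map_intCast, hconj (m - 1 - j) (by omega)]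
      have e1 : m - (m - 1 - j) = j + 1 := by omega
      rw [e1]
      simp only [hg]
      ring
    · simp
  have hRsum : ∑ i ∈ Finset.range (2 ^ a), (γ i : ℂ) * ζ ^ i =
      ∑ j ∈ Finset.range m, ((g j : ℂ)) * ζ ^ (j + 1) + (γ 0 : ℂ) := by
    rw [hsplit]; simp [hg]
  set β : ℕ → ℤ := fun i => if i = 0 then 0 else g (i - 1) + g (m - 1 - (i - 1)) with hβ
  have hβsum : ∑ i ∈ Finset.range (2 ^ a), (β i : ℂ) * ζ ^ i = 0 := by
    rw [hsplit]
    have h0 : (β 0 : ℂ) * ζ ^ 0 = 0 := by simp [hβ]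
    rw [h0, add_zero]
    have hrel := hreal
    rw [hL, hRsum] at hrel
    have hrel' : ∑ j ∈ Finset.range m, ((g j : ℂ)) * ζ ^ (j + 1) -
        ∑ j ∈ Finset.range m, (-(g (m - 1 - j) : ℂ)) * ζ ^ (j + 1) = 0 := by
      linear_combination -hrel
    rw [← Finset.sum_sub_distrib] at hrel'
    rw [← hrel']
    apply Finset.sum_congr rfl
    intro j _
    simp only [hβ, Nat.add_sub_cancel, Nat.succ_ne_zero, if_false]
    push_cast
    ring
  have hanti : ∀ j < m, g j + g (m - 1 - j) = 0 := by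
    intro j hj
    have := huniq β hβsum (j + 1) (by omega)
    simpa [hβ] using this
  have hsum0 : ∑ j ∈ Finset.range m, g j = 0 := by
    have hrefl : ∑ j ∈ Finset.range m, g (m - 1 - j) = ∑ j ∈ Finset.range m, g j :=
      Finset.sum_range_reflect g m
    have hadd : ∑ j ∈ Finset.range m, (g j + g (m - 1 - j)) = 0 :=
      Finset.sum_eq_zero (fun j hj => hanti j (Finset.mem_range.mp hj))
    rw [Finset.sum_add_distrib, hrefl] at hadd
    omega
  -- pass to the local ring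
  set z : R := ⟨ζ, hζR⟩ with hz
  have hzpow : z ^ (2 ^ a) = -1 := by
    apply Subtype.ext
    simp [hz, hζ]
  have hz1 : z - 1 ∈ IsLocalRing.maximalIdeal R := cy3_sub_one_mem h2 z a hzpow
  have hyR : y = ∑ i ∈ Finset.range (2 ^ a), (γ i : R) * z ^ i := by
    apply Subtype.ext
    rw [hy]
    simp [hz]
  have hdiff : y - ∑ i ∈ Finset.range (2 ^ a), (γ i : R) ∈ IsLocalRing.maximalIdeal R := by
    rw [hyR, ← Finset.sum_sub_distrib]
    apply Ideal.sum_mem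
    intro i _
    have hdvd : z - 1 ∣ z ^ i - 1 := by
      simpa using sub_dvd_pow_sub_pow z 1 i
    obtain ⟨c, hc⟩ := hdvd
    have : (γ i : R) * z ^ i - (γ i : R) = (z - 1) * ((γ i : R) * c) := by
      have : (γ i : R) * z ^ i - (γ i : R) = (γ i : R) * (z ^ i - 1) := by ring
      rw [this, hc]; ring
    rw [this]
    exact Ideal.mul_mem_right _ _ hz1
  have hsumγ : ∑ i ∈ Finset.range (2 ^ a), γ i = γ 0 := by
    rw [hm, Finset.sum_range_succ']
    have : ∑ i ∈ Finset.range m, γ (i + 1) = 0 := hsum0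
    rw [this, zero_add]
  have hγ0 : ((γ 0 : ℤ) : R) ∈ IsLocalRing.maximalIdeal R := by
    have h1 : ∑ i ∈ Finset.range (2 ^ a), (γ i : R) = ((γ 0 : ℤ) : R) := by
      rw [← hsumγ]; push_cast; rfl
    have h3 := (Ideal.sub_mem _ hym hdiff)
    rw [sub_sub_cancel, h1] at h3
    exact h3
  -- parity
  by_contra hodd
  have hodd' : Odd (γ 0) := by
    rw [← Int.not_even_iff_odd]
    intro he
    exact hodd he.two_dvd
  obtain ⟨k, hk⟩ := hodd'
  have hone : (1 : R) ∈ IsLocalRing.maximalIdeal R := by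
    have h4 : (1 : R) = ((γ 0 : ℤ) : R) - 2 * ((k : ℤ) : R) := by
      rw [hk]; push_cast; ring
    rw [h4]
    exact Ideal.sub_mem _ hγ0 (Ideal.mul_mem_right _ _ h2)
  exact (IsLocalRing.maximalIdeal.isMaximal R).ne_top ((Ideal.eq_top_iff_one _).mpr hone)

end Cfsg.Agent.Lib.H5.KY
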