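import Mathlib

set_option autoImplicit false

namespace Cfsg.Agent.Lib.H5.KZ

/-- a unit of `ZMod m` with prescribed residue (coprime to `d`) modulo a divisor `d` of `m`. -/
theorem exists_unit_val_modEq (m d n : ℕ) [NeZero m] (hdm : d ∣ m) (hcop : Nat.Coprime n d) :
    ∃ t : (ZMod m)ˣ, (t : ZMod m).val ≡ n [MOD d] := by
  obtain ⟨t, ht⟩ := ZMod.unitsMap_surjective hdm (ZMod.unitOfCoprime n hcop)
  refine ⟨t, ?_⟩
  have h3 : ((ZMod.unitsMap hdm t : (ZMod d)ˣ) : ZMod d) = ((n : ℕ) : ZMod d) := by
    rw [ht, ZMod.coe_unitOfCoprime]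
  rw [ZMod.unitsMap_def, Units.coe_map] at h3
  have h4 : ((ZMod.castHom hdm (ZMod d)) (t : ZMod m)) = (((t : ZMod m).val : ℕ) : ZMod d) := by
    simp [ZMod.natCast_val]
  rw [MonoidHom.coe_coe, h4] at h3
  exact (ZMod.natCast_eq_natCast_iff _ _ _).mp h3

/-- (E1) Ramanujan sum of a root of unity `w` of 2-power order over the units of `ℤ/m`. -/
theorem sum_units_pow_eq (m : ℕ) [NeZero m] (w : ℂ) (hwm : w ^ m = 1) (j : ℕ)
    (hwj : w ^ (2 ^ j) = 1) :
    ∃ ε : ℤ, (∑ k : (ZMod m)ˣ, w ^ (k : ZMod m).val) = (Fintype.card (ZMod m)ˣ : ℂ) * (ε : ℂ) ∧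
      (w = 1 → ε = 1) := by
  by_cases h1 : w = 1
  · refine ⟨1, ?_, fun _ => rfl⟩
    subst h1
    simp
  · have hd_dvd_m : orderOf w ∣ m := orderOf_dvd_of_pow_eq_one hwm
    obtain ⟨i, _, hi⟩ := (Nat.dvd_prime_pow Nat.prime_two).mp (orderOf_dvd_of_pow_eq_one hwj)
    have hi1 : 1 ≤ i := by
      rcases Nat.eq_zero_or_pos i with h | h
      · exfalso
        rw [h, pow_zero, orderOf_eq_one_iff] at hi
        exact h1 hi
      · exact h
    have hm_even : 2 ∣ m := by
      refine dvd_trans ?_ hd_dvd_m
      rw [hi]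
      exact dvd_pow_self 2 (by omega)
    have hodd : ∀ k : (ZMod m)ˣ, Odd (k : ZMod m).val := by
      intro k
      have hc : Nat.Coprime (k : ZMod m).val m := ZMod.val_coe_unit_coprime k
      rw [← Nat.not_even_iff_odd]
      intro he
      have h2 : 2 ∣ Nat.gcd (k : ZMod m).val m := Nat.dvd_gcd he.two_dvd hm_even
      rw [hc] at h2
      omega
    by_cases h2 : w = -1
    · refine ⟨-1, ?_, fun h => absurd h h1⟩
      subst h2
      have : ∀ k : (ZMod m)ˣ, (-1 : ℂ) ^ (k : ZMod m).val = -1 := fun k => (hodd k).neg_one_pow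
      simp only [this, Finset.sum_const, Finset.card_univ, nsmul_eq_mul]
      push_cast
      ring
    · refine ⟨0, ?_, fun h => absurd h h1⟩
      have hi2 : 2 ≤ i := by
        by_contra hlt
        have hi_eq : i = 1 := by omega
        rw [hi_eq, pow_one] at hi
        have hsq : w ^ 2 = 1 := by rw [← hi]; exact pow_orderOf_eq_one w
        have : (w - 1) * (w + 1) = 0 := by linear_combination hsq
        rcases mul_eq_zero.mp this with h | h
        · exact h1 (by linear_combination h)
        · exact h2 (by linear_combination h)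
      -- half of the order
      obtain ⟨i', rfl⟩ : ∃ i', i = i' + 2 := ⟨i - 2, by omega⟩
      set h : ℕ := 2 ^ (i' + 1) with hh
      have hd : orderOf w = 2 * h := by rw [hi, hh]; ring
      have hwh : w ^ h = -1 := by
        have hsq : (w ^ h) ^ 2 = 1 := by
          rw [← pow_mul, mul_comm, ← hd]; exact pow_orderOf_eq_one w
        have : (w ^ h - 1) * (w ^ h + 1) = 0 := by linear_combination hsq
        rcases mul_eq_zero.mp this with h' | h'
        · exfalso
          have hw1 : w ^ h = 1 := by linear_combination h'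
          have hdvd : orderOf w ∣ h := orderOf_dvd_of_pow_eq_one hw1
          rw [hd] at hdvd
          have hpos : 0 < h := by rw [hh]; positivity
          have := Nat.le_of_dvd hpos hdvd
          omega
        · linear_combination h'
      -- a unit of `ZMod m` congruent to `1 + h` modulo the order
      have hcop : Nat.Coprime (1 + h) (orderOf w) := by
        rw [hi]
        apply Nat.Coprime.pow_right
        rw [Nat.coprime_two_right]
        rw [hh, pow_succ]
        exact ⟨2 ^ i', by ring⟩
      obtain ⟨t, htval⟩ := exists_unit_val_modEq m (orderOf w) (1 + h) hd_dvd_m hcop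
      have hwt : w ^ (t : ZMod m).val = -w := by
        have e : w ^ (t : ZMod m).val = w ^ (1 + h) := by
          rw [← pow_mod_orderOf w (t : ZMod m).val, ← pow_mod_orderOf w (1 + h)]
          exact congrArg (fun n => w ^ n) htval
        rw [e, pow_add, pow_one, hwh]; ring
      -- reindex
      have hS : (∑ k : (ZMod m)ˣ, w ^ (k : ZMod m).val) =
          ∑ k : (ZMod m)ˣ, w ^ ((t * k : (ZMod m)ˣ) : ZMod m).val :=
        (Equiv.sum_comp (Equiv.mulLeft t) (fun k : (ZMod m)ˣ => w ^ (k : ZMod m).val)).symm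
      have hterm : ∀ k : (ZMod m)ˣ, w ^ ((t * k : (ZMod m)ˣ) : ZMod m).val =
          -(w ^ (k : ZMod m).val) := by
        intro k
        have e1 : ((t * k : (ZMod m)ˣ) : ZMod m).val =
            ((t : ZMod m).val * (k : ZMod m).val) % m := by
          rw [Units.val_mul, ZMod.val_mul]
        rw [e1, ← pow_eq_pow_mod _ hwm, pow_mul, hwt, (hodd k).neg_pow]
      have hneg : (∑ k : (ZMod m)ˣ, w ^ (k : ZMod m).val) =
          -(∑ k : (ZMod m)ˣ, w ^ (k : ZMod m).val) := by
        conv_lhs => rw [hS]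
        simp only [hterm, Finset.sum_neg_distrib]
      have hzero : (∑ k : (ZMod m)ˣ, w ^ (k : ZMod m).val) = 0 := by
        linear_combination (1 / 2 : ℂ) * hneg
      rw [hzero]
      simp

end Cfsg.Agent.Lib.H5.KZ
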