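/-
S0406 farm-out (architect helper27), piece **LC-ORTH** (generic binary codes; Mathlib only):
a doubly even binary code of length 24 is self-orthogonal, and a self-orthogonal code has dimension at most 12.
Exact statements of tools/blueprints/S0406_sigs.lean.
-/
import Mathlib

set_option autoImplicit false

namespace Cfsg.Agent.Lib.H5.LC

open Matrix

/-- the weight as a sum of `val`s -/
theorem hammingNorm_eq_sum_val (v : Fin 24 → ZMod 2) : hammingNorm v = ∑ i, (v i).val := by
  unfold hammingNorm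
  rw [Finset.card_filter]
  apply Finset.sum_congr rfl
  intro i _
  have : ∀ a : ZMod 2, (if a ≠ 0 then 1 else 0) = a.val := by decide
  exact this (v i)

theorem dot_eq_zero_of_doubly_even (C : Submodule (ZMod 2) (Fin 24 → ZMod 2))
    (h : ∀ w ∈ C, 4 ∣ hammingNorm w) : ∀ v ∈ C, ∀ w ∈ C, ∑ i, v i * w i = 0 := by
  intro v hv w hw
  have h1 := h v hv
  have h2 := h w hw
  have h3 := h (v + w) (C.add_mem hv hw)
  rw [hammingNorm_eq_sum_val] at h1 h2 h3
  have key : ∀ a b : ZMod 2, (a + b).val + 2 * (a.val * b.val) = a.val + b.val := by decide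
  have hsum : (∑ i, ((v + w) i).val) + 2 * ∑ i, (v i).val * (w i).val
      = (∑ i, (v i).val) + ∑ i, (w i).val := by
    rw [Finset.mul_sum, ← Finset.sum_add_distrib, ← Finset.sum_add_distrib]
    apply Finset.sum_congr rfl
    intro i _
    exact key (v i) (w i)
  have h4 : 2 ∣ ∑ i, (v i).val * (w i).val := by omega
  have h5 : ∀ a b : ZMod 2, a * b = ((a.val * b.val : ℕ) : ZMod 2) := by decide
  have h6 : ∑ i, v i * w i = ((∑ i, (v i).val * (w i).val : ℕ) : ZMod 2) := by
    rw [Nat.cast_sum]
    apply Finset.sum_congr rfl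
    intro i _
    exact h5 (v i) (w i)
  rw [h6, ZMod.natCast_eq_zero_iff]
  exact h4

theorem finrank_le_twelve (C : Submodule (ZMod 2) (Fin 24 → ZMod 2))
    (horth : ∀ v ∈ C, ∀ w ∈ C, ∑ i, v i * w i = 0) : Module.finrank (ZMod 2) C ≤ 12 := by
  let Bf : LinearMap.BilinForm (ZMod 2) (Fin 24 → ZMod 2) :=
    (1 : Matrix (Fin 24) (Fin 24) (ZMod 2)).toBilin'
  have hB : Bf.Nondegenerate := by
    apply LinearMap.BilinForm.nondegenerate_toBilin'_of_det_ne_zero'
    rw [Matrix.det_one]
    exact one_ne_zero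
  have hle : C ≤ Bf.orthogonal C := by
    intro w hw
    rw [LinearMap.BilinForm.mem_orthogonal_iff]
    intro v hv
    show Bf v w = 0
    show (1 : Matrix (Fin 24) (Fin 24) (ZMod 2)).toBilin' v w = 0
    rw [Matrix.toBilin'_apply', Matrix.one_mulVec]
    exact horth v hv w hw
  have h1 := Submodule.finrank_mono hle
  have h2 := LinearMap.BilinForm.finrank_orthogonal hB C
  have h3 : Module.finrank (ZMod 2) (Fin 24 → ZMod 2) = 24 := by
    rw [Module.finrank_fintype_fun_eq_card, Fintype.card_fin]
  rw [h3] at h2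
  omega

end Cfsg.Agent.Lib.H5.LC
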