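/-
S0406 farm-out (architect helper27), piece **LC-PARS** (Mathlib only): Parseval's identity for 24 pairwise orthogonal vectors
of norm 8 in a rank-24 integral symmetric bilinear form.  Exact statement of tools/blueprints/S0406_sigs.lean.

With `M` the matrix whose rows are the `X i`: `M * B * Mᵀ = 8`, hence (square matrices over `ℚ`) `(B * Mᵀ) * M = 8`, and
`∑ i, (v ⬝ B X_i)^2 = v ⬝ (B Mᵀ) (B Mᵀ)ᵀ v = v ⬝ (B Mᵀ M B) v = 8 (v ⬝ B v)`.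
-/
import Mathlib

set_option autoImplicit false

namespace Cfsg.Agent.Lib.H5.LC

open Matrix

/-- for square integer matrices `A * C = c • 1` (`c ≠ 0`) implies `C * A = c • 1` -/
theorem mul_comm_of_mul_eq_smul_one {n : Type*} [Fintype n] [DecidableEq n] (A C : Matrix n n ℤ) (c : ℤ)
    (hc : c ≠ 0) (h : A * C = c • (1 : Matrix n n ℤ)) : C * A = c • (1 : Matrix n n ℤ) := by
  have hinj : Function.Injective (fun N : Matrix n n ℤ => N.map (Int.castRingHom ℚ)) := by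
    intro N N' hNN
    ext i j
    have := congrFun (congrFun hNN i) j
    simp only [Matrix.map_apply, Int.coe_castRingHom] at this
    exact_mod_cast this
  apply hinj
  show (C * A).map (Int.castRingHom ℚ) = (c • (1 : Matrix n n ℤ)).map (Int.castRingHom ℚ)
  have h1 : (A * C).map (Int.castRingHom ℚ) = (c • (1 : Matrix n n ℤ)).map (Int.castRingHom ℚ) := by
    rw [h]
  rw [Matrix.map_mul] at h1 ⊢
  have h2 : (c • (1 : Matrix n n ℤ)).map (Int.castRingHom ℚ) = (c : ℚ) • (1 : Matrix n n ℚ) := by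
    ext i j
    rw [Matrix.map_apply, Matrix.smul_apply, Matrix.smul_apply, Matrix.one_apply, Matrix.one_apply]
    split_ifs <;> simp
  rw [h2] at h1 ⊢
  set Aq := A.map (Int.castRingHom ℚ) with hAq
  set Cq := C.map (Int.castRingHom ℚ) with hCq
  have hcq : (c : ℚ) ≠ 0 := by exact_mod_cast hc
  have h3 : Aq * ((c : ℚ)⁻¹ • Cq) = 1 := by
    rw [Matrix.mul_smul, h1, smul_smul, inv_mul_cancel₀ hcq, one_smul]
  have h4 : ((c : ℚ)⁻¹ • Cq) * Aq = 1 := _root_.mul_eq_one_comm.1 h3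
  rw [Matrix.smul_mul] at h4
  have h5 : (c : ℚ) • ((c : ℚ)⁻¹ • (Cq * Aq)) = (c : ℚ) • (1 : Matrix n n ℚ) := by rw [h4]
  rwa [smul_smul, mul_inv_cancel₀ hcq, one_smul] at h5

theorem parseval (B : Matrix (Fin 24) (Fin 24) ℤ) (hsymm : B.IsSymm) (X : Fin 24 → (Fin 24 → ℤ))
    (h8 : ∀ i, X i ⬝ᵥ (B *ᵥ X i) = 8) (h0 : ∀ i j, i ≠ j → X i ⬝ᵥ (B *ᵥ X j) = 0)
    (v : Fin 24 → ℤ) : ∑ i, (v ⬝ᵥ (B *ᵥ X i)) ^ 2 = 8 * (v ⬝ᵥ (B *ᵥ v)) := by
  let M : Matrix (Fin 24) (Fin 24) ℤ := Matrix.of X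
  have hcol : ∀ j, B *ᵥ X j = fun k => (B * Mᵀ) k j := by
    intro j
    funext k
    simp only [Matrix.mulVec, dotProduct, Matrix.mul_apply, Matrix.transpose_apply, M, Matrix.of_apply]
  have hMB : M * (B * Mᵀ) = (8 : ℤ) • (1 : Matrix (Fin 24) (Fin 24) ℤ) := by
    ext i j
    have h1 : (M * (B * Mᵀ)) i j = X i ⬝ᵥ (B *ᵥ X j) := by
      rw [hcol j]
      simp only [Matrix.mul_apply, dotProduct, M, Matrix.of_apply]
    rw [h1, Matrix.smul_apply, Matrix.one_apply]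
    by_cases hij : i = j
    · subst hij
      rw [h8, if_pos rfl]; rfl
    · rw [h0 i j hij, if_neg hij]; simp
  have hBM : (B * Mᵀ) * M = (8 : ℤ) • (1 : Matrix (Fin 24) (Fin 24) ℤ) :=
    mul_comm_of_mul_eq_smul_one M (B * Mᵀ) 8 (by norm_num) hMB
  -- the left side
  have hl : ∀ i, v ⬝ᵥ (B *ᵥ X i) = (v ᵥ* (B * Mᵀ)) i := by
    intro i
    rw [hcol i]
    simp only [dotProduct, Matrix.vecMul]
  have h1 : ∑ i, (v ⬝ᵥ (B *ᵥ X i)) ^ 2 = (v ᵥ* (B * Mᵀ)) ⬝ᵥ (v ᵥ* (B * Mᵀ)) := by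
    have h9 : ∀ i, (v ⬝ᵥ (B *ᵥ X i)) ^ 2 = (v ᵥ* (B * Mᵀ)) i * (v ᵥ* (B * Mᵀ)) i :=
      fun i => by rw [hl i, sq]
    simp only [h9]
    rfl
  rw [h1]
  have h2 : (v ᵥ* (B * Mᵀ)) ⬝ᵥ (v ᵥ* (B * Mᵀ)) = v ⬝ᵥ (((B * Mᵀ) * (B * Mᵀ)ᵀ) *ᵥ v) := by
    rw [← Matrix.mulVec_mulVec, ← Matrix.dotProduct_mulVec, Matrix.mulVec_transpose]
  rw [h2]
  have h3 : (B * Mᵀ) * (B * Mᵀ)ᵀ = (8 : ℤ) • B := by
    rw [Matrix.transpose_mul, Matrix.transpose_transpose, hsymm.eq, ← Matrix.mul_assoc, hBM,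
      Matrix.smul_mul, Matrix.one_mul]
  rw [h3, Matrix.smul_mulVec, dotProduct_smul, smul_eq_mul]

end Cfsg.Agent.Lib.H5.LC
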