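import Mathlib
import Cfsg.Agent.Lib.H1.SchurZassenhaus

/-!
# S4756 piece BW2 (helper5): elements outside a normal Sylow subgroup act fixed point freely
-/

set_option autoImplicit false

open Pointwise

namespace Cfsg.Agent.Lib.H5.MUL

/-- BW2: `P` a normal Sylow `p`-subgroup, `G = A P` with `A` a `p'`-group, `D ≤ P` normal in `G` on
which every `1 ≠ a ∈ A` acts fixed-point-freely.  Then every `g ∉ P` centralizes no nonidentity
element of `D`. -/
theorem eq_one_of_commute_of_not_mem {G : Type*} [Group G] [Finite G] (p : ℕ) [Fact p.Prime]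
    (P : Sylow p G) (A D : Subgroup G) (hPn : (P : Subgroup G).Normal)
    (hcop : (Nat.card ↥A).Coprime p) (hsup : A ⊔ (P : Subgroup G) = ⊤)
    (hDn : D.Normal) (hDP : D ≤ (P : Subgroup G))
    (hfpf : ∀ a ∈ A, a ≠ 1 → ∀ d ∈ D, a * d = d * a → d = 1)
    (g : G) (hg : g ∉ (P : Subgroup G)) (d : G) (hd : d ∈ D) (hcomm : g * d = d * g) : d = 1 := by
  haveI := hPn
  have hPi : Nat.Coprime (Nat.card (P : Subgroup G)) (P : Subgroup G).index :=
    P.card_coprime_index
  obtain ⟨k, hk⟩ : ∃ k : G, k = g ^ Nat.card (P : Subgroup G) := ⟨_, rfl⟩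
  have hkpow : k ^ (P : Subgroup G).index = 1 := by
    rw [hk, ← pow_mul, Subgroup.card_mul_index, pow_card_eq_one']
  have hk1 : k ≠ 1 := by
    intro h1
    apply hg
    have h2 : (QuotientGroup.mk' (P : Subgroup G) g) ^ Nat.card (P : Subgroup G) = 1 := by
      rw [← map_pow, ← hk, h1, map_one]
    have h3 : (QuotientGroup.mk' (P : Subgroup G) g) ^ (P : Subgroup G).index = 1 := by
      rw [Subgroup.index_eq_card]; exact pow_card_eq_one'
    have h4 := Nat.dvd_gcd (orderOf_dvd_of_pow_eq_one h2) (orderOf_dvd_of_pow_eq_one h3)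
    rw [hPi.gcd_eq_one, Nat.dvd_one, orderOf_eq_one_iff, QuotientGroup.mk'_apply,
      QuotientGroup.eq_one_iff] at h4
    exact h4
  have hKcard : Nat.card (Subgroup.zpowers k) ∣ (P : Subgroup G).index := by
    rw [Nat.card_zpowers]; exact orderOf_dvd_of_pow_eq_one hkpow
  have hcopK : (Nat.card (P : Subgroup G)).Coprime (Nat.card (Subgroup.zpowers k)) :=
    Nat.Coprime.coprime_dvd_right hKcard hPi
  have hdK : Disjoint (P : Subgroup G) (Subgroup.zpowers k) := by
    rw [disjoint_iff]; exact Subgroup.inf_eq_bot_of_coprime hcopK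
  have hcopA : (Nat.card (P : Subgroup G)).Coprime (Nat.card A) := by
    obtain ⟨n, hn⟩ := IsPGroup.iff_card.mp P.isPGroup'
    rw [hn]; exact Nat.Coprime.pow_left n hcop.symm
  have hdA : Disjoint (P : Subgroup G) A := by
    rw [disjoint_iff]; exact Subgroup.inf_eq_bot_of_coprime hcopA
  have hsupeq : (P : Subgroup G) ⊔ Subgroup.zpowers k
      = (P : Subgroup G) ⊔ (A ⊓ ((P : Subgroup G) ⊔ Subgroup.zpowers k)) := by
    apply le_antisymm
    · intro x hx
      have hxt : x ∈ A ⊔ (P : Subgroup G) := by rw [hsup]; exact Subgroup.mem_top x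
      rw [← SetLike.mem_coe, Subgroup.mul_normal, Set.mem_mul] at hxt
      obtain ⟨a, ha, u, hu, rfl⟩ := hxt
      have haL : a ∈ (P : Subgroup G) ⊔ Subgroup.zpowers k := by
        have h : a = a * u * u⁻¹ := by group
        rw [h]
        exact Subgroup.mul_mem _ hx (Subgroup.inv_mem _ (Subgroup.mem_sup_left hu))
      have h : a * u = (a * u * a⁻¹) * a := by group
      rw [h]
      exact Subgroup.mul_mem_sup (hPn.conj_mem u hu a) ⟨ha, haL⟩
    · exact sup_le le_sup_left inf_le_right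
  have hnorm : ∀ H : Subgroup G, H ≤ Subgroup.normalizer ((P : Subgroup G) : Set G) := by
    intro H; rw [Subgroup.normalizer_eq_top]; exact le_top
  have hsolv : Group.IsSolvable (Subgroup.zpowers k) :=
    isSolvable_of_comm (fun a b => mul_comm' a b)
  obtain ⟨n, hn, hconj⟩ := Cfsg.Agent.Lib.H1.sz_conj_internal (N := (P : Subgroup G))
    (H := Subgroup.zpowers k) (K := A ⊓ ((P : Subgroup G) ⊔ Subgroup.zpowers k))
    (hnorm _) (hnorm _) hcopK hdK (hdA.mono_right inf_le_left) hsupeq (Or.inr hsolv)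
  have hk_mem : n * k * n⁻¹ ∈ A := by
    have h1 : MulAut.conj n • k ∈ MulAut.conj n • Subgroup.zpowers k :=
      Subgroup.smul_mem_pointwise_smul _ _ _ (Subgroup.mem_zpowers k)
    rw [hconj] at h1
    have h2 : MulAut.conj n • k = n * k * n⁻¹ := by rw [MulAut.smul_def, MulAut.conj_apply]
    rw [h2] at h1
    exact h1.1
  have hne : n * k * n⁻¹ ≠ 1 := by
    intro h; apply hk1
    have h' : k = n⁻¹ * (n * k * n⁻¹) * n := by group
    rw [h', h]; group
  have hdk : k * d = d * k := by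
    rw [hk]
    exact (Commute.pow_left (show Commute g d from hcomm) _).eq
  have hd' : n * d * n⁻¹ ∈ D := hDn.conj_mem d hd n
  have hc : n * k * n⁻¹ * (n * d * n⁻¹) = n * d * n⁻¹ * (n * k * n⁻¹) := by
    have e1 : n * k * n⁻¹ * (n * d * n⁻¹) = n * (k * d) * n⁻¹ := by group
    have e2 : n * d * n⁻¹ * (n * k * n⁻¹) = n * (d * k) * n⁻¹ := by group
    rw [e1, e2, hdk]
  have h1 := hfpf _ hk_mem hne _ hd' hc
  have h' : d = n⁻¹ * (n * d * n⁻¹) * n := by group
  rw [h', h1]; group

end Cfsg.Agent.Lib.H5.MUL
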