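import Mathlib

/-!
# S4756 piece BW4 (helper5): elements of coprime prime power orders and a normal `p`-subgroup
-/

set_option autoImplicit false

namespace Cfsg.Agent.Lib.H5.MUL

/-- BW4: `P` a normal `p`-subgroup, `x ≠ 1` an `r`-element with `r ≠ p`, `y` an `s`-element with
`s ≠ r`.  Then `x ∉ P`, `x * y ∉ P` and `y * x ∉ P`. -/
theorem not_mem_of_prime_pow_order {G : Type*} [Group G] [Finite G] (p : ℕ) (hp : p.Prime)
    (P : Subgroup G) (hPn : P.Normal) (hP : IsPGroup p ↥P) (x y : G) (hx : x ≠ 1)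
    (r s a b : ℕ) (hr : r.Prime) (hs : s.Prime) (hrs : r ≠ s) (hrp : r ≠ p)
    (hxo : orderOf x = r ^ a) (hyo : orderOf y = s ^ b) :
    x ∉ P ∧ x * y ∉ P ∧ y * x ∉ P := by
  have hxP : x ∉ P := by
    intro hxP
    obtain ⟨k, hk⟩ := hP ⟨x, hxP⟩
    have h1 : x ^ (p ^ k) = 1 := congrArg Subtype.val hk
    have h2 : orderOf x ∣ p ^ k := orderOf_dvd_of_pow_eq_one h1
    rw [hxo] at h2
    have h3 : Nat.Coprime (r ^ a) (p ^ k) :=
      Nat.Coprime.pow a k ((Nat.coprime_primes hr hp).mpr hrp)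
    have h4 : r ^ a = 1 := Nat.Coprime.eq_one_of_dvd h3 h2
    exact hx (orderOf_eq_one_iff.mp (hxo.trans h4))
  have key : (QuotientGroup.mk' P x) = (QuotientGroup.mk' P y)⁻¹ → x ∈ P := by
    intro h
    have h1 : orderOf (QuotientGroup.mk' P x) ∣ r ^ a := hxo ▸ orderOf_map_dvd _ x
    have h2 : orderOf (QuotientGroup.mk' P x) ∣ s ^ b := by
      rw [h, orderOf_inv]; exact hyo ▸ orderOf_map_dvd _ y
    have h3 : Nat.Coprime (r ^ a) (s ^ b) :=
      Nat.Coprime.pow a b ((Nat.coprime_primes hr hs).mpr hrs)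
    have h4 := Nat.dvd_gcd h1 h2
    rw [h3.gcd_eq_one, Nat.dvd_one, orderOf_eq_one_iff, QuotientGroup.mk'_apply,
      QuotientGroup.eq_one_iff] at h4
    exact h4
  refine ⟨hxP, fun h => hxP (key ?_), fun h => hxP (key ?_)⟩
  · have h1 : QuotientGroup.mk' P (x * y) = 1 := by
      rw [QuotientGroup.mk'_apply, QuotientGroup.eq_one_iff]; exact h
    rw [map_mul] at h1
    exact eq_inv_of_mul_eq_one_left h1
  · have h1 : QuotientGroup.mk' P (y * x) = 1 := by
      rw [QuotientGroup.mk'_apply, QuotientGroup.eq_one_iff]; exact h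
    rw [map_mul] at h1
    exact eq_inv_of_mul_eq_one_right h1

end Cfsg.Agent.Lib.H5.MUL
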