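import Mathlib

set_option autoImplicit false

/-!
# S2047 piece CONJ (helper6 architect): conjugates of lifts agree modulo `Z₀`.
-/

namespace Cfsg.Agent.Lib.H5.McLM

/-- CONJ -/
theorem conj_mem {Γ G : Type*} [Group Γ] [Group G] (σ : Γ →* G) (hc : σ.ker ≤ Subgroup.center Γ)
    (Z₀ : Subgroup Γ) (hZ : Z₀ ≤ σ.ker) {N p : ℕ} (hN : ∀ z ∈ σ.ker, z ^ N = 1) (hp : Nat.Coprime p N)
    (g u u' : Γ) (hu : u ^ p ∈ Z₀) (hu' : u' ^ p ∈ Z₀) (h : σ (g⁻¹ * u * g) = σ u') :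
    g⁻¹ * u * g * u'⁻¹ ∈ Z₀ := by
  obtain ⟨z, hz⟩ : ∃ z : Γ, z = g⁻¹ * u * g * u'⁻¹ := ⟨_, rfl⟩
  rw [← hz]
  have hzk : z ∈ σ.ker := by
    rw [MonoidHom.mem_ker, hz, map_mul, h, map_inv, mul_inv_cancel]
  have hzc : ∀ x : Γ, x * z = z * x := Subgroup.mem_center_iff.1 (hc hzk)
  have h1 : g⁻¹ * u * g = z * u' := by rw [hz]; group
  have hup : ∀ x : Γ, x * u ^ p = u ^ p * x := Subgroup.mem_center_iff.1 (hc (hZ hu))
  have h2 : (g⁻¹ * u * g) ^ p = u ^ p := by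
    have h3 : (g⁻¹ * u * g) ^ p = g⁻¹ * u ^ p * g := by
      have := conj_pow (a := g⁻¹) (b := u) (i := p)
      rwa [inv_inv] at this
    rw [h3, mul_assoc, ← hup g, inv_mul_cancel_left]
  have h3 : (z * u') ^ p = z ^ p * u' ^ p := (show Commute z u' from (hzc u').symm).mul_pow p
  have hzp : z ^ p ∈ Z₀ := by
    have : z ^ p = u ^ p * (u' ^ p)⁻¹ := by
      rw [eq_mul_inv_iff_mul_eq, ← h3, ← h1, h2]
    rw [this]
    exact Z₀.mul_mem hu (Z₀.inv_mem hu')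
  have hzN : z ^ N = 1 := hN z hzk
  have hb := Nat.gcd_eq_gcd_ab p N
  rw [hp.gcd_eq_one] at hb
  have : z = (z ^ p) ^ (Nat.gcdA p N) := by
    calc z = z ^ (1 : ℤ) := (zpow_one z).symm
      _ = z ^ ((p : ℤ) * Nat.gcdA p N + (N : ℤ) * Nat.gcdB p N) := by
          rw [← hb]; norm_num
      _ = (z ^ p) ^ (Nat.gcdA p N) * (z ^ N) ^ (Nat.gcdB p N) := by
          rw [zpow_add, zpow_mul, zpow_mul, zpow_natCast, zpow_natCast]
      _ = (z ^ p) ^ (Nat.gcdA p N) := by rw [hzN, one_zpow, mul_one]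
  rw [this]
  exact Z₀.zpow_mem hzp _

end Cfsg.Agent.Lib.H5.McLM
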