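import Cfsg.Agent.Lib.H6.McLM.Glue
import Cfsg.Prelude.Def_KGroupFacts

set_option autoImplicit false

/-!
# S2047 piece CORE4 (helper6 architect): the counting argument for the stage 3 certificate.
-/

namespace Cfsg.Agent.Lib.H5.McLM

open Cfsg.Agent.Lib.H6.McLM

theorem map_gl {Γ Δ : Type*} [Group Γ] [Group Δ] (f : Γ →* Δ) (a b c d : Γ) (x : ℕ) :
    f (gl a b c d x) = gl (f a) (f b) (f c) (f d) x := by
  unfold gl
  split <;> simp

theorem map_wv {Γ Δ : Type*} [Group Γ] [Group Δ] (f : Γ →* Δ) (a b c d : Γ) (w : List ℕ) :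
    f (wv a b c d w) = wv (f a) (f b) (f c) (f d) w := by
  unfold wv
  rw [map_list_prod, List.map_map]
  congr 1
  apply List.map_congr_left
  intro x _
  exact map_gl f a b c d x

/-- CORE4 -/
theorem core4 {Γ G : Type*} [Group Γ] [Group G] (σ : Γ →* G) (hs : Function.Surjective σ)
    (hG : Nat.card G = 898128000) (a b c d : Γ) (Z₀ : Subgroup Γ) [Finite Z₀]
    (hZ : Z₀ ≤ σ.ker ⊓ Subgroup.center Γ)
    (hH : Nat.card (Subgroup.closure ({σ a, σ b, σ c} : Set G)) = 3265920)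
    (hinj : ∀ x ∈ Subgroup.closure ({a, b, c} : Set Γ), σ x = 1 → x ∈ Z₀)
    (hex : ∀ w ∈ Cert.exactL, wv a b c d w ∈ Z₀)
    (hcen : ∀ w ∈ Cert.symL ++ Cert.cenL, wv a b c d w ∈ σ.ker ⊓ Subgroup.center Γ)
    (hgen : Subgroup.closure ({a, b, c, d} : Set Γ) = ⊤) :
    Finite Γ ∧ σ.ker = Z₀ := by
  classical
  have hZker : Z₀ ≤ σ.ker := fun x hx => (hZ hx).1
  have hZn : Z₀.Normal := ⟨fun x hx g => by
    have hcen' := Subgroup.mem_center_iff.1 (hZ hx).2
    have : g * x * g⁻¹ = x := by rw [hcen' g, mul_inv_cancel_right]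
    rw [this]; exact hx⟩
  obtain ⟨π, hπ⟩ : ∃ π : Γ →* Γ ⧸ Z₀, π = QuotientGroup.mk' Z₀ := ⟨_, rfl⟩
  have hπs : Function.Surjective π := hπ ▸ QuotientGroup.mk'_surjective Z₀
  have hπ1 : ∀ x : Γ, π x = 1 ↔ x ∈ Z₀ := fun x => by
    rw [hπ]; exact QuotientGroup.eq_one_iff x
  obtain ⟨σb, hσb⟩ : ∃ σb : Γ ⧸ Z₀ →* G, σb = QuotientGroup.lift Z₀ σ hZker := ⟨_, rfl⟩
  have hσbπ : ∀ x : Γ, σb (π x) = σ x := fun x => by
    rw [hσb, hπ]; exact QuotientGroup.lift_mk Z₀ hZker x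
  have hσbs : Function.Surjective σb := by
    intro g
    obtain ⟨x, hx⟩ := hs g
    exact ⟨π x, by rw [hσbπ, hx]⟩
  -- the images of the closures
  have himg3 : Subgroup.closure ({π a, π b, π c} : Set (Γ ⧸ Z₀))
      = (Subgroup.closure ({a, b, c} : Set Γ)).map π := by
    rw [MonoidHom.map_closure, Set.image_insert_eq, Set.image_insert_eq, Set.image_singleton]
  have himg4 : Subgroup.closure ({π a, π b, π c, π d} : Set (Γ ⧸ Z₀))
      = (Subgroup.closure ({a, b, c, d} : Set Γ)).map π := by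
    rw [MonoidHom.map_closure, Set.image_insert_eq, Set.image_insert_eq, Set.image_insert_eq,
      Set.image_singleton]
  -- `σb` is injective on `⟨ā, b̄, c̄⟩`
  have hinjb : ∀ y ∈ Subgroup.closure ({π a, π b, π c} : Set (Γ ⧸ Z₀)), σb y = 1 → y = 1 := by
    intro y hy hy1
    rw [himg3] at hy
    obtain ⟨x, hx, rfl⟩ := Subgroup.mem_map.1 hy
    rw [hσbπ] at hy1
    exact (hπ1 x).2 (hinj x hx hy1)
  have hS : Setting (π a) (π b) (π c) (π d) (σb.ker ⊓ Subgroup.center (Γ ⧸ Z₀)) := by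
    refine ⟨inf_le_right, ?_, ?_, ?_, ?_⟩
    · intro y hy hyA
      exact hinjb y hy (MonoidHom.mem_ker.1 hyA.1)
    · intro w hw
      rw [← map_wv]
      exact (hπ1 _).2 (hex w hw)
    · intro w hw
      rw [← map_wv]
      have h1 := Subgroup.mem_inf.1 (hcen w hw)
      refine Subgroup.mem_inf.2 ⟨?_, ?_⟩
      · rw [MonoidHom.mem_ker, hσbπ]
        exact MonoidHom.mem_ker.1 h1.1
      · rw [Subgroup.mem_center_iff]
        intro y
        obtain ⟨x, rfl⟩ := hπs y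
        rw [← map_mul, ← map_mul, Subgroup.mem_center_iff.1 h1.2 x]
    · rw [himg4, hgen, ← MonoidHom.range_eq_map, MonoidHom.range_eq_top]
      exact hπs
  obtain ⟨hfinQ, hcardQ⟩ := mono_main hS
  -- the order of `⟨ā, b̄, c̄⟩`
  obtain ⟨Hb, hHb⟩ : ∃ Hb : Subgroup (Γ ⧸ Z₀), Hb = Subgroup.closure ({π a, π b, π c} : Set (Γ ⧸ Z₀)) :=
    ⟨_, rfl⟩
  rw [← hHb] at hfinQ hcardQ hinjb
  have hmapHb : Hb.map σb = Subgroup.closure ({σ a, σ b, σ c} : Set G) := by
    rw [hHb, MonoidHom.map_closure, Set.image_insert_eq, Set.image_insert_eq, Set.image_singleton,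
      hσbπ, hσbπ, hσbπ]
  have hbij : Function.Bijective (σb.subgroupMap Hb) := by
    refine ⟨?_, MonoidHom.subgroupMap_surjective σb Hb⟩
    rw [injective_iff_map_eq_one]
    intro y hy
    have h1 : σb (y : Γ ⧸ Z₀) = 1 := congrArg Subtype.val hy
    exact Subtype.ext (hinjb y y.2 h1)
  have hcardHb : Nat.card ↥Hb = 3265920 := by
    rw [Nat.card_congr (Equiv.ofBijective _ hbij), hmapHb, hH]
  have hfinHb : Finite ↥Hb := Nat.finite_of_card_ne_zero (by rw [hcardHb]; norm_num)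
  have hfinΓb : Finite (Γ ⧸ Z₀) :=
    Finite.of_equiv _ (Subgroup.groupEquivQuotientProdSubgroup (s := Hb)).symm
  have hcardΓb : Nat.card (Γ ⧸ Z₀) ≤ Nat.card G := by
    rw [Subgroup.card_eq_card_quotient_mul_card_subgroup Hb, hcardHb, hG]
    calc Nat.card ((Γ ⧸ Z₀) ⧸ Hb) * 3265920 ≤ 275 * 3265920 := Nat.mul_le_mul_right _ hcardQ
      _ = 898128000 := by norm_num
  have hσbinj : Function.Injective σb := (hσbs.bijective_of_nat_card_le hcardΓb).1
  refine ⟨Finite.of_equiv _ (Subgroup.groupEquivQuotientProdSubgroup (s := Z₀)).symm, ?_⟩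
  apply le_antisymm
  · intro x hx
    have h1 : σb (π x) = σb 1 := by rw [hσbπ, map_one]; exact MonoidHom.mem_ker.1 hx
    exact (hπ1 x).1 (hσbinj h1)
  · exact hZker

end Cfsg.Agent.Lib.H5.McLM
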