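import Mathlib
import Cfsg.Prelude.Def_KGroupFacts

set_option autoImplicit false

/-!
# S2047 piece RESTRICT (helper6 architect): restriction of a stem extension to a perfect subgroup.
-/

namespace Cfsg.Agent.Lib.H5.McLM

open scoped commutatorElement

theorem comm_mul_central_left {Γ : Type*} [Group Γ] (a b z : Γ) (hz : ∀ x : Γ, x * z = z * x) :
    ⁅a * z, b⁆ = ⁅a, b⁆ := by
  rw [commutatorElement_def, commutatorElement_def]
  calc a * z * b * (a * z)⁻¹ * b⁻¹ = a * (z * b) * z⁻¹ * a⁻¹ * b⁻¹ := by group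
    _ = a * (b * z) * z⁻¹ * a⁻¹ * b⁻¹ := by rw [hz b]
    _ = a * b * a⁻¹ * b⁻¹ := by group

theorem comm_mul_central_right {Γ : Type*} [Group Γ] (a b z : Γ) (hz : ∀ x : Γ, x * z = z * x) :
    ⁅a, b * z⁆ = ⁅a, b⁆ := by
  rw [commutatorElement_def, commutatorElement_def]
  calc a * (b * z) * a⁻¹ * (b * z)⁻¹ = a * b * (z * a⁻¹) * z⁻¹ * b⁻¹ := by group
    _ = a * b * (a⁻¹ * z) * z⁻¹ * b⁻¹ := by rw [hz a⁻¹]
    _ = a * b * a⁻¹ * b⁻¹ := by group

/-- RESTRICT -/
theorem stem_restrict {Γ G : Type*} [Group Γ] [Group G] [Finite Γ] (σ : Γ →* G)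
    (hσ : Cfsg.IsStemExtension σ) (H : Subgroup G) (hH : commutator ↥H = ⊤) :
    ∃ (L : Subgroup Γ) (τ : ↥L →* ↥H), Cfsg.IsStemExtension τ ∧
      ∀ x : ↥L, ((τ x : ↥H) : G) = σ (x : Γ) := by
  obtain ⟨hs, hc, hd⟩ := hσ
  have hperf : ⁅H, H⁆ = H := by
    rw [← Subgroup.map_subtype_commutator, hH, ← MonoidHom.range_eq_map, Subgroup.range_subtype]
  obtain ⟨P, hP⟩ : ∃ P : Subgroup Γ, P = H.comap σ := ⟨_, rfl⟩
  obtain ⟨L, hL⟩ : ∃ L : Subgroup Γ, L = ⁅P, P⁆ := ⟨_, rfl⟩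
  have hLP : L ≤ P := by
    rw [hL, Subgroup.commutator_le]
    intro g1 h1 g2 h2
    rw [commutatorElement_def]
    exact P.mul_mem (P.mul_mem (P.mul_mem h1 h2) (P.inv_mem h1)) (P.inv_mem h2)
  have hmapL : L.map σ = H := by
    rw [hL, Subgroup.map_commutator, hP, Subgroup.map_comap_eq_self_of_surjective hs, hperf]
  have hLH : ∀ x : ↥L, σ (x : Γ) ∈ H := fun x => by
    have := hLP x.2
    rw [hP] at this
    exact this
  -- decomposition of elements of `P`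
  have hdec : ∀ x ∈ P, ∃ y ∈ L, ∃ z ∈ σ.ker, x = y * z := by
    intro x hx
    have h1 : σ x ∈ L.map σ := by
      rw [hmapL]; rw [hP] at hx; exact hx
    obtain ⟨y, hy, hyx⟩ := Subgroup.mem_map.1 h1
    refine ⟨y, hy, y⁻¹ * x, ?_, by group⟩
    rw [MonoidHom.mem_ker, map_mul, map_inv, hyx, inv_mul_cancel]
  have hLL : ⁅L, L⁆ = L := by
    apply le_antisymm
    · rw [Subgroup.commutator_le]
      intro g1 h1 g2 h2
      rw [commutatorElement_def]
      exact L.mul_mem (L.mul_mem (L.mul_mem h1 h2) (L.inv_mem h1)) (L.inv_mem h2)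
    · conv_lhs => rw [hL]
      rw [Subgroup.commutator_le]
      intro x1 h1 x2 h2
      obtain ⟨y1, hy1, z1, hz1, rfl⟩ := hdec x1 h1
      obtain ⟨y2, hy2, z2, hz2, rfl⟩ := hdec x2 h2
      have c1 : ∀ x : Γ, x * z1 = z1 * x := Subgroup.mem_center_iff.1 (hc hz1)
      have c2 : ∀ x : Γ, x * z2 = z2 * x := Subgroup.mem_center_iff.1 (hc hz2)
      rw [comm_mul_central_left _ _ _ c1, comm_mul_central_right _ _ _ c2]
      exact Subgroup.commutator_mem_commutator hy1 hy2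
  have hLtop : commutator ↥L = ⊤ := by
    apply Subgroup.map_injective (Subgroup.subtype_injective L)
    rw [Subgroup.map_subtype_commutator, hLL, ← MonoidHom.range_eq_map, Subgroup.range_subtype]
  refine ⟨L, (σ.comp L.subtype).codRestrict H hLH, ⟨?_, ?_, ?_⟩, fun x => rfl⟩
  · rintro ⟨g, hg⟩
    have h1 : g ∈ L.map σ := by rw [hmapL]; exact hg
    obtain ⟨y, hy, hyg⟩ := Subgroup.mem_map.1 h1
    exact ⟨⟨y, hy⟩, Subtype.ext hyg⟩
  · intro x hx
    have h1 : σ (x : Γ) = 1 := by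
      have := MonoidHom.mem_ker.1 hx
      exact congrArg Subtype.val this
    have h2 := Subgroup.mem_center_iff.1 (hc (MonoidHom.mem_ker.2 h1))
    rw [Subgroup.mem_center_iff]
    intro y
    apply Subtype.ext
    exact h2 y.1
  · rw [hLtop]
    exact le_top

end Cfsg.Agent.Lib.H5.McLM
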