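import Mathlib
import Cfsg.Prelude.Def_Characters
import Cfsg.Agent.S1001
import Cfsg.Agent.Lib.H5.SimpleTools
import Cfsg.Agent.Lib.H5.Ord.GenTests

/-!
# S0977 piece (O1) `sylow_data` (helper5)

Sylow 5-data of a simple group of order 4320: a subgroup `K` of order 5 with `C_G(K) = K`
(`Cfsg.Agent.S1001.result 5 3 5`) and `|N_G(K)| = 20` (`N/C` embeds in `Aut(C_5)`, `n_5 ≡ 1 (mod 5)`).
-/

set_option autoImplicit false

namespace Cfsg.Agent.Lib.H5.O4320
open Cfsg
open scoped BigOperators
universe u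

theorem sylow_data {G : Type u} [Group G] [Finite G] [IsSimpleGroup G] (hG : Nat.card G = 4320) :
    ∃ K : Subgroup G, Nat.card K = 5 ∧ Subgroup.centralizer (K : Set G) = K ∧
      Nat.card (Subgroup.normalizer (K : Set G)) = 20 := by
  haveI : Fact (Nat.Prime 5) := ⟨by norm_num⟩
  have hnc : ¬ IsMulCommutative G :=
    Cfsg.Agent.Lib.H5.not_isMulCommutative_of_card_not_prime (by rw [hG]; norm_num)
  obtain ⟨P⟩ : Nonempty (Sylow 5 G) := inferInstance
  obtain ⟨h1, h2, h3, h4, h5, h6, h7, h8, hP, hNd, hNtop, hPC, hcr, -⟩ :=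
    Cfsg.Agent.Lib.H5.GenTests.prime_data_explicit hnc hG (p := 5) (m := 864)
      (by norm_num) (by norm_num) (by norm_num) P
  -- a generator of `P`
  have hnt : Nontrivial (P : Subgroup G) := by
    rw [← Finite.one_lt_card_iff_nontrivial, hP]; norm_num
  obtain ⟨⟨x, hxP⟩, hx1⟩ := exists_ne (1 : (P : Subgroup G))
  have hx1' : x ≠ 1 := fun h => hx1 (Subtype.ext h)
  have hox : orderOf x = 5 := by
    have hdvd : orderOf x ∣ 5 := by
      have := Subgroup.orderOf_dvd_natCard (P : Subgroup G) hxP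
      rwa [hP] at this
    rcases (Nat.dvd_prime (by norm_num : Nat.Prime 5)).mp hdvd with h | h
    · exact absurd (orderOf_eq_one_iff.mp h) hx1'
    · exact h
  have hzP : Subgroup.zpowers x = (P : Subgroup G) := by
    apply Subgroup.eq_of_le_of_card_ge (Subgroup.zpowers_le.mpr hxP)
    rw [Nat.card_zpowers, hox, hP]
  have hcx : Subgroup.centralizer ({x} : Set G) = Subgroup.zpowers x :=
    Cfsg.Agent.S1001.result 5 3 5 (by norm_num) (by rw [hG]; norm_num) x hox
  have hCeq : Subgroup.centralizer (((P : Subgroup G)) : Set G) = (P : Subgroup G) := by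
    apply le_antisymm
    · intro y hy
      rw [← hzP, ← hcx]
      rw [Subgroup.mem_centralizer_iff] at hy ⊢
      intro z hz
      rw [Set.mem_singleton_iff] at hz
      rw [hz]
      exact hy x hxP
    · exact hPC
  refine ⟨(P : Subgroup G), hP, hCeq, ?_⟩
  have hC5 : Nat.card (Subgroup.centralizer (((P : Subgroup G)) : Set G)) = 5 := by
    rw [hCeq, hP]
  rw [hC5] at hcr
  obtain ⟨r, hr⟩ : ∃ r : ℕ, r = (Subgroup.centralizer (((P : Subgroup G)) : Set G)).relIndex
      (Subgroup.normalizer (((P : Subgroup G)) : Set G)) := ⟨_, rfl⟩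
  rw [← hr] at hcr h5 h6
  have hmem : r ∈ Nat.divisors 4 := Nat.mem_divisors.mpr ⟨h5, by norm_num⟩
  have hd : Nat.divisors 4 = {1, 2, 4} := by decide
  rw [hd] at hmem
  simp only [Finset.mem_insert, Finset.mem_singleton] at hmem
  rcases hmem with h | h | h
  · exact absurd h h6
  · exfalso
    rw [h] at hcr
    have hN10 : Nat.card (Subgroup.normalizer (((P : Subgroup G)) : Set G)) = 10 := by omega
    rw [hN10] at hNd
    omega
  · rw [h] at hcr
    omega

end Cfsg.Agent.Lib.H5.O4320
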