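import Mathlib
import Cfsg.Prelude.Def_Transfer
import Cfsg.Agent.Lib.L0.TateGeneral
import Cfsg.Agent.Lib.H14.PIrr

/-!
# S4930 pieces P4c + P4d + P4e (helper5): the normal complement of the Sylow normalizer

`exists_normal_complement_of_focal`: `P` a Sylow `p`-subgroup of `G`, `L`, `K0` normal subgroups with
`P ≤ L`, `K0 ≤ L`, `N_G(P) ⊓ L = P` and `K0 ⊓ P = P'`.  Then `N_G(P)` has a normal complement in `G`.
Route: the image of `P` in `L / K0` is an abelian self-normalizing Sylow subgroup, so Burnside's transfer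
theorem gives `L' ⊓ P ≤ K0 ⊓ P = P'`; Tate's theorem (`L0.tate_general`) gives `O^p(L) ⊓ P = ⊥`; `O^p(L)` is
normal in `G` and complements `N_G(P)` by the Frattini argument.
-/

set_option autoImplicit false
set_option maxHeartbeats 400000

namespace Cfsg.Agent.Lib.H5.OD

open Subgroup
open scoped commutatorElement

variable {Γ : Type*} [Group Γ] [Finite Γ] {p : ℕ} [Fact p.Prime]

/-- A subgroup `H` containing the self-normalizing Sylow subgroup `Q` is self-normalizing. -/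
theorem normalizer_le_of_sylow_le (Q : Sylow p Γ) (hself : normalizer ((Q : Subgroup Γ) : Set Γ) ≤ Q)
    (H : Subgroup Γ) (hQH : (Q : Subgroup Γ) ≤ H) : normalizer (H : Set Γ) ≤ H := by
  intro y hy
  -- `y • Q ≤ H`
  have hyQ : ((y • Q : Sylow p Γ) : Subgroup Γ) ≤ H := by
    intro z hz
    rw [Sylow.coe_subgroup_smul, Subgroup.mem_pointwise_smul_iff_inv_smul_mem] at hz
    have h1 : y⁻¹ * z * y ∈ H := by
      have : (MulAut.conj y)⁻¹ • z = y⁻¹ * z * y := by
        simp [MulAut.smul_def, MulAut.conj_inv_apply]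
      rw [this] at hz
      exact hQH hz
    have h2 := (Subgroup.mem_normalizer_iff.mp hy (y⁻¹ * z * y)).mp h1
    have : y * (y⁻¹ * z * y) * y⁻¹ = z := by group
    rwa [this] at h2
  -- conjugate inside `H`
  obtain ⟨h, hh⟩ := MulAction.exists_smul_eq (↥H) (Q.subtype hQH) ((y • Q).subtype hyQ)
  rw [Sylow.smul_subtype hQH h] at hh
  have hh' : ((h : Γ) • Q : Sylow p Γ) = y • Q := Sylow.subtype_injective hh
  have h3 : ((h : Γ)⁻¹ * y) • Q = Q := by
    rw [mul_smul, ← hh', inv_smul_smul]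
  have h4 : (h : Γ)⁻¹ * y ∈ (Q : Subgroup Γ) := hself (Sylow.smul_eq_iff_mem_normalizer.mp h3)
  have h5 : (h : Γ)⁻¹ * y ∈ H := hQH h4
  have : y = (h : Γ) * ((h : Γ)⁻¹ * y) := by group
  rw [this]
  exact H.mul_mem h.2 h5

/-- Burnside in the quotient: if the Sylow subgroup `Q` is self-normalizing and `Q' ≤ K ⊴ Γ`,
then `Γ' ⊓ Q ≤ K`. -/
theorem commutator_inf_le_of_quot (Q : Sylow p Γ) (K : Subgroup Γ) [K.Normal]
    (hself : normalizer ((Q : Subgroup Γ) : Set Γ) ≤ Q)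
    (hQK : ⁅(Q : Subgroup Γ), (Q : Subgroup Γ)⁆ ≤ K) :
    commutator Γ ⊓ (Q : Subgroup Γ) ≤ K := by
  have hπ : Function.Surjective (QuotientGroup.mk' K) := QuotientGroup.mk'_surjective K
  obtain ⟨Qb, hQbdef⟩ : ∃ Qb : Sylow p (Γ ⧸ K), Qb = Q.mapSurjective hπ := ⟨_, rfl⟩
  have hQb : (Qb : Subgroup (Γ ⧸ K)) = (Q : Subgroup Γ).map (QuotientGroup.mk' K) := by
    rw [hQbdef]; exact Sylow.coe_mapSurjective hπ Q
  have hab : ∀ a ∈ (Qb : Subgroup (Γ ⧸ K)), ∀ b ∈ (Qb : Subgroup (Γ ⧸ K)), a * b = b * a := by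
    intro a ha b hb
    rw [hQb] at ha hb
    obtain ⟨x, hx, rfl⟩ := ha
    obtain ⟨y, hy, rfl⟩ := hb
    have hc : ⁅x, y⁆ ∈ K := hQK (Subgroup.commutator_mem_commutator hx hy)
    have h1 : (QuotientGroup.mk' K) ⁅x, y⁆ = 1 := (QuotientGroup.eq_one_iff _).mpr hc
    rw [map_commutatorElement] at h1
    exact commutatorElement_eq_one_iff_mul_comm.mp h1
  have hnorm : normalizer ((Qb : Subgroup (Γ ⧸ K)) : Set (Γ ⧸ K)) ≤ Qb := by
    intro ybar hy
    obtain ⟨y, rfl⟩ := hπ ybar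
    have h1 : y ∈ (normalizer ((((Q : Subgroup Γ).map (QuotientGroup.mk' K) : Subgroup (Γ ⧸ K))) :
        Set (Γ ⧸ K))).comap (QuotientGroup.mk' K) := by
      rw [← hQb]; exact hy
    rw [Subgroup.comap_normalizer_eq_of_surjective _ hπ, Subgroup.comap_map_eq,
      QuotientGroup.ker_mk'] at h1
    have h2 := normalizer_le_of_sylow_le Q hself ((Q : Subgroup Γ) ⊔ K) le_sup_left h1
    have h3 : (QuotientGroup.mk' K) y ∈ (((Q : Subgroup Γ) ⊔ K).map (QuotientGroup.mk' K)) :=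
      Subgroup.mem_map_of_mem _ h2
    rw [Subgroup.map_sup, QuotientGroup.map_mk'_self, sup_bot_eq] at h3
    rw [hQb]
    exact h3
  have hNC : normalizer ((Qb : Subgroup (Γ ⧸ K)) : Set (Γ ⧸ K)) ≤
      centralizer ((Qb : Subgroup (Γ ⧸ K)) : Set (Γ ⧸ K)) := by
    intro y hy
    have hyQ := hnorm hy
    rw [Subgroup.mem_centralizer_iff]
    intro z hz
    exact hab z hz y hyQ
  have hcomp := MonoidHom.ker_transferSylow_isComplement' Qb hNC
  have hdisj : Disjoint (MonoidHom.transferSylow Qb hNC).ker (Qb : Subgroup (Γ ⧸ K)) :=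
    hcomp.disjoint
  have hle : commutator Γ ≤ ((MonoidHom.transferSylow Qb hNC).ker).comap (QuotientGroup.mk' K) := by
    rw [_root_.commutator_def, Subgroup.commutator_le]
    intro a _ b _
    rw [Subgroup.mem_comap, MonoidHom.mem_ker, map_commutatorElement, map_commutatorElement,
      commutatorElement_eq_one_iff_mul_comm]
    apply Subtype.ext
    exact hab _ (Subtype.prop _) _ (Subtype.prop _)
  rintro x ⟨hxc, hxQ⟩
  have hker : (QuotientGroup.mk' K) x ∈ (MonoidHom.transferSylow Qb hNC).ker := hle hxc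
  have hQx : (QuotientGroup.mk' K) x ∈ (Qb : Subgroup (Γ ⧸ K)) := by
    rw [hQb]; exact Subgroup.mem_map_of_mem _ hxQ
  have h1 : (QuotientGroup.mk' K) x = 1 := Subgroup.disjoint_def.mp hdisj hker hQx
  exact (QuotientGroup.eq_one_iff x).mp h1

/-- `O^p` of a `p`-group is trivial. -/
theorem pResidual_eq_bot_of_isPGroup {H : Type*} [Group H] (hH : IsPGroup p H) :
    Cfsg.pResidual p H = ⊥ := by
  unfold Cfsg.pResidual
  rw [Subgroup.closure_eq_bot_iff]
  intro g hg
  obtain ⟨k, hk⟩ := hH g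
  have hdvd : orderOf g ∣ p ^ k := orderOf_dvd_of_pow_eq_one hk
  have hcop : Nat.Coprime (orderOf g) (p ^ k) := Nat.Coprime.pow_right k hg
  have h1 : orderOf g = 1 := Nat.Coprime.eq_one_of_dvd hcop hdvd
  exact orderOf_eq_one_iff.mp h1

/-- `O^p` is invariant under automorphisms. -/
theorem pResidual_map_mulEquiv {H : Type*} [Group H] (φ : H ≃* H) {x : H}
    (hx : x ∈ Cfsg.pResidual p H) : φ x ∈ Cfsg.pResidual p H := by
  have hle : Cfsg.pResidual p H ≤ (Cfsg.pResidual p H).comap φ.toMonoidHom := by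
    unfold Cfsg.pResidual
    rw [Subgroup.closure_le]
    intro g hg
    rw [SetLike.mem_coe, Subgroup.mem_comap]
    apply Subgroup.subset_closure
    show Nat.Coprime (orderOf (φ g)) p
    rw [MulEquiv.orderOf_eq]
    exact hg
  exact hle hx

/-- Tate: if `Γ' ⊓ Q ≤ Q'` for a Sylow `p`-subgroup `Q`, then `O^p(Γ) ⊓ Q = ⊥`. -/
theorem pResidual_inf_sylow_eq_bot (Q : Sylow p Γ)
    (hfoc : commutator Γ ⊓ (Q : Subgroup Γ) ≤ ⁅(Q : Subgroup Γ), (Q : Subgroup Γ)⁆) :
    Cfsg.pResidual p Γ ⊓ (Q : Subgroup Γ) = ⊥ := by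
  have h := Cfsg.Agent.Lib.L0.tate_general Q (Q : Subgroup Γ) le_rfl hfoc
  have hb : Cfsg.pResidual p ↥(Q : Subgroup Γ) = ⊥ := pResidual_eq_bot_of_isPGroup Q.2
  rw [hb, Subgroup.map_bot] at h
  exact le_bot_iff.mp h

/-- S4930, pieces P4c + P4d + P4e: the Sylow normalizer has a normal complement. -/
theorem exists_normal_complement_of_focal {G : Type*} [Group G] [Finite G] {p : ℕ} [Fact p.Prime]
    (P : Sylow p G) (L K0 : Subgroup G) [L.Normal] [K0.Normal]
    (hPL : (P : Subgroup G) ≤ L) (hK0L : K0 ≤ L)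
    (hNL : normalizer ((P : Subgroup G) : Set G) ⊓ L = P)
    (hK0P : K0 ⊓ (P : Subgroup G) =
      (commutator ↥(P : Subgroup G)).map (P : Subgroup G).subtype) :
    ∃ K : Subgroup G, K.Normal ∧ K ⊓ normalizer ((P : Subgroup G) : Set G) = ⊥ ∧
      K ⊔ normalizer ((P : Subgroup G) : Set G) = ⊤ := by
  obtain ⟨Q, hQdef⟩ : ∃ Q : Sylow p L, Q = P.subtype hPL := ⟨_, rfl⟩
  have hQ : (Q : Subgroup L) = (P : Subgroup G).subgroupOf L := by
    rw [hQdef]; exact Sylow.coe_subtype P hPL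
  have hself : normalizer ((Q : Subgroup L) : Set L) ≤ Q := by
    intro y hy
    rw [hQ] at hy ⊢
    rw [← Subgroup.subgroupOf_normalizer_eq hPL] at hy
    rw [Subgroup.mem_subgroupOf] at hy ⊢
    have h1 : (y : G) ∈ normalizer ((P : Subgroup G) : Set G) ⊓ L := ⟨hy, y.2⟩
    rw [hNL] at h1
    exact h1
  have hPP : ⁅(P : Subgroup G), (P : Subgroup G)⁆ = K0 ⊓ (P : Subgroup G) := by
    rw [hK0P, Subgroup.map_subtype_commutator]
  have hmapQ : (Q : Subgroup L).map L.subtype = (P : Subgroup G) := by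
    rw [hQ, Subgroup.subgroupOf_map_subtype, inf_eq_left.mpr hPL]
  have hmapK : (K0.subgroupOf L).map L.subtype = K0 := by
    rw [Subgroup.subgroupOf_map_subtype, inf_eq_left.mpr hK0L]
  have hmapC : (⁅(Q : Subgroup L), (Q : Subgroup L)⁆).map L.subtype =
      ⁅(P : Subgroup G), (P : Subgroup G)⁆ := by
    rw [Subgroup.map_commutator, hmapQ]
  have hQK : ⁅(Q : Subgroup L), (Q : Subgroup L)⁆ ≤ K0.subgroupOf L := by
    rw [← Subgroup.map_le_map_iff_of_injective L.subtype_injective, hmapC, hmapK, hPP]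
    exact inf_le_left
  have hKQ : K0.subgroupOf L ⊓ (Q : Subgroup L) ≤ ⁅(Q : Subgroup L), (Q : Subgroup L)⁆ := by
    rw [← Subgroup.map_le_map_iff_of_injective L.subtype_injective,
      Subgroup.map_inf _ _ _ L.subtype_injective, hmapC, hmapK, hmapQ, hPP]
  have hfoc : commutator L ⊓ (Q : Subgroup L) ≤ ⁅(Q : Subgroup L), (Q : Subgroup L)⁆ := by
    intro x hx
    exact hKQ ⟨commutator_inf_le_of_quot Q (K0.subgroupOf L) hself hQK hx, hx.2⟩
  have hbot := pResidual_inf_sylow_eq_bot Q hfoc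
  have hsup := Cfsg.Agent.Lib.H14.pResidual_sup_sylow Q
  refine ⟨(Cfsg.pResidual p L).map L.subtype, ?_, ?_, ?_⟩
  · constructor
    intro k hk g
    obtain ⟨x, hx, rfl⟩ := hk
    refine ⟨MulAut.conjNormal g x, pResidual_map_mulEquiv (MulAut.conjNormal g) hx, ?_⟩
    simp [MulAut.conjNormal_apply]
  · rw [eq_bot_iff]
    rintro z ⟨hzK, hzN⟩
    obtain ⟨x, hx, rfl⟩ := hzK
    have hxP : (x : G) ∈ (P : Subgroup G) := by
      have h1 : (x : G) ∈ normalizer ((P : Subgroup G) : Set G) ⊓ L := ⟨hzN, x.2⟩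
      rw [hNL] at h1
      exact h1
    have hxQ : x ∈ (Q : Subgroup L) := by
      rw [hQ, Subgroup.mem_subgroupOf]; exact hxP
    have h2 : x ∈ Cfsg.pResidual p L ⊓ (Q : Subgroup L) := ⟨hx, hxQ⟩
    rw [hbot, Subgroup.mem_bot] at h2
    rw [Subgroup.mem_bot, h2]
    rfl
  · have hfr : normalizer ((P : Subgroup G) : Set G) ⊔ L = ⊤ := Sylow.normalizer_sup_eq_top' P hPL
    have hL : L = (Cfsg.pResidual p L).map L.subtype ⊔ (P : Subgroup G) := by
      have h1 := congrArg (Subgroup.map L.subtype) hsup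
      rw [Subgroup.map_sup, hmapQ, ← MonoidHom.range_eq_map, Subgroup.range_subtype] at h1
      exact h1.symm
    rw [eq_top_iff, ← hfr]
    refine sup_le le_sup_right (hL.le.trans ?_)
    exact sup_le le_sup_left (le_sup_of_le_right Subgroup.le_normalizer)

end Cfsg.Agent.Lib.H5.OD
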