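import Mathlib
import Cfsg.Agent.Lib.H13.OTDefs

/-!
# S3999 piece P6 KCOUNT: counting elements of order `k ∣ |Y|`, `k > 1`, in a Frobenius group `M ⋊ Y`.
-/

set_option autoImplicit false

namespace Cfsg.Agent.Lib.H5.OT

open Cfsg Cfsg.Agent.Lib.H13.OT
open scoped Pointwise

universe u

theorem kc_orderOf_conj {X : Type*} [Group X] (t y : X) : orderOf (t * y * t⁻¹) = orderOf y := by
  have := MulEquiv.orderOf_eq (MulAut.conj t) y
  rw [MulAut.conj_apply] at this
  exact this

theorem kc_mem_conj_smul {X : Type*} [Group X] (Y : Subgroup X) (g x : X) :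
    x ∈ MulAut.conj g • Y ↔ ∃ y ∈ Y, x = g * y * g⁻¹ := by
  constructor
  · intro hx
    rw [Subgroup.mem_pointwise_smul_iff_inv_smul_mem] at hx
    refine ⟨_, hx, ?_⟩
    rw [MulAut.smul_def, ← map_inv, MulAut.conj_apply, inv_inv]
    group
  · rintro ⟨y, hy, rfl⟩
    have := Subgroup.smul_mem_pointwise_smul y (MulAut.conj g) Y hy
    rw [MulAut.smul_def, MulAut.conj_apply] at this
    exact this

theorem card_orderOf_eq {X : Type u} [Group X] [Finite X] {Y M : Subgroup X} (h : FrobData Y M)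
    (k : ℕ) (hk : k ∣ Nat.card Y) (hk1 : 1 < k) :
    Nat.card {x : X // orderOf x = k} = Nat.card M * Nat.card {y : Y // orderOf y = k} := by
  classical
  let f : M × {y : Y // orderOf y = k} → {x : X // orderOf x = k} := fun p =>
    ⟨(p.1 : X) * ((p.2.1 : Y) : X) * (p.1 : X)⁻¹, by
      rw [kc_orderOf_conj, Subgroup.orderOf_coe]
      exact p.2.2⟩
  have hdisj : ∀ s : X, s ∈ M → s ∈ Y → s = 1 := by
    intro s hsM hsY
    have := h.isCompl.disjoint
    rw [Subgroup.disjoint_def] at this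
    exact this hsM hsY
  have hinj : Function.Injective f := by
    rintro ⟨t, ⟨y, hy⟩⟩ ⟨t', ⟨y', hy'⟩⟩ heq
    have heq' : (t : X) * (y : X) * (t : X)⁻¹ = (t' : X) * (y' : X) * (t' : X)⁻¹ :=
      congrArg Subtype.val heq
    set s : X := (t' : X)⁻¹ * (t : X) with hs
    have hsM : s ∈ M := M.mul_mem (M.inv_mem t'.2) t.2
    have hsy : s * (y : X) * s⁻¹ = (y' : X) := by
      have : s * (y : X) * s⁻¹ = (t' : X)⁻¹ * ((t : X) * (y : X) * (t : X)⁻¹) * (t' : X) := by
        rw [hs]; group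
      rw [this, heq']; group
    have hy'1 : (y' : X) ≠ 1 := by
      intro h1
      have : y' = 1 := Subtype.ext h1
      rw [this, orderOf_one] at hy'
      omega
    have hsY : s ∈ Y := by
      by_contra hsn
      have hbot := h.compl.2.2 s hsn
      have hmem2 : (y' : X) ∈ MulAut.conj s • Y := by
        rw [kc_mem_conj_smul]
        exact ⟨y, y.2, hsy.symm⟩
      have hmem : (y' : X) ∈ Y ⊓ MulAut.conj s • Y := Subgroup.mem_inf.mpr ⟨y'.2, hmem2⟩
      rw [hbot, Subgroup.mem_bot] at hmem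
      exact hy'1 hmem
    have hs1 : s = 1 := hdisj s hsM hsY
    have htt : (t : X) = (t' : X) := by
      have : (t : X) = (t' : X) * s := by rw [hs]; group
      rw [this, hs1, mul_one]
    have hyy : (y : X) = (y' : X) := by
      rw [← hsy, hs1]; group
    have e1 : t = t' := Subtype.ext htt
    have e2 : y = y' := Subtype.ext hyy
    subst e1
    subst e2
    rfl
  have hsurj : Function.Surjective f := by
    rintro ⟨x, hx⟩
    have hxM : x ∉ M := by
      intro hxM
      have h1 : k ∣ Nat.card M := by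
        rw [← hx]
        exact Subgroup.orderOf_dvd_natCard M hxM
      have := Nat.eq_one_of_dvd_coprimes h.coprime h1 hk
      omega
    rcases h.cover x with hxM' | ⟨g, hg⟩
    · exact absurd hxM' hxM
    · rw [kc_mem_conj_smul] at hg
      obtain ⟨y₀, hy₀, rfl⟩ := hg
      obtain ⟨⟨t, y₁⟩, hty, -⟩ := h.isCompl.existsUnique g
      simp only at hty
      have hyY : (y₁ : X) * y₀ * (y₁ : X)⁻¹ ∈ Y := Y.mul_mem (Y.mul_mem y₁.2 hy₀) (Y.inv_mem y₁.2)
      have hconj : g * y₀ * g⁻¹ = (t : X) * ((y₁ : X) * y₀ * (y₁ : X)⁻¹) * (t : X)⁻¹ := by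
        rw [← hty]; group
      have hord : orderOf (⟨(y₁ : X) * y₀ * (y₁ : X)⁻¹, hyY⟩ : Y) = k := by
        rw [Subgroup.orderOf_mk, ← kc_orderOf_conj (t : X), ← hconj]
        exact hx
      refine ⟨(t, ⟨⟨(y₁ : X) * y₀ * (y₁ : X)⁻¹, hyY⟩, hord⟩), ?_⟩
      apply Subtype.ext
      exact hconj.symm
  rw [← Nat.card_congr (Equiv.ofBijective f ⟨hinj, hsurj⟩), Nat.card_prod]

end Cfsg.Agent.Lib.H5.OT
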