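import Mathlib
import Cfsg.Agent.S3359
import Cfsg.Agent.Lib.H5.TIH.C

/-!
# S3999 piece P9 SL25: a nonsolvable Frobenius complement has order divisible by `5` but not by `25`
and exactly `24` elements of order `5`.
-/

set_option autoImplicit false

namespace Cfsg.Agent.Lib.H5.OT

open Cfsg Cfsg.Agent.Lib.H5.FC

universe u

set_option maxRecDepth 100000 in
theorem sl25_card_five : Fintype.card {A : SL25 // A ≠ 1 ∧ A * A * A * A * A = 1} = 24 := by decide

theorem sl25_card_orderOf_five : Nat.card {A : SL25 // orderOf A = 5} = 24 := by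
  have : Fact (Nat.Prime 5) := ⟨by norm_num⟩
  rw [← sl25_card_five, ← Nat.card_eq_fintype_card]
  apply Nat.card_congr
  apply Equiv.subtypeEquivRight
  intro A
  rw [orderOf_eq_prime_iff]
  constructor
  · rintro ⟨h1, h2⟩
    refine ⟨h2, ?_⟩
    rw [← h1]
    simp only [pow_succ, pow_zero, one_mul]
  · rintro ⟨h1, h2⟩
    refine ⟨?_, h1⟩
    rw [← h2]
    simp only [pow_succ, pow_zero, one_mul]

section abstract

variable {G : Type*} [Group G]

/-- elements of the join of two elementwise commuting subgroups are products -/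
theorem exists_mul_of_mem_sup {S M : Subgroup G} (hc : ∀ s ∈ S, ∀ x ∈ M, s * x = x * s) {g : G}
    (hg : g ∈ S ⊔ M) : ∃ s ∈ S, ∃ x ∈ M, g = s * x := by
  let T : Subgroup G :=
    { carrier := {g | ∃ s ∈ S, ∃ x ∈ M, g = s * x}
      one_mem' := ⟨1, S.one_mem, 1, M.one_mem, (mul_one 1).symm⟩
      mul_mem' := by
        rintro _ _ ⟨s, hs, x, hx, rfl⟩ ⟨s', hs', x', hx', rfl⟩
        refine ⟨s * s', S.mul_mem hs hs', x * x', M.mul_mem hx hx', ?_⟩
        calc s * x * (s' * x') = s * (x * s') * x' := by group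
          _ = s * (s' * x) * x' := by rw [hc s' hs' x hx]
          _ = s * s' * (x * x') := by group
      inv_mem' := by
        rintro _ ⟨s, hs, x, hx, rfl⟩
        refine ⟨s⁻¹, S.inv_mem hs, x⁻¹, M.inv_mem hx, ?_⟩
        rw [mul_inv_rev, hc s⁻¹ (S.inv_mem hs) x⁻¹ (M.inv_mem hx)] }
  have hST : S ≤ T := fun s hs => ⟨s, hs, 1, M.one_mem, (mul_one s).symm⟩
  have hMT : M ≤ T := fun x hx => ⟨1, S.one_mem, x, hx, (one_mul x).symm⟩
  exact (sup_le hST hMT) hg

theorem pow_five_of_orderOf {g : G} (h : orderOf g = 5) : g ^ 5 ^ 1 = 1 := by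
  rw [pow_one, ← h]
  exact pow_orderOf_eq_one g

variable [Finite G]

/-- an element of `5`-power order lies in `S` -/
theorem mem_S_of_pow {G₀ S M : Subgroup G} [G₀.Normal] (hidx : G₀.index = 1 ∨ G₀.index = 2)
    (hSM : S ⊔ M = G₀) (hinf : S ⊓ M = ⊥) (hc : ∀ s ∈ S, ∀ x ∈ M, s * x = x * s)
    (hM : (Nat.card M).Coprime 30) {y : G} {k : ℕ} (hy : y ^ 5 ^ k = 1) : y ∈ S := by
  -- `y ∈ G₀`
  have hy0 : y ∈ G₀ := by
    have h2 : y ^ 2 ∈ G₀ := by
      rcases hidx with h | h
      · rw [Subgroup.index_eq_one] at h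
        rw [h]; exact Subgroup.mem_top _
      · have := Subgroup.pow_index_mem G₀ y
        rw [h] at this
        exact this
    have hodd : 5 ^ k % 2 = 1 := by
      rw [Nat.pow_mod]; norm_num
    have e : y = (y ^ 2) ^ ((5 ^ k + 1) / 2) := by
      rw [← pow_mul]
      have : 2 * ((5 ^ k + 1) / 2) = 5 ^ k + 1 := by omega
      rw [this, pow_succ, hy, one_mul]
    rw [e]
    exact G₀.pow_mem h2 _
  rw [← hSM] at hy0
  obtain ⟨s, hs, x, hx, rfl⟩ := exists_mul_of_mem_sup hc hy0
  have hcomm : Commute s x := hc s hs x hx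
  rw [hcomm.mul_pow] at hy
  have hx5 : x ^ 5 ^ k = (s ^ 5 ^ k)⁻¹ := by
    rw [eq_inv_iff_mul_eq_one, ← (hcomm.pow_pow _ _).eq]
    exact hy
  have hxS : x ^ 5 ^ k ∈ S ⊓ M := by
    refine ⟨?_, M.pow_mem hx _⟩
    rw [hx5]
    exact S.inv_mem (S.pow_mem hs _)
  rw [hinf, Subgroup.mem_bot] at hxS
  have hox : orderOf x ∣ 5 ^ k := orderOf_dvd_of_pow_eq_one hxS
  have hoM : orderOf x ∣ Nat.card M := by
    have := Subgroup.orderOf_dvd_natCard M hx
    exact this
  have hcop : (5 ^ k).Coprime (Nat.card M) := by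
    apply Nat.Coprime.pow_left
    exact Nat.Coprime.symm (Nat.Coprime.coprime_dvd_right (by norm_num : 5 ∣ 30) hM)
  have h1 : orderOf x = 1 := Nat.eq_one_of_dvd_coprimes hcop hox hoM
  rw [orderOf_eq_one_iff] at h1
  rw [h1, mul_one]
  exact hs

theorem abstract_24 {G₀ S M : Subgroup G} [G₀.Normal] (hidx : G₀.index = 1 ∨ G₀.index = 2)
    (hSM : S ⊔ M = G₀) (hinf : S ⊓ M = ⊥) (hc : ∀ s ∈ S, ∀ x ∈ M, s * x = x * s)
    (e : S ≃* SL25) (hM : (Nat.card M).Coprime 30) :
    5 ∣ Nat.card G ∧ ¬ 25 ∣ Nat.card G ∧ Nat.card {y : G // orderOf y = 5} = 24 := by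
  have : Fact (Nat.Prime 5) := ⟨by norm_num⟩
  have hScard : Nat.card S = 120 := by
    rw [Nat.card_congr e.toEquiv, card_sl25]
  refine ⟨?_, ?_, ?_⟩
  · have h1 : Nat.card S ∣ Nat.card G := Subgroup.card_subgroup_dvd_card S
    rw [hScard] at h1
    exact dvd_trans (by norm_num) h1
  · intro h25
    obtain ⟨P⟩ : Nonempty (Sylow 5 G) := inferInstance
    have hPS : (P : Subgroup G) ≤ S := by
      intro y hy
      obtain ⟨k, hk⟩ := (IsPGroup.iff_orderOf.mp P.isPGroup') ⟨y, hy⟩
      have hk' : orderOf y = 5 ^ k := by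
        rw [← hk]; exact (Subgroup.orderOf_mk y hy).symm
      apply mem_S_of_pow hidx hSM hinf hc hM (k := k)
      rw [← hk']
      exact pow_orderOf_eq_one y
    have hPcard : Nat.card P ∣ 120 := by
      rw [← hScard]
      exact Subgroup.card_dvd_of_le hPS
    have h25P : 25 ∣ Nat.card P := by
      rw [Sylow.card_eq_multiplicity]
      have : 5 ^ 2 ∣ Nat.card G := by norm_num; exact h25
      have hle : 2 ≤ (Nat.card G).factorization 5 := by
        rw [← Nat.Prime.pow_dvd_iff_le_factorization (by norm_num) Nat.card_pos.ne']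
        exact this
      calc 25 = 5 ^ 2 := by norm_num
        _ ∣ 5 ^ (Nat.card G).factorization 5 := pow_dvd_pow 5 hle
    have := dvd_trans h25P hPcard
    norm_num at this
  · rw [← sl25_card_orderOf_five]
    have e1 : {y : G // orderOf y = 5} ≃ {s : S // orderOf s = 5} :=
      { toFun := fun y => ⟨⟨y.1, by
            exact mem_S_of_pow hidx hSM hinf hc hM (k := 1) (pow_five_of_orderOf y.2)⟩, by
            have h5 : orderOf y.1 = 5 := y.2
            rw [Subgroup.orderOf_mk]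
            exact h5⟩
        invFun := fun s => ⟨s.1.1, by
            have h5 : orderOf s.1 = 5 := s.2
            rw [Subgroup.orderOf_coe]
            exact h5⟩
        left_inv := fun y => rfl
        right_inv := fun s => rfl }
    have e2 : {s : S // orderOf s = 5} ≃ {A : SL25 // orderOf A = 5} :=
      e.toEquiv.subtypeEquiv (fun s => by
        show orderOf s = 5 ↔ orderOf (e s) = 5
        rw [MulEquiv.orderOf_eq])
    exact Nat.card_congr (e1.trans e2)

end abstract

theorem nonsolvable_complement_24 {X : Type u} [Group X] [Finite X] (Y : Subgroup X)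
    (hY : Cfsg.IsFrobeniusComplement Y) (hns : ¬ Group.IsSolvable Y) :
    5 ∣ Nat.card Y ∧ ¬ 25 ∣ Nat.card Y ∧ Nat.card {y : Y // orderOf y = 5} = 24 := by
  have hFC : ∃ (L : Type) (_ : Group L) (_ : Finite L) (C : Subgroup L),
      Cfsg.IsFrobeniusComplement C ∧ Nonempty (Y ≃* C) :=
    Cfsg.Agent.Lib.H5.TIH.exists_frobCompl_type0 ⟨X, inferInstance, inferInstance, Y, hY,
      ⟨MulEquiv.refl Y⟩⟩
  obtain ⟨G₀, hG₀n, hidx, S, M, hSM, hinf, hc, ⟨e⟩, -, hM⟩ := Cfsg.Agent.S3359.result hns hFC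
  exact abstract_24 hidx hSM hinf hc e hM

end Cfsg.Agent.Lib.H5.OT
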