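import Mathlib
import Cfsg.Agent.Lib.H5.SimpleTools
import Cfsg.Agent.Lib.H5.SubgroupCard
import Cfsg.Agent.Lib.H5.OrderCount

set_option autoImplicit false

/-! # Groups of order 12 and 6 without elements of order 6 -/

namespace Cfsg.Agent.Lib.H5.O12

open Subgroup Cfsg.Agent.Lib.H5

variable {H : Type*} [Group H] [Finite H]

/-- A group of order 12 with no element of order 6 has a normal subgroup of order 4. -/
theorem exists_normal_four (h : Nat.card H = 12) (h6 : ∀ g : H, orderOf g ≠ 6) :
    ∃ Q : Subgroup H, Q.Normal ∧ Nat.card Q = 4 := by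
  classical
  have : Fact (Nat.Prime 3) := ⟨by norm_num⟩
  have : Fact (Nat.Prime 2) := ⟨by norm_num⟩
  have hno : ∀ t y : H, orderOf t = 2 → orderOf y = 3 → ¬ Commute t y := by
    intro t y ht hy hc
    have := hc.orderOf_mul_eq_mul_orderOf_of_coprime (by rw [ht, hy]; norm_num)
    rw [ht, hy] at this
    exact h6 _ this
  let P : Sylow 3 H := default
  obtain ⟨hPc, hPi⟩ := sylow_card_and_index P (k := 1) (m := 4) (by rw [h]; norm_num) (by norm_num)
  rw [pow_one] at hPc
  have hQ3 : ∀ Q : Sylow 3 H, Nat.card (Q : Subgroup H) = 3 := by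
    intro Q
    simpa using (sylow_card_and_index Q (k := 1) (m := 4) (by rw [h]; norm_num) (by norm_num)).1
  have hmem := card_sylow_mem_filter_divisors P (by norm_num) hPi
  have hfil : (Nat.divisors 4).filter (fun d => d % 3 = 1) = {1, 4} := by decide
  rw [hfil] at hmem
  simp only [Finset.mem_insert, Finset.mem_singleton] at hmem
  rcases hmem with h1 | h4
  · exfalso
    obtain ⟨y', hy'⟩ := exists_prime_orderOf_dvd_card' (G := (P : Subgroup H)) 3 (by rw [hPc])
    have hy3 : orderOf (y' : H) = 3 := by rw [Subgroup.orderOf_coe]; exact hy'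
    have hN := card_normalizer_mul_card_sylow P
    rw [h1, mul_one, h] at hN
    have hdvd := relIndex_centralizer_normalizer_dvd_of_card_prime (P : Subgroup H) (p := 3) hPc
    have hmul := card_centralizer_mul_relIndex_normalizer (P : Subgroup H)
    rw [hN] at hmul
    have h2 : 2 ∣ Nat.card (centralizer ((P : Subgroup H) : Set H)) := by
      have hle : (centralizer ((P : Subgroup H) : Set H)).relIndex
          (normalizer ((P : Subgroup H) : Set H)) ≤ 2 := Nat.le_of_dvd (by norm_num) hdvd
      generalize (centralizer ((P : Subgroup H) : Set H)).relIndex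
          (normalizer ((P : Subgroup H) : Set H)) = r at hmul hle hdvd
      generalize Nat.card (centralizer ((P : Subgroup H) : Set H)) = c at hmul
      interval_cases r
      · omega
      · omega
      · omega
    obtain ⟨t', ht'⟩ := exists_prime_orderOf_dvd_card'
      (G := centralizer ((P : Subgroup H) : Set H)) 2 h2
    have ht2 : orderOf (t' : H) = 2 := by rw [Subgroup.orderOf_coe]; exact ht'
    apply hno (t' : H) (y' : H) ht2 hy3
    have := t'.2
    rw [mem_centralizer_iff] at this
    exact (this (y' : H) y'.2).symm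
  · -- eight elements of order 3
    have h8 : ({g : H | orderOf g = 3} : Set H).ncard = 8 := by
      rw [← Nat.card_coe_set_eq]
      have := card_orderOf_eq_prime (G := H) (p := 3) hQ3
      rw [h4] at this
      exact this
    have hcompl : ({g : H | orderOf g ≠ 3} : Set H).ncard = 4 := by
      have hc : ({g : H | orderOf g = 3} : Set H)ᶜ = {g : H | orderOf g ≠ 3} := by
        ext g; simp
      rw [← hc, Set.ncard_compl, h8, h]
    let Q : Sylow 2 H := default
    have hQc : Nat.card (Q : Subgroup H) = 4 := by
      simpa using (sylow_card_and_index Q (k := 2) (m := 3) (by rw [h]; norm_num) (by norm_num)).1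
    have hsub : ((Q : Subgroup H) : Set H) ⊆ {g : H | orderOf g ≠ 3} := by
      intro g hg
      have hd : orderOf g ∣ 4 := by
        have := orderOf_dvd_natCard (⟨g, hg⟩ : (Q : Subgroup H))
        rwa [Subgroup.orderOf_mk, hQc] at this
      intro h3
      rw [h3] at hd
      exact absurd hd (by decide)
    have heq := Set.eq_of_subset_of_ncard_le hsub (by
      rw [hcompl, ← Nat.card_coe_set_eq]
      exact hQc.ge) (Set.toFinite _)
    refine ⟨(Q : Subgroup H), ⟨fun n hn g => ?_⟩, hQc⟩
    have hn' : n ∈ ((Q : Subgroup H) : Set H) := hn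
    rw [heq] at hn'
    have : g * n * g⁻¹ ∈ ({g : H | orderOf g ≠ 3} : Set H) := by
      show orderOf (g * n * g⁻¹) ≠ 3
      have e := (MulAut.conj g).orderOf_eq n
      rw [MulAut.conj_apply] at e
      rw [e]
      exact hn'
    rw [← heq] at this
    exact this

/-- A group of order 6 has a normal subgroup of order 3. -/
theorem exists_normal_three (h : Nat.card H = 6) :
    ∃ P : Subgroup H, P.Normal ∧ Nat.card P = 3 := by
  have : Fact (Nat.Prime 3) := ⟨by norm_num⟩
  let P : Sylow 3 H := default
  obtain ⟨hPc, hPi⟩ := sylow_card_and_index P (k := 1) (m := 2) (by rw [h]; norm_num) (by norm_num)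
  rw [pow_one] at hPc
  exact ⟨(P : Subgroup H), normal_of_index_eq_two hPi, hPc⟩

end Cfsg.Agent.Lib.H5.O12
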