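import Mathlib
import Cfsg.Agent.Lib.H5.Order168c
import Cfsg.Agent.Lib.H5.Order12

set_option autoImplicit false
set_option linter.unusedSectionVars false

/-! # Simple groups of order 168: maximal subgroups -/

namespace Cfsg.Agent.Lib.H5

open Subgroup

/-- Sylow counting inside a subgroup `L` containing the Sylow `p`-subgroup `P`:
the number of `L`-conjugates of `P` is `1` mod `p`. -/
theorem relIndex_normalizer_modEq_one {G : Type*} [Group G] [Finite G] {p : ℕ} [Fact p.Prime]
    (P : Sylow p G) {L : Subgroup G} (hPL : (P : Subgroup G) ≤ L) :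
    (normalizer ((P : Subgroup G) : Set G)).relIndex L ≡ 1 [MOD p] := by
  have h1 := card_sylow_modEq_one p ↥L
  have h2 := Sylow.card_eq_index_normalizer (P.subtype hPL)
  rw [h2] at h1
  have h3 : normalizer (((P.subtype hPL : Sylow p L) : Subgroup L) : Set L)
      = (normalizer ((P : Subgroup G) : Set G)).subgroupOf L := by
    rw [Sylow.coe_subtype, subgroupOf_normalizer_eq hPL]
  change (normalizer (((P.subtype hPL : Sylow p L) : Subgroup L) : Set L)).index ≡ 1 [MOD p] at h1
  rw [h3] at h1
  exact h1

/-- `N(A) ⊓ N(B) ≤ N(A ⊔ B)`. -/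
theorem normalizer_inf_le_normalizer_sup {G : Type*} [Group G] (A B : Subgroup G) :
    normalizer (A : Set G) ⊓ normalizer (B : Set G) ≤ normalizer ((A ⊔ B : Subgroup G) : Set G) := by
  intro l hl
  rw [Subgroup.mem_inf] at hl
  apply mem_normalizer_of_map_conj_eq
  rw [Subgroup.map_sup, map_conj_eq_of_mem_normalizer hl.1, map_conj_eq_of_mem_normalizer hl.2]

end Cfsg.Agent.Lib.H5

namespace Cfsg.Agent.Lib.H5.O168

open Subgroup Cfsg.Agent.Lib.H5

variable {G : Type*} [Group G] [Finite G] [IsSimpleGroup G]

/-- A proper subgroup has index at least 7. -/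
theorem seven_le_index (h : Nat.card G = 168) (M : Subgroup G) (hM : M ≠ ⊤) : 7 ≤ M.index := by
  by_contra hlt
  push Not at hlt
  have h1 := card_dvd_factorial_index M hM
  have h2 : (M.index).factorial ∣ (6 : ℕ).factorial := Nat.factorial_dvd_factorial (by omega)
  have h3 := h1.trans h2
  rw [h] at h3
  exact absurd h3 (by decide)

/-- The possible orders of a proper subgroup. -/
theorem card_proper_mem (h : Nat.card G = 168) (M : Subgroup G) (hM : M ≠ ⊤) :
    Nat.card M ∈ ({1, 2, 3, 4, 6, 7, 8, 12, 14, 21, 24} : Finset ℕ) := by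
  have h1 := M.card_mul_index
  rw [h] at h1
  have h2 := seven_le_index h M hM
  have h3 : Nat.card M ∈ (Nat.divisors 168).filter (fun d => d ≤ 24) := by
    rw [Finset.mem_filter, Nat.mem_divisors]
    refine ⟨⟨Dvd.intro _ h1, by norm_num⟩, ?_⟩
    nlinarith
  have h4 : (Nat.divisors 168).filter (fun d => d ≤ 24) = {1, 2, 3, 4, 6, 7, 8, 12, 14, 21, 24} := by
    decide
  rwa [h4] at h3

theorem card_proper_le (h : Nat.card G = 168) (M : Subgroup G) (hM : M ≠ ⊤) :
    Nat.card M ≤ 24 := by
  have := card_proper_mem h M hM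
  simp only [Finset.mem_insert, Finset.mem_singleton] at this
  omega

/-- Every subgroup of order 24 is maximal. -/
theorem isCoatom_of_card24 (h : Nat.card G = 168) (M : Subgroup G) (hM : Nat.card M = 24) :
    IsCoatom M := by
  refine ⟨?_, ?_⟩
  · intro htop
    rw [htop, Subgroup.card_top, h] at hM
    omega
  · intro K hK
    by_contra hne
    have h1 := card_proper_le h K hne
    have h2 : M = K := Subgroup.eq_of_le_of_card_ge hK.le (by rw [hM]; exact h1)
    exact hK.ne h2

/-- A proper subgroup of order divisible by 7 normalizes a Sylow 7-subgroup. -/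
theorem exists_le_normalizer_sylow7 (h : Nat.card G = 168) (M : Subgroup G) (hM : M ≠ ⊤)
    (h7 : 7 ∣ Nat.card M) :
    ∃ P : Sylow 7 G, M ≤ normalizer ((P : Subgroup G) : Set G) := by
  have : Fact (Nat.Prime 7) := ⟨by norm_num⟩
  obtain ⟨x', hx'⟩ := exists_prime_orderOf_dvd_card' (G := M) 7 h7
  have hx7 : orderOf (x' : G) = 7 := by rw [Subgroup.orderOf_coe]; exact hx'
  obtain ⟨P, hxP⟩ := exists_sylow_mem_of_orderOf_eq (x' : G) hx7
  have hPz := zpowers_eq_sylow_of_mem P (card_sylow7_subgroup h P) (x' : G) hx7 hxP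
  have hPM : (P : Subgroup G) ≤ M := by
    rw [← hPz, zpowers_le]
    exact x'.2
  refine ⟨P, ?_⟩
  have h1 := relIndex_normalizer_modEq_one P hPM
  have h2 := card_mul_relIndex_of_le (inf_le_right : normalizer ((P : Subgroup G) : Set G) ⊓ M ≤ M)
  rw [Subgroup.inf_relIndex_right] at h2
  have h3 : 7 ∣ Nat.card (normalizer ((P : Subgroup G) : Set G) ⊓ M : Subgroup G) := by
    have := Subgroup.card_dvd_of_le (le_inf le_normalizer hPM :
      (P : Subgroup G) ≤ normalizer ((P : Subgroup G) : Set G) ⊓ M)
    rwa [card_sylow7_subgroup h P] at this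
  have h4 := card_proper_le h M hM
  rw [← Subgroup.relIndex_eq_one]
  obtain ⟨c, hc⟩ := h3
  rw [hc] at h2
  generalize (normalizer ((P : Subgroup G) : Set G)).relIndex M = r at h1 h2
  have hr : r ≤ 3 := by
    have hc0 : c ≠ 0 := by
      rintro rfl
      rw [mul_zero, zero_mul] at h2
      rw [← h2] at h7
      have := Nat.card_pos (α := M)
      omega
    have : 7 * r ≤ 7 * c * r := by nlinarith [Nat.pos_of_ne_zero hc0]
    omega
  unfold Nat.ModEq at h1
  interval_cases r <;> simp_all

/-- A maximal subgroup of order divisible by 7 is the normalizer of a Sylow 7-subgroup. -/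
theorem coatom_eq_normalizer_sylow7 (h : Nat.card G = 168) (M : Subgroup G) (hM : IsCoatom M)
    (h7 : 7 ∣ Nat.card M) :
    ∃ P : Sylow 7 G, M = normalizer ((P : Subgroup G) : Set G) := by
  obtain ⟨P, hP⟩ := exists_le_normalizer_sylow7 h M hM.1 h7
  refine ⟨P, ?_⟩
  rcases eq_or_lt_of_le hP with h' | h'
  · exact h'
  · have := hM.2 _ h'
    have hc := card_normalizer_sylow7 h P
    rw [this, Subgroup.card_top, h] at hc
    omega

/-- The normalizer of a Sylow 7-subgroup is non-abelian. -/
theorem not_comm_normalizer_sylow7 (h : Nat.card G = 168) (P : Sylow 7 G) :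
    ¬ IsMulCommutative ↥(normalizer ((P : Subgroup G) : Set G)) := by
  intro hc
  have hle : normalizer ((P : Subgroup G) : Set G) ≤ centralizer ((P : Subgroup G) : Set G) := by
    intro n hn
    rw [mem_centralizer_iff]
    intro y hy
    have := hc.is_comm.comm (⟨y, le_normalizer hy⟩ : normalizer ((P : Subgroup G) : Set G)) ⟨n, hn⟩
    exact congrArg Subtype.val this
  rw [centralizer_sylow7 h P] at hle
  have := Subgroup.card_le_of_le hle
  rw [card_normalizer_sylow7 h P, card_sylow7_subgroup h P] at this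
  omega

/-- Normalizers of Sylow subgroups are conjugate. -/
theorem normalizer_sylow_conj {p : ℕ} [Fact p.Prime] (P P' : Sylow p G) :
    ∃ g : G, normalizer ((P' : Subgroup G) : Set G)
      = (normalizer ((P : Subgroup G) : Set G)).map (MulAut.conj g).toMonoidHom := by
  obtain ⟨g, hg⟩ := MulAction.exists_smul_eq G P P'
  refine ⟨g, ?_⟩
  rw [map_equiv_normalizer_eq, ← hg]
  congr 2

omit [Finite G] [IsSimpleGroup G] in
/-- A normal subgroup of a subgroup `M`, mapped to `G`, is normalized by `M`. -/
theorem le_normalizer_map_subtype {M : Subgroup G} (K : Subgroup M) [hK : K.Normal] :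
    M ≤ normalizer ((K.map M.subtype : Subgroup G) : Set G) := by
  have h1 := le_normalizer_map (H := K) M.subtype
  rw [normalizer_eq_top, ← MonoidHom.range_eq_map, Subgroup.range_subtype] at h1
  exact h1

omit [Finite G] [IsSimpleGroup G] in
theorem card_map_subtype {M : Subgroup G} (K : Subgroup M) :
    Nat.card (K.map M.subtype : Subgroup G) = Nat.card K :=
  Subgroup.card_map_of_injective M.subtype_injective

omit [Finite G] [IsSimpleGroup G] in
theorem isKleinFour_map_conj {U : Subgroup G} (hU : IsKleinFour U) (g : G) :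
    IsKleinFour ↥(U.map (MulAut.conj g).toMonoidHom) := by
  apply isKleinFour_of_card_of_sq
  · rw [Subgroup.card_map_of_injective (MulAut.conj g).injective, hU.card_four]
  · rintro ⟨_, u, hu, rfl⟩
    apply Subtype.ext
    show (MulAut.conj g).toMonoidHom u * (MulAut.conj g).toMonoidHom u = 1
    rw [← map_mul, kleinFour_sq hU hu, map_one]

/-- A 2-subgroup lies in a subgroup of order 24. -/
theorem exists_card24_ge_of_isPGroup (h : Nat.card G = 168) (M : Subgroup G) (hM : IsPGroup 2 M) :
    ∃ L : Subgroup G, Nat.card L = 24 ∧ M ≤ L := by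
  obtain ⟨T, hT⟩ := hM.exists_le_sylow
  obtain ⟨x, s, d⟩ := exists_dGens h T
  have hU := d.isKleinFour_KK h d.hsT d.hsx
  exact ⟨_, card_normalizer_kleinFour h hU,
    hT.trans (le_normalizer_kleinFour h T inf_le_right hU)⟩

/-- A subgroup of order 4 is a Klein four group or has a normalizer of order dividing 8. -/
theorem card4_cases (h : Nat.card G = 168) (Q : Subgroup G) (hQ : Nat.card Q = 4) :
    IsKleinFour Q ∨ Nat.card (normalizer (Q : Set G)) ∣ 8 := by
  by_cases hsq : ∀ g : Q, g * g = 1
  · left
    exact isKleinFour_of_card_of_sq hQ hsq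
  · right
    push Not at hsq
    obtain ⟨u, hu⟩ := hsq
    have h1 : orderOf u ∣ 4 := hQ ▸ orderOf_dvd_natCard u
    have h2 : orderOf u ≠ 1 := by
      intro h'
      rw [orderOf_eq_one_iff] at h'
      rw [h', mul_one] at hu
      exact hu rfl
    have h3 : orderOf u ≠ 2 := by
      intro h'
      apply hu
      rw [← pow_two, ← h', pow_orderOf_eq_one]
    have h4 : orderOf u = 4 := by
      have : orderOf u ∈ Nat.divisors 4 := by
        rw [Nat.mem_divisors]; exact ⟨h1, by norm_num⟩
      have hd : Nat.divisors 4 = {1, 2, 4} := by decide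
      rw [hd] at this
      simp only [Finset.mem_insert, Finset.mem_singleton] at this
      omega
    rw [← Subgroup.orderOf_coe] at h4
    have hz : zpowers (u : G) = Q := by
      apply Subgroup.eq_of_le_of_card_ge
      · rw [zpowers_le]; exact u.2
      · rw [hQ, Nat.card_zpowers, h4]
    rw [← hz]
    exact card_normalizer_zpowers4_dvd h (u : G) h4

/-- The normalizer of a Sylow 3-subgroup lies in a subgroup of order 24. -/
theorem exists_card24_ge_normalizer_sylow3 (h : Nat.card G = 168) (P : Sylow 3 G) :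
    ∃ L : Subgroup G, Nat.card L = 24 ∧ normalizer ((P : Subgroup G) : Set G) ≤ L := by
  have : Fact (Nat.Prime 3) := ⟨by norm_num⟩
  obtain ⟨L₀, hL₀, -⟩ := exists_card24_ge_of_isPGroup h ⊥ (IsPGroup.of_bot)
  obtain ⟨y', hy'⟩ := exists_prime_orderOf_dvd_card' (G := L₀) 3 (by rw [hL₀]; norm_num)
  have hy3 : orderOf (y' : G) = 3 := by rw [Subgroup.orderOf_coe]; exact hy'
  obtain ⟨P₀, hyP⟩ := exists_sylow_mem_of_orderOf_eq (y' : G) hy3
  have hPz := zpowers_eq_sylow_of_mem P₀ (card_sylow3_subgroup h P₀) (y' : G) hy3 hyP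
  have hPL : (P₀ : Subgroup G) ≤ L₀ := by
    rw [← hPz, zpowers_le]
    exact y'.2
  have h1 := relIndex_normalizer_modEq_one P₀ hPL
  have h2 := card_mul_relIndex_of_le
    (inf_le_right : normalizer ((P₀ : Subgroup G) : Set G) ⊓ L₀ ≤ L₀)
  rw [Subgroup.inf_relIndex_right, hL₀] at h2
  have h3 : 3 ∣ Nat.card (normalizer ((P₀ : Subgroup G) : Set G) ⊓ L₀ : Subgroup G) := by
    have := Subgroup.card_dvd_of_le (le_inf le_normalizer hPL :
      (P₀ : Subgroup G) ≤ normalizer ((P₀ : Subgroup G) : Set G) ⊓ L₀)
    rwa [card_sylow3_subgroup h P₀] at this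
  have h4 : Nat.card (normalizer ((P₀ : Subgroup G) : Set G) ⊓ L₀ : Subgroup G) ∣ 6 := by
    have := Subgroup.card_dvd_of_le (inf_le_left :
      normalizer ((P₀ : Subgroup G) : Set G) ⊓ L₀ ≤ normalizer ((P₀ : Subgroup G) : Set G))
    rwa [card_normalizer_sylow3 h P₀] at this
  have h5 : Nat.card (normalizer ((P₀ : Subgroup G) : Set G) ⊓ L₀ : Subgroup G) = 6 := by
    generalize (normalizer ((P₀ : Subgroup G) : Set G)).relIndex L₀ = r at h1 h2
    generalize Nat.card (normalizer ((P₀ : Subgroup G) : Set G) ⊓ L₀ : Subgroup G) = c at h2 h3 h4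
    have hc : c ∈ Nat.divisors 6 := by
      rw [Nat.mem_divisors]; exact ⟨h4, by norm_num⟩
    have hd : Nat.divisors 6 = {1, 2, 3, 6} := by decide
    rw [hd] at hc
    simp only [Finset.mem_insert, Finset.mem_singleton] at hc
    unfold Nat.ModEq at h1
    rcases hc with rfl | rfl | rfl | rfl
    · omega
    · omega
    · have : r = 8 := by omega
      subst this
      norm_num at h1
    · rfl
  have h6 : normalizer ((P₀ : Subgroup G) : Set G) ≤ L₀ := by
    have := Subgroup.eq_of_le_of_card_ge (inf_le_left :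
      normalizer ((P₀ : Subgroup G) : Set G) ⊓ L₀ ≤ normalizer ((P₀ : Subgroup G) : Set G))
      (by rw [h5, card_normalizer_sylow3 h P₀])
    rw [← this]
    exact inf_le_right
  obtain ⟨g, hg⟩ := normalizer_sylow_conj P₀ P
  refine ⟨L₀.map (MulAut.conj g).toMonoidHom, ?_, ?_⟩
  · rw [Subgroup.card_map_of_injective (MulAut.conj g).injective, hL₀]
  · rw [hg]
    exact Subgroup.map_mono h6

/-- A subgroup with a normal subgroup of order 3 lies in a subgroup of order 24. -/
theorem exists_card24_ge_of_normal_three (h : Nat.card G = 168) (M : Subgroup G)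
    (K : Subgroup M) [K.Normal] (hK : Nat.card K = 3) :
    ∃ L : Subgroup G, Nat.card L = 24 ∧ M ≤ L := by
  have : Fact (Nat.Prime 3) := ⟨by norm_num⟩
  have hc := card_map_subtype K
  rw [hK] at hc
  have hpg : IsPGroup 3 (K.map M.subtype : Subgroup G) := by
    apply IsPGroup.of_card (n := 1)
    rw [hc]; norm_num
  obtain ⟨P, hP⟩ := hpg.exists_le_sylow
  have heq : (K.map M.subtype : Subgroup G) = (P : Subgroup G) :=
    Subgroup.eq_of_le_of_card_ge hP (by rw [hc, card_sylow3_subgroup h P])
  obtain ⟨L, hL, hNL⟩ := exists_card24_ge_normalizer_sylow3 h P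
  refine ⟨L, hL, ?_⟩
  have := le_normalizer_map_subtype K
  rw [heq] at this
  exact this.trans hNL

/-- A subgroup with a normal subgroup of order 4 whose order does not divide 8 lies in a subgroup
of order 24. -/
theorem exists_card24_ge_of_normal_four (h : Nat.card G = 168) (M : Subgroup G)
    (hM : ¬ Nat.card M ∣ 8) (K : Subgroup M) [K.Normal] (hK : Nat.card K = 4) :
    ∃ U : Subgroup G, IsKleinFour U ∧ U ≤ M ∧ M ≤ normalizer (U : Set G) := by
  have hc := card_map_subtype K
  rw [hK] at hc
  have hle := le_normalizer_map_subtype K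
  rcases card4_cases h _ hc with h' | h'
  · refine ⟨_, h', ?_, hle⟩
    rintro _ ⟨u, -, rfl⟩
    exact u.2
  · exact absurd ((Subgroup.card_dvd_of_le hle).trans h') hM

/-- A subgroup of order 24 is the normalizer of a Klein four subgroup. -/
theorem exists_kleinFour_normalizer_eq (h : Nat.card G = 168) (M : Subgroup G)
    (hM : Nat.card M = 24) : ∃ U : Subgroup G, IsKleinFour U ∧ M = normalizer (U : Set G) := by
  have : Fact (Nat.Prime 2) := ⟨by norm_num⟩
  let Q : Sylow 2 M := default
  obtain ⟨hQc, hQi⟩ := sylow_card_and_index Q (k := 3) (m := 3) (by rw [hM]; norm_num)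
    (by norm_num)
  norm_num at hQc
  have hidx : (Q : Subgroup M).normalCore.index ∣ 6 := by
    have h1 : (Q : Subgroup M).normalCore.index ∣ ((Q : Subgroup M).index).factorial := by
      rw [normalCore_eq_ker, index_ker, index_eq_card, ← Nat.card_perm]
      exact card_subgroup_dvd_card (MulAction.toPermHom M (M ⧸ (Q : Subgroup M))).range
    rw [hQi] at h1
    exact h1
  have hdvd : Nat.card (Q : Subgroup M).normalCore ∣ 8 := by
    have := Subgroup.card_dvd_of_le (Q : Subgroup M).normalCore_le
    rwa [hQc] at this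
  have hmul := (Q : Subgroup M).normalCore.card_mul_index
  rw [hM] at hmul
  have hcases : Nat.card (Q : Subgroup M).normalCore = 4 ∨
      Nat.card (Q : Subgroup M).normalCore = 8 := by
    generalize (Q : Subgroup M).normalCore.index = i at hidx hmul
    generalize Nat.card (Q : Subgroup M).normalCore = c at hdvd hmul
    have hc : c ∈ Nat.divisors 8 := by
      rw [Nat.mem_divisors]; exact ⟨hdvd, by norm_num⟩
    have hi : i ∈ Nat.divisors 6 := by
      rw [Nat.mem_divisors]; exact ⟨hidx, by norm_num⟩
    have hd8 : Nat.divisors 8 = {1, 2, 4, 8} := by decide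
    have hd6 : Nat.divisors 6 = {1, 2, 3, 6} := by decide
    rw [hd8] at hc
    rw [hd6] at hi
    simp only [Finset.mem_insert, Finset.mem_singleton] at hc hi
    rcases hc with rfl | rfl | rfl | rfl <;> rcases hi with rfl | rfl | rfl | rfl <;> omega
  have hM8 : ¬ Nat.card M ∣ 8 := by rw [hM]; decide
  rcases hcases with h4 | h8
  · obtain ⟨U, hU, -, hle⟩ := exists_card24_ge_of_normal_four h M hM8 _ h4
    refine ⟨U, hU, ?_⟩
    exact Subgroup.eq_of_le_of_card_ge hle (by rw [hM, card_normalizer_kleinFour h hU])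
  · exfalso
    have heq : (Q : Subgroup M).normalCore = (Q : Subgroup M) :=
      Subgroup.eq_of_le_of_card_ge (Q : Subgroup M).normalCore_le (by rw [h8, hQc])
    have hn : (Q : Subgroup M).Normal := heq ▸ (Q : Subgroup M).normalCore_normal
    have hc := card_map_subtype (Q : Subgroup M)
    rw [hQc] at hc
    have hpg : IsPGroup 2 ((Q : Subgroup M).map M.subtype : Subgroup G) := by
      apply IsPGroup.of_card (n := 3)
      rw [hc]; norm_num
    obtain ⟨T, hT⟩ := hpg.exists_le_sylow
    have heq2 : ((Q : Subgroup M).map M.subtype : Subgroup G) = (T : Subgroup G) :=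
      Subgroup.eq_of_le_of_card_ge hT (by rw [hc, card_sylow2_subgroup h T])
    have hle := le_normalizer_map_subtype (Q : Subgroup M)
    rw [heq2, normalizer_sylow2 h T] at hle
    have := Subgroup.card_le_of_le hle
    rw [hM, card_sylow2_subgroup h T] at this
    omega

/-- Every proper subgroup of order not divisible by 7 and different from 24 lies in a subgroup of
order 24. -/
theorem exists_card24_ge (h : Nat.card G = 168) (M : Subgroup G)
    (hc : Nat.card M ∈ ({1, 2, 3, 4, 6, 8, 12} : Finset ℕ)) :
    ∃ L : Subgroup G, Nat.card L = 24 ∧ M ≤ L := by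
  have : Fact (Nat.Prime 2) := ⟨by norm_num⟩
  have : Fact (Nat.Prime 3) := ⟨by norm_num⟩
  simp only [Finset.mem_insert, Finset.mem_singleton] at hc
  rcases hc with h' | h' | h' | h' | h' | h' | h'
  · exact exists_card24_ge_of_isPGroup h M (IsPGroup.of_card (n := 0) (by rw [h']; norm_num))
  · exact exists_card24_ge_of_isPGroup h M (IsPGroup.of_card (n := 1) (by rw [h']; norm_num))
  · have hK : Nat.card (⊤ : Subgroup M) = 3 := by rw [Subgroup.card_top, h']
    exact exists_card24_ge_of_normal_three h M ⊤ hK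
  · exact exists_card24_ge_of_isPGroup h M (IsPGroup.of_card (n := 2) (by rw [h']; norm_num))
  · obtain ⟨K, hKn, hK⟩ := O12.exists_normal_three h'
    exact exists_card24_ge_of_normal_three h M K hK
  · exact exists_card24_ge_of_isPGroup h M (IsPGroup.of_card (n := 3) (by rw [h']; norm_num))
  · have h6 : ∀ g : M, orderOf g ≠ 6 := by
      intro g hg
      rw [← Subgroup.orderOf_coe] at hg
      rcases orderOf_mem h (g : G) with h'' | h'' | h'' | h'' | h'' <;> omega
    obtain ⟨K, hKn, hK⟩ := O12.exists_normal_four h' h6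
    obtain ⟨U, hU, -, hle⟩ := exists_card24_ge_of_normal_four h M (by rw [h']; decide) K hK
    exact ⟨_, card_normalizer_kleinFour h hU, hle⟩

/-- The possible maximal subgroups. -/
theorem coatom_cases (h : Nat.card G = 168) (M : Subgroup G) (hM : IsCoatom M) :
    Nat.card M = 24 ∨ ∃ P : Sylow 7 G, M = normalizer ((P : Subgroup G) : Set G) := by
  have hc := card_proper_mem h M hM.1
  by_cases h7 : 7 ∣ Nat.card M
  · right
    exact coatom_eq_normalizer_sylow7 h M hM h7
  · left
    by_contra h24
    have hc' : Nat.card M ∈ ({1, 2, 3, 4, 6, 8, 12} : Finset ℕ) := by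
      simp only [Finset.mem_insert, Finset.mem_singleton] at hc ⊢
      omega
    obtain ⟨L, hL, hML⟩ := exists_card24_ge h M hc'
    rcases eq_or_lt_of_le hML with h' | h'
    · rw [h'] at h24
      exact h24 hL
    · have := hM.2 _ h'
      rw [this, Subgroup.card_top, h] at hL
      omega

/-- A Klein four subgroup is determined by its normalizer. -/
theorem kleinFour_eq_of_normalizer_eq (h : Nat.card G = 168) {U W : Subgroup G}
    (hU : IsKleinFour U) (hW : IsKleinFour W)
    (hN : normalizer (U : Set G) = normalizer (W : Set G)) : U = W := by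
  have : Fact (Nat.Prime 2) := ⟨by norm_num⟩
  by_contra hne
  have hpU : IsPGroup 2 U := IsPGroup.of_card (n := 2) (by rw [hU.card_four]; norm_num)
  have hpW : IsPGroup 2 W := IsPGroup.of_card (n := 2) (by rw [hW.card_four]; norm_num)
  have hUW : U ≤ normalizer (W : Set G) := hN ▸ le_normalizer
  have hp := IsPGroup.to_sup_of_normal_right' hpU hpW hUW
  obtain ⟨T, hT⟩ := hp.exists_le_sylow
  have h1 : Nat.card (U ⊔ W : Subgroup G) ∣ 8 := by
    have := Subgroup.card_dvd_of_le hT
    rwa [card_sylow2_subgroup h T] at this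
  have h2 : 4 ∣ Nat.card (U ⊔ W : Subgroup G) := by
    have := Subgroup.card_dvd_of_le (le_sup_left : U ≤ U ⊔ W)
    rwa [hU.card_four] at this
  have h3 : Nat.card (U ⊔ W : Subgroup G) ≠ 4 := by
    intro h4
    have h5 : U = U ⊔ W := Subgroup.eq_of_le_of_card_ge le_sup_left (by rw [h4, hU.card_four])
    have h6 : W ≤ U := by
      rw [h5]; exact le_sup_right
    exact hne (Subgroup.eq_of_le_of_card_ge h6 (by rw [hU.card_four, hW.card_four])).symm
  have h4 : Nat.card (U ⊔ W : Subgroup G) = 8 := by
    generalize Nat.card (U ⊔ W : Subgroup G) = c at h1 h2 h3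
    have hc : c ∈ Nat.divisors 8 := by
      rw [Nat.mem_divisors]; exact ⟨h1, by norm_num⟩
    have hd8 : Nat.divisors 8 = {1, 2, 4, 8} := by decide
    rw [hd8] at hc
    simp only [Finset.mem_insert, Finset.mem_singleton] at hc
    omega
  have h5 : (U ⊔ W : Subgroup G) = (T : Subgroup G) :=
    Subgroup.eq_of_le_of_card_ge hT (by rw [h4, card_sylow2_subgroup h T])
  have h6 := normalizer_inf_le_normalizer_sup U W
  rw [← hN, inf_idem, h5, normalizer_sylow2 h T] at h6
  have := Subgroup.card_le_of_le h6
  rw [card_normalizer_kleinFour h hU, card_sylow2_subgroup h T] at this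
  omega

end Cfsg.Agent.Lib.H5.O168
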