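import Mathlib
import Cfsg.Agent.Lib.H1.CoprimeSylow
import Cfsg.Agent.Lib.H5.PSL2MaxDih
import Cfsg.Agent.Lib.H5.PSL2A5

/-!
# `PSL₂(11)` acting on the cosets of `A₅`
-/

set_option autoImplicit false
set_option linter.style.haveILetI false

open Pointwise

namespace Cfsg.Agent.Lib.H5.PSL2Eleven

section Generic

variable {G : Type*} [Group G]

theorem mem_conj_smul_iff (g x : G) (H : Subgroup G) :
    x ∈ MulAut.conj g • H ↔ g⁻¹ * x * g ∈ H := by
  rw [Subgroup.mem_pointwise_smul_iff_inv_smul_mem, MulAut.smul_def, ← map_inv, MulAut.conj_apply,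
    inv_inv]

/-- **Sylow control**: if the normalizer of a Sylow `r`-subgroup `Q₀` of `H` lies in `H`, and the
full `r`-part of `|H|` divides `|H ∩ gHg⁻¹|`, then `g ∈ H`. -/
theorem mem_of_sylow_control [Finite G] (H : Subgroup G) (r : ℕ) [Fact r.Prime] (Q₀ : Subgroup G)
    (hQ₀ : Cfsg.Agent.Lib.H1.IsSylowOf r H Q₀)
    (hN : Subgroup.normalizer (Q₀ : Set G) ≤ H) (g : G)
    (hdiv : r ^ (Nat.card H).factorization r ∣ Nat.card (H ⊓ MulAut.conj g • H : Subgroup G)) :
    g ∈ H := by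
  obtain ⟨Q', hQ'⟩ := Sylow.exists_subgroup_card_pow_prime r hdiv
  obtain ⟨Q, hQdef⟩ : ∃ Q : Subgroup G, Q = Q'.map (H ⊓ MulAut.conj g • H : Subgroup G).subtype :=
    ⟨_, rfl⟩
  have hQK : Q ≤ H ⊓ MulAut.conj g • H := by
    rw [hQdef]; exact Subgroup.map_subtype_le _
  have hQcard : Nat.card Q = r ^ (Nat.card H).factorization r := by
    rw [hQdef, Subgroup.card_map_of_injective (Subgroup.subtype_injective _), hQ']
  have hQ1 : Cfsg.Agent.Lib.H1.IsSylowOf r H Q := ⟨hQK.trans inf_le_left, hQcard⟩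
  have hQ2 : Cfsg.Agent.Lib.H1.IsSylowOf r H (MulAut.conj g⁻¹ • Q) := by
    refine ⟨?_, ?_⟩
    · intro x hx
      rw [mem_conj_smul_iff, inv_inv] at hx
      have := (hQK.trans inf_le_right) hx
      rw [mem_conj_smul_iff] at this
      have e : g⁻¹ * (g * x * g⁻¹) * g = x := by group
      rwa [e] at this
    · rw [Nat.card_congr (Subgroup.equivSMul (MulAut.conj g⁻¹) Q).toEquiv.symm, hQcard]
  obtain ⟨h₁, hh₁, e₁⟩ := hQ₀.exists_conj hQ1
  obtain ⟨h₂, hh₂, e₂⟩ := hQ₀.exists_conj hQ2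
  have hn : h₂⁻¹ * g⁻¹ * h₁ ∈ Subgroup.normalizer (Q₀ : Set G) := by
    rw [← Cfsg.Agent.Lib.H1.conj_smul_eq_self_iff_mem_normalizer]
    rw [map_mul, map_mul, mul_smul, mul_smul, e₁, ← e₂, map_inv, inv_smul_smul]
  have := hN hn
  have h3 : g⁻¹ = h₂ * (h₂⁻¹ * g⁻¹ * h₁) * h₁⁻¹ := by group
  have h4 : g⁻¹ ∈ H := by
    rw [h3]
    exact H.mul_mem (H.mul_mem hh₂ this) (H.inv_mem hh₁)
  simpa using H.inv_mem h4

/-- a normalizer of prime index over `Q₀` lies in `H` as soon as `H` contains `Q₀` and one more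
element of the normalizer -/
theorem normalizer_le_of_prime [Finite G] (H Q₀ : Subgroup G) (hQ₀H : Q₀ ≤ H) {ℓ : ℕ} (hℓ : ℓ.Prime)
    (hcard : Nat.card (Subgroup.normalizer (Q₀ : Set G)) = Nat.card Q₀ * ℓ) {s : G}
    (hsN : s ∈ Subgroup.normalizer (Q₀ : Set G)) (hsH : s ∈ H) (hsQ : s ∉ Q₀) :
    Subgroup.normalizer (Q₀ : Set G) ≤ H := by
  have hQN : Q₀ ≤ Subgroup.normalizer (Q₀ : Set G) := Subgroup.le_normalizer
  have hQM : Q₀ ≤ Subgroup.normalizer (Q₀ : Set G) ⊓ H := le_inf hQN hQ₀H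
  have h1 := Subgroup.relIndex_mul_relIndex Q₀ (Subgroup.normalizer (Q₀ : Set G) ⊓ H)
    (Subgroup.normalizer (Q₀ : Set G)) hQM inf_le_left
  have h2 : Q₀.relIndex (Subgroup.normalizer (Q₀ : Set G)) = ℓ := by
    have := Cfsg.Agent.Lib.H5.card_mul_relIndex_of_le hQN
    rw [hcard] at this
    have hpos : 0 < Nat.card Q₀ := Nat.card_pos
    exact Nat.eq_of_mul_eq_mul_left hpos this
  rw [h2] at h1
  rcases (Nat.dvd_prime hℓ).mp ⟨_, h1.symm⟩ with h | h
  · exfalso
    apply hsQ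
    have := Subgroup.relIndex_eq_one.mp h
    exact this ⟨hsN, hsH⟩
  · rw [h] at h1
    have h3 : (Subgroup.normalizer (Q₀ : Set G) ⊓ H).relIndex (Subgroup.normalizer (Q₀ : Set G)) = 1 := by
      have hpos : 0 < ℓ := hℓ.pos
      have : ℓ * (Subgroup.normalizer (Q₀ : Set G) ⊓ H).relIndex (Subgroup.normalizer (Q₀ : Set G))
          = ℓ * 1 := by rw [h1, mul_one]
      exact Nat.eq_of_mul_eq_mul_left hpos this
    exact (Subgroup.relIndex_eq_one.mp h3).trans inf_le_right

/-- the stabilizer in `H` of the coset `yH` is `H ∩ yHy⁻¹` -/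
theorem card_stabilizer_coset (H : Subgroup G) (y : G) :
    Nat.card (MulAction.stabilizer ↥H ((y : G) : G ⧸ H)) =
      Nat.card (H ⊓ MulAut.conj y • H : Subgroup G) := by
  have hmap : (MulAction.stabilizer ↥H ((y : G) : G ⧸ H)).map H.subtype =
      H ⊓ MulAut.conj y • H := by
    ext x
    constructor
    · rintro ⟨h, hh, rfl⟩
      refine ⟨h.2, ?_⟩
      show (h : G) ∈ MulAut.conj y • H
      rw [mem_conj_smul_iff]
      have h1 : h • ((y : G) : G ⧸ H) = ((y : G) : G ⧸ H) := hh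
      have h2 : (((h : G) * y : G) : G ⧸ H) = ((y : G) : G ⧸ H) := h1
      have h3 := (QuotientGroup.eq.mp h2.symm)
      simpa [mul_assoc] using h3
    · rintro ⟨hxH, hx'⟩
      have hx : x ∈ MulAut.conj y • H := hx'
      rw [mem_conj_smul_iff] at hx
      refine ⟨⟨x, hxH⟩, ?_, rfl⟩
      show (⟨x, hxH⟩ : ↥H) • ((y : G) : G ⧸ H) = ((y : G) : G ⧸ H)
      have : ((x * y : G) : G ⧸ H) = ((y : G) : G ⧸ H) := by
        apply Eq.symm
        rw [QuotientGroup.eq]
        simpa [mul_assoc] using hx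
      exact this
  rw [← hmap, Subgroup.card_map_of_injective H.subtype_injective]

/-- **criterion for 2-transitivity of a coset action** -/
theorem two_transitive_of_card_le [Finite G] (H : Subgroup G) (n : ℕ) (hidx : H.index = n + 1)
    (hK : ∀ g ∉ H, Nat.card (H ⊓ MulAut.conj g • H : Subgroup G) * n ≤ Nat.card H) :
    MulAction.IsMultiplyPretransitive G (G ⧸ H) 2 := by
  -- transitivity of `H` on the nontrivial cosets
  have key : ∀ b d : G ⧸ H, b ≠ ((1 : G) : G ⧸ H) → d ≠ ((1 : G) : G ⧸ H) →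
      ∃ h : ↥H, h • b = d := by
    intro b d hb hd
    obtain ⟨y, rfl⟩ := QuotientGroup.mk_surjective b
    have hy : y ∉ H := by
      intro hy
      apply hb
      rw [QuotientGroup.eq]
      simpa using hy
    have h1 := (MulAction.stabilizer ↥H ((y : G) : G ⧸ H)).card_mul_index
    rw [card_stabilizer_coset, MulAction.index_stabilizer] at h1
    have h2 := hK y hy
    have hKpos : 0 < Nat.card (H ⊓ MulAut.conj y • H : Subgroup G) := Nat.card_pos
    have h3 : n ≤ (MulAction.orbit ↥H ((y : G) : G ⧸ H)).ncard := by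
      rw [← h1] at h2
      exact Nat.le_of_mul_le_mul_left h2 hKpos
    have hsub : MulAction.orbit ↥H ((y : G) : G ⧸ H) ⊆ ({((1 : G) : G ⧸ H)}ᶜ : Set (G ⧸ H)) := by
      rintro _ ⟨h, rfl⟩
      rw [Set.mem_compl_iff, Set.mem_singleton_iff]
      intro h0
      apply hy
      have h2 : (((h : G) * y : G) : G ⧸ H) = ((1 : G) : G ⧸ H) := h0
      have h3 := QuotientGroup.eq.mp h2.symm
      have h4 : (h : G) * y ∈ H := by simpa using h3
      have h5 : y = (h : G)⁻¹ * ((h : G) * y) := by group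
      rw [h5]
      exact H.mul_mem (H.inv_mem h.2) h4
    have hcard : ({((1 : G) : G ⧸ H)}ᶜ : Set (G ⧸ H)).ncard = n := by
      rw [Set.ncard_compl, Set.ncard_singleton]
      have : Nat.card (G ⧸ H) = n + 1 := by rw [← hidx]; rfl
      omega
    have heq : MulAction.orbit ↥H ((y : G) : G ⧸ H) = ({((1 : G) : G ⧸ H)}ᶜ : Set (G ⧸ H)) := by
      apply Set.eq_of_subset_of_ncard_le hsub _ (Set.toFinite _)
      rw [hcard]
      exact h3
    have hd' : d ∈ MulAction.orbit ↥H ((y : G) : G ⧸ H) := by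
      rw [heq]
      exact hd
    obtain ⟨h, hh⟩ := hd'
    exact ⟨h, hh⟩
  rw [MulAction.is_two_pretransitive_iff]
  intro a b c d hab hcd
  obtain ⟨x, rfl⟩ := QuotientGroup.mk_surjective a
  obtain ⟨z, rfl⟩ := QuotientGroup.mk_surjective c
  have hb' : x⁻¹ • b ≠ ((1 : G) : G ⧸ H) := by
    intro h
    apply hab
    have : b = x • ((1 : G) : G ⧸ H) := by rw [← h, smul_inv_smul]
    rw [this]
    show ((x : G) : G ⧸ H) = ((x * 1 : G) : G ⧸ H)
    rw [mul_one]
  have hd' : z⁻¹ • d ≠ ((1 : G) : G ⧸ H) := by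
    intro h
    apply hcd
    have : d = z • ((1 : G) : G ⧸ H) := by rw [← h, smul_inv_smul]
    rw [this]
    show ((z : G) : G ⧸ H) = ((z * 1 : G) : G ⧸ H)
    rw [mul_one]
  obtain ⟨h, hh⟩ := key _ _ hb' hd'
  refine ⟨z * (h : G) * x⁻¹, ?_, ?_⟩
  · show (((z * (h : G) * x⁻¹) * x : G) : G ⧸ H) = ((z : G) : G ⧸ H)
    rw [QuotientGroup.eq]
    have : (z * (h : G) * x⁻¹ * x)⁻¹ * z = (h : G)⁻¹ := by group
    rw [this]
    exact H.inv_mem h.2
  · rw [mul_smul, mul_smul]
    have : (h : G) • x⁻¹ • b = z⁻¹ • d := hh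
    rw [this, smul_inv_smul]

end Generic

section PSL

open Matrix Cfsg.Agent.Lib.H5.PSL2Torus Cfsg.Agent.Lib.H5.PSL2DihOdd Cfsg.Agent.Lib.H5.PSL2MaxDih

variable {F : Type*} [Field F] [Fintype F]

local notation "PSL2" => Matrix.ProjectiveSpecialLinearGroup (Fin 2) F

theorem factorization_sixty_two : (60 : ℕ).factorization 2 = 2 := by
  have h : (60 : ℕ) = 2 ^ 2 * 15 := by norm_num
  rw [h, Nat.factorization_mul (by norm_num) (by norm_num), Nat.factorization_pow]
  simp [Nat.prime_two.factorization,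
    Nat.factorization_eq_zero_of_not_dvd (show ¬ 2 ∣ 15 by norm_num)]

theorem factorization_sixty_five : (60 : ℕ).factorization 5 = 1 := by
  have h : (60 : ℕ) = 5 ^ 1 * 12 := by norm_num
  rw [h, Nat.factorization_mul (by norm_num) (by norm_num), Nat.factorization_pow]
  simp [(show Nat.Prime 5 by norm_num).factorization,
    Nat.factorization_eq_zero_of_not_dvd (show ¬ 5 ∣ 12 by norm_num)]

/-- in `PSL₂(11)`, a subgroup `H ≅ A₅` meets each conjugate `gHg⁻¹`, `g ∉ H`, in a subgroup of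
order at most `6` -/
theorem card_inf_conj_le (hF : Fintype.card F = 11) (H : Subgroup PSL2)
    (e : H ≃* alternatingGroup (Fin 5)) (g : PSL2) (hg : g ∉ H) :
    Nat.card (H ⊓ MulAut.conj g • H : Subgroup PSL2) ≤ 6 := by
  have hodd : Odd (Fintype.card F) := by rw [hF]; decide
  obtain ⟨p, hp⟩ := CharP.exists F
  haveI := hp
  haveI : Fact p.Prime := ⟨CharP.char_is_prime F p⟩
  have hp11 : p = 11 :=
    Cfsg.Agent.Lib.H5.PSL2DihOddMax.char_eq_of_card_prime p (by norm_num) hF
  have hcG := PSL2PrimeMax.two_mul_card hodd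
  rw [hF] at hcG
  have hG : Nat.card PSL2 = 660 := by omega
  have hcH : Nat.card H = 60 := by
    rw [Nat.card_congr e.toEquiv, PSL2PrimeMax.card_alt_five]
  -- the Klein four-subgroup
  obtain ⟨W, hW, hWH, c, hcH', hc3, hcN⟩ := PSL2MaxKlein.exists_klein_of_A5 H e
  have hNW : Nat.card (Subgroup.normalizer (W : Set PSL2)) = 12 := by
    rcases PSL2KleinNorm.card_normalizer_klein hodd W hW with h | h
    · exact h
    · exfalso
      have := Subgroup.card_subgroup_dvd_card (Subgroup.normalizer (W : Set PSL2))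
      rw [h, hG] at this
      omega
  have hcW : c ∉ W := by
    intro hc
    have := orderOf_dvd_natCard (⟨c, hc⟩ : W)
    rw [Subgroup.orderOf_mk, hc3, hW.card_four] at this
    omega
  have hNWH : Subgroup.normalizer (W : Set PSL2) ≤ H :=
    normalizer_le_of_prime H W hWH Nat.prime_three (by rw [hNW, hW.card_four]) hcN hcH' hcW
  have hSylW : Cfsg.Agent.Lib.H1.IsSylowOf 2 H W :=
    ⟨hWH, by rw [hW.card_four, hcH, factorization_sixty_two]; norm_num⟩
  haveI : Fact (Nat.Prime 2) := ⟨Nat.prime_two⟩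
  have h4 : ¬ 4 ∣ Nat.card (H ⊓ MulAut.conj g • H : Subgroup PSL2) := by
    intro h
    apply hg
    apply mem_of_sylow_control H 2 W hSylW hNWH g
    rw [hcH, factorization_sixty_two]
    exact h
  -- the subgroup of order five
  haveI : Fact (Nat.Prime 5) := ⟨by norm_num⟩
  obtain ⟨y₀, s₀, hsy₀, hss₀, hy, hy1, hss, hs1, hsy⟩ := alt5_dihedral_pair
  obtain ⟨y, s, hyH, hsH, hoy, hss', hs1', hsy'⟩ :=
    exists_dihedral_pair H e 5
      (⟨y₀, Equiv.Perm.mem_alternatingGroup.mpr hsy₀⟩ : alternatingGroup (Fin 5))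
      ⟨s₀, Equiv.Perm.mem_alternatingGroup.mpr hss₀⟩
      (Subtype.ext (by simpa using hy))
      (fun h => hy1 (by simpa using congrArg Subtype.val h))
      (Subtype.ext (by simpa using hss))
      (fun h => hs1 (by simpa using congrArg Subtype.val h))
      (Subtype.ext (by simpa using hsy))
  have hy1' : y ≠ 1 := by
    intro h
    rw [h, orderOf_one] at hoy
    omega
  have hx : IsRegSS y := by
    apply PSL2PPrime.isRegSS_of_not_dvd p hy1'
    rw [hoy, hp11]
    omega
  have hctb : Nat.card (tb y) = 5 := by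
    have h5 : 5 ∣ Nat.card (tb y) := by
      have := orderOf_dvd_natCard (⟨y, self_mem_tb y⟩ : tb y)
      rwa [Subgroup.orderOf_mk, hoy] at this
    rcases PSL2PPrime.card_tb hodd hx with h | h <;> rw [hF] at h <;> omega
  have hzp : Subgroup.zpowers y = tb y := by
    apply Subgroup.eq_of_le_of_card_ge
    · exact Subgroup.zpowers_le.mpr (self_mem_tb y)
    · rw [hctb, Nat.card_zpowers, hoy]
  have hNy : Nat.card (Subgroup.normalizer ((Subgroup.zpowers y : Subgroup PSL2) : Set PSL2)) =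
      10 := by
    rw [hzp, card_normalizer_tb hodd hx, hctb]
  have hsN : s ∈ Subgroup.normalizer ((Subgroup.zpowers y : Subgroup PSL2) : Set PSL2) :=
    mem_normalizer_zpowers_of_inv hsy'
  have hos : orderOf s = 2 := orderOf_eq_prime (by rw [pow_two]; exact hss') hs1'
  have hsy : s ∉ Subgroup.zpowers y := by
    intro hs
    have := orderOf_dvd_natCard (⟨s, hs⟩ : Subgroup.zpowers y)
    rw [Subgroup.orderOf_mk, hos, Nat.card_zpowers, hoy] at this
    omega
  have hcz : Nat.card (Subgroup.zpowers y) = 5 := by rw [Nat.card_zpowers, hoy]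
  have hNyH : Subgroup.normalizer ((Subgroup.zpowers y : Subgroup PSL2) : Set PSL2) ≤ H :=
    normalizer_le_of_prime H (Subgroup.zpowers y) (Subgroup.zpowers_le.mpr hyH) Nat.prime_two
      (by rw [hNy, hcz]) hsN hsH hsy
  have hSyl5 : Cfsg.Agent.Lib.H1.IsSylowOf 5 H (Subgroup.zpowers y) :=
    ⟨Subgroup.zpowers_le.mpr hyH, by rw [hcz, hcH, factorization_sixty_five, pow_one]⟩
  have h5 : ¬ 5 ∣ Nat.card (H ⊓ MulAut.conj g • H : Subgroup PSL2) := by
    intro h
    apply hg
    apply mem_of_sylow_control H 5 (Subgroup.zpowers y) hSyl5 hNyH g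
    rw [hcH, factorization_sixty_five, pow_one]
    exact h
  -- conclusion
  have hdvd : Nat.card (H ⊓ MulAut.conj g • H : Subgroup PSL2) ∣ 60 := by
    rw [← hcH]
    exact Subgroup.card_dvd_of_le inf_le_left
  have hd12 : Nat.card (H ⊓ MulAut.conj g • H : Subgroup PSL2) ∣ 12 := by
    have hc : (Nat.card (H ⊓ MulAut.conj g • H : Subgroup PSL2)).Coprime 5 := by
      rw [Nat.coprime_comm, Nat.Prime.coprime_iff_not_dvd (by norm_num)]
      exact h5
    exact hc.dvd_of_dvd_mul_left (by norm_num at hdvd ⊢; exact hdvd)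
  have hle := Nat.le_of_dvd (by norm_num) hd12
  generalize Nat.card (H ⊓ MulAut.conj g • H : Subgroup PSL2) = k at *
  interval_cases k <;> omega

/-- **`PSL₂(11)` acts 2-transitively on the 11 cosets of a subgroup `A₅`** -/
theorem exists_A5_two_transitive (hF : Fintype.card F = 11) :
    ∃ H : Subgroup PSL2, H.index = 11 ∧ Nonempty (H ≃* alternatingGroup (Fin 5)) ∧
      MulAction.IsMultiplyPretransitive PSL2 (PSL2 ⧸ H) 2 := by
  have hodd : Odd (Fintype.card F) := by rw [hF]; decide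
  have hcG := PSL2PrimeMax.two_mul_card hodd
  rw [hF] at hcG
  have hG : Nat.card PSL2 = 660 := by omega
  obtain ⟨H, ⟨e⟩⟩ := PSL2A5.exists_A5 (F := F) (by rw [hF]; norm_num)
  have hcH : Nat.card H = 60 := by
    rw [Nat.card_congr e.toEquiv, PSL2PrimeMax.card_alt_five]
  have hidx : H.index = 11 := by
    have := H.card_mul_index
    rw [hcH, hG] at this
    omega
  refine ⟨H, hidx, ⟨e⟩, ?_⟩
  apply two_transitive_of_card_le H 10 hidx
  intro g hg
  have := card_inf_conj_le hF H e g hg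
  rw [hcH]
  omega

end PSL

end Cfsg.Agent.Lib.H5.PSL2Eleven
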