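import Mathlib
import Cfsg.Agent.S3377
import Cfsg.Agent.Lib.H5.PSL2Eleven
import Cfsg.Agent.Lib.H5.ConjSubgroupCount
import Cfsg.Agent.Lib.H5.SL2Traces

/-!
# The subgroups `A₅` of `PSL₂(11)`
-/

set_option autoImplicit false
set_option linter.style.haveILetI false

open Pointwise

namespace Cfsg.Agent.Lib.H5.PSL2ElevenCount

section Generic

variable {G : Type*} [Group G]

/-- elements `a`, `b` with `a³ = b⁵ = (ab)² = 1`, `ab ≠ 1` generate a copy of `A₅` -/
theorem closure_equiv_A5 (a b : G) (ha : a ^ 3 = 1) (hb : b ^ 5 = 1) (hab : (a * b) ^ 2 = 1)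
    (hne : a * b ≠ 1) :
    Nonempty (Subgroup.closure ({a, b} : Set G) ≃* alternatingGroup (Fin 5)) := by
  obtain ⟨e⟩ := Cfsg.Agent.S3377.result
  obtain ⟨f, hf0, hf1⟩ : ∃ f : Fin 2 → G, f 0 = a ∧ f 1 = b := ⟨![a, b], rfl, rfl⟩
  have hf : ∀ r ∈ ({FreeGroup.of (0 : Fin 2) ^ 3, FreeGroup.of (1 : Fin 2) ^ 5,
      (FreeGroup.of (0 : Fin 2) * FreeGroup.of 1) ^ 2} : Set (FreeGroup (Fin 2))),
      FreeGroup.lift f r = 1 := by
    intro r hr
    rcases hr with rfl | rfl | rfl
    · simp only [map_pow, FreeGroup.lift_apply_of, hf0]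
      exact ha
    · simp only [map_pow, FreeGroup.lift_apply_of, hf1]
      exact hb
    · simp only [map_pow, map_mul, FreeGroup.lift_apply_of, hf0, hf1]
      exact hab
  obtain ⟨φ, hφ⟩ : ∃ φ : PresentedGroup ({FreeGroup.of (0 : Fin 2) ^ 3, FreeGroup.of (1 : Fin 2) ^ 5,
      (FreeGroup.of (0 : Fin 2) * FreeGroup.of 1) ^ 2} : Set (FreeGroup (Fin 2))) →* G,
      ∀ i, φ (PresentedGroup.of i) = f i :=
    ⟨PresentedGroup.toGroup hf, fun i => PresentedGroup.toGroup.of hf⟩
  obtain ⟨ψ, hψ⟩ : ∃ ψ : alternatingGroup (Fin 5) →* G, ψ = φ.comp e.symm.toMonoidHom := ⟨_, rfl⟩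
  have hker : ψ.ker = ⊥ := by
    rcases (MonoidHom.normal_ker ψ).eq_bot_or_eq_top with h | h
    · exact h
    · exfalso
      apply hne
      have h1 : ψ (e (PresentedGroup.of 0 * PresentedGroup.of 1)) = 1 := by
        rw [← MonoidHom.mem_ker, h]; trivial
      rw [hψ] at h1
      simp only [MonoidHom.coe_comp, MulEquiv.coe_toMonoidHom, Function.comp_apply,
        MulEquiv.symm_apply_apply, map_mul, hφ, hf0, hf1] at h1
      exact h1
  have hinj : Function.Injective ψ := (MonoidHom.ker_eq_bot_iff ψ).mp hker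
  have hrange : ψ.range = Subgroup.closure ({a, b} : Set G) := by
    have h1 : ψ.range = φ.range := by
      rw [hψ]
      ext x
      constructor
      · rintro ⟨y, rfl⟩
        exact ⟨e.symm y, rfl⟩
      · rintro ⟨y, rfl⟩
        exact ⟨e y, by simp⟩
    rw [h1, MonoidHom.range_eq_map, ← PresentedGroup.closure_range_of, MonoidHom.map_closure]
    congr 1
    ext x
    constructor
    · rintro ⟨_, ⟨i, rfl⟩, rfl⟩
      rw [hφ]
      fin_cases i
      · left; exact hf0
      · right; exact hf1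
    · rintro (rfl | rfl)
      · exact ⟨_, ⟨0, rfl⟩, by rw [hφ, hf0]⟩
      · exact ⟨_, ⟨1, rfl⟩, by rw [hφ, hf1]⟩
  rw [← hrange]
  exact ⟨(MonoidHom.ofInjective hinj).symm⟩


set_option maxRecDepth 1000000 in
theorem alt5_count : ∀ b : alternatingGroup (Fin 5), b ^ 5 = 1 → b ≠ 1 →
    (Finset.univ.filter (fun a : alternatingGroup (Fin 5) =>
      a ^ 3 = 1 ∧ (a * b) ^ 2 = 1 ∧ a * b ≠ 1)).card = 5 := by
  decide

/-- the set of `a` with `a³ = (ab)² = 1`, `ab ≠ 1` -/
def genSet (b : G) : Set G := {a | a ^ 3 = 1 ∧ (a * b) ^ 2 = 1 ∧ a * b ≠ 1}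

theorem mem_genSet (a b : G) : a ∈ genSet b ↔ a ^ 3 = 1 ∧ (a * b) ^ 2 = 1 ∧ a * b ≠ 1 := Iff.rfl

/-- a subgroup `A₅` containing `b` of order five contains exactly five elements of `genSet b` -/
theorem ncard_genSet_inter (L : Subgroup G) (e : L ≃* alternatingGroup (Fin 5)) (b : G)
    (hbL : b ∈ L) (hb5 : b ^ 5 = 1) (hb1 : b ≠ 1) :
    (genSet b ∩ (L : Set G)).ncard = 5 := by
  have h1 : genSet b ∩ (L : Set G) = (fun a' : alternatingGroup (Fin 5) => ((e.symm a' : L) : G)) ''
      ((Finset.univ.filter (fun a : alternatingGroup (Fin 5) =>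
      a ^ 3 = 1 ∧ (a * e ⟨b, hbL⟩) ^ 2 = 1 ∧ a * e ⟨b, hbL⟩ ≠ 1) :
        Finset (alternatingGroup (Fin 5))) : Set (alternatingGroup (Fin 5))) := by
    ext a
    simp only [Set.mem_inter_iff, mem_genSet, SetLike.mem_coe, Set.mem_image, Finset.coe_filter,
      Finset.mem_univ, true_and, Set.mem_ofPred_eq]
    constructor
    · rintro ⟨⟨h3, h2, hne⟩, haL⟩
      refine ⟨e ⟨a, haL⟩, ⟨?_, ?_, ?_⟩, by simp⟩
      · rw [← map_pow]
        have : (⟨a, haL⟩ : L) ^ 3 = 1 := Subtype.ext (by simpa using h3)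
        rw [this, map_one]
      · rw [← map_mul, ← map_pow]
        have : ((⟨a, haL⟩ : L) * ⟨b, hbL⟩) ^ 2 = 1 := Subtype.ext (by simpa using h2)
        rw [this, map_one]
      · rw [← map_mul]
        intro h
        apply hne
        have := e.injective (h.trans (map_one e).symm)
        simpa using congrArg Subtype.val this
    · rintro ⟨a', ⟨h3, h2, hne⟩, rfl⟩
      refine ⟨⟨?_, ?_, ?_⟩, (e.symm a').2⟩
      · have : (e.symm a') ^ 3 = 1 := by rw [← map_pow, h3, map_one]
        simpa using congrArg Subtype.val this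
      · have : (e.symm a' * ⟨b, hbL⟩) ^ 2 = 1 := by
          apply e.injective
          rw [map_pow, map_mul, MulEquiv.apply_symm_apply, h2, map_one]
        simpa using congrArg Subtype.val this
      · intro h
        apply hne
        have : e.symm a' * ⟨b, hbL⟩ = 1 := Subtype.ext (by simpa using h)
        have := congrArg e this
        rwa [map_mul, MulEquiv.apply_symm_apply, map_one] at this
  rw [h1, Set.ncard_image_of_injective _
    (fun x y h => e.symm.injective (Subtype.ext h)), Set.ncard_coe_finset]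
  apply alt5_count
  · rw [← map_pow]
    have : (⟨b, hbL⟩ : L) ^ 5 = 1 := Subtype.ext (by simpa using hb5)
    rw [this, map_one]
  · intro h
    apply hb1
    have := e.injective (h.trans (map_one e).symm)
    simpa using congrArg Subtype.val this

theorem card_alt5 : Nat.card (alternatingGroup (Fin 5)) = 60 := by
  rw [Nat.card_eq_fintype_card]
  decide

/-- a subgroup `A₅` containing `a ∈ genSet b` and `b` is generated by them -/
theorem eq_closure_of_mem (L : Subgroup G) (e : L ≃* alternatingGroup (Fin 5)) {a b : G}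
    (hb5 : b ^ 5 = 1) (ha : a ∈ genSet b) (haL : a ∈ L) (hbL : b ∈ L) :
    L = Subgroup.closure ({a, b} : Set G) := by
  obtain ⟨e'⟩ := closure_equiv_A5 a b ha.1 hb5 ha.2.1 ha.2.2
  haveI : Finite L := Finite.of_equiv _ e.symm.toEquiv
  symm
  apply Subgroup.eq_of_le_of_card_ge
  · rw [Subgroup.closure_le]
    rintro x (rfl | rfl)
    · exact haL
    · exact hbL
  · rw [Nat.card_congr e.toEquiv, Nat.card_congr e'.toEquiv]

/-- if `genSet b` has ten elements, there are exactly two subgroups `A₅` containing `b` -/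
theorem exists_two_of_ncard_genSet (b : G) (hb5 : b ^ 5 = 1) (hb1 : b ≠ 1)
    (h10 : (genSet b).ncard = 10) :
    ∃ L₁ L₂ : Subgroup G, L₁ ≠ L₂ ∧ Nonempty (L₁ ≃* alternatingGroup (Fin 5)) ∧
      Nonempty (L₂ ≃* alternatingGroup (Fin 5)) ∧ b ∈ L₁ ∧ b ∈ L₂ ∧
      ∀ L : Subgroup G, Nonempty (L ≃* alternatingGroup (Fin 5)) → b ∈ L → L = L₁ ∨ L = L₂ := by
  have hfin : (genSet b).Finite := Set.finite_of_ncard_ne_zero (by rw [h10]; norm_num)
  have hbcl : ∀ a : G, b ∈ Subgroup.closure ({a, b} : Set G) := fun a =>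
    Subgroup.subset_closure (by simp)
  have hacl : ∀ a : G, a ∈ Subgroup.closure ({a, b} : Set G) := fun a =>
    Subgroup.subset_closure (by simp)
  have hcl : ∀ a ∈ genSet b, Nonempty (Subgroup.closure ({a, b} : Set G) ≃* alternatingGroup (Fin 5)) :=
    fun a ha => closure_equiv_A5 a b ha.1 hb5 ha.2.1 ha.2.2
  obtain ⟨a₁, ha₁⟩ : (genSet b).Nonempty := by
    rw [← Set.ncard_pos hfin, h10]; norm_num
  obtain ⟨e₁⟩ := hcl a₁ ha₁
  have h5₁ := ncard_genSet_inter _ e₁ b (hbcl a₁) hb5 hb1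
  obtain ⟨a₂, ha₂, ha₂L⟩ : ∃ a₂ ∈ genSet b, a₂ ∉ genSet b ∩ (Subgroup.closure ({a₁, b} : Set G) : Set G) := by
    apply Set.exists_mem_notMem_of_ncard_lt_ncard _ (hfin.subset Set.inter_subset_left)
    rw [h5₁, h10]; norm_num
  obtain ⟨e₂⟩ := hcl a₂ ha₂
  have h5₂ := ncard_genSet_inter _ e₂ b (hbcl a₂) hb5 hb1
  refine ⟨_, _, ?_, ⟨e₁⟩, ⟨e₂⟩, hbcl a₁, hbcl a₂, ?_⟩
  · intro h
    apply ha₂L
    refine ⟨ha₂, ?_⟩
    rw [h]
    exact hacl a₂
  · rintro L ⟨e⟩ hbL
    by_contra hcon
    push Not at hcon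
    have h5 := ncard_genSet_inter _ e b hbL hb5 hb1
    have hd1 : Disjoint (genSet b ∩ (L : Set G))
        (genSet b ∩ (Subgroup.closure ({a₁, b} : Set G) : Set G)) := by
      rw [Set.disjoint_left]
      rintro a ⟨ha, haL⟩ ⟨-, haL₁⟩
      apply hcon.1
      rw [eq_closure_of_mem L e hb5 ha haL hbL, eq_closure_of_mem _ e₁ hb5 ha haL₁ (hbcl a₁)]
    have hd2 : Disjoint (genSet b ∩ (L : Set G))
        (genSet b ∩ (Subgroup.closure ({a₂, b} : Set G) : Set G)) := by
      rw [Set.disjoint_left]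
      rintro a ⟨ha, haL⟩ ⟨-, haL₁⟩
      apply hcon.2
      rw [eq_closure_of_mem L e hb5 ha haL hbL, eq_closure_of_mem _ e₂ hb5 ha haL₁ (hbcl a₂)]
    have hd3 : Disjoint (genSet b ∩ (Subgroup.closure ({a₁, b} : Set G) : Set G))
        (genSet b ∩ (Subgroup.closure ({a₂, b} : Set G) : Set G)) := by
      rw [Set.disjoint_left]
      rintro a ⟨ha, haL⟩ ⟨-, haL₁⟩
      apply ha₂L
      refine ⟨ha₂, ?_⟩
      have E1 := eq_closure_of_mem _ e₁ hb5 ha haL (hbcl a₁)
      have E2 := eq_closure_of_mem _ e₂ hb5 ha haL₁ (hbcl a₂)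
      show a₂ ∈ Subgroup.closure ({a₁, b} : Set G)
      rw [E1, ← E2]
      exact hacl a₂
    have hf : ∀ M : Subgroup G, (genSet b ∩ (M : Set G)).Finite :=
      fun M => hfin.subset Set.inter_subset_left
    have hunion : ((genSet b ∩ (L : Set G)) ∪
        ((genSet b ∩ (Subgroup.closure ({a₁, b} : Set G) : Set G)) ∪
        (genSet b ∩ (Subgroup.closure ({a₂, b} : Set G) : Set G)))).ncard = 15 := by
      rw [Set.ncard_union_eq (Set.disjoint_union_right.mpr ⟨hd1, hd2⟩) (hf _)
        ((hf _).union (hf _)), Set.ncard_union_eq hd3 (hf _) (hf _), h5, h5₁, h5₂]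
    have hsub : ((genSet b ∩ (L : Set G)) ∪
        ((genSet b ∩ (Subgroup.closure ({a₁, b} : Set G) : Set G)) ∪
        (genSet b ∩ (Subgroup.closure ({a₂, b} : Set G) : Set G)))) ⊆ genSet b := by
      intro x hx
      rcases hx with hx | hx | hx <;> exact hx.1
    have := Set.ncard_le_ncard hsub hfin
    rw [hunion, h10] at this
    omega

end Generic

section Matrices

open Matrix Cfsg.Agent.Lib.H5.PSL2Torus Cfsg.Agent.Lib.H5.SL2Traces

variable {F : Type*} [Field F]

local notation "SL2" => Matrix.SpecialLinearGroup (Fin 2) F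
local notation "M2" => Matrix (Fin 2) (Fin 2) F
local notation "PSL2" => Matrix.ProjectiveSpecialLinearGroup (Fin 2) F

/-- a matrix of determinant one -/
def sl (x y z w : F) (h : x * w - y * z = 1) : SL2 :=
  ⟨!![x, y; z, w], by rw [Matrix.det_fin_two_of]; exact h⟩

theorem sl_val (x y z w : F) (h : x * w - y * z = 1) :
    ((sl x y z w h : SL2) : M2) = !![x, y; z, w] := rfl

theorem pr_neg (g : SL2) : pr (-g) = pr g := ((pr_eq_pr_iff g (-g)).mpr (Or.inr rfl)).symm

theorem trace_neg_sl (g : SL2) : ((-g : SL2) : M2).trace = -(g : M2).trace := by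
  rw [Matrix.SpecialLinearGroup.coe_neg, Matrix.trace_neg]

variable (h11 : (11 : F) = 0)

include h11

theorem two_ne_zero_of_eleven : (2 : F) ≠ 0 := by
  intro h
  have : (1 : F) = 0 := by linear_combination h11 - 5 * h
  exact one_ne_zero this

theorem five_ne_zero_of_eleven : (5 : F) ≠ 0 := by
  intro h
  have : (1 : F) = 0 := by linear_combination h11 - 2 * h
  exact one_ne_zero this

theorem nine_ne_zero_of_eleven : (9 : F) ≠ 0 := by
  intro h
  have : (1 : F) = 0 := by linear_combination 5 * h - 4 * h11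
  exact one_ne_zero this

/-- the element `diag(4, 3)` of order five -/
def bHat : SL2 := sl 4 0 0 3 (by linear_combination h11)

theorem trace_bHat : ((bHat h11 : SL2) : M2).trace = 7 := by
  rw [bHat, sl_val, Matrix.trace_fin_two_of]; norm_num

theorem pr_bHat_pow : pr (bHat h11) ^ 5 = 1 := by
  rw [← map_pow]
  apply pr_eq_one_of_scalar _ 1
  rw [Matrix.SpecialLinearGroup.coe_pow, pow_succ_eq, trace_bHat, uSeq_five, uSeq_four]
  have e1 : (7 : F) ^ 4 - 3 * 7 ^ 2 + 1 = 0 := by linear_combination 205 * h11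
  have e2 : (7 : F) ^ 3 - 2 * 7 = -1 := by linear_combination 30 * h11
  rw [e1, e2, zero_smul, zero_sub, neg_smul, neg_neg]

theorem pr_bHat_ne_one : pr (bHat h11) ≠ 1 := by
  intro h
  rcases trace_of_pr_eq_one _ h with h | h <;> rw [trace_bHat] at h
  · apply five_ne_zero_of_eleven h11
    linear_combination h
  · apply nine_ne_zero_of_eleven h11
    linear_combination h

/-- the ten generators -/
def aHat (y : Fˣ) : SL2 :=
  sl 8 (y : F) (9 * ((y⁻¹ : Fˣ) : F)) 4 (by
    have : (y : F) * ((y⁻¹ : Fˣ) : F) = 1 := Units.mul_inv y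
    linear_combination 2 * h11 - 9 * this)

theorem trace_aHat (y : Fˣ) : ((aHat h11 y : SL2) : M2).trace = 1 := by
  rw [aHat, sl_val, Matrix.trace_fin_two_of]
  linear_combination h11

theorem trace_aHat_mul (y : Fˣ) : ((aHat h11 y * bHat h11 : SL2) : M2).trace = 0 := by
  rw [Matrix.SpecialLinearGroup.coe_mul, aHat, bHat, sl_val, sl_val, Matrix.trace_fin_two]
  simp only [Matrix.mul_apply, Fin.sum_univ_two, Matrix.of_apply, Matrix.cons_val', Matrix.cons_val_zero,
    Matrix.cons_val_one, Matrix.cons_val_fin_one]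
  linear_combination 4 * h11

theorem aHat_mem (y : Fˣ) : pr (aHat h11 y) ∈ genSet (pr (bHat h11)) := by
  refine ⟨?_, ?_, ?_⟩
  · rw [← map_pow]
    apply pr_eq_one_of_scalar _ (-1)
    rw [Matrix.SpecialLinearGroup.coe_pow, pow_succ_eq, trace_aHat, uSeq_three, uSeq_two]
    simp
  · rw [← map_mul, ← map_pow]
    apply pr_eq_one_of_scalar _ (-1)
    rw [Matrix.SpecialLinearGroup.coe_pow, pow_succ_eq, trace_aHat_mul, uSeq_two]
    simp [uSeq]
  · rw [← map_mul]
    intro h
    rcases trace_of_pr_eq_one _ h with h | h <;> rw [trace_aHat_mul] at h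
    · exact two_ne_zero_of_eleven h11 h.symm
    · apply two_ne_zero_of_eleven h11
      linear_combination h

theorem aHat_injective : Function.Injective (fun y : Fˣ => pr (aHat h11 y)) := by
  intro y y' h
  rcases (pr_eq_pr_iff _ _).mp h with h | h
  · have := congrArg (fun g : SL2 => (g : M2) 0 1) h
    simp only [aHat, sl_val, Matrix.of_apply, Matrix.cons_val', Matrix.cons_val_zero,
      Matrix.cons_val_one, Matrix.cons_val_fin_one] at this
    exact (Units.ext this).symm
  · exfalso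
    have := congrArg (fun g : SL2 => (g : M2) 0 0) h
    simp only [aHat, sl_val, Matrix.SpecialLinearGroup.coe_neg, Matrix.neg_apply, Matrix.of_apply,
      Matrix.cons_val', Matrix.cons_val_zero, Matrix.cons_val_fin_one] at this
    apply five_ne_zero_of_eleven h11
    linear_combination this - h11

theorem exists_aHat_of_mem {a : PSL2} (ha : a ∈ genSet (pr (bHat h11))) :
    ∃ y : Fˣ, a = pr (aHat h11 y) := by
  obtain ⟨h3, h2, hne⟩ := ha
  have ha1 : a ≠ 1 := by
    rintro rfl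
    rw [one_mul] at h2 hne
    apply hne
    have h5 := pr_bHat_pow h11
    calc pr (bHat h11) = pr (bHat h11) ^ 5 * ((pr (bHat h11)) ^ 2)⁻¹ ^ 2 := by group
      _ = 1 := by rw [h5, h2]; simp
  -- a lift of trace one
  obtain ⟨g, hg, htr⟩ : ∃ g : SL2, pr g = a ∧ (g : M2).trace = 1 := by
    obtain ⟨g, rfl⟩ := pr_surjective a
    rcases uSeq_eq_zero_of_pow g 2 h3 with h0 | h0
    · rw [uSeq_three] at h0
      have : ((g : M2).trace - 1) * ((g : M2).trace + 1) = 0 := by linear_combination h0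
      rcases mul_eq_zero.mp this with h | h
      · exact ⟨g, rfl, by linear_combination h⟩
      · exact ⟨-g, pr_neg g, by rw [trace_neg_sl]; linear_combination -h⟩
    · exact absurd h0 ha1
  subst hg
  have htr2 : ((g * bHat h11 : SL2) : M2).trace = 0 := by
    rw [← map_mul] at h2 hne
    rcases uSeq_eq_zero_of_pow (g * bHat h11) 1 h2 with h0 | h0
    · rwa [uSeq_two] at h0
    · exact absurd h0 hne
  have hdet := g.det_coe
  rw [Matrix.det_fin_two] at hdet
  rw [Matrix.trace_fin_two] at htr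
  rw [Matrix.SpecialLinearGroup.coe_mul, bHat, sl_val, Matrix.trace_fin_two] at htr2
  simp only [Matrix.mul_apply, Fin.sum_univ_two, Matrix.of_apply, Matrix.cons_val', Matrix.cons_val_zero,
    Matrix.cons_val_one, Matrix.cons_val_fin_one, mul_zero, add_zero, zero_add] at htr2
  have hx : (g : M2) 0 0 = 8 := by linear_combination htr2 - 3 * htr - h11
  have hw : (g : M2) 1 1 = 4 := by linear_combination htr - hx - h11
  have hyz : (g : M2) 0 1 * (g : M2) 1 0 = 9 := by
    rw [hx, hw] at hdet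
    linear_combination -hdet + 2 * h11
  have hy : (g : M2) 0 1 ≠ 0 := by
    intro h
    rw [h, zero_mul] at hyz
    exact nine_ne_zero_of_eleven h11 hyz.symm
  refine ⟨Units.mk0 _ hy, ?_⟩
  congr 1
  apply Subtype.ext
  rw [aHat, sl_val]
  ext i j
  fin_cases i <;> fin_cases j
  · exact hx
  · rfl
  · simp only [Fin.mk_one, Fin.isValue, Fin.zero_eta, Matrix.of_apply, Matrix.cons_val', Matrix.cons_val_zero,
      Matrix.cons_val_one, Matrix.cons_val_fin_one, Units.val_inv_eq_inv_val, Units.val_mk0]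
    field_simp
    linear_combination hyz
  · exact hw

theorem ncard_genSet_bHat [Fintype F] (hF : Fintype.card F = 11) :
    (genSet (pr (bHat h11))).ncard = 10 := by
  have h1 : genSet (pr (bHat h11)) = Set.range (fun y : Fˣ => pr (aHat h11 y)) := by
    ext a
    constructor
    · intro ha
      obtain ⟨y, rfl⟩ := exists_aHat_of_mem h11 ha
      exact ⟨y, rfl⟩
    · rintro ⟨y, rfl⟩
      exact aHat_mem h11 y
  rw [h1, ← Set.image_univ, Set.ncard_image_of_injective _ (aHat_injective h11), Set.ncard_univ]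
  classical
  rw [Nat.card_eq_fintype_card, Fintype.card_units, hF]

end Matrices

section PSL

open Matrix Cfsg.Agent.Lib.H5.PSL2Torus Cfsg.Agent.Lib.H5.PSL2DihOdd Cfsg.Agent.Lib.H5.PSL2MaxDih
  Cfsg.Agent.Lib.H5.PSL2Eleven

variable {F : Type*} [Field F] [Fintype F]

local notation "PSL2" => Matrix.ProjectiveSpecialLinearGroup (Fin 2) F

theorem card_psl_eleven (hF : Fintype.card F = 11) : Nat.card PSL2 = 660 := by
  have hodd : Odd (Fintype.card F) := by rw [hF]; decide
  have hcG := PSL2PrimeMax.two_mul_card hodd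
  rw [hF] at hcG
  omega

theorem factorization_660_five : (660 : ℕ).factorization 5 = 1 := by
  have h : (660 : ℕ) = 5 ^ 1 * 132 := by norm_num
  rw [h, Nat.factorization_mul (by norm_num) (by norm_num), Nat.factorization_pow]
  simp [(show Nat.Prime 5 by norm_num).factorization,
    Nat.factorization_eq_zero_of_not_dvd (show ¬ 5 ∣ 132 by norm_num)]

/-- in `PSL₂(11)`, a subgroup `H ≅ A₅` meets a conjugate `gHg⁻¹`, `g ∉ H`, in a subgroup of
order prime to five -/
theorem not_five_dvd_card_inf_conj (hF : Fintype.card F = 11) (H : Subgroup PSL2)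
    (e : H ≃* alternatingGroup (Fin 5)) (g : PSL2) (hg : g ∉ H) :
    ¬ 5 ∣ Nat.card (H ⊓ MulAut.conj g • H : Subgroup PSL2) := by
  have hodd : Odd (Fintype.card F) := by rw [hF]; decide
  obtain ⟨p, hp⟩ := CharP.exists F
  haveI := hp
  haveI : Fact p.Prime := ⟨CharP.char_is_prime F p⟩
  have hp11 : p = 11 :=
    Cfsg.Agent.Lib.H5.PSL2DihOddMax.char_eq_of_card_prime p (by norm_num) hF
  have hG := card_psl_eleven hF
  have hcH : Nat.card H = 60 := by
    rw [Nat.card_congr e.toEquiv, PSL2PrimeMax.card_alt_five]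
  haveI : Fact (Nat.Prime 5) := ⟨by norm_num⟩
  obtain ⟨y₀, s₀, hsy₀, hss₀, hy, hy1, hss, hs1, hsy⟩ := alt5_dihedral_pair
  obtain ⟨y, s, hyH, hsH, hoy, hss', hs1', hsy'⟩ :=
    exists_dihedral_pair H e 5
      (⟨y₀, Equiv.Perm.mem_alternatingGroup.mpr hsy₀⟩ : alternatingGroup (Fin 5))
      ⟨s₀, Equiv.Perm.mem_alternatingGroup.mpr hss₀⟩
      (Subtype.ext (by simpa using hy))
      (fun h => hy1 (by simpa using congrArg Subtype.val h))
      (Subtype.ext (by simpa using hss))
      (fun h => hs1 (by simpa using congrArg Subtype.val h))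
      (Subtype.ext (by simpa using hsy))
  have hy1' : y ≠ 1 := by
    intro h
    rw [h, orderOf_one] at hoy
    omega
  have hx : IsRegSS y := by
    apply PSL2PPrime.isRegSS_of_not_dvd p hy1'
    rw [hoy, hp11]
    omega
  have hctb : Nat.card (tb y) = 5 := by
    have h5 : 5 ∣ Nat.card (tb y) := by
      have := orderOf_dvd_natCard (⟨y, self_mem_tb y⟩ : tb y)
      rwa [Subgroup.orderOf_mk, hoy] at this
    rcases PSL2PPrime.card_tb hodd hx with h | h <;> rw [hF] at h <;> omega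
  have hzp : Subgroup.zpowers y = tb y := by
    apply Subgroup.eq_of_le_of_card_ge
    · exact Subgroup.zpowers_le.mpr (self_mem_tb y)
    · rw [hctb, Nat.card_zpowers, hoy]
  have hNy : Nat.card (Subgroup.normalizer ((Subgroup.zpowers y : Subgroup PSL2) : Set PSL2)) =
      10 := by
    rw [hzp, card_normalizer_tb hodd hx, hctb]
  have hsN : s ∈ Subgroup.normalizer ((Subgroup.zpowers y : Subgroup PSL2) : Set PSL2) :=
    mem_normalizer_zpowers_of_inv hsy'
  have hos : orderOf s = 2 := orderOf_eq_prime (by rw [pow_two]; exact hss') hs1'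
  have hsy : s ∉ Subgroup.zpowers y := by
    intro hs
    have := orderOf_dvd_natCard (⟨s, hs⟩ : Subgroup.zpowers y)
    rw [Subgroup.orderOf_mk, hos, Nat.card_zpowers, hoy] at this
    omega
  have hcz : Nat.card (Subgroup.zpowers y) = 5 := by rw [Nat.card_zpowers, hoy]
  have hNyH : Subgroup.normalizer ((Subgroup.zpowers y : Subgroup PSL2) : Set PSL2) ≤ H :=
    normalizer_le_of_prime H (Subgroup.zpowers y) (Subgroup.zpowers_le.mpr hyH) Nat.prime_two
      (by rw [hNy, hcz]) hsN hsH hsy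
  have hSyl5 : Cfsg.Agent.Lib.H1.IsSylowOf 5 H (Subgroup.zpowers y) :=
    ⟨Subgroup.zpowers_le.mpr hyH, by rw [hcz, hcH, factorization_sixty_five, pow_one]⟩
  intro h
  apply hg
  apply mem_of_sylow_control H 5 (Subgroup.zpowers y) hSyl5 hNyH g
  rw [hcH, factorization_sixty_five, pow_one]
  exact h

/-- a subgroup `A₅` of `PSL₂(11)` is self-normalizing -/
theorem normalizer_eq_self (hF : Fintype.card F = 11) (H : Subgroup PSL2)
    (e : H ≃* alternatingGroup (Fin 5)) : Subgroup.normalizer (H : Set PSL2) = H := by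
  apply le_antisymm _ Subgroup.le_normalizer
  intro g hgN
  by_contra hg
  have h1 := card_inf_conj_le hF H e g hg
  rw [Cfsg.Agent.Lib.H1.conj_smul_eq_self_iff_mem_normalizer.mpr hgN, inf_idem,
    Nat.card_congr e.toEquiv, PSL2PrimeMax.card_alt_five] at h1
  omega

theorem conj_smul_eq_map {G : Type*} [Group G] (g : G) (L : Subgroup G) :
    MulAut.conj g • L = L.map (MulAut.conj g).toMonoidHom := rfl

/-- **the 22 subgroups `A₅` of `PSL₂(11)`** -/
theorem count_A5 (hF : Fintype.card F = 11) :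
    Nat.card {H : Subgroup PSL2 // Nonempty (H ≃* alternatingGroup (Fin 5))} = 22 ∧
    ∃ H K : Subgroup PSL2, Nonempty (H ≃* alternatingGroup (Fin 5)) ∧
      Nonempty (K ≃* alternatingGroup (Fin 5)) ∧
      (∀ g : PSL2, MulAut.conj g • H ≠ K) ∧
      ∀ L : Subgroup PSL2, Nonempty (L ≃* alternatingGroup (Fin 5)) →
        ∃ g : PSL2, MulAut.conj g • L = H ∨ MulAut.conj g • L = K := by
  obtain ⟨p, hp⟩ := CharP.exists F
  haveI := hp
  haveI : Fact p.Prime := ⟨CharP.char_is_prime F p⟩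
  have hp11 : p = 11 :=
    Cfsg.Agent.Lib.H5.PSL2DihOddMax.char_eq_of_card_prime p (by norm_num) hF
  subst hp11
  have h11 : (11 : F) = 0 := by
    have := CharP.cast_eq_zero F 11
    exact_mod_cast this
  have hG := card_psl_eleven hF
  obtain ⟨b, hbdef⟩ : ∃ b : PSL2, b = pr (bHat h11) := ⟨_, rfl⟩
  have hb5 : b ^ 5 = 1 := by rw [hbdef]; exact pr_bHat_pow h11
  have hb1 : b ≠ 1 := by rw [hbdef]; exact pr_bHat_ne_one h11
  have h10 : (genSet b).ncard = 10 := by rw [hbdef]; exact ncard_genSet_bHat h11 hF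
  haveI : Fact (Nat.Prime 5) := ⟨by norm_num⟩
  have hob : orderOf b = 5 := orderOf_eq_prime hb5 hb1
  obtain ⟨L₁, L₂, hne, ⟨e₁⟩, ⟨e₂⟩, hb₁, hb₂, hall⟩ := exists_two_of_ncard_genSet b hb5 hb1 h10
  have hA5 : ∀ (L : Subgroup PSL2) (g : PSL2), Nonempty (L ≃* alternatingGroup (Fin 5)) →
      Nonempty ((MulAut.conj g • L : Subgroup PSL2) ≃* alternatingGroup (Fin 5)) := by
    rintro L g ⟨e⟩
    exact ⟨(Subgroup.equivSMul (MulAut.conj g) L).symm.trans e⟩
  -- every `A₅` is conjugate to one containing `b`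
  have hconjb : ∀ L : Subgroup PSL2, Nonempty (L ≃* alternatingGroup (Fin 5)) →
      ∃ g : PSL2, b ∈ MulAut.conj g • L := by
    rintro L ⟨e⟩
    have hcL : Nat.card L = 60 := by
      rw [Nat.card_congr e.toEquiv, PSL2PrimeMax.card_alt_five]
    obtain ⟨y, hy⟩ := exists_prime_orderOf_dvd_card' (G := L) 5 (by rw [hcL]; norm_num)
    have hQ : Cfsg.Agent.Lib.H1.IsSylowOf 5 (⊤ : Subgroup PSL2) (Subgroup.zpowers (y : PSL2)) := by
      refine ⟨le_top, ?_⟩
      rw [Nat.card_zpowers, Subgroup.orderOf_coe, hy, Subgroup.card_top, hG,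
        factorization_660_five, pow_one]
    have hB : Cfsg.Agent.Lib.H1.IsSylowOf 5 (⊤ : Subgroup PSL2) (Subgroup.zpowers b) := by
      refine ⟨le_top, ?_⟩
      rw [Nat.card_zpowers, hob, Subgroup.card_top, hG, factorization_660_five, pow_one]
    obtain ⟨k, -, hk⟩ := hQ.exists_conj hB
    refine ⟨k, ?_⟩
    have hbmem : b ∈ MulAut.conj k • Subgroup.zpowers (y : PSL2) := by
      rw [hk]; exact Subgroup.mem_zpowers b
    rw [mem_conj_smul_iff] at hbmem ⊢
    exact (Subgroup.zpowers_le.mpr y.2) hbmem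
  have hnonconj : ∀ g : PSL2, MulAut.conj g • L₁ ≠ L₂ := by
    intro g hg
    by_cases hgL : g ∈ L₁
    · apply hne
      rw [← hg]
      exact (Cfsg.Agent.Lib.H1.conj_smul_eq_self_iff_mem_normalizer.mpr
        (Subgroup.le_normalizer hgL)).symm
    · apply not_five_dvd_card_inf_conj hF L₁ e₁ g hgL
      rw [hg]
      have := orderOf_dvd_natCard (⟨b, ⟨hb₁, hb₂⟩⟩ : (L₁ ⊓ L₂ : Subgroup PSL2))
      rwa [← Subgroup.orderOf_coe, hob] at this
  have hclass : ∀ L : Subgroup PSL2, Nonempty (L ≃* alternatingGroup (Fin 5)) →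
      ∃ g : PSL2, MulAut.conj g • L = L₁ ∨ MulAut.conj g • L = L₂ := by
    intro L hL
    obtain ⟨g, hg⟩ := hconjb L hL
    exact ⟨g, hall _ (hA5 L g hL) hg⟩
  refine ⟨?_, L₁, L₂, ⟨e₁⟩, ⟨e₂⟩, hnonconj, hclass⟩
  -- the count
  have hO : ∀ (L : Subgroup PSL2), Nonempty (L ≃* alternatingGroup (Fin 5)) →
      Set.ncard {W : Subgroup PSL2 | ∃ g : PSL2, W = L.map (MulAut.conj g).toMonoidHom} = 11 := by
    rintro L ⟨e⟩
    have h := ConjSubgroupCount.card_eq_card_conj_mul_card_normalizer L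
    rw [normalizer_eq_self hF L e, Nat.card_congr e.toEquiv, PSL2PrimeMax.card_alt_five, hG] at h
    have h' : Nat.card {W : Subgroup PSL2 // ∃ g : PSL2, W = L.map (MulAut.conj g).toMonoidHom} =
        Set.ncard {W : Subgroup PSL2 | ∃ g : PSL2, W = L.map (MulAut.conj g).toMonoidHom} :=
      _root_.Nat.card_coe_set_eq _
    rw [← h']
    omega
  have hX : {H : Subgroup PSL2 | Nonempty (H ≃* alternatingGroup (Fin 5))} =
      {W : Subgroup PSL2 | ∃ g : PSL2, W = L₁.map (MulAut.conj g).toMonoidHom} ∪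
      {W : Subgroup PSL2 | ∃ g : PSL2, W = L₂.map (MulAut.conj g).toMonoidHom} := by
    ext L
    constructor
    · intro hL
      obtain ⟨g, hg | hg⟩ := hclass L hL
      · left
        refine ⟨g⁻¹, ?_⟩
        rw [← conj_smul_eq_map, ← hg, map_inv, inv_smul_smul]
      · right
        refine ⟨g⁻¹, ?_⟩
        rw [← conj_smul_eq_map, ← hg, map_inv, inv_smul_smul]
    · rintro (⟨g, rfl⟩ | ⟨g, rfl⟩)
      · exact hA5 L₁ g ⟨e₁⟩
      · exact hA5 L₂ g ⟨e₂⟩
  have hdisj : Disjoint
      {W : Subgroup PSL2 | ∃ g : PSL2, W = L₁.map (MulAut.conj g).toMonoidHom}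
      {W : Subgroup PSL2 | ∃ g : PSL2, W = L₂.map (MulAut.conj g).toMonoidHom} := by
    rw [Set.disjoint_left]
    rintro W ⟨g, rfl⟩ ⟨g', hg'⟩
    apply hnonconj (g'⁻¹ * g)
    rw [map_mul, mul_smul, conj_smul_eq_map g, hg', ← conj_smul_eq_map, map_inv, inv_smul_smul]
  have hcard : Nat.card {H : Subgroup PSL2 // Nonempty (H ≃* alternatingGroup (Fin 5))} =
      Set.ncard {H : Subgroup PSL2 | Nonempty (H ≃* alternatingGroup (Fin 5))} :=
    _root_.Nat.card_coe_set_eq _
  rw [hcard, hX, Set.ncard_union_eq hdisj (Set.toFinite _) (Set.toFinite _), hO L₁ ⟨e₁⟩,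
    hO L₂ ⟨e₂⟩]

end PSL

end Cfsg.Agent.Lib.H5.PSL2ElevenCount
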