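import Mathlib
import Cfsg.Agent.Lib.H5.PSL2MinSimple2

/-!
# `PSL₂(q)` is minimal simple iff `q` is on Thompson's list: the statement
-/

set_option autoImplicit false
set_option linter.style.haveILetI false

namespace Cfsg.Agent.Lib.H5.PSL2MinSimple

open Matrix Cfsg.Agent.Lib.H12 Cfsg.Agent.Lib.H5.PSL2Torus Cfsg.Agent.Lib.H5
  Cfsg.Agent.Lib.H5.PSL2Solvable

variable {F : Type*} [Field F] [Fintype F]

local notation "PSL2" => Matrix.ProjectiveSpecialLinearGroup (Fin 2) F

/-- the easy parts of minimal simplicity -/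
theorem minimal_of_proper (h4 : 4 ≤ Fintype.card F)
    (h : ∀ H : Subgroup PSL2, H ≠ ⊤ → Group.IsSolvable H) : Cfsg.IsMinimalSimple PSL2 := by
  refine ⟨Matrix.ProjectiveSpecialLinearGroup.rank_two_simple
    (by rw [Nat.card_eq_fintype_card]; exact h4), ?_, h⟩
  intro hc
  exact not_comm_psl2 (F := F) (fun a b => hc.is_comm.comm a b)

theorem minimal_of_list {q : ℕ} (hF : Fintype.card F = q)
    (h : (∃ r : ℕ, r.Prime ∧ q = 2 ^ r) ∨ (∃ r : ℕ, r.Prime ∧ r ≠ 2 ∧ q = 3 ^ r) ∨
      (q.Prime ∧ 5 < q ∧ (q % 5 = 2 ∨ q % 5 = 3)) ∨ q = 5) : Cfsg.IsMinimalSimple PSL2 := by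
  subst hF
  rcases h with ⟨r, hr, hq⟩ | ⟨r, hr, hr2, hq⟩ | ⟨hqp, hq5, hmod⟩ | hq
  · -- `2 ^ r`
    have heven : Even (Fintype.card F) := by
      rw [hq]; exact (Nat.even_pow' hr.ne_zero).mpr even_two
    have h2 : (2 : F) = 0 := PSL2SubfieldMaxTwo.two_eq_zero_of_even heven
    haveI : Fact (Nat.Prime 2) := ⟨Nat.prime_two⟩
    haveI := DicksonTwo.charP_two h2
    have h4 : 4 ≤ Fintype.card F := by
      rw [hq]
      calc 4 = 2 ^ 2 := by norm_num
        _ ≤ 2 ^ r := Nat.pow_le_pow_right (by norm_num) hr.two_le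
    apply minimal_of_proper h4
    apply proper_solvable_two' h2
    intro S
    rcases subfield_cases 2 r (Or.inr hr) hq S with h | ⟨h, -⟩
    · exact Or.inl h
    · right; omega
  · -- `3 ^ r`
    haveI : Fact (Nat.Prime 3) := ⟨Nat.prime_three⟩
    haveI := charP_of_card_pow Nat.prime_three hr.ne_zero hq
    have hrodd : Odd r := hr.odd_of_ne_two hr2
    have hodd : Odd (Fintype.card F) := by
      rw [hq]; exact (by decide : Odd 3).pow
    have h4 : 4 ≤ Fintype.card F := by
      rw [hq]
      calc 4 ≤ 3 ^ 2 := by norm_num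
        _ ≤ 3 ^ r := Nat.pow_le_pow_right (by norm_num) hr.two_le
    apply minimal_of_proper h4
    apply proper_solvable_odd 3 hodd
    · intro S
      rcases subfield_cases 3 r (Or.inr hr) hq S with h | ⟨h, -⟩
      · exact Or.inl h
      · exact Or.inr h
    · left
      rw [hq]
      exact PSL2SubfieldMax.not_five_dvd r hrodd
  · -- a prime `≡ ±2 (mod 5)`
    haveI : Fact (Nat.Prime (Fintype.card F)) := ⟨hqp⟩
    have hq1 : Fintype.card F = Fintype.card F ^ 1 := (pow_one _).symm
    haveI := charP_of_card_pow hqp one_ne_zero hq1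
    have hodd : Odd (Fintype.card F) := hqp.odd_of_ne_two (by omega)
    apply minimal_of_proper (by omega)
    apply proper_solvable_odd (Fintype.card F) hodd
    · intro S
      rcases subfield_cases (Fintype.card F) 1 (Or.inl rfl) hq1 S with h | ⟨-, h⟩
      · exact Or.inl h
      · exact absurd h Nat.not_prime_one
    · left
      exact not_five_dvd_of_mod hmod
  · -- `5`
    have hqp : (Fintype.card F).Prime := by rw [hq]; norm_num
    haveI : Fact (Nat.Prime (Fintype.card F)) := ⟨hqp⟩
    have hq1 : Fintype.card F = Fintype.card F ^ 1 := (pow_one _).symm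
    haveI := charP_of_card_pow hqp one_ne_zero hq1
    have hodd : Odd (Fintype.card F) := hqp.odd_of_ne_two (by omega)
    apply minimal_of_proper (by omega)
    apply proper_solvable_odd (Fintype.card F) hodd
    · intro S
      rcases subfield_cases (Fintype.card F) 1 (Or.inl rfl) hq1 S with h | ⟨-, h⟩
      · exact Or.inl h
      · exact absurd h Nat.not_prime_one
    · right
      exact hq

theorem list_of_minimal {q : ℕ} (hF : Fintype.card F = q) (hms : Cfsg.IsMinimalSimple PSL2) :
    (∃ r : ℕ, r.Prime ∧ q = 2 ^ r) ∨ (∃ r : ℕ, r.Prime ∧ r ≠ 2 ∧ q = 3 ^ r) ∨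
      (q.Prime ∧ 5 < q ∧ (q % 5 = 2 ∨ q % 5 = 3)) ∨ q = 5 := by
  subst hF
  by_contra hnot
  push Not at hnot
  obtain ⟨hn1, hn2, hn3, hn4⟩ := hnot
  obtain ⟨p, hp⟩ := CharP.exists F
  haveI := hp
  have hpp : p.Prime := CharP.char_is_prime F p
  haveI : Fact p.Prime := ⟨hpp⟩
  obtain ⟨k, -, hk⟩ := FiniteField.card F p
  obtain ⟨k', hk'⟩ : ∃ k' : ℕ, k' = (k : ℕ) := ⟨_, rfl⟩
  rw [← hk'] at hk
  have hk1 : 1 ≤ k' := by rw [hk']; exact k.pos
  -- a proper subfield of order `p ^ d ≥ 4`
  have hsubfield : ∀ d : ℕ, d ∣ k' → d < k' → d ≠ 0 → 4 ≤ p ^ d → False := by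
    intro d hd hdk hd0 h4
    haveI : Fintype (GaloisField p d) := Fintype.ofFinite _
    have hc : Fintype.card (GaloisField p d) = p ^ d := by
      rw [← Nat.card_eq_fintype_card, GaloisField.card p d hd0]
    obtain ⟨e, he⟩ := hd
    obtain ⟨ι⟩ := PSL2Subfield.exists_ringHom (F := F) (K := GaloisField p d) e
      (by rw [hc, hk, he, pow_mul])
    apply not_minimal_of_subfield ι (by rw [hc]; exact h4) _ hms
    rw [hc, hk]
    exact Nat.pow_lt_pow_right hpp.one_lt hdk
  by_cases hkone : k' = 1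
  · rw [hkone, pow_one] at hk
    -- `q = p`
    by_cases hp23 : p = 2 ∨ p = 3
    · exact not_minimal_small (by rw [hk]; exact hp23) hms
    push Not at hp23
    have hp5 : p ≠ 5 := fun h => hn4 (by rw [hk, h])
    have hp7 : 7 ≤ p := by
      have := hpp.two_le
      by_contra hlt
      push Not at hlt
      interval_cases p <;> first | omega | (exfalso; revert hpp; decide)
    have hmod0 : p % 5 ≠ 0 := by
      intro h
      have : 5 ∣ p := Nat.dvd_of_mod_eq_zero h
      exact hp5 ((Nat.prime_dvd_prime_iff_eq Nat.prime_five hpp).mp this).symm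
    by_cases hmod : p % 5 = 2 ∨ p % 5 = 3
    · obtain ⟨h2', h3'⟩ := hn3 (by rw [hk]; exact hpp) (by rw [hk]; omega)
      rw [hk] at h2' h3'
      rcases hmod with h | h
      · exact h2' h
      · exact h3' h
    · have hmod' : p % 5 = 1 ∨ p % 5 = 4 := by omega
      exact not_minimal_of_A5 (by rw [hk]; exact five_dvd_of_mod hmod') (by rw [hk]; exact hp7) hms
  · have hk2 : 2 ≤ k' := by omega
    by_cases hkp : k'.Prime
    · by_cases hp2 : p = 2
      · exact hn1 k' hkp (by rw [hk, hp2])
      by_cases hp3 : p = 3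
      · by_cases hk22 : k' = 2
        · -- `q = 9`
          rw [hp3, hk22] at hk
          exact not_minimal_of_A5 (by rw [hk]; norm_num) (by rw [hk]; norm_num) hms
        · exact hn2 k' hkp hk22 (by rw [hk, hp3])
      · have hp5 : 5 ≤ p := by
          have := hpp.two_le
          by_contra hlt
          push Not at hlt
          interval_cases p <;> first | omega | (exfalso; revert hpp; decide)
        exact hsubfield 1 (one_dvd _) (by omega) one_ne_zero (by rw [pow_one]; omega)
    · obtain ⟨d, hd, hd2, hdk⟩ := Nat.exists_dvd_of_not_prime2 hk2 hkp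
      refine hsubfield d hd hdk (by omega) ?_
      calc 4 = 2 ^ 2 := by norm_num
        _ ≤ p ^ 2 := Nat.pow_le_pow_left hpp.two_le 2
        _ ≤ p ^ d := Nat.pow_le_pow_right hpp.pos hd2

end Cfsg.Agent.Lib.H5.PSL2MinSimple
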