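import Mathlib
import Cfsg.Agent.Lib.H17.AffSL

/-!
# Powers of elements of `SL₃(4)` (helper5)

Cayley–Hamilton for `3 × 3` matrices and: every `M ∈ SL₃(F)`, `|F| = 4`, has a power `M ^ k`,
`k ∈ {3, 4, 5, 7}`, which is a scalar matrix.
-/

set_option autoImplicit false

namespace Cfsg.Agent.Lib.H5.PSL34

open Matrix Polynomial

/-- the second coefficient of the characteristic polynomial of a `3 × 3` matrix -/
def c2 {R : Type*} [CommRing R] (M : Matrix (Fin 3) (Fin 3) R) : R :=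
  (M 0 0 * M 1 1 - M 0 1 * M 1 0) + (M 0 0 * M 2 2 - M 0 2 * M 2 0) +
    (M 1 1 * M 2 2 - M 1 2 * M 2 1)

/-- Cayley–Hamilton for `3 × 3` matrices. -/
theorem cayley3 {R : Type*} [CommRing R] (M : Matrix (Fin 3) (Fin 3) R) :
    M ^ 3 = M.trace • M ^ 2 + (-(c2 M)) • M + M.det • (1 : Matrix (Fin 3) (Fin 3) R) := by
  rw [pow_succ, pow_two, Matrix.det_fin_three, Matrix.trace_fin_three]
  unfold c2
  ext i j
  fin_cases i <;> fin_cases j <;>
    simp [Matrix.mul_apply, Fin.sum_univ_three] <;> ring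

theorem pow_eq_of_dvd {F A : Type*} [CommRing F] [Ring A] [Algebra F A] (M : A) (a b c : F) (k : ℕ)
    (Q : F[X]) (hM : M ^ 3 = a • M ^ 2 + b • M + 1)
    (hpoly : (X : F[X]) ^ k - C c = (X ^ 3 - C a * X ^ 2 - C b * X - 1) * Q) :
    M ^ k = c • (1 : A) := by
  have hchi : aeval M (X ^ 3 - C a * X ^ 2 - C b * X - 1 : F[X]) = 0 := by
    simp only [map_sub, map_mul, map_pow, aeval_X, aeval_C, map_one]
    rw [hM, Algebra.algebraMap_eq_smul_one, Algebra.algebraMap_eq_smul_one]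
    simp only [smul_mul_assoc, one_mul]
    abel
  have h := congrArg (aeval M) hpoly
  rw [map_mul, hchi, zero_mul, map_sub, map_pow, aeval_X, aeval_C, sub_eq_zero,
    Algebra.algebraMap_eq_smul_one] at h
  exact h

section cases

variable {F A : Type*} [CommRing F] [Ring A] [Algebra F A]

theorem two_poly (h2 : (2 : F) = 0) : (2 : F[X]) = 0 := by
  have h : (2 : F[X]) = C (2 : F) := (map_ofNat C 2).symm
  rw [h, h2, map_zero]

theorem case00 (M : A) (hM : M ^ 3 = (0 : F) • M ^ 2 + (0 : F) • M + 1) :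
    M ^ 3 = (1 : F) • (1 : A) :=
  pow_eq_of_dvd M 0 0 1 3 1 hM (by simp only [map_zero, map_one]; ring)

theorem case01 (h2 : (2 : F) = 0) (M : A) (hM : M ^ 3 = (0 : F) • M ^ 2 + (1 : F) • M + 1) :
    M ^ 7 = (1 : F) • (1 : A) := by
  have h2' : (2 : F[X]) = 0 := two_poly h2
  exact pow_eq_of_dvd M 0 1 1 7 (X ^ 4 + X ^ 2 + X + 1) hM (by
    simp only [map_zero, map_one]
    linear_combination (X ^ 2 + X) * h2')

theorem case10 (h2 : (2 : F) = 0) (M : A) (hM : M ^ 3 = (1 : F) • M ^ 2 + (0 : F) • M + 1) :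
    M ^ 7 = (1 : F) • (1 : A) := by
  have h2' : (2 : F[X]) = 0 := two_poly h2
  exact pow_eq_of_dvd M 1 0 1 7 (X ^ 4 + X ^ 3 + X ^ 2 + 1) hM (by
    simp only [map_zero, map_one]
    linear_combination (X ^ 4 + X ^ 2) * h2')

theorem case11 (h2 : (2 : F) = 0) (M : A) (hM : M ^ 3 = (1 : F) • M ^ 2 + (1 : F) • M + 1) :
    M ^ 4 = (1 : F) • (1 : A) := by
  have h2' : (2 : F[X]) = 0 := two_poly h2
  exact pow_eq_of_dvd M 1 1 1 4 (X + 1) hM (by
    simp only [map_one]
    linear_combination (X ^ 2 + X) * h2')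

theorem case0t (h2 : (2 : F) = 0) (t : F) (ht : t ^ 2 + t + 1 = 0) (M : A)
    (hM : M ^ 3 = (0 : F) • M ^ 2 + t • M + 1) : M ^ 7 = (t + 1) • (1 : A) := by
  have h2' : (2 : F[X]) = 0 := two_poly h2
  have ht' : (C t : F[X]) ^ 2 + C t + 1 = 0 := by
    have := congrArg (C : F → F[X]) ht
    simpa using this
  exact pow_eq_of_dvd M 0 t (t + 1) 7 (X ^ 4 + C t * X ^ 2 + X + C t + 1) hM (by
    simp only [map_zero, map_one, map_add]
    linear_combination (X ^ 3 + X) * ht' + (-C t * X ^ 3 - X ^ 3 + C t * X ^ 2) * h2')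

theorem case1t (h2 : (2 : F) = 0) (t : F) (ht : t ^ 2 + t + 1 = 0) (M : A)
    (hM : M ^ 3 = (1 : F) • M ^ 2 + t • M + 1) : M ^ 5 = (t + 1) • (1 : A) := by
  have h2' : (2 : F[X]) = 0 := two_poly h2
  have ht' : (C t : F[X]) ^ 2 + C t + 1 = 0 := by
    have := congrArg (C : F → F[X]) ht
    simpa using this
  exact pow_eq_of_dvd M 1 t (t + 1) 5 (X ^ 2 + X + C t + 1) hM (by
    simp only [map_one, map_add]
    linear_combination (X) * ht' + (C t * X ^ 2 + X ^ 2) * h2')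

theorem caset0 (h2 : (2 : F) = 0) (t : F) (ht : t ^ 2 + t + 1 = 0) (M : A)
    (hM : M ^ 3 = t • M ^ 2 + (0 : F) • M + 1) : M ^ 7 = t • (1 : A) := by
  have h2' : (2 : F[X]) = 0 := two_poly h2
  have ht' : (C t : F[X]) ^ 2 + C t + 1 = 0 := by
    have := congrArg (C : F → F[X]) ht
    simpa using this
  exact pow_eq_of_dvd M t 0 t 7 (X ^ 4 + C t * X ^ 3 + C t * X ^ 2 + X ^ 2 + C t) hM (by
    simp only [map_zero]
    linear_combination (X ^ 5 + X ^ 4 + X ^ 2) * ht' + (-C t * X ^ 5 - X ^ 5) * h2')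

theorem caset1 (h2 : (2 : F) = 0) (t : F) (ht : t ^ 2 + t + 1 = 0) (M : A)
    (hM : M ^ 3 = t • M ^ 2 + (1 : F) • M + 1) : M ^ 5 = t • (1 : A) := by
  have h2' : (2 : F[X]) = 0 := two_poly h2
  have ht' : (C t : F[X]) ^ 2 + C t + 1 = 0 := by
    have := congrArg (C : F → F[X]) ht
    simpa using this
  exact pow_eq_of_dvd M t 1 t 5 (X ^ 2 + C t * X + C t) hM (by
    simp only [map_one]
    linear_combination (X ^ 3 + X ^ 2) * ht' + (-C t * X ^ 3 + C t * X) * h2')

theorem casett (h2 : (2 : F) = 0) (t : F) (ht : t ^ 2 + t + 1 = 0) (M : A)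
    (hM : M ^ 3 = t • M ^ 2 + t • M + 1) : M ^ 5 = (1 : F) • (1 : A) := by
  have h2' : (2 : F[X]) = 0 := two_poly h2
  have ht' : (C t : F[X]) ^ 2 + C t + 1 = 0 := by
    have := congrArg (C : F → F[X]) ht
    simpa using this
  exact pow_eq_of_dvd M t t 1 5 (X ^ 2 + C t * X + 1) hM (by
    simp only [map_one]
    linear_combination (X ^ 3 + X ^ 2) * ht' + (-X ^ 3 + C t * X) * h2')

theorem casett1 (t : F) (ht : t ^ 2 + t + 1 = 0) (M : A)
    (hM : M ^ 3 = t • M ^ 2 + (t + 1) • M + 1) : M ^ 4 = t • (1 : A) := by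
  have ht' : (C t : F[X]) ^ 2 + C t + 1 = 0 := by
    have := congrArg (C : F → F[X]) ht
    simpa using this
  exact pow_eq_of_dvd M t (t + 1) t 4 (X + C t) hM (by
    simp only [map_one, map_add]
    linear_combination (X ^ 2 + X) * ht')

end cases

section field

variable {F : Type*} [Field F] [Fintype F] {A : Type*} [Ring A] [Algebra F A]

open Cfsg.Agent.Lib.H17 in
/-- Over the field with four elements, a root of a monic cubic with constant term one has a
scalar `k`-th power, `k ∈ {3, 4, 5, 7}`. -/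
theorem exists_pow_scalar (hF : Fintype.card F = 4) (M : A) (a b : F)
    (hM : M ^ 3 = a • M ^ 2 + b • M + 1) :
    ∃ k : ℕ, (k = 3 ∨ k = 4 ∨ k = 5 ∨ k = 7) ∧ ∃ c : F, M ^ k = c • (1 : A) := by
  have h2 := two_eq_zero_of_card hF
  rcases trichotomy_of_card hF a with ha | ha | ha
  · rcases trichotomy_of_card hF b with hb | hb | hb
    · subst ha; subst hb
      exact ⟨3, Or.inl rfl, 1, case00 M hM⟩
    · subst ha; subst hb
      exact ⟨7, Or.inr (Or.inr (Or.inr rfl)), 1, case01 h2 M hM⟩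
    · subst ha
      exact ⟨7, Or.inr (Or.inr (Or.inr rfl)), b + 1, case0t h2 b hb M hM⟩
  · rcases trichotomy_of_card hF b with hb | hb | hb
    · subst ha; subst hb
      exact ⟨7, Or.inr (Or.inr (Or.inr rfl)), 1, case10 h2 M hM⟩
    · subst ha; subst hb
      exact ⟨4, Or.inr (Or.inl rfl), 1, case11 h2 M hM⟩
    · subst ha
      exact ⟨5, Or.inr (Or.inr (Or.inl rfl)), b + 1, case1t h2 b hb M hM⟩
  · rcases trichotomy_of_card hF b with hb | hb | hb
    · subst hb
      exact ⟨7, Or.inr (Or.inr (Or.inr rfl)), a, caset0 h2 a ha M hM⟩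
    · subst hb
      exact ⟨5, Or.inr (Or.inr (Or.inl rfl)), a, caset1 h2 a ha M hM⟩
    · have hab : (b - a) * (b - (a + 1)) = 0 := by
        linear_combination hb - ha + (a ^ 2 - a * b - b + a) * h2
      rcases mul_eq_zero.mp hab with h | h
      · have hba : b = a := sub_eq_zero.mp h
        subst hba
        exact ⟨5, Or.inr (Or.inr (Or.inl rfl)), 1, casett h2 b ha M hM⟩
      · have hba : b = a + 1 := sub_eq_zero.mp h
        subst hba
        exact ⟨4, Or.inr (Or.inl rfl), a, casett1 a ha M hM⟩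

end field

section psl

variable {F : Type*} [Field F] [Fintype F]

/-- Every element of `SL₃(4)` has a `k`-th power in the centre, `k ∈ {3, 4, 5, 7}`. -/
theorem sl3_pow_mem_center (hF : Fintype.card F = 4) (M : Matrix.SpecialLinearGroup (Fin 3) F) :
    ∃ k : ℕ, (k = 3 ∨ k = 4 ∨ k = 5 ∨ k = 7) ∧
      M ^ k ∈ Subgroup.center (Matrix.SpecialLinearGroup (Fin 3) F) := by
  have hch := cayley3 (M : Matrix (Fin 3) (Fin 3) F)
  rw [M.det_coe, one_smul] at hch
  obtain ⟨k, hk, c, hc⟩ := exists_pow_scalar hF (M : Matrix (Fin 3) (Fin 3) F) _ _ hch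
  refine ⟨k, hk, ?_⟩
  rw [Subgroup.mem_center_iff]
  intro B
  apply Subtype.ext
  rw [Matrix.SpecialLinearGroup.coe_mul, Matrix.SpecialLinearGroup.coe_mul,
    Matrix.SpecialLinearGroup.coe_pow, hc, Matrix.mul_smul, Matrix.smul_mul, mul_one, one_mul]

/-- Every element of `PSL₃(4)` satisfies `g ^ k = 1` for some `k ∈ {3, 4, 5, 7}`. -/
theorem psl3_pow_eq_one (hF : Fintype.card F = 4)
    (g : Matrix.ProjectiveSpecialLinearGroup (Fin 3) F) :
    ∃ k : ℕ, (k = 3 ∨ k = 4 ∨ k = 5 ∨ k = 7) ∧ g ^ k = 1 := by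
  obtain ⟨M, rfl⟩ := QuotientGroup.mk_surjective g
  obtain ⟨k, hk, hc⟩ := sl3_pow_mem_center hF M
  refine ⟨k, hk, ?_⟩
  rw [← QuotientGroup.mk_pow]
  exact (QuotientGroup.eq_one_iff _).mpr hc

end psl

end Cfsg.Agent.Lib.H5.PSL34
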