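import Mathlib

/-!
S2806 piece (OP): a subnormal subgroup containing a Sylow `p`-subgroup contains every `p`-element.
-/
set_option autoImplicit false
open scoped Pointwise

namespace Cfsg.Agent.Lib.H5.PS

variable {p : ℕ} [Fact p.Prime]

/-- normal case: a normal subgroup containing a Sylow `p`-subgroup contains every `p`-element. -/
theorem mem_of_normal_of_sylow_le {K : Type*} [Group K] [Finite K] (R P : Subgroup K) [hRn : R.Normal]
    (hPp : IsPGroup p P) (hP : ¬ p ∣ P.index) (hPR : P ≤ R) (x : K) (hx : ∃ k : ℕ, orderOf x = p ^ k) :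
    x ∈ R := by
  obtain ⟨k, hk⟩ := hx
  have hz : IsPGroup p (Subgroup.zpowers x) := by
    apply IsPGroup.of_card (n := k)
    rw [Nat.card_zpowers, hk]
  obtain ⟨Q', hQ'⟩ := hz.exists_le_sylow
  obtain ⟨g, hg⟩ := MulAction.exists_smul_eq K (hPp.toSylow hP) Q'
  have hx' : x ∈ (Q' : Subgroup K) := hQ' (Subgroup.mem_zpowers x)
  rw [← hg] at hx'
  have hx'' : x ∈ MulAut.conj g • (P : Subgroup K) := hx'
  rw [Subgroup.mem_pointwise_smul_iff_inv_smul_mem] at hx''
  have h1 : (MulAut.conj g)⁻¹ • x ∈ R := hPR hx''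
  have h3 := hRn.conj_mem _ h1 g
  have e : g * ((MulAut.conj g)⁻¹ • x) * g⁻¹ = x := by
    rw [← map_inv, MulAut.smul_def, MulAut.conj_apply]; group
  rwa [e] at h3

/-- (OP) a subnormal subgroup containing a Sylow `p`-subgroup contains every `p`-element. -/
theorem mem_of_isSubnormal_of_sylow_le {K : Type*} [Group K] [Finite K] (R P : Subgroup K) (hR : R.IsSubnormal)
    (hPp : IsPGroup p P) (hP : ¬ p ∣ P.index) (hPR : P ≤ R) (x : K) (hx : ∃ k : ℕ, orderOf x = p ^ k) :
    x ∈ R := by
  revert x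
  induction hR with
  | top => intro x _; exact Subgroup.mem_top x
  | step H K' hle hsub hN ih =>
    intro x hx
    have hPK : P ≤ K' := hPR.trans hle
    have hxK : x ∈ K' := ih hPK x hx
    have hP' : IsPGroup p (P.subgroupOf K') := hPp.comap_subtype
    have hidx : ¬ p ∣ (P.subgroupOf K').index := by
      intro h
      apply hP
      have := Subgroup.relIndex_mul_index hPK
      rw [← this]
      exact Dvd.dvd.mul_right h _
    have hx' : ∃ k : ℕ, orderOf (⟨x, hxK⟩ : K') = p ^ k := by
      obtain ⟨k, hk⟩ := hx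
      exact ⟨k, by rw [← hk, ← Subgroup.orderOf_coe]⟩
    have hle' : P.subgroupOf K' ≤ H.subgroupOf K' := by
      intro y hy
      exact hPR hy
    have := @mem_of_normal_of_sylow_le p _ K' _ _ (H.subgroupOf K') (P.subgroupOf K') hN hP' hidx hle'
      ⟨x, hxK⟩ hx'
    exact this

end Cfsg.Agent.Lib.H5.PS
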