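import Mathlib
import Cfsg.Agent.Lib.H20.BHM2
import Cfsg.Agent.Lib.H20.PowDecomp
import Cfsg.Agent.Lib.H20.ConjCover

set_option autoImplicit false

/-!
# Class sizes of `p`-singular elements, part A: general lemmas

* a Bertram–Herzog–Mann coset trick without maximality: if `cs a` and `cs b0` are coprime and
  `cs (a * b0) ≤ cs b0`, then `a⁻¹ (g a g⁻¹) ∈ stabK b0`; if moreover `a` is a `p`-element and
  `p ∤ cs b0` then `a` is central (`mem_center_of_cs_mul_le`).
* Sylow lemmas, and a covering lemma (`commute_of_cover`).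
-/

namespace Cfsg.Agent.Lib.H5.PSing

open scoped Pointwise
open Cfsg.Agent.Lib.H20 Cfsg.Agent.Lib.H20.BHM

variable {G : Type*} [Group G]

section bhm

variable [Finite G]

theorem smul_cls_subset {a b0 : G} (hc : (cs a).Coprime (cs b0)) :
    a • cls b0 ⊆ cls (a * b0) := by
  rintro _ ⟨z, ⟨g, rfl⟩, rfl⟩
  obtain ⟨u, hu, v, hv, rfl⟩ := exists_mul_of_coprime hc g
  rw [Subgroup.mem_centralizer_singleton_iff] at hu hv
  refine ⟨u, ?_⟩
  have hv' : v * b0 * v⁻¹ = b0 := by rw [hv]; group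
  have hu' : u * a = a * u := hu
  have e1 : u * v * b0 * (u * v)⁻¹ = u * (v * b0 * v⁻¹) * u⁻¹ := by group
  simp only [smul_eq_mul]
  rw [e1, hv']
  calc u * (a * b0) * u⁻¹ = (u * a) * b0 * u⁻¹ := by group
    _ = (a * u) * b0 * u⁻¹ := by rw [hu']
    _ = a * (u * b0 * u⁻¹) := by group

theorem cs_le_cs_mul {a b0 : G} (hc : (cs a).Coprime (cs b0)) : cs b0 ≤ cs (a * b0) := by
  have h := Set.ncard_le_ncard (smul_cls_subset hc) (Set.toFinite _)
  rwa [Set.ncard_smul_set, ← Nat.card_coe_set_eq, ← Nat.card_coe_set_eq, card_cls, card_cls] at h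

theorem cs_mul_comm (a b : G) : cs (a * b) = cs (b * a) := by
  have e : b * a = b * (a * b) * b⁻¹ := by group
  rw [e, cs_conj]

theorem cs_le_cs_mul' {a b0 : G} (hc : (cs a).Coprime (cs b0)) : cs a ≤ cs (a * b0) := by
  rw [cs_mul_comm]
  exact cs_le_cs_mul hc.symm

theorem cs_mul_dvd {a b0 : G} (hc : (cs a).Coprime (cs b0)) : cs (a * b0) ∣ cs a * cs b0 := by
  have hle : Subgroup.centralizer ({a} : Set G) ⊓ Subgroup.centralizer ({b0} : Set G) ≤
      Subgroup.centralizer ({a * b0} : Set G) := by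
    intro g hg
    rw [Subgroup.mem_inf, Subgroup.mem_centralizer_singleton_iff,
      Subgroup.mem_centralizer_singleton_iff] at hg
    rw [Subgroup.mem_centralizer_singleton_iff]
    have h1 : Commute g a := hg.1
    have h2 : Commute g b0 := hg.2
    exact (h1.mul_right h2).eq
  have := Subgroup.index_dvd_of_le hle
  rwa [index_inf_of_coprime _ _ hc] at this

theorem smul_cls_eq_of_le {a b0 : G} (hc : (cs a).Coprime (cs b0)) (hle : cs (a * b0) ≤ cs b0) :
    a • cls b0 = cls (a * b0) := by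
  apply Set.eq_of_subset_of_ncard_le (smul_cls_subset hc) _ (Set.toFinite _)
  rw [Set.ncard_smul_set, ← Nat.card_coe_set_eq, ← Nat.card_coe_set_eq, card_cls, card_cls]
  exact hle

theorem inv_mul_conj_mem_stabK_of_le {a b0 : G} (hc : (cs a).Coprime (cs b0))
    (hle : cs (a * b0) ≤ cs b0) (g : G) : a⁻¹ * (g * a * g⁻¹) ∈ stabK b0 := by
  have hc' : (cs (g * a * g⁻¹)).Coprime (cs b0) := by rw [cs_conj]; exact hc
  have h1 := smul_cls_eq_of_le hc hle
  have h3 : a * (g⁻¹ * b0 * g⁻¹⁻¹) ∈ cls (a * b0) := by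
    rw [← h1]
    exact ⟨_, ⟨g⁻¹, rfl⟩, rfl⟩
  have h4 : g * a * g⁻¹ * b0 ∈ cls (a * b0) := by
    have := conj_mem_cls h3 g
    have e : g * (a * (g⁻¹ * b0 * g⁻¹⁻¹)) * g⁻¹ = g * a * g⁻¹ * b0 := by group
    rwa [e] at this
  have h5 : cls (g * a * g⁻¹ * b0) = cls (a * b0) := cls_eq_of_mem h4
  have hle' : cs (g * a * g⁻¹ * b0) ≤ cs b0 := by
    rw [← card_cls, h5, card_cls]
    exact hle
  have h2 := smul_cls_eq_of_le hc' hle'
  rw [h5, ← h1] at h2
  unfold stabK
  rw [MulAction.mem_stabilizer_iff, mul_smul, h2, inv_smul_smul]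

theorem stabK_le_centralizer_of_coprime {a b0 : G} (hc : (cs a).Coprime (cs b0)) :
    stabK b0 ≤ Subgroup.centralizer ({a} : Set G) := by
  rw [← Subgroup.relIndex_eq_one]
  have h1 : (Subgroup.centralizer ({a} : Set G)).relIndex (stabK b0) ∣ cs a :=
    Cfsg.Agent.Lib.H1.relIndex_dvd_index_of_normal_right _ _
  have h2 : (Subgroup.centralizer ({a} : Set G)).relIndex (stabK b0) ∣ cs b0 :=
    (Subgroup.relIndex_dvd_card _ _).trans (card_stabK_dvd b0)
  exact Nat.eq_one_of_dvd_coprimes hc h1 h2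

/-- **Coset trick.**  `a` a `p`-element, `cs a` prime to `cs b0`, `cs (a b0) ≤ cs b0` and
`p ∤ cs b0`: then `a` is central. -/
theorem mem_center_of_cs_mul_le {p : ℕ} (hp : p.Prime) {a b0 : G} {n : ℕ} (ha : a ^ (p ^ n) = 1)
    (hc : (cs a).Coprime (cs b0)) (hle : cs (a * b0) ≤ cs b0) (hpb : ¬ p ∣ cs b0) :
    a ∈ Subgroup.center G := by
  rw [Subgroup.mem_center_iff]
  intro g
  set k := a⁻¹ * (g * a * g⁻¹) with hk
  have hkK : k ∈ stabK b0 := inv_mul_conj_mem_stabK_of_le hc hle g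
  have hkc := stabK_le_centralizer_of_coprime hc hkK
  rw [Subgroup.mem_centralizer_singleton_iff] at hkc
  have hcomm : Commute k a := hkc
  have hconj : g * a * g⁻¹ = a * k := by rw [hk]; group
  have hcomm2 : Commute a⁻¹ (g * a * g⁻¹) := by
    rw [hconj]
    exact (Commute.refl a).inv_left.mul_right hcomm.symm.inv_left
  have hpow : k ^ (p ^ n) = 1 := by
    rw [hk, hcomm2.mul_pow, inv_pow, ha, inv_one, one_mul, conj_pow, ha]
    group
  have hd1 : orderOf k ∣ p ^ n := orderOf_dvd_of_pow_eq_one hpow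
  have hd2 : orderOf k ∣ cs b0 := by
    have h1 : orderOf (⟨k, hkK⟩ : stabK b0) ∣ Nat.card (stabK b0) := orderOf_dvd_natCard _
    have h2 : orderOf (⟨k, hkK⟩ : stabK b0) = orderOf k := Subgroup.orderOf_mk k hkK
    rw [h2] at h1
    exact h1.trans (card_stabK_dvd b0)
  have hcop : (p ^ n).Coprime (cs b0) :=
    Nat.Coprime.pow_left n ((Nat.Prime.coprime_iff_not_dvd hp).2 hpb)
  have hk1 : k = 1 := by
    rw [← orderOf_eq_one_iff]
    exact Nat.eq_one_of_dvd_coprimes hcop hd1 hd2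
  rw [hk1, mul_one] at hconj
  calc g * a = g * a * g⁻¹ * g := by group
    _ = a * g := by rw [hconj]

end bhm

section sylow

variable [Finite G]

/-- A subgroup of index prime to `p` contains a Sylow `p`-subgroup. -/
theorem exists_sylow_le_of_not_dvd {p : ℕ} [hp : Fact p.Prime] (L : Subgroup G)
    (hL : ¬ p ∣ L.index) : ∃ P : Sylow p G, (P : Subgroup G) ≤ L := by
  let P₀ : Sylow p L := Classical.arbitrary _
  have hcard : Nat.card ((P₀ : Subgroup L).map L.subtype) = p ^ (Nat.card G).factorization p := by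
    rw [Subgroup.card_map_of_injective L.subtype_injective, P₀.card_eq_multiplicity,
      ← Subgroup.card_mul_index L, Nat.factorization_mul Nat.card_pos.ne'
        Subgroup.index_ne_zero_of_finite, Finsupp.add_apply,
      Nat.factorization_eq_zero_of_not_dvd hL, add_zero]
  refine ⟨Sylow.ofCard _ hcard, ?_⟩
  rw [Sylow.coe_ofCard]
  exact Subgroup.map_subtype_le _

theorem orderOf_conj' (g x : G) : orderOf (g * x * g⁻¹) = orderOf x := by
  have := MulEquiv.orderOf_eq (MulAut.conj g) x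
  rwa [MulAut.conj_apply] at this

/-- Every `p`-element is conjugate into a given Sylow `p`-subgroup. -/
theorem exists_conj_mem_sylow {p : ℕ} [hp : Fact p.Prime] (P : Sylow p G) {x : G} {n : ℕ}
    (hx : orderOf x = p ^ n) : ∃ g : G, g⁻¹ * x * g ∈ P := by
  have hz : IsPGroup p (Subgroup.zpowers x) :=
    IsPGroup.of_card (n := n) (by rw [Nat.card_zpowers, hx])
  obtain ⟨Q, hQ⟩ := hz.exists_le_sylow
  obtain ⟨g, hg⟩ := MulAction.exists_smul_eq G P Q
  refine ⟨g, ?_⟩
  have hxQ : x ∈ (Q : Subgroup G) := hQ (Subgroup.mem_zpowers x)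
  rw [← hg, Sylow.coe_subgroup_smul, Subgroup.mem_pointwise_smul_iff_inv_smul_mem] at hxQ
  simp only [MulAut.smul_def, MulAut.inv_apply, MulAut.conj_symm_apply] at hxQ
  exact hxQ

omit [Finite G] in
theorem orderOf_eq_pow_of_mem_sylow {p : ℕ} [hp : Fact p.Prime] (P : Sylow p G) {x : G}
    (hx : x ∈ P) : ∃ n : ℕ, orderOf x = p ^ n := by
  obtain ⟨k, hk⟩ := P.2 ⟨x, hx⟩
  have h1 : x ^ (p ^ k) = 1 := by
    have := congrArg Subtype.val hk
    simpa using this
  obtain ⟨e, _, he⟩ := (Nat.dvd_prime_pow hp.out).mp (orderOf_dvd_of_pow_eq_one h1)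
  exact ⟨e, he⟩

theorem not_dvd_index_sylow {p : ℕ} [hp : Fact p.Prime] (P : Sylow p G) :
    ¬ p ∣ (P : Subgroup G).index := P.not_dvd_index

/-- An element with `p`-power order and `p`-power class size lies in every Sylow `p`-subgroup. -/
theorem mem_sylow_of_cs_pow {p : ℕ} [hp : Fact p.Prime] {w : G} {n k : ℕ}
    (hw : orderOf w = p ^ n) (hcs : cs w = p ^ k) (Q : Sylow p G) : w ∈ Q := by
  obtain ⟨g, hg⟩ := exists_conj_mem_sylow Q hw
  have hcop : (Subgroup.centralizer ({w} : Set G)).index.Coprime (Q : Subgroup G).index := by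
    have : (Subgroup.centralizer ({w} : Set G)).index = p ^ k := hcs
    rw [this]
    exact Nat.Coprime.pow_left k ((Nat.Prime.coprime_iff_not_dvd hp.out).2 (not_dvd_index_sylow Q))
  obtain ⟨c, hc, q, hq, rfl⟩ := Cfsg.Agent.Lib.H1.exists_mul_of_coprime_index hcop g
  rw [Subgroup.mem_centralizer_singleton_iff] at hc
  have e : (c * q)⁻¹ * w * (c * q) = q⁻¹ * w * q := by
    calc (c * q)⁻¹ * w * (c * q) = q⁻¹ * c⁻¹ * (w * c) * q := by group
      _ = q⁻¹ * c⁻¹ * (c * w) * q := by rw [hc]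
      _ = q⁻¹ * w * q := by group
  rw [e] at hg
  have h2 := (Q : Subgroup G).mul_mem ((Q : Subgroup G).mul_mem hq hg) ((Q : Subgroup G).inv_mem hq)
  have e2 : q * (q⁻¹ * w * q) * q⁻¹ = w := by group
  rwa [e2] at h2

omit [Finite G] in
/-- A nontrivial `p`-element is not central when `p ∤ |Z(G)|`. -/
theorem not_mem_center_of_pElt {p : ℕ} (hp : p.Prime)
    (hZ : ¬ p ∣ Nat.card (Subgroup.center G)) {x : G} {n : ℕ} (hx : orderOf x = p ^ n)
    (hne : x ≠ 1) : x ∉ Subgroup.center G := by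
  intro hc
  have h1 : orderOf (⟨x, hc⟩ : Subgroup.center G) ∣ Nat.card (Subgroup.center G) :=
    orderOf_dvd_natCard _
  rw [Subgroup.orderOf_mk, hx] at h1
  have hn : n ≠ 0 := by
    rintro rfl
    rw [pow_zero, orderOf_eq_one_iff] at hx
    exact hne hx
  exact hZ ((dvd_pow_self p hn).trans h1)

omit [Finite G] in
theorem dvd_orderOf_of_pElt {p : ℕ} {x : G} {n : ℕ} (hx : orderOf x = p ^ n)
    (hne : x ≠ 1) : p ∣ orderOf x := by
  have hn : n ≠ 0 := by
    rintro rfl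
    rw [pow_zero, orderOf_eq_one_iff] at hx
    exact hne hx
  rw [hx]
  exact dvd_pow_self p hn

end sylow

section cover

variable [Finite G]

/-- **Covering lemma.**  `P ≤ G`, `c : G`.  If every element of `P` that is not central in `P` is
`P`-conjugate to an element commuting with `c`, and `P` is not abelian, then `c` centralizes `P`. -/
theorem commute_of_cover (P : Subgroup G) (c : G)
    (hcov : ∀ w ∈ P, (∃ y ∈ P, w * y ≠ y * w) →
      ∃ x ∈ P, (x⁻¹ * w * x) * c = c * (x⁻¹ * w * x))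
    (hne : ∃ v ∈ P, ∃ y ∈ P, v * y ≠ y * v) : ∀ w ∈ P, w * c = c * w := by
  classical
  -- work inside the group `↥P`
  let D₀ : Subgroup P := (Subgroup.centralizer ({c} : Set G)).subgroupOf P
  let Zp : Subgroup P := Subgroup.center P
  have hZn : Zp.Normal := inferInstanceAs (Subgroup.center P).Normal
  have hD₀ : ∀ w : P, w ∈ D₀ ↔ (w : G) * c = c * (w : G) := by
    intro w
    change (w : G) ∈ Subgroup.centralizer ({c} : Set G) ↔ _
    rw [Subgroup.mem_centralizer_singleton_iff]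
  have hZp : ∀ w : P, w ∉ Zp → ∃ y ∈ P, (w : G) * y ≠ y * (w : G) := by
    intro w hw
    by_contra hcon
    push Not at hcon
    apply hw
    rw [Subgroup.mem_center_iff]
    intro y
    apply Subtype.ext
    simp only [Subgroup.coe_mul]
    exact (hcon y y.2).symm
  -- the conjugates of `D₀ ⊔ Zp` cover `↥P`
  have htop : D₀ ⊔ Zp = ⊤ := by
    by_contra hcon
    obtain ⟨g, hg⟩ := exists_not_mem_conj (D₀ ⊔ Zp) hcon
    by_cases hgZ : g ∈ Zp
    · apply hg 1
      rw [map_one, one_smul]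
      exact (le_sup_right : Zp ≤ D₀ ⊔ Zp) hgZ
    · obtain ⟨x, hx, hxc⟩ := hcov g g.2 (hZp g hgZ)
      apply hg ⟨x, hx⟩
      rw [Subgroup.mem_pointwise_smul_iff_inv_smul_mem]
      simp only [MulAut.smul_def, MulAut.inv_apply, MulAut.conj_symm_apply]
      apply (le_sup_left : D₀ ≤ D₀ ⊔ Zp)
      rw [hD₀]
      simpa using hxc
  -- hence every noncentral element of `P` lies in `D₀`
  have hnc : ∀ w : P, w ∉ Zp → w ∈ D₀ := by
    intro w hw
    obtain ⟨x, hx, hxc⟩ := hcov w w.2 (hZp w hw)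
    have hxt : (⟨x, hx⟩ : P) ∈ D₀ ⊔ Zp := by rw [htop]; exact Subgroup.mem_top _
    have hxt' : (⟨x, hx⟩ : P) ∈ ((D₀ ⊔ Zp : Subgroup P) : Set P) := hxt
    rw [Subgroup.mul_normal] at hxt'
    obtain ⟨d, hd, z, hz, hdz⟩ := Set.mem_mul.1 hxt'
    have hz' : ∀ y : P, y * z = z * y := fun y => (Subgroup.mem_center_iff.1 hz y)
    have hconj : (⟨x, hx⟩ : P)⁻¹ * w * ⟨x, hx⟩ = d⁻¹ * w * d := by
      rw [← hdz]
      have h1 := hz' (d⁻¹ * w * d)
      calc (d * z)⁻¹ * w * (d * z) = z⁻¹ * ((d⁻¹ * w * d) * z) := by group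
        _ = z⁻¹ * (z * (d⁻¹ * w * d)) := by rw [h1]
        _ = d⁻¹ * w * d := by group
    have h2 : (⟨x, hx⟩ : P)⁻¹ * w * ⟨x, hx⟩ ∈ D₀ := by
      rw [hD₀]
      simpa using hxc
    rw [hconj] at h2
    have h3 := D₀.mul_mem (D₀.mul_mem hd h2) (D₀.inv_mem hd)
    have e : d * (d⁻¹ * w * d) * d⁻¹ = w := by group
    rwa [e] at h3
  obtain ⟨v, hvP, y, hyP, hvy⟩ := hne
  have hvZ : (⟨v, hvP⟩ : P) ∉ Zp := by
    intro h
    apply hvy
    have := Subgroup.mem_center_iff.1 h ⟨y, hyP⟩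
    have := congrArg Subtype.val this
    simpa using this.symm
  have hvD : (⟨v, hvP⟩ : P) ∈ D₀ := hnc _ hvZ
  intro w hw
  have hwD : (⟨w, hw⟩ : P) ∈ D₀ := by
    by_cases hwZ : (⟨w, hw⟩ : P) ∈ Zp
    · have hwv : (⟨w, hw⟩ : P) * ⟨v, hvP⟩ ∉ Zp := by
        intro h
        apply hvZ
        have := Zp.mul_mem (Zp.inv_mem hwZ) h
        have e : (⟨w, hw⟩ : P)⁻¹ * ((⟨w, hw⟩ : P) * ⟨v, hvP⟩) = ⟨v, hvP⟩ := by group
        rwa [e] at this
      have h1 := hnc _ hwv
      have h2 := D₀.mul_mem h1 (D₀.inv_mem hvD)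
      have e : (⟨w, hw⟩ : P) * ⟨v, hvP⟩ * (⟨v, hvP⟩ : P)⁻¹ = ⟨w, hw⟩ := by group
      rwa [e] at h2
    · exact hnc _ hwZ
  exact (hD₀ _).1 hwD

end cover

end Cfsg.Agent.Lib.H5.PSing
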