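import Mathlib
import Cfsg.Agent.Lib.H5.PSingA

set_option autoImplicit false
set_option linter.unusedSectionVars false
set_option linter.style.haveILetI false

/-!
# Class sizes of `p`-singular elements, part B: the core contradiction

`Core G p r A B`: `p ∤ |Z(G)|`; `A`, `B` are sets of primes such that no `p`-singular class size is
divisible by a prime of `A` and a prime of `B` (possibly equal); every prime dividing a `p`-singular
class size that is divisible by `r` lies in `A`; there are `p`-singular `x`, `y` with `r ∣ cs x` and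
all primes of `cs y` in `B`; and `p ∉ A`.  This is contradictory (`Core.false`).
-/

namespace Cfsg.Agent.Lib.H5.PSing

open scoped Pointwise
open Cfsg.Agent.Lib.H20 Cfsg.Agent.Lib.H20.BHM

variable {G : Type*} [Group G]

structure Core (G : Type*) [Group G] (p r : ℕ) (A B : ℕ → Prop) : Prop where
  hp : p.Prime
  hr : r.Prime
  hZ : ¬ p ∣ Nat.card (Subgroup.center G)
  hA : ∀ x : G, p ∣ orderOf x → r ∣ cs x → ∀ t : ℕ, t.Prime → t ∣ cs x → A t
  hAB : ∀ z : G, p ∣ orderOf z → ∀ a b : ℕ, a.Prime → b.Prime → A a → B b →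
    a ∣ cs z → b ∣ cs z → False
  hx : ∃ x : G, p ∣ orderOf x ∧ r ∣ cs x
  hy : ∃ y : G, p ∣ orderOf y ∧ ∀ t : ℕ, t.Prime → t ∣ cs y → B t
  hpA : ¬ A p

/-- `p`-elements `v ≠ 1` all of whose class-size primes lie in `B`. -/
def IsV (p : ℕ) (B : ℕ → Prop) (v : G) : Prop :=
  (∃ n : ℕ, orderOf v = p ^ n) ∧ v ≠ 1 ∧ ∀ t : ℕ, t.Prime → t ∣ cs v → B t

/-- `p`-elements `u` with `r ∣ cs u`. -/
def IsU (p r : ℕ) (u : G) : Prop := (∃ n : ℕ, orderOf u = p ^ n) ∧ r ∣ cs u

theorem isV_conj [Finite G] {p : ℕ} {B : ℕ → Prop} {v : G} (hv : IsV p B v) (g : G) :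
    IsV p B (g * v * g⁻¹) := by
  obtain ⟨⟨n, hn⟩, h1, h2⟩ := hv
  refine ⟨⟨n, by rw [orderOf_conj', hn]⟩, ?_, ?_⟩
  · intro h
    apply h1
    have : v = g⁻¹ * (g * v * g⁻¹) * g := by group
    rw [this, h]
    group
  · intro t ht htd
    rw [cs_conj] at htd
    exact h2 t ht htd

variable [Finite G] {p r : ℕ} {A B : ℕ → Prop}

namespace Core

variable (S : Core G p r A B)
include S

theorem exists_v : ∃ v : G, IsV p B v := by
  obtain ⟨y, hy, hB⟩ := S.hy
  obtain ⟨k, l, hkl, ⟨e, he⟩, hcop⟩ := exists_pPart_pPrimePart y (isOfFinOrder_of_finite y) p S.hp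
  refine ⟨y ^ k, ⟨e, he⟩, ?_, ?_⟩
  · intro h1
    rw [h1, one_mul] at hkl
    rw [hkl] at hcop
    exact (Nat.Prime.coprime_iff_not_dvd S.hp).1 hcop.symm hy
  · intro t ht htd
    exact hB t ht (htd.trans (cs_dvd_of_le (centralizer_le_pow y k)))

theorem isV_not_center {v : G} (hv : IsV p B v) : v ∉ Subgroup.center G := by
  obtain ⟨⟨n, hn⟩, h1, _⟩ := hv
  exact not_mem_center_of_pElt S.hp S.hZ hn h1

theorem isV_exists_prime {v : G} (hv : IsV p B v) : ∃ b : ℕ, b.Prime ∧ b ∣ cs v ∧ B b := by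
  have h1 : cs v ≠ 1 := fun h => S.isV_not_center hv ((cs_eq_one_iff v).1 h)
  obtain ⟨b, hb, hbd⟩ := Nat.exists_prime_and_dvd h1
  exact ⟨b, hb, hbd, hv.2.2 b hb hbd⟩

/-- **Lemma C.**  `u ≠ 1` a `p`-element, `c` a `p'`-element commuting with `u`, `r ∣ cs (u c)`:
then `c` is central. -/
theorem central_of_coprime {u c : G} {n : ℕ} (hu : orderOf u = p ^ n) (hu1 : u ≠ 1)
    (hcu : Commute u c) (hc : (orderOf c).Coprime p) (hr : r ∣ cs (u * c)) :
    c ∈ Subgroup.center G := by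
  haveI : Fact p.Prime := ⟨S.hp⟩
  have hcop : (orderOf u).Coprime (orderOf c) := by
    rw [hu]
    exact Nat.Coprime.pow_left n hc.symm
  have hox : p ∣ orderOf (u * c) := by
    rw [hcu.orderOf_mul_eq_mul_orderOf_of_coprime hcop]
    exact (dvd_orderOf_of_pElt hu hu1).mul_right _
  have hCx := centralizer_mul_of_coprime hcu hcop
  have hpx : ¬ p ∣ cs (u * c) := fun h => S.hpA (S.hA _ hox hr p S.hp h)
  obtain ⟨P, hP⟩ := exists_sylow_le_of_not_dvd (Subgroup.centralizer ({u * c} : Set G)) hpx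
  obtain ⟨v0, hv0⟩ := S.exists_v
  obtain ⟨g, hg⟩ := exists_conj_mem_sylow P hv0.1.choose_spec
  have hv' : IsV p B (g⁻¹ * v0 * g) := by
    have := isV_conj hv0 g⁻¹
    rwa [inv_inv] at this
  set v' := g⁻¹ * v0 * g with hv'def
  have hv'c : v' ∈ Subgroup.centralizer ({c} : Set G) := by
    have := hP hg
    rw [hCx] at this
    exact this.2
  rw [Subgroup.mem_centralizer_singleton_iff] at hv'c
  have hcv : Commute c v' := (show Commute v' c from hv'c).symm
  obtain ⟨m, hm⟩ := hv'.1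
  have hcop2 : (orderOf c).Coprime (orderOf v') := by
    rw [hm]
    exact Nat.Coprime.pow_right m hc
  have hoz : p ∣ orderOf (c * v') := by
    rw [hcv.orderOf_mul_eq_mul_orderOf_of_coprime hcop2]
    exact (dvd_orderOf_of_pElt hm hv'.2.1).mul_left _
  have hCz := centralizer_mul_of_coprime hcv hcop2
  have hd1 : cs c ∣ cs (c * v') := cs_dvd_of_le (by rw [hCz]; exact inf_le_left)
  have hd2 : cs v' ∣ cs (c * v') := cs_dvd_of_le (by rw [hCz]; exact inf_le_right)
  have hd3 : cs c ∣ cs (u * c) := cs_dvd_of_le (by rw [hCx]; exact inf_le_right)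
  by_contra hcen
  have h1 : cs c ≠ 1 := fun h => hcen ((cs_eq_one_iff c).1 h)
  obtain ⟨a, ha, had⟩ := Nat.exists_prime_and_dvd h1
  obtain ⟨b, hb, hbd, hbB⟩ := S.isV_exists_prime hv'
  exact S.hAB (c * v') hoz a b ha hb (S.hA _ hox hr a ha (had.trans hd3)) hbB (had.trans hd1)
    (hbd.trans hd2)

theorem exists_u : ∃ u : G, IsU p r u := by
  obtain ⟨x, hx, hrx⟩ := S.hx
  obtain ⟨k, l, hkl, ⟨e, he⟩, hcop⟩ := exists_pPart_pPrimePart x (isOfFinOrder_of_finite x) p S.hp
  have hu1 : x ^ k ≠ 1 := by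
    intro h1
    rw [h1, one_mul] at hkl
    rw [hkl] at hcop
    exact (Nat.Prime.coprime_iff_not_dvd S.hp).1 hcop.symm hx
  have hcomm : Commute (x ^ k) (x ^ l) := Commute.pow_pow_self x k l
  have hc := S.central_of_coprime he hu1 hcomm hcop (by rw [hkl]; exact hrx)
  refine ⟨x ^ k, ⟨e, he⟩, ?_⟩
  have hcopo : (orderOf (x ^ k)).Coprime (orderOf (x ^ l)) := by
    rw [he]
    exact Nat.Coprime.pow_left e hcop.symm
  have hCx := centralizer_mul_of_coprime hcomm hcopo
  have htop : Subgroup.centralizer ({x ^ l} : Set G) = ⊤ := by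
    rw [Subgroup.centralizer_eq_top_iff_subset]
    intro z hz
    rw [Set.mem_singleton_iff] at hz
    rw [hz]
    exact hc
  rw [hkl, htop, inf_top_eq] at hCx
  have : cs x = cs (x ^ k) := by unfold cs; rw [hCx]
  rwa [← this]

theorem isU_ne_one {u : G} (hu : IsU p r u) : u ≠ 1 := by
  rintro rfl
  have h1 : cs (1 : G) = 1 := (cs_eq_one_iff 1).2 (Subgroup.one_mem _)
  have h2 := hu.2
  rw [h1, Nat.dvd_one] at h2
  exact S.hr.one_lt.ne' h2

theorem isU_dvd_orderOf {u : G} (hu : IsU p r u) : p ∣ orderOf u :=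
  dvd_orderOf_of_pElt hu.1.choose_spec (S.isU_ne_one hu)

theorem isU_A {u : G} (hu : IsU p r u) {t : ℕ} (ht : t.Prime) (htd : t ∣ cs u) : A t :=
  S.hA u (S.isU_dvd_orderOf hu) hu.2 t ht htd

theorem isU_not_dvd {u : G} (hu : IsU p r u) : ¬ p ∣ cs u :=
  fun h => S.hpA (S.isU_A hu S.hp h)

theorem isU_not_center {u : G} (hu : IsU p r u) : u ∉ Subgroup.center G :=
  not_mem_center_of_pElt S.hp S.hZ hu.1.choose_spec (S.isU_ne_one hu)

theorem coprime_uv {u v : G} (hu : IsU p r u) (hv : IsV p B v) : (cs u).Coprime (cs v) := by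
  apply Nat.coprime_of_dvd
  intro t ht h1 h2
  exact S.hAB u (S.isU_dvd_orderOf hu) t t ht ht (S.isU_A hu ht h1) (hv.2.2 t ht h2) h1 h1

theorem commute_uv {u v : G} (hu : IsU p r u) (hv : IsV p B v) : Commute u v := by
  haveI : Fact p.Prime := ⟨S.hp⟩
  obtain ⟨P, hP⟩ := exists_sylow_le_of_not_dvd (Subgroup.centralizer ({u} : Set G))
    (S.isU_not_dvd hu)
  obtain ⟨g, hg⟩ := exists_conj_mem_sylow P hv.1.choose_spec
  have hv' : IsV p B (g⁻¹ * v * g) := by
    have := isV_conj hv g⁻¹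
    rwa [inv_inv] at this
  have h1 := hP hg
  rw [Subgroup.mem_centralizer_singleton_iff] at h1
  have h2 := commute_conj_of_coprime (S.coprime_uv hu hv') h1.symm g
  have e : g * (g⁻¹ * v * g) * g⁻¹ = v := by group
  rw [e] at h2
  exact h2

/-- For `u ∈ U`, `v ∈ V` the prime `p` divides `cs v`. -/
theorem dvd_cs_v {u v : G} (hu : IsU p r u) (hv : IsV p B v) : p ∣ cs v := by
  have huv := S.commute_uv hu hv
  have hc := S.coprime_uv hu hv
  obtain ⟨n, hn⟩ := hu.1
  obtain ⟨m, hm⟩ := hv.1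
  have hun : u ^ (p ^ n) = 1 := by rw [← hn]; exact pow_orderOf_eq_one u
  have hvm : v ^ (p ^ m) = 1 := by rw [← hm]; exact pow_orderOf_eq_one v
  have h1 : cs v ≤ cs (u * v) := cs_le_cs_mul hc
  have h2 : cs u ≤ cs (u * v) := cs_le_cs_mul' hc
  have h3 : cs (u * v) ∣ cs u * cs v := cs_mul_dvd hc
  have hcsu : cs u ≠ 1 := fun h => S.isU_not_center hu ((cs_eq_one_iff u).1 h)
  have hcsu0 : cs u ≠ 0 := cs_ne_zero u
  have hcsv0 : cs v ≠ 0 := cs_ne_zero v
  -- `u v` is a nontrivial `p`-element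
  have huv1 : u * v ≠ 1 := by
    intro h
    rw [h] at h2
    have h4 : cs (1 : G) = 1 := (cs_eq_one_iff 1).2 (Subgroup.one_mem _)
    omega
  have hpow : (u * v) ^ (p ^ (n + m)) = 1 := by
    rw [huv.mul_pow, pow_add, pow_mul, hun, one_pow, mul_comm (p ^ n), pow_mul, hvm, one_pow,
      one_mul]
  obtain ⟨j, _, hj⟩ := (Nat.dvd_prime_pow S.hp).mp (orderOf_dvd_of_pow_eq_one hpow)
  have houv : p ∣ orderOf (u * v) := dvd_orderOf_of_pElt hj huv1
  by_cases hg : (cs (u * v)).Coprime (cs u)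
  · have h5 : cs (u * v) ∣ cs v := hg.dvd_of_dvd_mul_left h3
    have hle : cs (u * v) ≤ cs v := Nat.le_of_dvd (Nat.pos_of_ne_zero hcsv0) h5
    by_contra hpv
    exact S.isU_not_center hu (mem_center_of_cs_mul_le S.hp hun hc hle hpv)
  · obtain ⟨a, ha, ha1, ha2⟩ := Nat.Prime.not_coprime_iff_dvd.1 hg
    have hg2 : (cs (u * v)).Coprime (cs v) := by
      apply Nat.coprime_of_dvd
      intro b hb hb1 hb2
      exact S.hAB (u * v) houv a b ha hb (S.isU_A hu ha ha2) (hv.2.2 b hb hb2) ha1 hb1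
    have h5 : cs (u * v) ∣ cs u := hg2.dvd_of_dvd_mul_right h3
    have hle : cs (v * u) ≤ cs u := by
      rw [← huv.eq]
      exact Nat.le_of_dvd (Nat.pos_of_ne_zero hcsu0) h5
    exact absurd (mem_center_of_cs_mul_le S.hp hvm hc.symm hle (S.isU_not_dvd hu))
      (S.isV_not_center hv)

theorem Bp : B p := by
  obtain ⟨u, hu⟩ := S.exists_u
  obtain ⟨v, hv⟩ := S.exists_v
  exact hv.2.2 p S.hp (S.dvd_cs_v hu hv)

theorem central_of_commute_u {u c : G} (hu : IsU p r u) (hcu : Commute u c)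
    (hc : (orderOf c).Coprime p) : c ∈ Subgroup.center G := by
  have hcop : (orderOf u).Coprime (orderOf c) := by
    rw [hu.1.choose_spec]
    exact Nat.Coprime.pow_left _ hc.symm
  have hCx := centralizer_mul_of_coprime hcu hcop
  have hd : cs u ∣ cs (u * c) := cs_dvd_of_le (by rw [hCx]; exact inf_le_left)
  exact S.central_of_coprime hu.1.choose_spec (S.isU_ne_one hu) hcu hc (hu.2.trans hd)

/-- Every prime `t ≠ p` dividing some class size divides `cs u`. -/
theorem dvd_cs_u {u : G} (hu : IsU p r u) {t : ℕ} (ht : t.Prime) (htp : t ≠ p) (g : G)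
    (htg : t ∣ cs g) : t ∣ cs u := by
  by_contra h
  haveI : Fact t.Prime := ⟨ht⟩
  obtain ⟨T, hT⟩ := exists_sylow_le_of_not_dvd (Subgroup.centralizer ({u} : Set G)) h
  have hTc : (T : Subgroup G) ≤ Subgroup.centralizer ({g} : Set G) := by
    intro c hc
    obtain ⟨k, hk⟩ := orderOf_eq_pow_of_mem_sylow T hc
    have hcop : (orderOf c).Coprime p := by
      rw [hk]
      exact Nat.Coprime.pow_left k ((Nat.coprime_primes ht S.hp).2 htp)
    have hcu := hT hc
    rw [Subgroup.mem_centralizer_singleton_iff] at hcu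
    have hcen := S.central_of_commute_u hu (show Commute c u from hcu).symm hcop
    rw [Subgroup.mem_centralizer_singleton_iff]
    exact (Subgroup.mem_center_iff.1 hcen g).symm
  exact not_dvd_index_sylow T (htg.trans (Subgroup.index_dvd_of_le hTc))

/-- A `p`-singular class size divisible by `p` is a power of `p`. -/
theorem cs_pow_of_dvd {x : G} (hx : p ∣ orderOf x) (hpx : p ∣ cs x) : ∃ k : ℕ, cs x = p ^ k := by
  obtain ⟨u, hu⟩ := S.exists_u
  refine ⟨(cs x).primeFactorsList.length,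
    Nat.eq_prime_pow_of_unique_prime_dvd (cs_ne_zero x) ?_⟩
  intro d hd hdx
  by_contra hdp
  exact S.hAB x hx d p hd S.hp (S.isU_A hu hd (S.dvd_cs_u hu hd hdp x hdx)) S.Bp hdx hpx

theorem isV_cs_pow {v : G} (hv : IsV p B v) : ∃ k : ℕ, cs v = p ^ k := by
  obtain ⟨u, hu⟩ := S.exists_u
  exact S.cs_pow_of_dvd (dvd_orderOf_of_pElt hv.1.choose_spec hv.2.1) (S.dvd_cs_v hu hv)

end Core

end Cfsg.Agent.Lib.H5.PSing
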