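import Mathlib
import Cfsg.Agent.Lib.H5.PSingB

set_option autoImplicit false
set_option linter.unusedSectionVars false
set_option linter.style.haveILetI false

/-!
# Class sizes of `p`-singular elements, part C: `G` is `p`-closed, and the final contradiction
-/

namespace Cfsg.Agent.Lib.H5.PSing

open scoped Pointwise
open Cfsg.Agent.Lib.H20 Cfsg.Agent.Lib.H20.BHM

variable {G : Type*} [Group G] [Finite G] {p r : ℕ} {A B : ℕ → Prop}

namespace Core

variable (S : Core G p r A B)
include S

/-- A nontrivial `p`-element lying outside some Sylow `p`-subgroup commutes with every element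
lying in all Sylow `p`-subgroups. -/
theorem commute_of_not_mem [Fact p.Prime] {w : G} {n : ℕ} (hw : orderOf w = p ^ n) (hw1 : w ≠ 1)
    {Q : Sylow p G} (hwQ : w ∉ Q) {o : G} (ho : ∀ Q' : Sylow p G, o ∈ Q') : Commute w o := by
  have hnd : ¬ p ∣ cs w := by
    intro h
    obtain ⟨k, hk⟩ := S.cs_pow_of_dvd (dvd_orderOf_of_pElt hw hw1) h
    exact hwQ (mem_sylow_of_cs_pow hw hk Q)
  obtain ⟨P', hP'⟩ := exists_sylow_le_of_not_dvd (Subgroup.centralizer ({w} : Set G)) hnd
  have := hP' (ho P')
  rw [Subgroup.mem_centralizer_singleton_iff] at this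
  exact (show Commute o w from this).symm

/-- `G` has a unique Sylow `p`-subgroup. -/
theorem sylow_le [Fact p.Prime] (P Q : Sylow p G) : (P : Subgroup G) ≤ Q := by
  intro x hxP
  by_contra hxQ
  obtain ⟨v, hv⟩ := S.exists_v
  obtain ⟨u, hu⟩ := S.exists_u
  obtain ⟨k, hk⟩ := S.isV_cs_pow hv
  have hvO : ∀ Q' : Sylow p G, v ∈ Q' := fun Q' => mem_sylow_of_cs_pow hv.1.choose_spec hk Q'
  have hx1 : x ≠ 1 := by
    rintro rfl
    exact hxQ (Subgroup.one_mem _)
  obtain ⟨nx, hnx⟩ := orderOf_eq_pow_of_mem_sylow P hxP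
  have hxv : Commute x v := S.commute_of_not_mem hnx hx1 hxQ hvO
  -- every element of `P` commutes with `v`
  have hPv : (P : Subgroup G) ≤ Subgroup.centralizer ({v} : Set G) := by
    intro y hyP
    rw [Subgroup.mem_centralizer_singleton_iff]
    by_cases hyO : ∀ Q' : Sylow p G, y ∈ Q'
    · have hxyP : x * y ∈ (P : Subgroup G) := (P : Subgroup G).mul_mem hxP hyP
      have hxyQ : x * y ∉ Q := by
        intro h
        apply hxQ
        have := (Q : Subgroup G).mul_mem h ((Q : Subgroup G).inv_mem (hyO Q))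
        rwa [mul_inv_cancel_right] at this
      have hxy1 : x * y ≠ 1 := by
        intro h
        rw [h] at hxyQ
        exact hxyQ (Subgroup.one_mem _)
      obtain ⟨nxy, hnxy⟩ := orderOf_eq_pow_of_mem_sylow P hxyP
      have h1 : Commute (x * y) v := S.commute_of_not_mem hnxy hxy1 hxyQ hvO
      have h2 : Commute (x⁻¹ * (x * y)) v := hxv.inv_left.mul_left h1
      rw [inv_mul_cancel_left] at h2
      exact h2.eq
    · push Not at hyO
      obtain ⟨Q', hyQ'⟩ := hyO
      have hy1 : y ≠ 1 := by
        rintro rfl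
        exact hyQ' (Subgroup.one_mem _)
      obtain ⟨ny, hny⟩ := orderOf_eq_pow_of_mem_sylow P hyP
      exact (S.commute_of_not_mem hny hy1 hyQ' hvO).eq
  exact not_dvd_index_sylow P ((S.dvd_cs_v hu hv).trans (Subgroup.index_dvd_of_le hPv))

/-- The final contradiction. -/
theorem false : False := by
  haveI : Fact p.Prime := ⟨S.hp⟩
  haveI : Fact r.Prime := ⟨S.hr⟩
  obtain ⟨v, hv⟩ := S.exists_v
  obtain ⟨u, hu⟩ := S.exists_u
  have hrp : r ≠ p := by
    rintro rfl
    exact S.hpA (S.isU_A hu S.hr hu.2)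
  let P : Sylow p G := Classical.arbitrary _
  -- every `p`-element lies in `P`
  have hmemP : ∀ (w : G) (n : ℕ), orderOf w = p ^ n → w ∈ P := by
    intro w n hw
    have hz : IsPGroup p (Subgroup.zpowers w) :=
      IsPGroup.of_card (n := n) (by rw [Nat.card_zpowers, hw])
    obtain ⟨Q, hQ⟩ := hz.exists_le_sylow
    exact S.sylow_le Q P (hQ (Subgroup.mem_zpowers w))
  have hvP : v ∈ P := hmemP v _ hv.1.choose_spec
  have huP : u ∈ P := hmemP u _ hu.1.choose_spec
  -- a subgroup of index prime to `p` contains `P`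
  have hPle : ∀ L : Subgroup G, ¬ p ∣ L.index → (P : Subgroup G) ≤ L := by
    intro L hL
    obtain ⟨P', hP'⟩ := exists_sylow_le_of_not_dvd L hL
    exact (S.sylow_le P P').trans hP'
  let R : Sylow r G := Classical.arbitrary _
  -- every element of `R` commutes with `u`
  have hRu : (R : Subgroup G) ≤ Subgroup.centralizer ({u} : Set G) := by
    intro c hcR
    rw [Subgroup.mem_centralizer_singleton_iff]
    refine (commute_of_cover (P : Subgroup G) c ?_ ?_ u huP).symm
    · intro w hwP hwnc
      obtain ⟨y, hyP, hwy⟩ := hwnc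
      obtain ⟨nw, hnw⟩ := orderOf_eq_pow_of_mem_sylow P hwP
      have hw1 : w ≠ 1 := by
        rintro rfl
        exact hwy (by rw [one_mul, mul_one])
      have hpw : p ∣ cs w := by
        by_contra h
        have := hPle _ h hyP
        rw [Subgroup.mem_centralizer_singleton_iff] at this
        exact hwy this.symm
      obtain ⟨k, hk⟩ := S.cs_pow_of_dvd (dvd_orderOf_of_pElt hnw hw1) hpw
      have hrw : ¬ r ∣ cs w := by
        rw [hk]
        intro h
        exact hrp ((Nat.prime_dvd_prime_iff_eq S.hr S.hp).1 (S.hr.dvd_of_dvd_pow h))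
      obtain ⟨R', hR'⟩ := exists_sylow_le_of_not_dvd (Subgroup.centralizer ({w} : Set G)) hrw
      obtain ⟨g, hg⟩ := MulAction.exists_smul_eq G R R'
      have hcop : (Subgroup.centralizer ({w} : Set G)).index.Coprime (P : Subgroup G).index := by
        have : (Subgroup.centralizer ({w} : Set G)).index = p ^ k := hk
        rw [this]
        exact Nat.Coprime.pow_left k
          ((Nat.Prime.coprime_iff_not_dvd S.hp).2 (not_dvd_index_sylow P))
      obtain ⟨a, ha, x, hx, rfl⟩ := Cfsg.Agent.Lib.H1.exists_mul_of_coprime_index hcop g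
      refine ⟨x, hx, ?_⟩
      have hd : (a * x) * c * (a * x)⁻¹ ∈ (R' : Subgroup G) := by
        rw [← hg, Sylow.coe_subgroup_smul]
        have h0 := Subgroup.smul_mem_pointwise_smul c (MulAut.conj (a * x)) (R : Subgroup G) hcR
        rwa [MulAut.smul_def, MulAut.conj_apply] at h0
      have hdw := hR' hd
      rw [Subgroup.mem_centralizer_singleton_iff] at hdw ha
      have hdw' : Commute ((a * x) * c * (a * x)⁻¹) w := hdw
      have ha' : Commute a w := ha
      have h1 : Commute (a⁻¹ * ((a * x) * c * (a * x)⁻¹) * a) w :=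
        (ha'.inv_left.mul_left hdw').mul_left ha'
      have e : a⁻¹ * ((a * x) * c * (a * x)⁻¹) * a = x * c * x⁻¹ := by group
      rw [e] at h1
      have h2 : x * c * x⁻¹ * w = w * (x * c * x⁻¹) := h1.eq
      calc x⁻¹ * w * x * c = x⁻¹ * (w * (x * c * x⁻¹)) * x := by group
        _ = x⁻¹ * (x * c * x⁻¹ * w) * x := by rw [h2]
        _ = c * (x⁻¹ * w * x) := by group
    · by_contra hcon
      push Not at hcon
      have hPv : (P : Subgroup G) ≤ Subgroup.centralizer ({v} : Set G) := by
        intro y hyP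
        rw [Subgroup.mem_centralizer_singleton_iff]
        exact (hcon v hvP y hyP).symm
      exact not_dvd_index_sylow P ((S.dvd_cs_v hu hv).trans (Subgroup.index_dvd_of_le hPv))
  exact not_dvd_index_sylow R (hu.2.trans (Subgroup.index_dvd_of_le hRu))

end Core

end Cfsg.Agent.Lib.H5.PSing
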