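import Mathlib
import Cfsg.Agent.Lib.H12.GL2
import Cfsg.Agent.Lib.H12.SL2Reg
import Cfsg.Agent.Lib.H12.SL2Odd
import Cfsg.Agent.Lib.H5.A4Recog
import Cfsg.Prelude.Def_GeometricClasses

/-!
# The normalizer of a quaternion subgroup of `GL₂(F)`
-/

set_option autoImplicit false
set_option linter.style.haveILetI false

namespace Cfsg.Agent.Lib.H5.Q8Normalizer

open Matrix Cfsg.Agent.Lib.H12

section Algebra

variable {F : Type*} [Field F]

local notation "M2" => Matrix (Fin 2) (Fin 2) F

/-- Cayley–Hamilton for `2 × 2` matrices -/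
theorem cayley (A : M2) : A * A = A.trace • A - A.det • (1 : M2) := by
  ext i j
  fin_cases i <;> fin_cases j <;>
    simp [Matrix.mul_apply, Fin.sum_univ_two, Matrix.trace_fin_two, Matrix.det_fin_two] <;> ring

/-- a matrix commuting with two anticommuting invertible matrices is scalar -/
theorem scalar_of_commute {I J Y : M2} (hne : I * J ≠ J * I)
    (hYI : Y * I = I * Y) (hYJ : Y * J = J * Y) : ∃ a : F, Y = a • (1 : M2) := by
  by_contra hns
  have hY : NonScalar Y := by
    intro h
    exact hns ((eq_smul_one_iff Y).mpr h)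
  obtain ⟨α, β, hI⟩ := commute_nonScalar Y I hY hYI
  obtain ⟨α', β', hJ⟩ := commute_nonScalar Y J hY hYJ
  apply hne
  rw [hI, hJ]
  simp only [add_mul, mul_add, smul_mul_assoc, mul_smul_comm, one_mul, mul_one]
  module

/-- the matrix relations in a quaternion group: from the group relations -/
theorem quaternion_relations {I J : M2} (h4 : I * I * (I * I) = 1) (hIJ : I * I = J * J)
    (h2 : I * I ≠ 1) (hJI : J * I = I * I * I * J) (hne : I * J ≠ J * I) :
    I * I = -1 ∧ J * J = -1 ∧ J * I = -(I * J) ∧ I.trace = 0 ∧ J.trace = 0 ∧ I.det = 1 ∧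
      J.det = 1 := by
  -- the trace of `I`
  have hZJ : J * (I * I) = I * I * J := by rw [hIJ, mul_assoc]
  have hcI := cayley I
  have htI : I.trace = 0 := by
    have h1 : I.trace • (J * I - I * J) = 0 := by
      have e1 : J * (I.trace • I - I.det • (1 : M2)) = (I.trace • I - I.det • (1 : M2)) * J := by
        rw [← hcI]; exact hZJ
      simp only [mul_sub, sub_mul, mul_smul_comm, smul_mul_assoc, mul_one, one_mul] at e1
      have e2 : I.trace • (J * I) = I.trace • (I * J) := by simpa using e1
      rw [smul_sub, e2, sub_self]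
    rcases smul_eq_zero.mp h1 with h | h
    · exact h
    · exfalso
      apply hne
      exact (sub_eq_zero.mp h).symm
  rw [htI, zero_smul, zero_sub] at hcI
  -- the determinant of `I`
  have hd2 : I.det * I.det = 1 := by
    have : (1 : M2) = (I.det * I.det) • (1 : M2) := by
      calc (1 : M2) = I * I * (I * I) := h4.symm
        _ = (-(I.det • (1 : M2))) * (-(I.det • (1 : M2))) := by rw [hcI]
        _ = (I.det * I.det) • (1 : M2) := by simp [smul_smul]
    have := congrFun (congrFun this 0) 0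
    simpa using this.symm
  have hdI : I.det = 1 := by
    have h' : (I.det - 1) * (I.det + 1) = 0 := by linear_combination hd2
    rcases mul_eq_zero.mp h' with h | h
    · linear_combination h
    · exfalso
      apply h2
      rw [hcI]
      have : I.det = -1 := by linear_combination h
      rw [this]
      simp
  have hII : I * I = -1 := by
    rw [hcI, hdI, one_smul]
  have hJJ : J * J = -1 := by rw [← hIJ, hII]
  -- the trace of `J`
  have hcJ := cayley J
  rw [hJJ] at hcJ
  have htJ : J.trace = 0 := by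
    by_contra ht
    apply hne
    have hJs : J = (J.trace⁻¹ * (J.det - 1)) • (1 : M2) := by
      have : J.trace • J = (J.det - 1) • (1 : M2) := by
        rw [sub_smul, one_smul]
        have := hcJ
        rw [eq_sub_iff_add_eq] at this
        rw [← this]
        abel
      calc J = J.trace⁻¹ • (J.trace • J) := by rw [smul_smul, inv_mul_cancel₀ ht, one_smul]
        _ = _ := by rw [this, smul_smul]
    rw [hJs]
    simp
  have hdJ : J.det = 1 := by
    rw [htJ, zero_smul, zero_sub] at hcJ
    have := congrFun (congrFun hcJ 0) 0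
    simp at this
    exact this.symm
  refine ⟨hII, hJJ, ?_, htI, htJ, hdI, hdJ⟩
  rw [hJI, hII]
  simp

end Algebra

section Hurwitz

variable {A : Type*} [Ring A] {I J : A}

theorem hurwitz_sq (hII : I * I = -1) (hJJ : J * J = -1) (hJI : J * I = -(I * J)) :
    (-1 + I + J + I * J) * (-1 + I + J + I * J) =
      -((-1 + I + J + I * J) + (-1 + I + J + I * J)) - (1 + 1 + 1 + 1) := by
  have r1 : ∀ X, I * (I * X) = -X := fun X => by rw [← mul_assoc, hII]; simp
  have r3 : ∀ X, J * (I * X) = -(I * (J * X)) := fun X => by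
    rw [← mul_assoc, hJI]; simp [mul_assoc]
  simp only [mul_add, add_mul, mul_neg, neg_mul, mul_one, one_mul, mul_assoc, hII, hJJ, hJI, r1, r3,
    neg_neg]
  abel

theorem hurwitz_I (hII : I * I = -1) (hJJ : J * J = -1) (hJI : J * I = -(I * J)) :
    (-1 + I + J + I * J) * I = I * J * (-1 + I + J + I * J) := by
  have r1 : ∀ X, I * (I * X) = -X := fun X => by rw [← mul_assoc, hII]; simp
  have r3 : ∀ X, J * (I * X) = -(I * (J * X)) := fun X => by
    rw [← mul_assoc, hJI]; simp [mul_assoc]
  simp only [mul_add, add_mul, mul_neg, neg_mul, mul_one, one_mul, mul_assoc, hII, hJJ, hJI, r1, r3,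
    neg_neg]
  abel

theorem hurwitz_J (hII : I * I = -1) (hJJ : J * J = -1) :
    (-1 + I + J + I * J) * J = I * (-1 + I + J + I * J) := by
  have r1 : ∀ X, I * (I * X) = -X := fun X => by rw [← mul_assoc, hII]; simp
  simp only [mul_add, add_mul, mul_neg, neg_mul, mul_one, one_mul, mul_assoc, hII, hJJ, r1]
  abel

end Hurwitz

section Omega

variable {F : Type*} [Field F]

local notation "M2" => Matrix (Fin 2) (Fin 2) F

/-- the Hurwitz unit `(-1 + i + j + ij)/2` -/
noncomputable def omega (I J : M2) : M2 := (2⁻¹ : F) • (-1 + I + J + I * J)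

variable {I J : Matrix (Fin 2) (Fin 2) F}

theorem omega_mul_I (hII : I * I = -1) (hJJ : J * J = -1) (hJI : J * I = -(I * J)) :
    omega I J * I = I * J * omega I J := by
  rw [omega, smul_mul_assoc, mul_smul_comm, hurwitz_I hII hJJ hJI]

theorem omega_mul_J (hII : I * I = -1) (hJJ : J * J = -1) :
    omega I J * J = I * omega I J := by
  rw [omega, smul_mul_assoc, mul_smul_comm, hurwitz_J hII hJJ]

theorem omega_sq (h2 : (2 : F) ≠ 0) (hII : I * I = -1) (hJJ : J * J = -1)
    (hJI : J * I = -(I * J)) : omega I J * omega I J = -omega I J - 1 := by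
  rw [omega, smul_mul_assoc, mul_smul_comm, hurwitz_sq hII hJJ hJI, smul_smul]
  have e1 : (1 : M2) + 1 + 1 + 1 = (4 : F) • (1 : M2) := by
    ext i j
    fin_cases i <;> fin_cases j <;> simp <;> norm_num
  rw [e1, smul_sub, smul_neg, ← two_smul F (-1 + I + J + I * J), smul_smul, smul_smul]
  have e2 : (2 : F)⁻¹ * 2⁻¹ * 2 = 2⁻¹ := by field_simp
  have e3 : (2 : F)⁻¹ * 2⁻¹ * 4 = 1 := by field_simp; norm_num
  rw [e2, e3, one_smul]

theorem trace_mul_eq_zero (h2 : (2 : F) ≠ 0) (hJI : J * I = -(I * J)) : (I * J).trace = 0 := by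
  have h1 : (I * J).trace = (J * I).trace := Matrix.trace_mul_comm I J
  rw [hJI, Matrix.trace_neg] at h1
  have : (2 : F) * (I * J).trace = 0 := by linear_combination h1
  exact (mul_eq_zero.mp this).resolve_left h2

theorem trace_omega (h2 : (2 : F) ≠ 0) (hJI : J * I = -(I * J)) (htI : I.trace = 0)
    (htJ : J.trace = 0) : (omega I J).trace = -1 := by
  rw [omega, Matrix.trace_smul, Matrix.trace_add, Matrix.trace_add, Matrix.trace_add,
    Matrix.trace_neg, htI, htJ, trace_mul_eq_zero h2 hJI, Matrix.trace_one]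
  simp
  field_simp

theorem det_omega (h2 : (2 : F) ≠ 0) (hII : I * I = -1) (hJJ : J * J = -1)
    (hJI : J * I = -(I * J)) (htI : I.trace = 0) (htJ : J.trace = 0) : (omega I J).det = 1 := by
  have h1 := cayley (omega I J)
  rw [omega_sq h2 hII hJJ hJI, trace_omega h2 hJI htI htJ] at h1
  have h3 : (1 : M2) = (omega I J).det • (1 : M2) := by
    have : -omega I J - 1 = -omega I J - (omega I J).det • (1 : M2) := by
      rw [h1]; simp
    have := sub_right_injective this
    exact this
  have := congrFun (congrFun h3 0) 0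
  simpa using this.symm

end Omega

section Generic

theorem card_modEq_card_centralizer {G : Type*} [Group G] (R : Subgroup G) [Finite R] {r : ℕ}
    [Fact r.Prime] {y : G} (hy : y ∈ Subgroup.normalizer (R : Set G)) (hyr : y ^ r = 1) :
    Nat.card R ≡ Nat.card ((Subgroup.centralizer ({y} : Set G)).subgroupOf R) [MOD r] := by
  let y' : Subgroup.normalizer (R : Set G) := ⟨y, hy⟩
  have hZ : IsPGroup r (Subgroup.zpowers y') := by
    rintro ⟨g, hg⟩
    obtain ⟨k, rfl⟩ := Subgroup.mem_zpowers_iff.mp hg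
    refine ⟨1, ?_⟩
    apply Subtype.ext
    apply Subtype.ext
    simp only [pow_one, Subgroup.coe_pow, Subgroup.coe_zpow, Subgroup.coe_one, y']
    rw [← zpow_natCast, ← _root_.zpow_mul, mul_comm, _root_.zpow_mul, zpow_natCast, hyr, _root_.one_zpow]
  have h1 := hZ.card_modEq_card_fixedPoints (↥R)
  have hcard : Nat.card (MulAction.fixedPoints (Subgroup.zpowers y') ↥R) =
      Nat.card ((Subgroup.centralizer ({y} : Set G)).subgroupOf R) := by
    apply Nat.card_congr
    apply Equiv.subtypeEquivRight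
    intro a
    rw [MulAction.mem_fixedPoints, Subgroup.mem_subgroupOf, Subgroup.mem_centralizer_singleton_iff]
    constructor
    · intro h
      have := h ⟨y', Subgroup.mem_zpowers y'⟩
      have h2 : y * (a : G) * y⁻¹ = a := congrArg Subtype.val this
      rw [mul_inv_eq_iff_eq_mul] at h2
      exact h2.symm
    · rintro h ⟨m, hm⟩
      obtain ⟨k, rfl⟩ := Subgroup.mem_zpowers_iff.mp hm
      apply Subtype.ext
      show ((y' ^ k : Subgroup.normalizer (R : Set G)) : G) * (a : G) *
        ((y' ^ k : Subgroup.normalizer (R : Set G)) : G)⁻¹ = a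
      rw [mul_inv_eq_iff_eq_mul]
      have hc : Commute y (a : G) := h.symm
      simp only [Subgroup.coe_zpow, y']
      exact (hc.zpow_left k).eq
  rw [hcard] at h1
  exact h1

theorem centralizes_of_prime_ge_five {G : Type*} [Group G] (R : Subgroup G) [Finite R]
    (hR : Nat.card R = 8) {r : ℕ} [hr' : Fact r.Prime] (hr : 5 ≤ r) {y : G}
    (hy : y ∈ Subgroup.normalizer (R : Set G)) (hyr : y ^ r = 1) {z : G} (hzR : z ∈ R)
    (hz1 : z ≠ 1) (hzc : y * z = z * y) : ∀ a ∈ R, y * a = a * y := by
  have h1 := card_modEq_card_centralizer R hy hyr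
  rw [hR] at h1
  have hdvd : Nat.card ((Subgroup.centralizer ({y} : Set G)).subgroupOf R) ∣ 8 := by
    rw [← hR]
    exact Subgroup.card_subgroup_dvd_card _
  have hc2 : 1 < Nat.card ((Subgroup.centralizer ({y} : Set G)).subgroupOf R) := by
    rw [Subgroup.one_lt_card_iff_ne_bot]
    intro hbot
    have hm : (⟨z, hzR⟩ : R) ∈ (Subgroup.centralizer ({y} : Set G)).subgroupOf R := by
      rw [Subgroup.mem_subgroupOf, Subgroup.mem_centralizer_singleton_iff]
      exact hzc.symm
    rw [hbot, Subgroup.mem_bot] at hm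
    exact hz1 (congrArg Subtype.val hm)
  have hle : Nat.card ((Subgroup.centralizer ({y} : Set G)).subgroupOf R) ≤ 8 :=
    Nat.le_of_dvd (by norm_num) hdvd
  have hd := (Nat.modEq_iff_dvd' hle).mp h1.symm
  have htop : Nat.card ((Subgroup.centralizer ({y} : Set G)).subgroupOf R) = 8 := by
    generalize Nat.card ((Subgroup.centralizer ({y} : Set G)).subgroupOf R) = c at *
    have hp := hr'.out
    interval_cases c
    · exfalso
      have := Nat.le_of_dvd (by norm_num) hd
      interval_cases r
      · omega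
      · norm_num at hp
    · omega
    · exfalso
      have := Nat.le_of_dvd (by norm_num) hd
      omega
    · omega
    · omega
    · omega
    · rfl
  have hT : (Subgroup.centralizer ({y} : Set G)).subgroupOf R = ⊤ := by
    rw [← Subgroup.card_eq_iff_eq_top, htop, hR]
  intro a ha
  have : (⟨a, ha⟩ : R) ∈ (Subgroup.centralizer ({y} : Set G)).subgroupOf R := by
    rw [hT]; exact Subgroup.mem_top _
  rw [Subgroup.mem_subgroupOf, Subgroup.mem_centralizer_singleton_iff] at this
  exact this.symm

end Generic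

section GLSection

variable {F : Type*} [Field F]

local notation "M2" => Matrix (Fin 2) (Fin 2) F
local notation "GL2" => GL (Fin 2) F
local notation "SL2" => Matrix.SpecialLinearGroup (Fin 2) F

open QuaternionGroup in
theorem quat_rel :
    (a 1 : QuaternionGroup 2) * a 1 * (a 1 * a 1) = 1 ∧
    (a 1 : QuaternionGroup 2) * a 1 = xa 0 * xa 0 ∧
    (a 1 : QuaternionGroup 2) * a 1 ≠ 1 ∧
    (xa 0 : QuaternionGroup 2) * a 1 = a 1 * a 1 * a 1 * xa 0 ∧
    (a 1 : QuaternionGroup 2) * xa 0 ≠ xa 0 * a 1 ∧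
    ∀ q : QuaternionGroup 2, q = 1 ∨ q = a 1 ∨ q = a 1 * a 1 ∨ q = a 1 * a 1 * a 1 ∨ q = xa 0 ∨
      q = a 1 * xa 0 ∨ q = a 1 * a 1 * xa 0 ∨ q = a 1 * a 1 * a 1 * xa 0 := by
  decide

open QuaternionGroup in
/-- generators of a quaternion subgroup of `GL₂` and their matrix relations -/
theorem exists_generators (R : Subgroup GL2) (e : ↥R ≃* QuaternionGroup 2) :
    ∃ i j : GL2, i ∈ R ∧ j ∈ R ∧ (∀ x ∈ R, x ∈ Subgroup.closure ({i, j} : Set GL2)) ∧
      (i : M2) * (i : M2) = -1 ∧ (j : M2) * (j : M2) = -1 ∧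
      (j : M2) * (i : M2) = -((i : M2) * (j : M2)) ∧
      (i : M2).trace = 0 ∧ (j : M2).trace = 0 ∧ (i : M2).det = 1 ∧ (j : M2).det = 1 ∧
      (i : M2) * (j : M2) ≠ (j : M2) * (i : M2) := by
  obtain ⟨r1, r2, r3, r4, r5, r6⟩ := quat_rel
  let ψ : QuaternionGroup 2 →* M2 :=
    (Units.coeHom M2).comp (R.subtype.comp e.symm.toMonoidHom)
  have hψ : Function.Injective ψ := fun a b h => e.symm.injective (Subtype.ext (Units.ext h))
  have h4 : ψ (a 1) * ψ (a 1) * (ψ (a 1) * ψ (a 1)) = 1 := by
    rw [← map_mul, ← map_mul, r1, map_one]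
  have hIJ : ψ (a 1) * ψ (a 1) = ψ (xa 0) * ψ (xa 0) := by
    rw [← map_mul, ← map_mul, r2]
  have h2 : ψ (a 1) * ψ (a 1) ≠ 1 := by
    rw [← map_mul, ← map_one ψ]
    exact fun h => r3 (hψ h)
  have hJI : ψ (xa 0) * ψ (a 1) = ψ (a 1) * ψ (a 1) * ψ (a 1) * ψ (xa 0) := by
    rw [← map_mul, ← map_mul, ← map_mul, ← map_mul, r4]
  have hne : ψ (a 1) * ψ (xa 0) ≠ ψ (xa 0) * ψ (a 1) := by
    rw [← map_mul, ← map_mul]
    exact fun h => r5 (hψ h)
  obtain ⟨hII, hJJ, hJI', htI, htJ, hdI, hdJ⟩ := quaternion_relations h4 hIJ h2 hJI hne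
  refine ⟨((e.symm (a 1) : R) : GL2), ((e.symm (xa 0) : R) : GL2), (e.symm _).2, (e.symm _).2, ?_,
    hII, hJJ, hJI', htI, htJ, hdI, hdJ, hne⟩
  intro x hx
  have hi : ((e.symm (a 1) : R) : GL2) ∈ Subgroup.closure
      ({((e.symm (a 1) : R) : GL2), ((e.symm (xa 0) : R) : GL2)} : Set GL2) :=
    Subgroup.subset_closure (Set.mem_insert _ _)
  have hj : ((e.symm (xa 0) : R) : GL2) ∈ Subgroup.closure
      ({((e.symm (a 1) : R) : GL2), ((e.symm (xa 0) : R) : GL2)} : Set GL2) :=
    Subgroup.subset_closure (Set.mem_insert_of_mem _ rfl)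
  have hxq : x = ((e.symm (e ⟨x, hx⟩) : R) : GL2) := by rw [e.symm_apply_apply]
  rcases r6 (e ⟨x, hx⟩) with h | h | h | h | h | h | h | h <;> rw [hxq, h] <;>
    try simp only [map_mul, map_one, Subgroup.coe_mul, Subgroup.coe_one]
  · exact one_mem _
  · exact hi
  · exact mul_mem hi hi
  · exact mul_mem (mul_mem hi hi) hi
  · exact hj
  · exact mul_mem hi hj
  · exact mul_mem (mul_mem hi hi) hj
  · exact mul_mem (mul_mem (mul_mem hi hi) hi) hj

theorem mem_specialLinear_iff (x : GL2) :
    x ∈ Cfsg.Geo.specialLinear (Fin 2) F ↔ (x : M2).det = 1 := by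
  rw [Cfsg.Geo.specialLinear, MonoidHom.mem_ker, Units.ext_iff,
    Matrix.GeneralLinearGroup.val_det_apply, Units.val_one]

theorem toGL_mem_specialLinear (c : SL2) :
    Matrix.SpecialLinearGroup.toGL c ∈ Cfsg.Geo.specialLinear (Fin 2) F := by
  rw [mem_specialLinear_iff]
  exact c.det_coe

/-- an element of `GL₂` of determinant one, in `SL₂` -/
def toSL (x : GL2) (h : (x : M2).det = 1) : SL2 := ⟨(x : M2), h⟩

theorem toSL_val (x : GL2) (h : (x : M2).det = 1) : ((toSL x h : SL2) : M2) = (x : M2) := rfl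

theorem toGL_val (w : SL2) : ((Matrix.SpecialLinearGroup.toGL w : GL2) : M2) = (w : M2) := rfl

theorem toGL_mk (x : GL2) (h : (x : M2).det = 1) :
    Matrix.SpecialLinearGroup.toGL (toSL x h) = x :=
  Units.ext rfl

/-- conjugating a member of the special linear group: the bridge between `GL₂` and `SL₂` -/
theorem exists_conj_of_isConj {x : GL2} (h : (x : M2).det = 1) {y : SL2}
    (hc : IsConj (toSL x h) y) :
    ∃ g ∈ Cfsg.Geo.specialLinear (Fin 2) F, g⁻¹ * x * g = Matrix.SpecialLinearGroup.toGL y := by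
  obtain ⟨c, hc⟩ := isConj_iff.mp hc
  refine ⟨Matrix.SpecialLinearGroup.toGL c⁻¹, toGL_mem_specialLinear _, ?_⟩
  rw [← hc, map_mul, map_mul, toGL_mk, map_inv, inv_inv]

/-- the Hurwitz unit normalizes the quaternion group -/
theorem omega_mem_normalizer (h2 : (2 : F) ≠ 0) (R : Subgroup GL2) [Finite R] {i j : GL2}
    (hi : i ∈ R) (hj : j ∈ R) (hcl : ∀ x ∈ R, x ∈ Subgroup.closure ({i, j} : Set GL2))
    (hII : (i : M2) * (i : M2) = -1) (hJJ : (j : M2) * (j : M2) = -1)
    (hJI : (j : M2) * (i : M2) = -((i : M2) * (j : M2))) (w : SL2)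
    (hw : (w : M2) = omega (i : M2) (j : M2)) :
    Matrix.SpecialLinearGroup.toGL w ∈ Subgroup.normalizer (R : Set GL2) := by
  apply Cfsg.Agent.Lib.H5.A4Recog.mem_normalizer_of_conj_mem
  have h1 : Matrix.SpecialLinearGroup.toGL w * i = i * j * Matrix.SpecialLinearGroup.toGL w := by
    apply Units.ext
    simp only [Units.val_mul, toGL_val, hw]
    exact omega_mul_I hII hJJ hJI
  have h2' : Matrix.SpecialLinearGroup.toGL w * j = i * Matrix.SpecialLinearGroup.toGL w := by
    apply Units.ext
    simp only [Units.val_mul, toGL_val, hw]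
    exact omega_mul_J hII hJJ
  have hle : Subgroup.closure ({i, j} : Set GL2) ≤
      R.comap (MulAut.conj (Matrix.SpecialLinearGroup.toGL w)).toMonoidHom := by
    rw [Subgroup.closure_le]
    intro x hx
    rw [SetLike.mem_coe, Subgroup.mem_comap]
    rcases hx with rfl | hx
    · show Matrix.SpecialLinearGroup.toGL w * x * (Matrix.SpecialLinearGroup.toGL w)⁻¹ ∈ R
      rw [h1, mul_inv_cancel_right]
      exact mul_mem hi hj
    · rw [Set.mem_singleton_iff] at hx
      subst hx
      show Matrix.SpecialLinearGroup.toGL w * x * (Matrix.SpecialLinearGroup.toGL w)⁻¹ ∈ R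
      rw [h2', mul_inv_cancel_right]
      exact hi
  intro v hv
  exact hle (hcl v hv)

variable [Fintype F]

/-- elements of order two modulo scalars are conjugate into the normalizer -/
theorem conj_mem_of_sq (hodd : Odd (Fintype.card F)) (h2 : (2 : F) ≠ 0) (R : Subgroup GL2)
    (e : ↥R ≃* QuaternionGroup 2) (x : GL2) (hxS : x ∈ Cfsg.Geo.specialLinear (Fin 2) F)
    (hx : ∃ z : F, ((x ^ 2 : GL2) : M2) = z • (1 : M2))
    (hns : ∀ z : F, (x : M2) ≠ z • (1 : M2)) :
    ∃ g ∈ Cfsg.Geo.specialLinear (Fin 2) F, g⁻¹ * x * g ∈ Subgroup.normalizer (R : Set GL2) := by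
  obtain ⟨i, j, hi, hj, hcl, hII, hJJ, hJI, htI, htJ, hdI, hdJ, hne⟩ := exists_generators R e
  obtain ⟨z, hz⟩ := hx
  have hdet := (mem_specialLinear_iff x).mp hxS
  have hc := cayley (x : M2)
  rw [hdet, one_smul] at hc
  rw [pow_two, Units.val_mul, hc] at hz
  have ht : (x : M2).trace = 0 := by
    by_contra ht
    apply hns ((x : M2).trace⁻¹ * (z + 1))
    have h1 : (x : M2).trace • (x : M2) = (z + 1) • (1 : M2) := by
      rw [add_smul, one_smul, ← hz]
      abel
    calc (x : M2) = (x : M2).trace⁻¹ • ((x : M2).trace • (x : M2)) := by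
          rw [smul_smul, inv_mul_cancel₀ ht, one_smul]
      _ = _ := by rw [h1, smul_smul]
  have h4 : (4 : F) ≠ 0 := by
    have : (4 : F) = 2 * 2 := by norm_num
    rw [this]
    exact mul_ne_zero h2 h2
  have hnsI : NonScalar ((toSL i hdI : SL2) : M2) := by
    apply nonScalar_of_trace_sq_ne
    rw [toSL_val, htI]
    intro h
    apply h4
    rw [← h]
    ring
  have hconj : IsConj (toSL x hdet) (toSL i hdI) := by
    apply sl2_isConj_of_trace_regular hodd _ _ hnsI
    · rw [toSL_val, toSL_val, ht, htI]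
    · rw [toSL_val, ht]
      intro h
      apply h4
      rw [← h]
      ring
  obtain ⟨g, hg, hgx⟩ := exists_conj_of_isConj hdet hconj
  refine ⟨g, hg, ?_⟩
  rw [hgx, toGL_mk]
  exact Subgroup.le_normalizer hi

/-- elements of order three modulo scalars are conjugate into the normalizer -/
theorem conj_mem_of_cube (hodd : Odd (Fintype.card F)) (h2 : (2 : F) ≠ 0) (h3 : (3 : F) ≠ 0)
    (R : Subgroup GL2)
    (e : ↥R ≃* QuaternionGroup 2) (x : GL2) (hxS : x ∈ Cfsg.Geo.specialLinear (Fin 2) F)
    (hx : ∃ z : F, ((x ^ 3 : GL2) : M2) = z • (1 : M2))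
    (hns : ∀ z : F, (x : M2) ≠ z • (1 : M2)) :
    ∃ g ∈ Cfsg.Geo.specialLinear (Fin 2) F, g⁻¹ * x * g ∈ Subgroup.normalizer (R : Set GL2) := by
  haveI : Finite R := Finite.of_equiv _ e.symm.toEquiv
  obtain ⟨i, j, hi, hj, hcl, hII, hJJ, hJI, htI, htJ, hdI, hdJ, hne⟩ := exists_generators R e
  obtain ⟨z, hz⟩ := hx
  have hdet := (mem_specialLinear_iff x).mp hxS
  have hc := cayley (x : M2)
  rw [hdet, one_smul] at hc
  have hx3 : ((x ^ 3 : GL2) : M2) = ((x : M2).trace ^ 2 - 1) • (x : M2) -
      (x : M2).trace • (1 : M2) := by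
    have : ((x ^ 3 : GL2) : M2) = (x : M2) * (x : M2) * (x : M2) := by
      rw [pow_succ, pow_two, Units.val_mul, Units.val_mul]
    rw [this, hc, sub_mul, one_mul, smul_mul_assoc, hc, smul_sub, smul_smul, sub_smul, one_smul,
      pow_two]
    abel
  rw [hx3] at hz
  have ht : (x : M2).trace ^ 2 - 1 = 0 := by
    by_contra ht
    apply hns (((x : M2).trace ^ 2 - 1)⁻¹ * (z + (x : M2).trace))
    have h1 : ((x : M2).trace ^ 2 - 1) • (x : M2) = (z + (x : M2).trace) • (1 : M2) := by
      rw [add_smul, ← hz]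
      abel
    calc (x : M2) = ((x : M2).trace ^ 2 - 1)⁻¹ • (((x : M2).trace ^ 2 - 1) • (x : M2)) := by
          rw [smul_smul, inv_mul_cancel₀ ht, one_smul]
      _ = _ := by rw [h1, smul_smul]
  have ht1 : (x : M2).trace ^ 2 ≠ 4 := by
    intro h
    apply h3
    have : (x : M2).trace ^ 2 = 1 := by linear_combination ht
    rw [this] at h
    linear_combination -h
  have hdw := det_omega h2 hII hJJ hJI htI htJ
  obtain ⟨w, hw⟩ : ∃ w : SL2, (w : M2) = omega (i : M2) (j : M2) := ⟨⟨_, hdw⟩, rfl⟩
  have htw : (w : M2).trace = -1 := by rw [hw]; exact trace_omega h2 hJI htI htJ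
  have hwN := omega_mem_normalizer h2 R hi hj hcl hII hJJ hJI w hw
  have hcases : (x : M2).trace = -1 ∨ (x : M2).trace = 1 := by
    have : ((x : M2).trace + 1) * ((x : M2).trace - 1) = 0 := by linear_combination ht
    rcases mul_eq_zero.mp this with h | h
    · left; linear_combination h
    · right; linear_combination h
  rcases hcases with htx | htx
  · have hconj : IsConj (toSL x hdet) w := by
      apply sl2_isConj_of_trace_regular hodd
      · apply nonScalar_of_trace_sq_ne
        rw [htw]
        intro h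
        apply h3
        linear_combination -h
      · rw [toSL_val, htx, htw]
      · rw [toSL_val]; exact ht1
    obtain ⟨g, hg, hgx⟩ := exists_conj_of_isConj hdet hconj
    refine ⟨g, hg, ?_⟩
    rw [hgx]
    exact hwN
  · have htw' : ((-w : SL2) : M2).trace = 1 := by
      rw [Matrix.SpecialLinearGroup.coe_neg, Matrix.trace_neg, htw, neg_neg]
    have hconj : IsConj (toSL x hdet) (-w) := by
      apply sl2_isConj_of_trace_regular hodd
      · apply nonScalar_of_trace_sq_ne
        rw [htw']
        intro h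
        apply h3
        linear_combination -h
      · rw [toSL_val, htx, htw']
      · rw [toSL_val]; exact ht1
    obtain ⟨g, hg, hgx⟩ := exists_conj_of_isConj hdet hconj
    refine ⟨g, hg, ?_⟩
    rw [hgx]
    have : Matrix.SpecialLinearGroup.toGL (-w) = i * i * Matrix.SpecialLinearGroup.toGL w := by
      apply Units.ext
      simp only [Units.val_mul, toGL_val,
        Matrix.SpecialLinearGroup.coe_neg, hII]
      simp
    rw [this]
    exact mul_mem (Subgroup.le_normalizer (mul_mem hi hi)) hwN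

/-- an element of prime order at least five normalizing the quaternion group is scalar -/
theorem scalar_of_mem_normalizer (h2 : (2 : F) ≠ 0) (R : Subgroup GL2)
    (e : ↥R ≃* QuaternionGroup 2) {r : ℕ} [Fact r.Prime] (hr : 5 ≤ r) {y : GL2}
    (hy : y ∈ Subgroup.normalizer (R : Set GL2)) (hyr : y ^ r = 1) :
    ∃ a : F, (y : M2) = a • (1 : M2) := by
  haveI : Finite R := Finite.of_equiv _ e.symm.toEquiv
  obtain ⟨i, j, hi, hj, hcl, hII, hJJ, hJI, htI, htJ, hdI, hdJ, hne⟩ := exists_generators R e
  have hR8 : Nat.card R = 8 := by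
    rw [Nat.card_congr e.toEquiv, Nat.card_eq_fintype_card, QuaternionGroup.card]
  have hz1 : i * i ≠ 1 := by
    intro h
    have := congrArg Units.val h
    rw [Units.val_mul, hII, Units.val_one] at this
    have := congrFun (congrFun this 0) 0
    simp at this
    apply h2
    linear_combination -this
  have hzc : y * (i * i) = i * i * y := by
    apply Units.ext
    simp only [Units.val_mul, hII]
    simp
  have hcomm := centralizes_of_prime_ge_five R hR8 hr hy hyr (mul_mem hi hi) hz1 hzc
  apply scalar_of_commute hne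
  · have := congrArg Units.val (hcomm i hi)
    simpa only [Units.val_mul] using this
  · have := congrArg Units.val (hcomm j hj)
    simpa only [Units.val_mul] using this

end GLSection

end Cfsg.Agent.Lib.H5.Q8Normalizer
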