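import Mathlib
import Cfsg.Agent.Lib.H6.QDF8
import Cfsg.Agent.Lib.H5.CentInv

/-!
# Quasi-dihedral Sylow 2-subgroups: centralizers of involutions (helper5, on top of helper6's
`QDF` library)
-/

set_option autoImplicit false

namespace Cfsg.Agent.Lib.H5.QC

open Subgroup Cfsg.Agent.Lib.H6 Cfsg.Agent.Lib.H6.QD Cfsg.Agent.Lib.H6.QDF
open Cfsg.Agent.Lib.H6.TwoRes

variable {G : Type*} [Group G] [Finite G] {S : Sylow 2 G} {n : ℕ}
  (P : QD.Pres ↥(S : Subgroup G) n)

/-- Membership in the image of `Z(S)`. -/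
theorem mem_center_map (u : G) :
    u ∈ (center ↥(S : Subgroup G)).map (S : Subgroup G).subtype ↔ u = 1 ∨ u = zG P := by
  constructor
  · rintro ⟨s, hs, rfl⟩
    rcases (P.mem_center_iff' s).mp hs with rfl | rfl
    · left; rfl
    · right; rfl
  · rintro (rfl | rfl)
    · exact Subgroup.one_mem _
    · exact ⟨P.R (hf n), (P.mem_center_iff' _).mpr (Or.inr rfl), rfl⟩

/-- The structure of `G` when `z` is isolated and the elements of order four are fused. -/
theorem case_quat (hz : ¬ IsConj (zG P) (yG P)) (ha : IsConj (aG P) (bG P)) :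
    (∃ K : Subgroup G, K.Normal ∧ K.index = 2 ∧
      (∀ P' : Sylow 2 ↥K, ∃ m : ℕ, 1 ≤ m ∧
        Nonempty ((P' : Subgroup ↥K) ≃* QuaternionGroup (2 ^ m))) ∧
      (∀ H : Subgroup ↥K, H.index ≠ 2)) ∧
    (∀ Z₀ : Subgroup G, Z₀ ≤ (center ↥(S : Subgroup G)).map (S : Subgroup G).subtype →
      Cfsg.IsWeaklyClosed Z₀ (S : Subgroup G)) := by
  have hNS := Nsub_inf_eq_M2 P hz ha
  have hidx : (Nsub G).index = 2 := by
    rw [index_Nsub S, hNS, P.index_M2]
  refine ⟨⟨Nsub G, Nsub_normal, hidx, ?_, no_index_two_sub hidx⟩, ?_⟩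
  · intro P'
    obtain ⟨e⟩ := sylow_equiv_of_normal S (Nsub G) P'
    obtain ⟨e2⟩ := P.M2_equiv
    have hn := P.hn
    exact ⟨n - 2, by omega, ⟨e.trans ((MulEquiv.subgroupCongr hNS).trans e2)⟩⟩
  · intro Z₀ hZ₀
    by_cases hzZ : zG P ∈ Z₀
    · have : Z₀ = (center ↥(S : Subgroup G)).map (S : Subgroup G).subtype := by
        apply le_antisymm hZ₀
        intro u hu
        rcases (mem_center_map P u).mp hu with rfl | rfl
        · exact one_mem _
        · exact hzZ
      rw [this]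
      exact weaklyClosed_center P hz
    · have : Z₀ = ⊥ := by
        rw [eq_bot_iff]
        intro u hu
        rcases (mem_center_map P u).mp (hZ₀ hu) with rfl | rfl
        · exact one_mem _
        · exact absurd hu hzZ
      rw [this]
      refine ⟨bot_le, fun g _ => ?_⟩
      rw [Subgroup.map_bot]

/-- Without subgroups of index two both fusions take place. -/
theorem fusion_of_no_index_two (hno : ∀ H : Subgroup G, H.index ≠ 2) :
    IsConj (zG P) (yG P) ∧ IsConj (aG P) (bG P) := by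
  have key : Nsub G = ⊤ := by
    by_contra hne
    obtain ⟨k, hk⟩ := index_Nsub_pow (G := G)
    have hk0 : k ≠ 0 := by
      rintro rfl
      rw [pow_zero, Subgroup.index_eq_one] at hk
      exact hne hk
    obtain ⟨H, hH⟩ := CI.exists_index_two_of_normal (Nsub G) k hk0 hk
    exact hno H hH
  constructor
  · by_contra hz
    exact yG_not_mem_Nsub P hz (key ▸ mem_top _)
  · by_contra ha
    exact bG_not_mem_Nsub P ha (key ▸ mem_top _)

theorem isConj_zG_of (hz : IsConj (zG P) (yG P)) (g : G) (hg : orderOf g = 2) :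
    IsConj (zG P) g := by
  rcases isConj_of_orderOf_two P g hg with h | h
  · exact h.symm
  · exact hz.trans h.symm

theorem eq_zG_of_center (t : G) (ht : orderOf t = 2)
    (htZ : t ∈ (center ↥(S : Subgroup G)).map (S : Subgroup G).subtype) : t = zG P := by
  rcases (mem_center_map P t).mp htZ with rfl | rfl
  · rw [orderOf_one] at ht; omega
  · rfl

/-- The centralizer of the central involution. -/
theorem cent_qd_aux (hS : Cfsg.IsQuasiDihedral ↥(S : Subgroup G))
    (ha : IsConj (aG P) (bG P))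
    (C : Subgroup G) (hCdef : C = centralizer ({zG P} : Set G))
    (hSC : (S : Subgroup G) ≤ C) :
    (∃ K : Subgroup ↥C, K.Normal ∧ (∃ a : ℕ, K.index = 2 ^ a) ∧
      (∀ H : Subgroup ↥K, H.index ≠ 2) ∧
      (∀ P' : Sylow 2 ↥K, ∃ m : ℕ, 1 ≤ m ∧
        Nonempty ((P' : Subgroup ↥K) ≃* QuaternionGroup (2 ^ m)))) ∧
    (∀ Z₀ : Subgroup ↥C,
      Z₀ ≤ (center ↥((S.subtype hSC : Sylow 2 ↥C) : Subgroup ↥C)).map
        ((S.subtype hSC : Sylow 2 ↥C) : Subgroup ↥C).subtype →
      Cfsg.IsWeaklyClosed Z₀ ((S.subtype hSC : Sylow 2 ↥C) : Subgroup ↥C)) := by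
  have : Fact (Nat.Prime 2) := ⟨Nat.prime_two⟩
  have eRS : ↥((S.subtype hSC : Sylow 2 ↥C) : Subgroup ↥C) ≃* ↥(S : Subgroup G) :=
    (MulEquiv.subgroupCongr (Sylow.coe_subtype S hSC)).trans (subgroupOfEquivOfLe hSC)
  have hR : Cfsg.IsQuasiDihedral ↥((S.subtype hSC : Sylow 2 ↥C) : Subgroup ↥C) :=
    CI.isQuasiDihedral_of_equiv eRS.symm hS
  obtain ⟨m, ⟨P'⟩⟩ := QD.exists_pres hR
  -- the central involution
  have hζS : zG P ∈ (S : Subgroup G) := (P.R (hf n)).2
  have hζC : zG P ∈ C := hSC hζS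
  have hζc : ∀ c : ↥C, c * ⟨zG P, hζC⟩ = ⟨zG P, hζC⟩ * c := by
    intro c
    have hc : (c : G) ∈ centralizer ({zG P} : Set G) := hCdef ▸ c.2
    have := mem_centralizer_iff.mp hc (zG P) (Set.mem_singleton _)
    exact Subtype.ext this.symm
  have hζR : (⟨zG P, hζC⟩ : ↥C) ∈ ((S.subtype hSC : Sylow 2 ↥C) : Subgroup ↥C) := by
    rw [Sylow.coe_subtype, mem_subgroupOf]
    exact hζS
  have hζeq : (⟨zG P, hζC⟩ : ↥C) = zG P' := by
    apply eq_zG_of_center P'
    · rw [Subgroup.orderOf_mk]; exact orderOf_zG P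
    · refine ⟨⟨_, hζR⟩, (?_ : _ ∈ center _), rfl⟩
      rw [mem_center_iff]
      intro s
      exact Subtype.ext (hζc s)
  have hz' : ¬ IsConj (zG P') (yG P') := by
    intro h
    obtain ⟨c, hc⟩ := isConj_iff.mp h
    apply SR_ne_zG P' 0
    show yG P' = zG P'
    rw [← hc, ← hζeq, hζc c, mul_inv_cancel_right]
  have ha' : IsConj (aG P') (bG P') := by
    have h1 : orderOf ((aG P' : ↥C) : G) = 4 := by
      rw [Subgroup.orderOf_coe]; exact orderOf_aG P'
    have h2 : orderOf ((bG P' : ↥C) : G) = 4 := by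
      rw [Subgroup.orderOf_coe]; exact orderOf_bG P'
    have hA : ∀ g : G, orderOf g = 4 → IsConj g (aG P) := by
      intro g hg
      rcases isConj_of_orderOf_four P g hg with h | h
      · exact h
      · exact h.trans ha.symm
    obtain ⟨c, hc⟩ := isConj_iff.mp ((hA _ h1).trans (hA _ h2).symm)
    have hsa : ((aG P' : ↥C) : G) * ((aG P' : ↥C) : G) = zG P := by
      have := sq_of_GA P' (GA_aG P')
      rw [← hζeq] at this
      exact congrArg Subtype.val this
    have hsb : ((bG P' : ↥C) : G) * ((bG P' : ↥C) : G) = zG P := by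
      have hj : hf m * (1 : ZMod (2 ^ m)) = hf m := mul_one _
      have := sq_of_GB1 P' hj (GB1_b1G P' (j := 1))
      rw [← hζeq] at this
      exact congrArg Subtype.val this
    have hcC : c ∈ C := by
      rw [hCdef, mem_centralizer_iff]
      intro k hk
      rw [Set.mem_singleton_iff] at hk
      subst hk
      have e1 : c * zG P * c⁻¹ = zG P := by
        calc c * zG P * c⁻¹ = c * (((aG P' : ↥C) : G) * ((aG P' : ↥C) : G)) * c⁻¹ := by rw [hsa]
          _ = (c * ((aG P' : ↥C) : G) * c⁻¹) * (c * ((aG P' : ↥C) : G) * c⁻¹) := by group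
          _ = ((bG P' : ↥C) : G) * ((bG P' : ↥C) : G) := by rw [hc]
          _ = zG P := hsb
      calc zG P * c = (c * zG P * c⁻¹) * c := by rw [e1]
        _ = c * zG P := by group
    exact isConj_iff.mpr ⟨⟨c, hcC⟩, Subtype.ext hc⟩
  obtain ⟨⟨K, hKn, hKi, hKs, hKno⟩, hwc⟩ := case_quat P' hz' ha'
  exact ⟨⟨K, hKn, ⟨1, by rw [hKi, pow_one]⟩, hKno, hKs⟩, hwc⟩

/-- Centralizer of a central involution of a quasi-dihedral Sylow 2-subgroup in a group without
subgroups of index two. -/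
theorem cent_qd (S : Sylow 2 G)
    (hS : Cfsg.IsQuasiDihedral ↥(S : Subgroup G)) (hno : ∀ H : Subgroup G, H.index ≠ 2)
    (t : G) (ht : orderOf t = 2)
    (htZ : t ∈ (center ↥(S : Subgroup G)).map (S : Subgroup G).subtype) :
    ∃ R : Sylow 2 ↥(centralizer ({t} : Set G)), Nat.card R = Nat.card S ∧
      (∃ K : Subgroup ↥(centralizer ({t} : Set G)), K.Normal ∧ (∃ a : ℕ, K.index = 2 ^ a) ∧
        (∀ H : Subgroup ↥K, H.index ≠ 2) ∧
        (∀ P : Sylow 2 ↥K, ∃ m : ℕ, 1 ≤ m ∧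
          Nonempty ((P : Subgroup ↥K) ≃* QuaternionGroup (2 ^ m)))) ∧
      (∀ Z₀ : Subgroup ↥(centralizer ({t} : Set G)),
        Z₀ ≤ (center ↥(R : Subgroup ↥(centralizer ({t} : Set G)))).map
          (R : Subgroup ↥(centralizer ({t} : Set G))).subtype →
        Cfsg.IsWeaklyClosed Z₀ (R : Subgroup ↥(centralizer ({t} : Set G)))) := by
  obtain ⟨n, ⟨P⟩⟩ := QD.exists_pres hS
  obtain rfl := eq_zG_of_center P t ht htZ
  obtain ⟨-, ha⟩ := fusion_of_no_index_two P hno
  have hSC : (S : Subgroup G) ≤ centralizer ({zG P} : Set G) := by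
    intro s hs
    rw [mem_centralizer_iff]
    intro k hk
    rw [Set.mem_singleton_iff] at hk
    subst hk
    exact zG_comm P ⟨s, hs⟩
  refine ⟨S.subtype hSC, ?_, cent_qd_aux P hS ha _ rfl hSC⟩
  exact Nat.card_congr ((MulEquiv.subgroupCongr (Sylow.coe_subtype S hSC)).trans
    (subgroupOfEquivOfLe hSC)).toEquiv

/-- Centralizer of an arbitrary involution of a group with quasi-dihedral Sylow 2-subgroups and
without subgroups of index two. -/
theorem cent_qd' (S : Sylow 2 G)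
    (hS : Cfsg.IsQuasiDihedral ↥(S : Subgroup G)) (hno : ∀ H : Subgroup G, H.index ≠ 2)
    (t : G) (ht : orderOf t = 2) :
    ∃ R : Sylow 2 ↥(centralizer ({t} : Set G)), Nat.card R = Nat.card S ∧
      (∃ K : Subgroup ↥(centralizer ({t} : Set G)), K.Normal ∧ (∃ a : ℕ, K.index = 2 ^ a) ∧
        (∀ H : Subgroup ↥K, H.index ≠ 2) ∧
        (∀ P : Sylow 2 ↥K, ∃ m : ℕ, 1 ≤ m ∧
          Nonempty ((P : Subgroup ↥K) ≃* QuaternionGroup (2 ^ m)))) ∧
      (∀ Z₀ : Subgroup ↥(centralizer ({t} : Set G)),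
        Z₀ ≤ (center ↥(R : Subgroup ↥(centralizer ({t} : Set G)))).map
          (R : Subgroup ↥(centralizer ({t} : Set G))).subtype →
        Cfsg.IsWeaklyClosed Z₀ (R : Subgroup ↥(centralizer ({t} : Set G)))) := by
  obtain ⟨n, ⟨P⟩⟩ := QD.exists_pres hS
  obtain ⟨hz, -⟩ := fusion_of_no_index_two P hno
  have hconj := isConj_zG_of P hz t ht
  have hzc : zG P ∈ (center ↥(S : Subgroup G)).map (S : Subgroup G).subtype :=
    (mem_center_map P _).mpr (Or.inr rfl)
  obtain ⟨S', ⟨e⟩, htZ⟩ := CI.exists_sylow_center S (zG P) t hzc hconj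
  obtain ⟨R, hR, h⟩ := cent_qd S' (CI.isQuasiDihedral_of_equiv e hS) hno t ht htZ
  refine ⟨R, ?_, h⟩
  rw [hR]
  exact (Nat.card_congr e.toEquiv).symm

end Cfsg.Agent.Lib.H5.QC
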