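import Mathlib
import Cfsg.Agent.Lib.H5.QuasiDihedral
import Cfsg.Agent.Lib.H22.DihQuatRecog
import Cfsg.Agent.Lib.H1.PGroupBasic

/-!
# The maximal subgroups of a quasi-dihedral group
-/

set_option autoImplicit false

namespace Cfsg.Agent.Lib.H5.SD

open Subgroup

variable {S : Type*} [Group S] {n : ℕ} {x y : S}

namespace Gens

variable (d : Gens S n x y)
include d

theorem xpy_conj_xp (c a : ZMod (2 ^ n)) :
    (xp n x c * y) * xp n x a * (xp n x c * y)⁻¹ = xp n x (mm n * a) := by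
  rw [d.xpy_mul_xp, d.xpy_inv, d.xpy_mul_xpy]
  congr 1
  have := mm_mul_mm (n := n) d.hn2
  linear_combination (-c) * this

/-- The subgroup `⟨x², x^ε y⟩`. -/
def maxSub (ε : ZMod (2 ^ n)) : Subgroup S where
  carrier := {g | (∃ b, g = xp n x (2 * b)) ∨ (∃ b, g = xp n x (2 * b + ε) * y)}
  mul_mem' := by
    rintro g k (⟨b, rfl⟩ | ⟨b, rfl⟩) (⟨c, rfl⟩ | ⟨c, rfl⟩)
    · left
      refine ⟨b + c, ?_⟩
      rw [← d.xp_add]; congr 1; ring
    · right
      refine ⟨b + c, ?_⟩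
      rw [d.xp_mul_xpy]; congr 2; ring
    · right
      refine ⟨b + mm n * c, ?_⟩
      rw [d.xpy_mul_xp]; congr 2; ring
    · left
      refine ⟨b + mm n * c + qq n * ε, ?_⟩
      rw [d.xpy_mul_xpy]; congr 1
      have h1 := hh_eq (n := n) d.hn2
      have h2 := mm_add_one (n := n)
      linear_combination ε * h2 + ε * h1
  one_mem' := by
    left
    exact ⟨0, by rw [mul_zero, xp_zero]⟩
  inv_mem' := by
    rintro g (⟨b, rfl⟩ | ⟨b, rfl⟩)
    · left
      refine ⟨-b, ?_⟩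
      rw [← d.xp_neg]; congr 1; ring
    · right
      refine ⟨-(mm n * b) - qq n * ε, ?_⟩
      rw [d.xpy_inv]; congr 2
      have h1 := hh_eq (n := n) d.hn2
      have h2 := mm_add_one (n := n)
      linear_combination (-ε) * h2 - ε * h1

theorem mem_maxSub (ε : ZMod (2 ^ n)) (g : S) :
    g ∈ d.maxSub ε ↔ (∃ b, g = xp n x (2 * b)) ∨ (∃ b, g = xp n x (2 * b + ε) * y) := Iff.rfl

theorem xp_mem_maxSub (ε a : ZMod (2 ^ n)) : xp n x a ∈ d.maxSub ε ↔ ∃ b, a = 2 * b := by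
  rw [d.mem_maxSub]
  constructor
  · rintro (⟨b, hb⟩ | ⟨b, hb⟩)
    · exact ⟨b, d.xp_injective hb⟩
    · exact absurd hb.symm (d.xpy_ne_xp _ _)
  · rintro ⟨b, rfl⟩
    exact Or.inl ⟨b, rfl⟩

theorem xpy_mem_maxSub (ε a : ZMod (2 ^ n)) :
    xp n x a * y ∈ d.maxSub ε ↔ ∃ b, a = 2 * b + ε := by
  rw [d.mem_maxSub]
  constructor
  · rintro (⟨b, hb⟩ | ⟨b, hb⟩)
    · exact absurd hb (d.xpy_ne_xp _ _)
    · exact ⟨b, d.xpy_injective _ _ hb⟩
  · rintro ⟨b, rfl⟩
    exact Or.inr ⟨b, rfl⟩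

theorem index_maxSub (ε : ZMod (2 ^ n)) : (d.maxSub ε).index = 2 := by
  rw [Subgroup.index_eq_two_iff]
  refine ⟨x, fun g => ?_⟩
  have hx1 : x = xp n x 1 := d.xp_one.symm
  rcases d.cases g with ⟨c, rfl⟩ | ⟨c, rfl⟩
  · have h1 : xp n x c * x = xp n x (c + 1) := by rw [d.xp_add, d.xp_one]
    rw [h1, d.xp_mem_maxSub, d.xp_mem_maxSub]
    rcases even_or_odd c with ⟨b, rfl⟩ | ⟨b, rfl⟩
    · right
      refine ⟨⟨b, rfl⟩, ?_⟩
      rintro ⟨b', hb'⟩
      exact even_ne_odd d.hn1 _ _ hb'.symm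
    · left
      refine ⟨⟨b + 1, by ring⟩, ?_⟩
      rintro ⟨b', hb'⟩
      exact even_ne_odd d.hn1 _ _ hb'.symm
  · have h1 : xp n x c * y * x = xp n x (c + mm n) * y := by
      have := d.xpy_mul_xp c 1
      rw [d.xp_one, mul_one] at this
      exact this
    rw [h1, d.xpy_mem_maxSub, d.xpy_mem_maxSub]
    have h2 := hh_eq (n := n) d.hn2
    have h3 := mm_add_one (n := n)
    rcases even_or_odd (c - ε) with ⟨b, hb⟩ | ⟨b, hb⟩
    · right
      refine ⟨⟨b, by linear_combination hb⟩, ?_⟩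
      rintro ⟨b', hb'⟩
      apply even_ne_odd d.hn1 (b + qq n - b') 0
      linear_combination hb' - hb - h3 - h2
    · left
      refine ⟨⟨b + qq n, by linear_combination hb + h3 + h2⟩, ?_⟩
      rintro ⟨b', hb'⟩
      apply even_ne_odd d.hn1 b' b
      linear_combination hb - hb'

theorem isCoatom_maxSub (ε : ZMod (2 ^ n)) : IsCoatom (d.maxSub ε) :=
  isCoatom_of_index_two (d.index_maxSub ε)

theorem card_maxSub (ε : ZMod (2 ^ n)) : Nat.card (d.maxSub ε) = 2 ^ n := by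
  have h1 := (d.maxSub ε).card_mul_index
  rw [d.index_maxSub, d.hcard, pow_succ] at h1
  omega

theorem y_mem_maxSub_zero : y ∈ d.maxSub 0 := by
  have := d.xpy_mem_maxSub 0 0
  rw [xp_zero, one_mul] at this
  rw [this]
  exact ⟨0, by ring⟩

theorem y_notMem_maxSub_one : y ∉ d.maxSub 1 := by
  have := d.xpy_mem_maxSub 1 0
  rw [xp_zero, one_mul] at this
  rw [this]
  rintro ⟨b, hb⟩
  apply even_ne_odd d.hn1 (-b) 0
  linear_combination hb

theorem x_notMem_maxSub (ε : ZMod (2 ^ n)) : x ∉ d.maxSub ε := by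
  have := d.xp_mem_maxSub ε 1
  rw [d.xp_one] at this
  rw [this]
  rintro ⟨b, hb⟩
  apply even_ne_odd d.hn1 b 0
  linear_combination -hb

theorem xp_two_mem_maxSub (ε : ZMod (2 ^ n)) : xp n x 2 ∈ d.maxSub ε :=
  (d.xp_mem_maxSub ε 2).mpr ⟨1, by ring⟩

theorem xy_mem_maxSub_one : xp n x 1 * y ∈ d.maxSub 1 :=
  (d.xpy_mem_maxSub 1 1).mpr ⟨0, by ring⟩

/-- A subgroup containing `x²` and `x^ε y` contains `maxSub ε`. -/
theorem maxSub_le (ε : ZMod (2 ^ n)) {M : Subgroup S} (h2 : xp n x 2 ∈ M)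
    (hy : xp n x ε * y ∈ M) : d.maxSub ε ≤ M := by
  have hb : ∀ b, xp n x (2 * b) ∈ M := by
    intro b
    have : xp n x (2 * b) ∈ zpowers (xp n x 2) := (d.mem_zpowers_sq_iff _).mpr ⟨b, rfl⟩
    exact (zpowers_le.mpr h2) this
  rintro g (⟨b, rfl⟩ | ⟨b, rfl⟩)
  · exact hb b
  · rw [d.xp_add, mul_assoc]
    exact M.mul_mem (hb b) hy

/-- The classification of the maximal subgroups. -/
theorem coatom_cases [Finite S] (M : Subgroup S) (hM : IsCoatom M) :
    M = zpowers x ∨ M = d.maxSub 1 ∨ M = d.maxSub 0 := by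
  have : Fact (Nat.Prime 2) := ⟨Nat.prime_two⟩
  have hpS : IsPGroup 2 S := IsPGroup.of_card d.hcard
  have hidx : M.index = 2 := Cfsg.Agent.Lib.H1.isPGroup_coatom_index hpS hM
  have hsq : xp n x 2 ∈ M := by
    have h1 := (mul_mem_iff_of_index_two hidx (a := x) (b := x)).mpr Iff.rfl
    rw [d.xp_two, pow_two]
    exact h1
  have heq : ∀ K : Subgroup S, K.index = 2 → K ≤ M → M = K := by
    intro K hK hKM
    by_contra hne
    have hlt : K < M := lt_of_le_of_ne hKM (Ne.symm hne)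
    have := (isCoatom_of_index_two hK).2 M hlt
    exact hM.1 this
  by_cases hx : x ∈ M
  · left
    exact heq _ d.index_zpowers (zpowers_le.mpr hx)
  · by_cases hy : y ∈ M
    · right; right
      apply heq _ (d.index_maxSub 0)
      apply d.maxSub_le 0 hsq
      rw [xp_zero, one_mul]
      exact hy
    · right; left
      apply heq _ (d.index_maxSub 1)
      apply d.maxSub_le 1 hsq
      rw [d.xp_one]
      exact (mul_mem_iff_of_index_two hidx).mpr ⟨fun h => absurd h hx, fun h => absurd h hy⟩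

theorem maxSub_one_equiv [Finite S] :
    Nonempty (d.maxSub 1 ≃* QuaternionGroup (2 ^ (n - 2))) := by
  have hne : NeZero (2 ^ (n - 2)) := ⟨by positivity⟩
  have hn := d.hn
  have hq2 : ((2 ^ (n - 2) : ℕ) : ZMod (2 ^ n)) = qq n := rfl
  apply Cfsg.Agent.Lib.H22.quaternion_equiv_of_gens (2 ^ (n - 2))
    (⟨xp n x 2, d.xp_two_mem_maxSub 1⟩ : d.maxSub 1) ⟨xp n x 1 * y, d.xy_mem_maxSub_one⟩
  · apply Subtype.ext
    rw [Subgroup.coe_pow, Subgroup.coe_one]
    have : 2 * 2 ^ (n - 2) = 2 ^ (n - 1) := by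
      rw [← pow_succ']; congr 1; omega
    rw [this, ← d.orderOf_xp_two, pow_orderOf_eq_one]
  · apply Subtype.ext
    rw [Subgroup.coe_mul, Subgroup.coe_pow]
    show (xp n x 1 * y) * (xp n x 1 * y) = (xp n x 2) ^ (2 ^ (n - 2))
    rw [d.xpy_sq, d.xp_pow, hq2, mul_one, hh_eq d.hn2, mul_comm]
  · apply Subtype.ext
    rw [Subgroup.coe_mul, Subgroup.coe_mul, Subgroup.coe_inv, Subgroup.coe_inv]
    show (xp n x 1 * y) * xp n x 2 * (xp n x 1 * y)⁻¹ = (xp n x 2)⁻¹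
    rw [d.xpy_conj_xp, ← d.xp_neg]
    congr 1
    have h3 := mm_add_one (n := n)
    have h4 := two_hh (n := n) d.hn1
    linear_combination 2 * h3 + h4
  · rw [eq_top_iff]
    rintro ⟨g, hg⟩ -
    have hr : ∀ b : ZMod (2 ^ n), (⟨xp n x (2 * b), (d.xp_mem_maxSub 1 _).mpr ⟨b, rfl⟩⟩ : d.maxSub 1)
        ∈ closure ({⟨xp n x 2, d.xp_two_mem_maxSub 1⟩, ⟨xp n x 1 * y, d.xy_mem_maxSub_one⟩} :
          Set (d.maxSub 1)) := by
      intro b
      have h1 : (⟨xp n x (2 * b), (d.xp_mem_maxSub 1 _).mpr ⟨b, rfl⟩⟩ : d.maxSub 1)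
          = (⟨xp n x 2, d.xp_two_mem_maxSub 1⟩ : d.maxSub 1) ^ b.val := by
        apply Subtype.ext
        rw [Subgroup.coe_pow]
        show xp n x (2 * b) = (xp n x 2) ^ b.val
        rw [d.xp_pow, mul_comm]
        congr 2
        have : NeZero (2 ^ n) := ⟨by positivity⟩
        rw [ZMod.natCast_val, ZMod.cast_id', id]
      rw [h1]
      exact pow_mem (subset_closure (by simp)) _
    rcases hg with ⟨b, rfl⟩ | ⟨b, rfl⟩
    · exact hr b
    · have h1 : (⟨xp n x (2 * b + 1) * y, Or.inr ⟨b, rfl⟩⟩ : d.maxSub 1)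
          = ⟨xp n x (2 * b), (d.xp_mem_maxSub 1 _).mpr ⟨b, rfl⟩⟩
            * ⟨xp n x 1 * y, d.xy_mem_maxSub_one⟩ := by
        apply Subtype.ext
        show xp n x (2 * b + 1) * y = xp n x (2 * b) * (xp n x 1 * y)
        rw [d.xp_mul_xpy]
      rw [h1]
      exact mul_mem (hr b) (subset_closure (by simp))
  · rw [d.card_maxSub]
    have : n = (n - 2) + 2 := by omega
    conv_lhs => rw [this]
    rw [pow_add]; ring

theorem maxSub_zero_equiv [Finite S] :
    Nonempty (d.maxSub 0 ≃* DihedralGroup (2 ^ (n - 1))) := by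
  have hne : NeZero (2 ^ (n - 1)) := ⟨by positivity⟩
  have hn := d.hn
  apply Cfsg.Agent.Lib.H22.dihedral_equiv_of_gens (2 ^ (n - 1))
    (⟨xp n x 2, d.xp_two_mem_maxSub 0⟩ : d.maxSub 0) ⟨y, d.y_mem_maxSub_zero⟩
  · apply Subtype.ext
    rw [Subgroup.coe_pow, Subgroup.coe_one]
    rw [← d.orderOf_xp_two, pow_orderOf_eq_one]
  · apply Subtype.ext
    exact d.y_mul_y
  · apply Subtype.ext
    rw [Subgroup.coe_mul, Subgroup.coe_mul, Subgroup.coe_inv, Subgroup.coe_inv]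
    show y * xp n x 2 * y⁻¹ = (xp n x 2)⁻¹
    rw [d.y_conj, ← d.xp_neg]
    congr 1
    have h3 := mm_add_one (n := n)
    have h4 := two_hh (n := n) d.hn1
    linear_combination 2 * h3 + h4
  · rw [eq_top_iff]
    rintro ⟨g, hg⟩ -
    have hr : ∀ b : ZMod (2 ^ n), (⟨xp n x (2 * b), (d.xp_mem_maxSub 0 _).mpr ⟨b, rfl⟩⟩ : d.maxSub 0)
        ∈ closure ({⟨xp n x 2, d.xp_two_mem_maxSub 0⟩, ⟨y, d.y_mem_maxSub_zero⟩} :
          Set (d.maxSub 0)) := by
      intro b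
      have h1 : (⟨xp n x (2 * b), (d.xp_mem_maxSub 0 _).mpr ⟨b, rfl⟩⟩ : d.maxSub 0)
          = (⟨xp n x 2, d.xp_two_mem_maxSub 0⟩ : d.maxSub 0) ^ b.val := by
        apply Subtype.ext
        rw [Subgroup.coe_pow]
        show xp n x (2 * b) = (xp n x 2) ^ b.val
        rw [d.xp_pow, mul_comm]
        congr 2
        have : NeZero (2 ^ n) := ⟨by positivity⟩
        rw [ZMod.natCast_val, ZMod.cast_id', id]
      rw [h1]
      exact pow_mem (subset_closure (by simp)) _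
    rcases hg with ⟨b, rfl⟩ | ⟨b, rfl⟩
    · exact hr b
    · have h1 : (⟨xp n x (2 * b + 0) * y, Or.inr ⟨b, rfl⟩⟩ : d.maxSub 0)
          = ⟨xp n x (2 * b), (d.xp_mem_maxSub 0 _).mpr ⟨b, rfl⟩⟩
            * ⟨y, d.y_mem_maxSub_zero⟩ := by
        apply Subtype.ext
        show xp n x (2 * b + 0) * y = xp n x (2 * b) * y
        rw [add_zero]
      rw [h1]
      exact mul_mem (hr b) (subset_closure (by simp))
  · rw [d.card_maxSub]
    have : n = (n - 1) + 1 := by omega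
    conv_lhs => rw [this]
    rw [pow_succ]; ring

end Gens

end Cfsg.Agent.Lib.H5.SD
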