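import Mathlib
import Cfsg.Agent.Lib.H5.QuasiDihedralKlein
import Cfsg.Agent.Lib.H5.QuasiDihedralMax

/-!
# Quaternion subgroups of order 8 of a quasi-dihedral group
-/

set_option autoImplicit false

namespace Cfsg.Agent.Lib.H5.SD

open Subgroup

variable {S : Type*} [Group S] {n : ℕ} {x y : S}

/-- Abstract facts about a subgroup isomorphic to `Q₈`. -/
theorem quat_abstract (Q : Subgroup S) (hQ : Nonempty (Q ≃* QuaternionGroup 2)) :
    Nat.card Q = 8 ∧ (∀ g ∈ Q, g ^ 4 = 1) ∧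
      ∃ i j : S, i ∈ Q ∧ j ∈ Q ∧ orderOf i = 4 ∧ orderOf j = 4 ∧ orderOf (i * j) = 4 ∧
        i * j ≠ j * i := by
  obtain ⟨φ⟩ := hQ
  refine ⟨?_, ?_, ?_⟩
  · rw [Nat.card_congr φ.toEquiv, Nat.card_eq_fintype_card, QuaternionGroup.card]
  · intro g hg
    have h1 : (φ ⟨g, hg⟩) ^ 4 = 1 := by
      have := Monoid.pow_exponent_eq_one (φ ⟨g, hg⟩)
      rw [QuaternionGroup.exponent] at this
      exact this
    rw [← map_pow, φ.map_eq_one_iff] at h1
    exact congrArg Subtype.val h1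
  · refine ⟨(φ.symm (QuaternionGroup.a 1)).1, (φ.symm (QuaternionGroup.xa 0)).1,
      (φ.symm _).2, (φ.symm _).2, ?_, ?_, ?_, ?_⟩
    · rw [Subgroup.orderOf_coe, MulEquiv.orderOf_eq, QuaternionGroup.orderOf_a_one]
    · rw [Subgroup.orderOf_coe, MulEquiv.orderOf_eq, QuaternionGroup.orderOf_xa]
    · rw [← Subgroup.coe_mul, Subgroup.orderOf_coe, ← map_mul, MulEquiv.orderOf_eq,
        QuaternionGroup.a_mul_xa, QuaternionGroup.orderOf_xa]
    · rw [← Subgroup.coe_mul, ← Subgroup.coe_mul, ← map_mul, ← map_mul]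
      intro h
      have h1 := φ.symm.injective (Subtype.ext h)
      rw [QuaternionGroup.a_mul_xa, QuaternionGroup.xa_mul_a] at h1
      injection h1 with h1
      revert h1
      decide

namespace Gens

variable (d : Gens S n x y)
include d

theorem xp_neg_qq_mem {Q : Subgroup S} : xp n x (-qq n) ∈ Q ↔ xp n x (qq n) ∈ Q := by
  rw [d.xp_neg, inv_mem_iff]

/-- A `Q₈` subgroup contains `x^q` and some `x^(2b+1) y`. -/
theorem quat_struct (Q : Subgroup S) (hQ : Nonempty (Q ≃* QuaternionGroup 2)) :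
    xp n x (qq n) ∈ Q ∧ ∃ b, xp n x (2 * b + 1) * y ∈ Q := by
  obtain ⟨-, -, i, j, hi, hj, hoi, hoj, hoij, hij⟩ := quat_abstract Q hQ
  have hcomm : ∀ a b : ZMod (2 ^ n), xp n x a * xp n x b = xp n x b * xp n x a := by
    intro a b
    rw [← d.xp_add, ← d.xp_add, add_comm]
  rcases (d.orderOf_eq_four_iff i).mp hoi with rfl | rfl | ⟨b, rfl⟩
  · rcases (d.orderOf_eq_four_iff j).mp hoj with rfl | rfl | ⟨c, rfl⟩
    · exact absurd (hcomm _ _) hij
    · exact absurd (hcomm _ _) hij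
    · exact ⟨hi, c, hj⟩
  · rcases (d.orderOf_eq_four_iff j).mp hoj with rfl | rfl | ⟨c, rfl⟩
    · exact absurd (hcomm _ _) hij
    · exact absurd (hcomm _ _) hij
    · exact ⟨d.xp_neg_qq_mem.mp hi, c, hj⟩
  · refine ⟨?_, b, hi⟩
    rcases (d.orderOf_eq_four_iff j).mp hoj with rfl | rfl | ⟨c, rfl⟩
    · exact hj
    · exact d.xp_neg_qq_mem.mp hj
    · have hmem := Q.mul_mem hi hj
      rw [d.xpy_mul_xpy] at hoij hmem
      rcases (d.orderOf_eq_four_iff _).mp hoij with h | h | ⟨e, h⟩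
      · rw [h] at hmem; exact hmem
      · rw [h] at hmem; exact d.xp_neg_qq_mem.mp hmem
      · exact absurd h.symm (d.xpy_ne_xp _ _)

/-- `x^a ∈ Q` for all `a` with `4a = 0`. -/
theorem xp_mem_quat (Q : Subgroup S) (hq : xp n x (qq n) ∈ Q) (a : ZMod (2 ^ n))
    (ha : 2 * (2 * a) = 0) : xp n x a ∈ Q := by
  rcases d.four_torsion a ha with rfl | rfl | rfl | rfl
  · rw [xp_zero]; exact Q.one_mem
  · rw [hh_eq d.hn2, two_mul, d.xp_add]; exact Q.mul_mem hq hq
  · exact hq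
  · exact d.xp_neg_qq_mem.mpr hq

/-- Membership in a `Q₈` subgroup. -/
theorem mem_quat_iff (Q : Subgroup S) (hQ : Nonempty (Q ≃* QuaternionGroup 2)) (b : ZMod (2 ^ n))
    (hu : xp n x (2 * b + 1) * y ∈ Q) (g : S) :
    g ∈ Q ↔ (∃ a, 2 * (2 * a) = 0 ∧ g = xp n x a) ∨
      (∃ a, 2 * (2 * a) = 0 ∧ g = xp n x a * (xp n x (2 * b + 1) * y)) := by
  obtain ⟨-, hexp, -⟩ := quat_abstract Q hQ
  have hq := (d.quat_struct Q hQ).1
  have hpow : ∀ a, xp n x a ∈ Q → 2 * (2 * a) = 0 := by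
    intro a ha
    have := hexp _ ha
    rw [d.xp_pow, d.xp_eq_one_iff] at this
    rw [← this]; push_cast; ring
  constructor
  · intro hg
    rcases d.cases g with ⟨a, rfl⟩ | ⟨a, rfl⟩
    · exact Or.inl ⟨a, hpow a hg, rfl⟩
    · right
      have h1 : xp n x a * y = xp n x (a - (2 * b + 1)) * (xp n x (2 * b + 1) * y) := by
        rw [d.xp_mul_xpy]; congr 2; ring
      refine ⟨a - (2 * b + 1), hpow _ ?_, h1⟩
      have h2 : xp n x (a - (2 * b + 1)) = (xp n x a * y) * (xp n x (2 * b + 1) * y)⁻¹ := by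
        rw [h1, mul_inv_cancel_right]
      rw [h2]
      exact Q.mul_mem hg (Q.inv_mem hu)
  · rintro (⟨a, ha, rfl⟩ | ⟨a, ha, rfl⟩)
    · exact d.xp_mem_quat Q hq a ha
    · exact Q.mul_mem (d.xp_mem_quat Q hq a ha) hu

/-- Conjugating elements of `Q` by a power of `x`. -/
theorem quat_conj_mem (Q₁ Q₂ : Subgroup S) (h₁ : Nonempty (Q₁ ≃* QuaternionGroup 2))
    (h₂ : Nonempty (Q₂ ≃* QuaternionGroup 2)) (b₁ b₂ : ZMod (2 ^ n))
    (hu₁ : xp n x (2 * b₁ + 1) * y ∈ Q₁) (hu₂ : xp n x (2 * b₂ + 1) * y ∈ Q₂)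
    (c e : ZMod (2 ^ n)) (he : 2 * (2 * e) = 0)
    (hc : 2 * b₁ + 1 + (1 - mm n) * c = e + (2 * b₂ + 1)) (k : S) (hk : k ∈ Q₁) :
    xp n x c * k * (xp n x c)⁻¹ ∈ Q₂ := by
  rcases (d.mem_quat_iff Q₁ h₁ b₁ hu₁ k).mp hk with ⟨a, ha, rfl⟩ | ⟨a, ha, rfl⟩
  · refine (d.mem_quat_iff Q₂ h₂ b₂ hu₂ _).mpr (Or.inl ⟨a, ha, ?_⟩)
    rw [← d.xp_neg, ← d.xp_add, ← d.xp_add]
    congr 1; ring
  · refine (d.mem_quat_iff Q₂ h₂ b₂ hu₂ _).mpr (Or.inr ⟨a + e, ?_, ?_⟩)
    · linear_combination ha + he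
    · rw [d.xp_mul_xpy a, d.xp_conj_xpy, d.xp_mul_xpy (a + e)]
      congr 2
      linear_combination hc

theorem quat_conj [Finite S] (Q₁ Q₂ : Subgroup S) (h₁ : Nonempty (Q₁ ≃* QuaternionGroup 2))
    (h₂ : Nonempty (Q₂ ≃* QuaternionGroup 2)) :
    ∃ s : S, Q₁.map (MulAut.conj s).toMonoidHom = Q₂ := by
  obtain ⟨hq₁, b₁, hu₁⟩ := d.quat_struct Q₁ h₁
  obtain ⟨hq₂, b₂, hu₂⟩ := d.quat_struct Q₂ h₂
  refine ⟨xp n x ((1 + qq n) * (b₂ - b₁)), ?_⟩
  apply map_conj_eq_of_forall_mem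
  · apply d.quat_conj_mem Q₁ Q₂ h₁ h₂ b₁ b₂ hu₁ hu₂ _ 0 (by ring)
    have := one_sub_mm_mul d.hn
    linear_combination (b₂ - b₁) * this
  · rw [(quat_abstract Q₁ h₁).1, (quat_abstract Q₂ h₂).1]

theorem quat_centralizer (Q : Subgroup S) (hQ : Nonempty (Q ≃* QuaternionGroup 2)) :
    centralizer (Q : Set S) = (center Q).map Q.subtype := by
  obtain ⟨hq, b, hu⟩ := d.quat_struct Q hQ
  have h1 := hh_eq (n := n) d.hn2
  have h2 := two_hh (n := n) d.hn1
  apply le_antisymm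
  · intro g hg
    rw [mem_centralizer_iff] at hg
    have hgu := hg _ hu
    have hgq := hg _ hq
    obtain ⟨c, hc, hgc⟩ := d.conj_xpy g (2 * b + 1)
    rw [← hgu, mul_inv_cancel_right] at hc
    have hc' : (1 - mm n) * c = 0 := by
      have := d.xpy_injective _ _ hc
      linear_combination -this
    -- `g` is a central element of `S`
    have hgz : g = 1 ∨ g = xp n x (hh n) := by
      rcases hgc with rfl | rfl
      · rcases (one_sub_mm_mul_eq_zero_iff d.hn c).mp hc' with rfl | rfl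
        · left; exact xp_zero
        · right; rfl
      · exfalso
        rw [d.xp_mul_xpy] at hgq
        have h3 := d.xpy_conj_xp (c + (2 * b + 1)) (qq n)
        rw [← hgq, mul_inv_cancel_right] at h3
        have h4 := d.xp_injective h3
        apply d.two_qq_ne_zero
        have h5 := hh_mul_qq d.hn
        unfold mm at h4
        linear_combination h4 + h5
    have hgS : g ∈ center S := (d.mem_center_iff' g).mpr hgz
    have hgQ : g ∈ Q := by
      rcases hgz with rfl | rfl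
      · exact Q.one_mem
      · exact d.xp_mem_quat Q hq _ (by linear_combination 2 * h2)
    refine ⟨⟨g, hgQ⟩, ?_, rfl⟩
    rw [SetLike.mem_coe, mem_center_iff]
    intro k
    apply Subtype.ext
    exact mem_center_iff.mp hgS k.1
  · rintro _ ⟨k, hk, rfl⟩
    rw [mem_centralizer_iff]
    intro g hg
    have := mem_center_iff.mp hk ⟨g, hg⟩
    exact congrArg Subtype.val this

theorem quat_relIndex [Finite S] (Q : Subgroup S) (hQ : Nonempty (Q ≃* QuaternionGroup 2)) :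
    Q.relIndex (normalizer (Q : Set S)) = 2 := by
  obtain ⟨hq, b, hu⟩ := d.quat_struct Q hQ
  have h1 := hh_eq (n := n) d.hn2
  have h2 := two_hh (n := n) d.hn1
  have h3 := one_sub_mm_mul d.hn
  have h4 := qq_eq (n := n) d.hn
  have h5 := hh_mul_qq d.hn
  set r : ZMod (2 ^ n) := ((2 ^ (n - 3) : ℕ) : ZMod (2 ^ n)) with hr
  set c : ZMod (2 ^ n) := -((1 + qq n) * r) with hcdef
  have hc : (1 - mm n) * c = -qq n := by
    rw [hcdef]
    linear_combination (-r) * h3 + h4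
  have hc4 : 2 * (2 * c) = hh n := by
    rw [hcdef]
    linear_combination (2 + 2 * qq n) * h4 + (1 + qq n) * h1 - h5 - h2
  rw [relIndex_eq_two_iff_exists_notMem_and']
  have hcN : xp n x c ∈ normalizer (Q : Set S) := by
    rw [mem_normalizer_iff_map_conj_eq]
    apply map_conj_eq_of_forall_mem
    · apply d.quat_conj_mem Q Q hQ hQ b b hu hu c (-qq n)
      · linear_combination 2 * h1 - h2
      · linear_combination hc
    · exact le_refl _
  have hcQ : xp n x c ∉ Q := by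
    intro hmem
    rcases (d.mem_quat_iff Q hQ b hu _).mp hmem with ⟨a, ha, hxa⟩ | ⟨a, ha, hxa⟩
    · have := d.xp_injective hxa
      rw [← this, hc4] at ha
      exact hh_ne_zero d.hn1 ha
    · rw [d.xp_mul_xpy] at hxa
      exact d.xpy_ne_xp _ _ hxa.symm
  refine ⟨xp n x c, hcN, hcQ, ?_⟩
  intro g hg
  have hgu : g * (xp n x (2 * b + 1) * y) * g⁻¹ ∈ Q :=
    (mem_normalizer_iff.mp hg _).mp hu
  obtain ⟨e, he, hge⟩ := d.conj_xpy g (2 * b + 1)
  rw [he] at hgu
  -- `(1 - m) e` is `4`-torsion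
  have h8 : 2 * (2 * ((1 - mm n) * e)) = 0 := by
    rcases (d.mem_quat_iff Q hQ b hu _).mp hgu with ⟨a, ha, hxa⟩ | ⟨a, ha, hxa⟩
    · exact absurd hxa (d.xpy_ne_xp _ _)
    · rw [d.xp_mul_xpy] at hxa
      have := d.xpy_injective _ _ hxa
      have h6 : (1 - mm n) * e = a := by linear_combination this
      rw [h6]; exact ha
  have h8' : 2 * (2 * (2 * e)) = 0 := by
    have := two_mul_eq_zero_of d.hn (2 * (2 * e)) (by linear_combination h8)
    exact this
  have hmemQ : ∀ e' : ZMod (2 ^ n), 2 * (2 * e') = 0 →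
      xp n x e' ∈ Q ∧ xp n x e' * (xp n x (2 * b + 1) * y) ∈ Q := by
    intro e' he'
    exact ⟨d.xp_mem_quat Q hq e' he', Q.mul_mem (d.xp_mem_quat Q hq e' he') hu⟩
  rcases two_torsion d.hn1 _ h8' with h0 | h0
  · right
    rcases hge with rfl | rfl
    · exact (hmemQ e h0).1
    · exact (hmemQ e h0).2
  · left
    have h0' : 2 * (2 * (c + e)) = 0 := by
      linear_combination hc4 + h0 + h2
    rcases hge with rfl | rfl
    · rw [← d.xp_add]
      exact (hmemQ _ h0').1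
    · rw [← mul_assoc, ← d.xp_add]
      exact (hmemQ _ h0').2

end Gens

end Cfsg.Agent.Lib.H5.SD
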