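import Mathlib
import Cfsg.Prelude.Def_OddOrderLocal
import Cfsg.Prelude.Def_CaseTheorems
import Cfsg.Prelude.Def_PLocal
import Cfsg.Agent.Lib.H19.R2Defs
import Cfsg.Agent.Lib.H22.UniqueOrderP

/-!
# S3888 piece ALPHAT2 (helper5): under (H2), `G / Z` is not of the second type

Shared with ALPHAT3 / K2NOT: a counting lemma for groups with a normal form `x ^ r * y ^ s * z ^ t`, and
the lifting lemma (a central element of order `p ^ 2` of `G / Z` forces all elements of order `p` of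
`G / Z` to commute).
-/

set_option autoImplicit false

namespace Cfsg.Agent.Lib.H5.R2

open Cfsg Cfsg.Agent.Lib.H19.R2
open scoped commutatorElement

universe u

/-- counting: `H = ⟨x, y, z⟩`, `y` central, `x⁻¹ z x = y ^ e z`: every element is `x ^ r y ^ s z ^ t` -/
theorem at_card_le {H : Type*} [Group H] {a b c : ℕ} (ha : 0 < a) (hb : 0 < b) (hc : 0 < c)
    {x y z : H} (hgen : Subgroup.closure ({x, y, z} : Set H) = ⊤) (hx : x ^ a = 1) (hy : y ^ b = 1)
    (hz : z ^ c = 1) (hyz : y * z = z * y) (hxy : x * y = y * x) (e : ℕ)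
    (hzx : x⁻¹ * z * x = y ^ e * z) : Nat.card H ≤ a * b * c := by
  classical
  let S : Set H := {g | ∃ r s t : ℕ, g = x ^ r * y ^ s * z ^ t}
  have hcxy : Commute x y := hxy
  have hSx : ∀ g ∈ S, x * g ∈ S := by
    rintro g ⟨r, s, t, rfl⟩
    exact ⟨r + 1, s, t, by rw [pow_succ']; simp only [mul_assoc]⟩
  have hSy : ∀ g ∈ S, y * g ∈ S := by
    rintro g ⟨r, s, t, rfl⟩
    refine ⟨r, s + 1, t, ?_⟩
    have : y * x ^ r = x ^ r * y := ((hcxy.pow_left r).eq).symm
    rw [pow_succ', ← mul_assoc, ← mul_assoc, this]; simp only [mul_assoc]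
  have hzxr : ∀ r : ℕ, z * x ^ r = x ^ r * (y ^ (e * r) * z) := by
    intro r
    induction r with
    | zero => simp
    | succ r ih =>
      have h1 : z * x = x * (y ^ e * z) := by rw [← hzx]; group
      have h2 : y ^ (e * r) * x = x * y ^ (e * r) := ((hcxy.pow_right _).eq).symm
      calc z * x ^ (r + 1) = (z * x ^ r) * x := by rw [pow_succ, mul_assoc]
        _ = x ^ r * (y ^ (e * r) * (z * x)) := by rw [ih]; simp only [mul_assoc]
        _ = x ^ r * ((y ^ (e * r) * x) * (y ^ e * z)) := by rw [h1]; simp only [mul_assoc]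
        _ = x ^ (r + 1) * (y ^ (e * (r + 1)) * z) := by
            rw [h2, pow_succ, mul_add, mul_one, pow_add]; simp only [mul_assoc]
  have hSz : ∀ g ∈ S, z * g ∈ S := by
    rintro g ⟨r, s, t, rfl⟩
    refine ⟨r, e * r + s, t + 1, ?_⟩
    have h3 : z * y ^ s = y ^ s * z := (((show Commute y z from hyz).pow_left s).eq).symm
    calc z * (x ^ r * y ^ s * z ^ t) = (z * x ^ r) * y ^ s * z ^ t := by simp only [mul_assoc]
      _ = x ^ r * (y ^ (e * r) * z) * y ^ s * z ^ t := by rw [hzxr]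
      _ = x ^ r * y ^ (e * r) * (z * y ^ s) * z ^ t := by simp only [mul_assoc]
      _ = x ^ r * y ^ (e * r + s) * z ^ (t + 1) := by
          rw [h3, pow_add, pow_succ']; simp only [mul_assoc]
  have hpow : ∀ (u : H), (∀ g ∈ S, u * g ∈ S) → ∀ (m : ℕ), ∀ g ∈ S, u ^ m * g ∈ S := by
    intro u hu m
    induction m with
    | zero => intro g hg; simpa using hg
    | succ m ih => intro g hg; rw [pow_succ', mul_assoc]; exact hu _ (ih g hg)
  have hinv : ∀ (u : H) (d : ℕ), 0 < d → u ^ d = 1 → u⁻¹ = u ^ (d - 1) := by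
    intro u d hd hud
    rw [inv_eq_iff_mul_eq_one, ← pow_succ', Nat.sub_add_cancel hd, hud]
  have hall : ∀ g : H, g ∈ S := by
    intro g
    have hg : g ∈ Subgroup.closure ({x, y, z} : Set H) := by rw [hgen]; trivial
    induction hg using Subgroup.closure_induction_left with
    | one => exact ⟨0, 0, 0, by simp⟩
    | mul_left u hu v hv ih =>
      simp only [Set.mem_insert_iff, Set.mem_singleton_iff] at hu
      rcases hu with rfl | rfl | rfl
      · exact hSx _ ih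
      · exact hSy _ ih
      · exact hSz _ ih
    | inv_mul_cancel u hu v hv ih =>
      simp only [Set.mem_insert_iff, Set.mem_singleton_iff] at hu
      rcases hu with rfl | rfl | rfl
      · rw [hinv _ a ha hx]; exact hpow _ hSx _ _ ih
      · rw [hinv _ b hb hy]; exact hpow _ hSy _ _ ih
      · rw [hinv _ c hc hz]; exact hpow _ hSz _ _ ih
  let φ : Fin a × Fin b × Fin c → H := fun q => x ^ (q.1 : ℕ) * y ^ (q.2.1 : ℕ) * z ^ (q.2.2 : ℕ)
  have hφ : Function.Surjective φ := by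
    intro g
    obtain ⟨r, s, t, rfl⟩ := hall g
    refine ⟨(⟨r % a, Nat.mod_lt _ ha⟩, ⟨s % b, Nat.mod_lt _ hb⟩, ⟨t % c, Nat.mod_lt _ hc⟩), ?_⟩
    simp only [φ]
    rw [← pow_eq_pow_mod r hx, ← pow_eq_pow_mod s hy, ← pow_eq_pow_mod t hz]
  calc Nat.card H ≤ Nat.card (Fin a × Fin b × Fin c) := Nat.card_le_card_of_surjective φ hφ
    _ = a * b * c := by simp [mul_assoc]

/-- lifting: a central element `f` of `G / Z` with `f ^ p ≠ 1`, `f ^ (p ^ 2) = 1` forces any two
elements of order dividing `p` of `G / Z` to commute -/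
theorem at_lift_comm {p : ℕ} [Fact p.Prime] {G : Type*} [Group G] {N : Subgroup G} (h : H2 p G N)
    (Z : Subgroup G) [Z.Normal] (hZ : Z = N ⊓ Subgroup.center G) (hZp : Nat.card Z = p)
    (f : G ⧸ Z) (hf : ∀ g : G ⧸ Z, f * g = g * f) (hfp : f ^ p ≠ 1) (hfpp : (f ^ p) ^ p = 1)
    (a b : G ⧸ Z) (ha : a ^ p = 1) (hb : b ^ p = 1) : a * b = b * a := by
  obtain ⟨f₁, rfl⟩ := QuotientGroup.mk_surjective f
  obtain ⟨a₁, rfl⟩ := QuotientGroup.mk_surjective a
  obtain ⟨b₁, rfl⟩ := QuotientGroup.mk_surjective b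
  have hZc : Z ≤ Subgroup.center G := by rw [hZ]; exact inf_le_right
  have hZN : Z ≤ N := by rw [hZ]; exact inf_le_left
  have hzp : ∀ c ∈ Z, c ^ p = 1 := fun c hc => h.1.exp c (hZN hc)
  -- `n₀ = f₁ ^ p` is central
  have hn₀c : f₁ ^ p ∈ Subgroup.center G := by
    rw [Subgroup.mem_center_iff]
    intro g
    have hcZ : f₁ * g * f₁⁻¹ * g⁻¹ ∈ Z := by
      rw [← QuotientGroup.eq_one_iff]
      have := hf (g : G ⧸ Z)
      rw [QuotientGroup.mk_mul, QuotientGroup.mk_mul, QuotientGroup.mk_mul, QuotientGroup.mk_inv,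
        QuotientGroup.mk_inv, this, mul_inv_cancel_right, mul_inv_cancel]
    have hcc : ∀ u : G, u * (f₁ * g * f₁⁻¹ * g⁻¹) = (f₁ * g * f₁⁻¹ * g⁻¹) * u := fun u =>
      Subgroup.mem_center_iff.mp (hZc hcZ) u
    have := Cfsg.Agent.Lib.H22.pow_mul_comm_of_central hcc p
    rw [hzp _ hcZ, one_mul] at this
    exact this.symm
  have hn₀Z : f₁ ^ p ∉ Z := by
    intro hmem
    apply hfp
    rw [← QuotientGroup.mk_pow]
    exact (QuotientGroup.eq_one_iff _).mpr hmem
  have hn₀pZ : (f₁ ^ p) ^ p ∈ Z := by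
    rw [← QuotientGroup.eq_one_iff]
    push_cast
    exact hfpp
  have hn₀p1 : (f₁ ^ p) ^ p ≠ 1 := by
    intro h1
    apply hn₀Z
    rw [hZ]
    exact ⟨h.2 _ h1, hn₀c⟩
  -- `Z` is generated by `n₀ ^ p`
  have hgenZ : ∀ c ∈ Z, ∃ k : ℤ, ((f₁ ^ p) ^ p) ^ k = c := by
    intro c hc
    have hne : (⟨(f₁ ^ p) ^ p, hn₀pZ⟩ : Z) ≠ 1 := by
      intro h1
      exact hn₀p1 (congrArg Subtype.val h1)
    have := mem_zpowers_of_prime_card hZp hne (g' := ⟨c, hc⟩)
    obtain ⟨k, hk⟩ := Subgroup.mem_zpowers_iff.mp this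
    refine ⟨k, ?_⟩
    have h2 := congrArg Subtype.val hk
    rw [Subgroup.coe_zpow] at h2
    exact h2
  -- correction of an element of order `p` modulo `Z`
  have hcorr : ∀ g : G, (g : G ⧸ Z) ^ p = 1 → ∃ c ∈ Subgroup.center G, g * c ∈ N := by
    intro g hg
    have hgZ : g ^ p ∈ Z := by
      rw [← QuotientGroup.eq_one_iff]
      push_cast
      exact hg
    obtain ⟨k, hk⟩ := hgenZ _ hgZ
    set d : G := (f₁ ^ p) ^ k with hd
    have hdc : d ∈ Subgroup.center G := Subgroup.zpow_mem _ hn₀c k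
    have hdp : d ^ p = g ^ p := by
      calc d ^ p = ((f₁ ^ p) ^ k) ^ ((p : ℕ) : ℤ) := by rw [zpow_natCast]
        _ = (f₁ ^ p) ^ (k * (p : ℤ)) := by rw [← zpow_mul]
        _ = (f₁ ^ p) ^ ((p : ℤ) * k) := by rw [mul_comm]
        _ = ((f₁ ^ p) ^ ((p : ℕ) : ℤ)) ^ k := by rw [zpow_mul]
        _ = ((f₁ ^ p) ^ p) ^ k := by rw [zpow_natCast]
        _ = g ^ p := hk
    refine ⟨d⁻¹, Subgroup.inv_mem _ hdc, ?_⟩
    apply h.2
    have hcomm : Commute g d⁻¹ := (Subgroup.mem_center_iff.mp (Subgroup.inv_mem _ hdc) g)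
    rw [hcomm.mul_pow, inv_pow, hdp, mul_inv_cancel]
  obtain ⟨c₁, hc₁, hac⟩ := hcorr a₁ ha
  obtain ⟨c₂, hc₂, hbc⟩ := hcorr b₁ hb
  have hcm := h.1.comm _ hac _ hbc
  have hc1 : ∀ g : G, g * c₁ = c₁ * g := Subgroup.mem_center_iff.mp hc₁
  have hc2 : ∀ g : G, g * c₂ = c₂ * g := Subgroup.mem_center_iff.mp hc₂
  have e1 : a₁ * c₁ * (b₁ * c₂) = a₁ * b₁ * (c₁ * c₂) := by
    rw [mul_assoc a₁ c₁, ← mul_assoc c₁ b₁, ← hc1 b₁]; simp only [mul_assoc]
  have e2 : b₁ * c₂ * (a₁ * c₁) = b₁ * a₁ * (c₁ * c₂) := by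
    calc b₁ * c₂ * (a₁ * c₁) = b₁ * (c₂ * a₁) * c₁ := by simp only [mul_assoc]
      _ = b₁ * (a₁ * c₂) * c₁ := by rw [← hc2 a₁]
      _ = b₁ * a₁ * (c₂ * c₁) := by simp only [mul_assoc]
      _ = b₁ * a₁ * (c₁ * c₂) := by rw [hc1 c₂]
  rw [e1, e2] at hcm
  have := mul_right_cancel hcm
  rw [← QuotientGroup.mk_mul, ← QuotientGroup.mk_mul, this]

variable {p : ℕ} [Fact p.Prime] {G : Type u} [Group G] [Finite G]

omit [Finite G] in
/-- order of `G / Z` -/
theorem at_card_quot {n : ℕ} (h5 : 5 ≤ n) (hcard : Nat.card G = p ^ n) (Z : Subgroup G) [Z.Normal]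
    (hZp : Nat.card Z = p) : Nat.card (G ⧸ Z) = p ^ (n - 1) := by
  have hp : p.Prime := Fact.out
  have := Subgroup.card_eq_card_quotient_mul_card_subgroup Z
  rw [hcard, hZp] at this
  have hn : p ^ n = p ^ (n - 1) * p := by rw [← pow_succ]; congr 1; omega
  rw [hn] at this
  exact (Nat.eq_of_mul_eq_mul_right hp.pos this).symm

/-- ALPHAT2. -/
theorem alpha_T2 (hp2 : p ≠ 2) (hG : IsPGroup p G) {N : Subgroup G} (h : H2 p G N) {n : ℕ} (h5 : 5 ≤ n)
    (hcard : Nat.card G = p ^ n) (Z : Subgroup G) [Z.Normal] (hZ : Z = N ⊓ Subgroup.center G)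
    (hZp : Nat.card Z = p) : ¬ T2 p (n - 1) (G ⧸ Z) := by
  rintro ⟨-, x, y, z, hgen, hx, hy, hz, hxz, hyz, hyx⟩
  have hp : p.Prime := Fact.out
  have hcq := at_card_quot h5 hcard Z hZp
  -- `w ≠ 1`
  have hw : z ^ p ^ (n - 1 - 3) ≠ 1 := by
    intro hw1
    have hxy : x * y = y * x := by
      rw [hw1, mul_one] at hyx
      have := congrArg (x * ·) hyx
      simp only [mul_assoc, mul_inv_cancel_left] at this
      exact this.symm
    have hzx : x⁻¹ * z * x = y ^ 0 * z := by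
      rw [pow_zero, one_mul, mul_assoc, ← hxz, inv_mul_cancel_left]
    have hle := at_card_le hp.pos hp.pos (pow_pos hp.pos (n - 1 - 3)) hgen hx hy hw1 hyz hxy 0 hzx
    rw [hcq] at hle
    have e : p * p * p ^ (n - 1 - 3) = p ^ (n - 2) := by
      rw [← pow_two, ← pow_add]; congr 1; omega
    rw [e] at hle
    have := Nat.pow_lt_pow_right hp.one_lt (show n - 2 < n - 1 by omega)
    omega
  -- `z` is central
  have hzc : ∀ g : G ⧸ Z, z * g = g * z := by
    intro g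
    have hg : g ∈ Subgroup.closure ({x, y, z} : Set (G ⧸ Z)) := by rw [hgen]; trivial
    have hle : Subgroup.closure ({x, y, z} : Set (G ⧸ Z)) ≤ Subgroup.centralizer {z} := by
      rw [Subgroup.closure_le]
      intro u hu
      simp only [Set.mem_insert_iff, Set.mem_singleton_iff] at hu
      rw [SetLike.mem_coe, Subgroup.mem_centralizer_iff]
      intro v hv
      rw [Set.mem_singleton_iff] at hv
      subst hv
      rcases hu with rfl | rfl | rfl
      · exact hxz.symm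
      · exact hyz.symm
      · rfl
    have := hle hg
    rw [Subgroup.mem_centralizer_iff] at this
    exact this z rfl
  have hf : ∀ g : G ⧸ Z, z ^ p ^ (n - 5) * g = g * z ^ p ^ (n - 5) := fun g =>
    ((show Commute z g from hzc g).pow_left _).eq
  have e1 : (z ^ p ^ (n - 5)) ^ p = z ^ p ^ (n - 1 - 3) := by
    rw [← pow_mul, ← pow_succ]; congr 2; omega
  have e2 : ((z ^ p ^ (n - 5)) ^ p) ^ p = 1 := by
    rw [e1, ← pow_mul, ← pow_succ, ← hz]; congr 2; omega
  have hxy := at_lift_comm h Z hZ hZp _ hf (by rw [e1]; exact hw) e2 x y hx hy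
  apply hw
  have : y * z ^ p ^ (n - 1 - 3) = y * 1 := by
    rw [mul_one, ← hyx, mul_assoc, ← hxy, inv_mul_cancel_left]
  exact mul_left_cancel this

end Cfsg.Agent.Lib.H5.R2
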