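import Mathlib
import Cfsg.Prelude.Def_OddOrderLocal
import Cfsg.Prelude.Def_CaseTheorems
import Cfsg.Prelude.Def_PLocal
import Cfsg.Agent.Lib.H19.R2Defs
import Cfsg.Agent.Lib.H5.R2ALPHAT2

/-!
# S3888 piece ALPHAT3 (helper5): under (H2), if `G / Z` is of the third type then `n = 5` and
`γ₃(G / Z) ≠ 1`
-/

set_option autoImplicit false

namespace Cfsg.Agent.Lib.H5.R2

open Cfsg Cfsg.Agent.Lib.H19.R2
open scoped commutatorElement

universe u

theorem at_inv_conj_pow {H : Type*} [Group H] (a g : H) (m : ℕ) :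
    (a⁻¹ * g * a) ^ m = a⁻¹ * g ^ m * a := by
  have := conj_pow (a := a⁻¹) (b := g) (i := m)
  simpa using this

variable {p : ℕ} [Fact p.Prime] {G : Type u} [Group G] [Finite G]

/-- ALPHAT3. -/
theorem alpha_T3 (hp2 : p ≠ 2) (hG : IsPGroup p G) {N : Subgroup G} (h : H2 p G N) {n : ℕ} (h5 : 5 ≤ n)
    (hcard : Nat.card G = p ^ n) (Z : Subgroup G) [Z.Normal] (hZ : Z = N ⊓ Subgroup.center G)
    (hZp : Nat.card Z = p) (ht : T3 p (n - 1) (G ⧸ Z)) :
    n = 5 ∧ (⊤ : Subgroup (G ⧸ Z)).lowerCentralSeries 2 ≠ ⊥ := by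
  obtain ⟨-, s, x, y, z, hs, hgen, hx, hy, hz, hyz, hyx, hzx⟩ := ht
  have hp : p.Prime := Fact.out
  have hcq := at_card_quot h5 hcard Z hZp
  have hps : ¬ p ∣ s := by
    intro hd
    rcases hs with rfl | hs
    · exact hp.one_lt.ne' (Nat.dvd_one.mp hd)
    · apply hs
      rw [(ZMod.natCast_eq_zero_iff s p).mpr hd]
      exact IsSquare.zero
  -- `W ≠ 1`
  have hW : z ^ (s * p ^ (n - 1 - 3)) ≠ 1 := by
    intro hW1
    have hxy : x * y = y * x := by
      rw [hW1, mul_one] at hyx
      have := congrArg (x * ·) hyx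
      simp only [mul_assoc, mul_inv_cancel_left] at this
      exact this.symm
    have hz1 : z ^ p ^ (n - 1 - 3) = 1 := by
      rw [← orderOf_dvd_iff_pow_eq_one]
      have h1 : orderOf z ∣ s * p ^ (n - 1 - 3) := orderOf_dvd_of_pow_eq_one hW1
      have h2 : orderOf z ∣ p * p ^ (n - 1 - 3) := by
        apply orderOf_dvd_of_pow_eq_one
        rw [← pow_succ', ← hz]; congr 2; omega
      have h3 := Nat.dvd_gcd h1 h2
      have hcop : Nat.gcd s p = 1 := Nat.coprime_comm.mp ((Nat.Prime.coprime_iff_not_dvd hp).mpr hps)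
      rw [Nat.gcd_mul_right, hcop, one_mul] at h3
      exact h3
    have hzx' : x⁻¹ * z * x = y ^ 1 * z := by rw [pow_one]; exact hzx
    have hle := at_card_le hp.pos hp.pos (pow_pos hp.pos (n - 1 - 3)) hgen hx hy hz1 hyz hxy 1 hzx'
    rw [hcq] at hle
    have e : p * p * p ^ (n - 1 - 3) = p ^ (n - 2) := by
      rw [← pow_two, ← pow_add]; congr 1; omega
    rw [e] at hle
    have := Nat.pow_lt_pow_right hp.one_lt (show n - 2 < n - 1 by omega)
    omega
  have hn5 : n = 5 := by
    by_contra hne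
    have h6 : 6 ≤ n := by omega
    -- `f = z ^ p ^ (n - 5)` is central
    have hfx : x⁻¹ * z ^ p ^ (n - 5) * x = z ^ p ^ (n - 5) := by
      rw [← at_inv_conj_pow, hzx, (show Commute y z from hyz).mul_pow]
      have : y ^ p ^ (n - 5) = 1 := by
        have : p ^ (n - 5) = p * p ^ (n - 6) := by rw [← pow_succ']; congr 1; omega
        rw [this, pow_mul, hy, one_pow]
      rw [this, one_mul]
    have hfc : ∀ g : G ⧸ Z, z ^ p ^ (n - 5) * g = g * z ^ p ^ (n - 5) := by
      intro g
      have hg : g ∈ Subgroup.closure ({x, y, z} : Set (G ⧸ Z)) := by rw [hgen]; trivial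
      have hle : Subgroup.closure ({x, y, z} : Set (G ⧸ Z)) ≤
          Subgroup.centralizer {z ^ p ^ (n - 5)} := by
        rw [Subgroup.closure_le]
        intro u hu
        simp only [Set.mem_insert_iff, Set.mem_singleton_iff] at hu
        rw [SetLike.mem_coe, Subgroup.mem_centralizer_iff]
        intro v hv
        rw [Set.mem_singleton_iff] at hv
        subst hv
        rcases hu with rfl | rfl | rfl
        · have := congrArg (u * ·) hfx
          simp only [mul_assoc, mul_inv_cancel_left] at this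
          exact this
        · exact (((show Commute u z from hyz).pow_right _).eq).symm
        · exact (((Commute.refl u).pow_right _).eq).symm
      have := hle hg
      rw [Subgroup.mem_centralizer_iff] at this
      exact this _ rfl
    have e1 : (z ^ p ^ (n - 5)) ^ p = z ^ p ^ (n - 1 - 3) := by
      rw [← pow_mul, ← pow_succ]; congr 2; omega
    have e2 : ((z ^ p ^ (n - 5)) ^ p) ^ p = 1 := by
      rw [e1, ← pow_mul, ← pow_succ, ← hz]; congr 2; omega
    have hne1 : (z ^ p ^ (n - 5)) ^ p ≠ 1 := by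
      rw [e1]
      intro h1
      apply hW
      rw [mul_comm, pow_mul, h1, one_pow]
    have hxy := at_lift_comm h Z hZ hZp _ hfc hne1 e2 x y hx hy
    apply hW
    have : y * z ^ (s * p ^ (n - 1 - 3)) = y * 1 := by
      rw [mul_one, ← hyx, mul_assoc, ← hxy, inv_mul_cancel_left]
    exact mul_left_cancel this
  refine ⟨hn5, ?_⟩
  intro hbot
  apply hW
  have hy1 : y ∈ (⊤ : Subgroup (G ⧸ Z)).lowerCentralSeries 1 := by
    rw [Subgroup.lowerCentralSeries_succ, Subgroup.lowerCentralSeries_zero]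
    have : y = ⁅z⁻¹, x⁻¹⁆ := by
      rw [commutatorElement_def, inv_inv, inv_inv, mul_assoc, mul_assoc, ← mul_assoc x⁻¹, hzx, hyz,
        inv_mul_cancel_left]
    rw [this]
    exact Subgroup.commutator_mem_commutator (Subgroup.mem_top _) (Subgroup.mem_top _)
  have hW2 : z ^ (s * p ^ (n - 1 - 3)) ∈ (⊤ : Subgroup (G ⧸ Z)).lowerCentralSeries 2 := by
    rw [Subgroup.lowerCentralSeries_succ]
    have : z ^ (s * p ^ (n - 1 - 3)) = ⁅y⁻¹, x⁻¹⁆ := by
      rw [commutatorElement_def, inv_inv, inv_inv, mul_assoc, mul_assoc, ← mul_assoc x⁻¹, hyx,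
        inv_mul_cancel_left]
    rw [this]
    exact Subgroup.commutator_mem_commutator (Subgroup.inv_mem _ hy1) (Subgroup.mem_top _)
  rw [hbot] at hW2
  exact Subgroup.mem_bot.mp hW2

end Cfsg.Agent.Lib.H5.R2
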