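import Mathlib
import Cfsg.Agent.Lib.H11.RK2Defs
import Cfsg.Agent.Lib.H11.R2LIFT

/-!
# S5289 piece PEGEN (helper5): the `p`-th power endomorphism of `G = ⟨x, y, z⟩`
-/

set_option autoImplicit false

namespace Cfsg.Agent.Lib.H5.RK2

open Cfsg.Agent.Lib.H11.RK2

/-- the `p`-th power map as an endomorphism -/
def powHom {G : Type*} [Group G] (p : ℕ) (hpow : ∀ g k : G, (g * k) ^ p = g ^ p * k ^ p) : G →* G :=
  MonoidHom.mk' (fun g => g ^ p) hpow

theorem powHom_apply {G : Type*} [Group G] (p : ℕ) (hpow : ∀ g k : G, (g * k) ^ p = g ^ p * k ^ p)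
    (g : G) : powHom p hpow g = g ^ p := rfl

theorem mem_ker_powHom {G : Type*} [Group G] (p : ℕ) (hpow : ∀ g k : G, (g * k) ^ p = g ^ p * k ^ p)
    (g : G) : g ∈ (powHom p hpow).ker ↔ g ^ p = 1 := by
  rw [MonoidHom.mem_ker, powHom_apply]

theorem card_omega_eq_card_ker {G : Type*} [Group G] (p : ℕ)
    (hpow : ∀ g k : G, (g * k) ^ p = g ^ p * k ^ p) :
    Nat.card {g : G // g ^ p = 1} = Nat.card (powHom p hpow).ker :=
  Nat.card_congr (Equiv.subtypeEquivRight fun g => (mem_ker_powHom p hpow g).symm)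

/-- **PEGEN**. -/
theorem pe_gen {G : Type*} [Group G] [Finite G] {p n : ℕ} [Fact p.Prime] (hn : 3 ≤ n)
    (hcard : Nat.card G = p ^ n) (x y z : G)
    (hgen : Subgroup.closure ({x, y, z} : Set G) = ⊤) (hx : x ^ p = 1) (hy : y ^ p = 1)
    (hz : z ^ p ^ (n - 2) = 1) (hyz : y * z = z * y)
    (hxy : x⁻¹ * y * x ∈ Subgroup.zpowers y ⊔ Subgroup.zpowers z)
    (hxz : x⁻¹ * z * x ∈ Subgroup.zpowers y ⊔ Subgroup.zpowers z)
    (hpow : ∀ g k : G, (g * k) ^ p = g ^ p * k ^ p) :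
    orderOf z = p ^ (n - 2) ∧ (∀ g : G, g ^ p ∈ Subgroup.zpowers (z ^ p)) ∧
      Nat.card {g : G // g ^ p = 1} = p ^ 3 := by
  have hp : p.Prime := Fact.out
  -- orders
  have hdvd := Cfsg.Agent.Lib.H11.R2.card_dvd_of_gens x y z hgen hyz hxy hxz
  have hox : orderOf x ∣ p ^ 1 := by rw [pow_one]; exact orderOf_dvd_of_pow_eq_one hx
  have hoy : orderOf y ∣ p ^ 1 := by rw [pow_one]; exact orderOf_dvd_of_pow_eq_one hy
  obtain ⟨a, ha, hoa⟩ := (Nat.dvd_prime_pow hp).mp hox
  obtain ⟨b, hb, hob⟩ := (Nat.dvd_prime_pow hp).mp hoy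
  obtain ⟨c, hc, hoc⟩ := (Nat.dvd_prime_pow hp).mp (orderOf_dvd_of_pow_eq_one hz)
  have hzo : orderOf z = p ^ (n - 2) := by
    rw [hcard, hoa, hob, hoc, ← pow_add, ← pow_add, Nat.pow_dvd_pow_iff_le_right hp.one_lt] at hdvd
    have : c = n - 2 := by omega
    rw [hoc, this]
  -- the power endomorphism
  set π := powHom p hpow with hπ
  have himg : ∀ g : G, g ^ p ∈ Subgroup.zpowers (z ^ p) := by
    intro g
    have hg : g ∈ Subgroup.closure ({x, y, z} : Set G) := by rw [hgen]; trivial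
    have hle : Subgroup.closure ({x, y, z} : Set G) ≤ (Subgroup.zpowers (z ^ p)).comap π := by
      rw [Subgroup.closure_le]
      intro u hu
      simp only [Set.mem_insert_iff, Set.mem_singleton_iff] at hu
      rw [SetLike.mem_coe, Subgroup.mem_comap, hπ, powHom_apply]
      rcases hu with rfl | rfl | rfl
      · rw [hx]; exact Subgroup.one_mem _
      · rw [hy]; exact Subgroup.one_mem _
      · exact Subgroup.mem_zpowers _
    have := hle hg
    rwa [Subgroup.mem_comap, hπ, powHom_apply] at this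
  refine ⟨hzo, himg, ?_⟩
  -- range of `π`
  have hrange : π.range = Subgroup.zpowers (z ^ p) := by
    apply le_antisymm
    · rintro _ ⟨g, rfl⟩
      exact himg g
    · rw [Subgroup.zpowers_le]
      exact ⟨z, rfl⟩
  have hcr : Nat.card π.range = p ^ (n - 3) := by
    rw [hrange, Nat.card_zpowers]
    have h1 : p ^ (n - 2) = p * p ^ (n - 3) := by rw [← pow_succ']; congr 1; omega
    rw [orderOf_pow_of_dvd hp.ne_zero (by rw [hzo, h1]; exact dvd_mul_right _ _), hzo, h1,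
      Nat.mul_div_cancel_left _ hp.pos]
  have h2 := Subgroup.card_mul_index π.ker
  rw [Subgroup.index_ker, hcr, hcard] at h2
  rw [card_omega_eq_card_ker p hpow]
  have h3 : p ^ n = p ^ 3 * p ^ (n - 3) := by rw [← pow_add]; congr 1; omega
  rw [h3] at h2
  exact Nat.eq_of_mul_eq_mul_right (pow_pos hp.pos _) h2

end Cfsg.Agent.Lib.H5.RK2
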