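import Mathlib
import Cfsg.Agent.Lib.H11.RK2Defs
import Cfsg.Agent.Lib.H26.CycChain
import Cfsg.Agent.Lib.H5.RK2PEGEN

/-!
# S5289 piece CHAIN (helper5): the characteristic chain `T ≥ Ω₁(T) ≥ Ω₁(T) ∩ T^p ≥ 1`
-/

set_option autoImplicit false

namespace Cfsg.Agent.Lib.H5.RK2

open Cfsg.Agent.Lib.H11.RK2

/-- the chain `⊤ ≥ K ≥ K ⊓ R ≥ ⊥ ≥ ⊥ ≥ …` -/
def chainOf {T : Type*} [Group T] (K R : Subgroup T) : ℕ → Subgroup T
  | 0 => ⊤
  | 1 => K
  | 2 => K ⊓ R
  | _ => ⊥

/-- a quotient that embeds in a cyclic group is cyclic -/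
theorem isCyclic_quot_of_hom {X : Type*} [Group X] (N : Subgroup X) [N.Normal] {Y : Type*} [Group Y]
    [IsCyclic Y] (f : X →* Y) (hN : ∀ g ∈ N, f g = 1) (hker : ∀ g, f g = 1 → g ∈ N) :
    IsCyclic (X ⧸ N) := by
  have hle : N ≤ f.ker := fun g hg => MonoidHom.mem_ker.mpr (hN g hg)
  apply isCyclic_of_injective (QuotientGroup.lift N f hle)
  rw [injective_iff_map_eq_one]
  intro q
  induction q using QuotientGroup.induction_on with
  | H g =>
    intro hg
    rw [QuotientGroup.lift_mk] at hg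
    exact (QuotientGroup.eq_one_iff g).mpr (hker g hg)

/-- **CHAIN**. -/
theorem chain_cycData {T : Type*} [Group T] [Finite T] {p : ℕ} [Fact p.Prime] (hT : IsPGroup p T)
    (hpow : ∀ g k : T, (g * k) ^ p = g ^ p * k ^ p) (C : Subgroup T) (hCc : IsCyclic C)
    (hC : ∀ g : T, g ^ p ∈ C) (hker : Nat.card {g : T // g ^ p = 1} < p ^ 3)
    (hne : ∃ g : T, g ^ p ≠ 1) (𝒴 : Subgroup (MulAut T)) :
    ∃ cc : ℕ → Subgroup T, Cfsg.Agent.Lib.H26.CycChain.CycData 𝒴 cc ∧ cc 0 = ⊤ ∧ cc 3 = ⊥ := by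
  classical
  have hp : p.Prime := Fact.out
  set π := powHom p hpow with hπ
  set K : Subgroup T := π.ker with hK
  set R : Subgroup T := π.range with hR
  have hmemK : ∀ g : T, g ∈ K ↔ g ^ p = 1 := fun g => mem_ker_powHom p hpow g
  have hmemR : ∀ g : T, g ∈ R ↔ ∃ h : T, h ^ p = g := fun g => by
    rw [hR, MonoidHom.mem_range]; rfl
  have hRC : R ≤ C := by
    intro g hg
    obtain ⟨h, rfl⟩ := (hmemR g).mp hg
    exact hC h
  have hKn : K.Normal := by rw [hK]; infer_instance
  have hRn : R.Normal := by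
    constructor
    intro g hg t
    obtain ⟨h, rfl⟩ := (hmemR g).mp hg
    rw [hmemR]
    exact ⟨t * h * t⁻¹, conj_pow⟩
  have hKRn : (K ⊓ R).Normal := inferInstance
  have hbn : (⊥ : Subgroup T).Normal := inferInstance
  -- invariance under automorphisms
  have hKinv : ∀ (φ : MulAut T), ∀ h ∈ K, φ h ∈ K := by
    intro φ h hh
    rw [hmemK] at hh ⊢
    rw [← map_pow, hh, map_one]
  have hRinv : ∀ (φ : MulAut T), ∀ h ∈ R, φ h ∈ R := by
    intro φ h hh
    obtain ⟨g, rfl⟩ := (hmemR h).mp hh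
    rw [hmemR]
    exact ⟨φ g, (map_pow φ g p).symm⟩
  -- `K ⊓ R` is not trivial
  have hKR : ∃ h ∈ K ⊓ R, h ≠ 1 := by
    obtain ⟨g, hg⟩ := hne
    obtain ⟨k, hk⟩ := hT (g ^ p)
    obtain ⟨j, hj, hoj⟩ := (Nat.dvd_prime_pow hp).mp (orderOf_dvd_of_pow_eq_one hk)
    have hj0 : j ≠ 0 := by
      rintro rfl
      rw [pow_zero, orderOf_eq_one_iff] at hoj
      exact hg hoj
    refine ⟨(g ^ p) ^ p ^ (j - 1), Subgroup.mem_inf.mpr ⟨?_, ?_⟩, ?_⟩
    · rw [hmemK, ← pow_mul, ← pow_succ, Nat.sub_add_cancel (Nat.pos_of_ne_zero hj0), ← hoj]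
      exact pow_orderOf_eq_one _
    · exact Subgroup.pow_mem _ ((hmemR _).mpr ⟨g, rfl⟩) _
    · intro h1
      have := orderOf_dvd_of_pow_eq_one h1
      rw [hoj, Nat.pow_dvd_pow_iff_le_right hp.one_lt] at this
      omega
  refine ⟨chainOf K R, ⟨?_, ?_, ?_, ?_⟩, rfl, rfl⟩
  · -- mono
    intro i
    rcases i with _ | _ | _ | i
    · exact le_top
    · exact inf_le_left
    · exact bot_le
    · exact le_refl _
  · -- invariance
    intro i y _ h hh
    rcases i with _ | _ | _ | i
    · exact Subgroup.mem_top _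
    · exact hKinv y h hh
    · exact Subgroup.mem_inf.mpr ⟨hKinv y h (Subgroup.mem_inf.mp hh).1, hRinv y h (Subgroup.mem_inf.mp hh).2⟩
    · have : h = 1 := Subgroup.mem_bot.mp hh
      rw [this, map_one]
      exact Subgroup.one_mem _
  · -- normality
    intro i
    rcases i with _ | _ | _ | i
    · show (K.subgroupOf ⊤).Normal
      infer_instance
    · show ((K ⊓ R).subgroupOf K).Normal
      infer_instance
    · show ((⊥ : Subgroup T).subgroupOf (K ⊓ R)).Normal
      infer_instance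
    · show ((⊥ : Subgroup T).subgroupOf ⊥).Normal
      infer_instance
  · -- cyclic factors
    intro i inst
    haveI : IsCyclic ↥C := hCc
    rcases i with _ | _ | _ | i
    · show IsCyclic (↥(⊤ : Subgroup T) ⧸ K.subgroupOf ⊤)
      let f : ↥(⊤ : Subgroup T) →* ↥C :=
        { toFun := fun g => ⟨(g : T) ^ p, hC g⟩
          map_one' := by
            apply Subtype.ext
            simp
          map_mul' := by
            intro a b
            apply Subtype.ext
            simp [hpow] }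
      refine isCyclic_quot_of_hom (K.subgroupOf ⊤) f ?_ ?_
      · intro g hg
        rw [Subgroup.mem_subgroupOf, hmemK] at hg
        apply Subtype.ext
        exact hg
      · intro g hg
        rw [Subgroup.mem_subgroupOf, hmemK]
        exact congrArg Subtype.val hg
    · show IsCyclic (↥K ⧸ (K ⊓ R).subgroupOf K)
      have h1 := Subgroup.card_eq_card_quotient_mul_card_subgroup ((K ⊓ R).subgroupOf K)
      have h2 : Nat.card ((K ⊓ R).subgroupOf K) = Nat.card ↥(K ⊓ R) :=
        Nat.card_congr (Subgroup.subgroupOfEquivOfLe inf_le_left).toEquiv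
      obtain ⟨a, ha⟩ := (hT.to_subgroup K).exists_card_eq
      obtain ⟨b, hb⟩ := (hT.to_subgroup (K ⊓ R)).exists_card_eq
      have ha2 : a ≤ 2 := by
        have : Nat.card K < p ^ 3 := by
          rw [← card_omega_eq_card_ker p hpow]; exact hker
        rw [ha] at this
        have := (Nat.pow_lt_pow_iff_right hp.one_lt).mp this
        omega
      have hb1 : 1 ≤ b := by
        rcases Nat.eq_zero_or_pos b with rfl | hb0
        · exfalso
          rw [pow_zero] at hb
          obtain ⟨h, hh, hh1⟩ := hKR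
          have := (Subgroup.card_eq_one.mp hb)
          rw [this] at hh
          exact hh1 (Subgroup.mem_bot.mp hh)
        · exact hb0
      rw [h2, ha, hb] at h1
      -- `p ^ a = |Q| * p ^ b`
      have hQd : Nat.card (↥K ⧸ (K ⊓ R).subgroupOf K) ∣ p ^ a := ⟨p ^ b, h1⟩
      obtain ⟨c, hc, hQc⟩ := (Nat.dvd_prime_pow hp).mp hQd
      rw [hQc, ← pow_add] at h1
      have hcab : a = c + b := Nat.pow_right_injective hp.two_le h1
      have hc1 : c ≤ 1 := by omega
      rcases Nat.eq_zero_or_pos c with rfl | hc0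
      · rw [pow_zero] at hQc
        haveI : Subsingleton (↥K ⧸ (K ⊓ R).subgroupOf K) := (Nat.card_eq_one_iff_unique.mp hQc).1
        exact isCyclic_of_subsingleton
      · have : c = 1 := by omega
        rw [this, pow_one] at hQc
        exact isCyclic_of_prime_card hQc
    · show IsCyclic (↥(K ⊓ R) ⧸ (⊥ : Subgroup T).subgroupOf (K ⊓ R))
      refine isCyclic_quot_of_hom _ (Subgroup.inclusion (inf_le_right.trans hRC)) ?_ ?_
      · intro g hg
        rw [Subgroup.mem_subgroupOf, Subgroup.mem_bot] at hg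
        apply Subtype.ext
        exact hg
      · intro g hg
        rw [Subgroup.mem_subgroupOf, Subgroup.mem_bot]
        exact congrArg Subtype.val hg
    · show IsCyclic (↥(⊥ : Subgroup T) ⧸ (⊥ : Subgroup T).subgroupOf ⊥)
      refine isCyclic_quot_of_hom _ (1 : ↥(⊥ : Subgroup T) →* ↥C) ?_ ?_
      · intro g _
        rfl
      · intro g _
        rw [Subgroup.mem_subgroupOf, Subgroup.mem_bot]
        exact Subgroup.mem_bot.mp g.2

end Cfsg.Agent.Lib.H5.RK2
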