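import Mathlib
import Cfsg.Agent.Lib.H4.ReeSpecDefs

/-!
# S3626 piece FIX: an element of `Mq K` fixing a nontrivial vector has square or cube `1`
(trace trick `t = ε t³`).
-/

set_option autoImplicit false

namespace Cfsg.Agent.Lib.H5.RS

open Matrix Cfsg.Agent.Lib.H4.ReeSpec

section field

variable {K : Type*} [Field K] [CharP K 3]

omit [CharP K 3] in
theorem fix_add_adjugate (M : M2 K) : M + adjugate M = M.trace • (1 : M2 K) := by
  rw [adjugate_fin_two]
  ext i j
  fin_cases i <;> fin_cases j <;> simp [trace_fin_two, add_comm]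

theorem fix_cube_neg_one : cube (-1 : M2 K) = -1 := by
  ext i j
  rw [cube_apply]
  fin_cases i <;> fin_cases j <;> simp [Odd.neg_pow (by decide : Odd 3)]

/-- KER-a (private copy): `(1, -1)` acts trivially. -/
theorem fix_rho_neg_one : rho K ((1, -1) : G0 K) = 1 := by
  apply MulEquiv.ext
  intro X
  have h : act ((1, -1) : G0 K) (Multiplicative.toAdd X) = Multiplicative.toAdd X := by
    unfold act
    simp [fix_cube_neg_one]
  exact congrArg Multiplicative.ofAdd h

theorem fix_card_mod (m : ℕ) : 3 ^ (2 * m + 1) % 4 = 3 := by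
  rw [pow_succ, pow_mul, Nat.mul_mod, Nat.pow_mod]
  norm_num

theorem fixed_cases [Fintype K] {m : ℕ} (hK : Fintype.card K = 3 ^ (2 * m + 1)) (x : Mq K) (w : W K)
    (hw : w ≠ 1) (hfix : (x : MulAut (W K)) w = w) : x ^ 2 = 1 ∨ x ^ 3 = 1 := by
  obtain ⟨x, ⟨g, rfl⟩⟩ := x
  obtain ⟨ε, A⟩ := g
  have hpow : ∀ n : ℕ, rho K ((ε, A) ^ n) = 1 →
      (⟨rho K (ε, A), ⟨(ε, A), rfl⟩⟩ : Mq K) ^ n = 1 := by
    intro n hn
    apply Subtype.ext
    rw [Subgroup.coe_pow, Subgroup.coe_one, ← map_pow]
    exact hn
  set X : M2 K := Multiplicative.toAdd w with hX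
  have hX0 : X ≠ 0 := by
    intro h0
    apply hw
    have : Multiplicative.ofAdd X = Multiplicative.ofAdd (0 : M2 K) := congrArg _ h0
    exact this
  have h0 : act (ε, A) X = X := by
    have := congrArg Multiplicative.toAdd hfix
    exact this
  unfold act at h0
  dsimp only at h0
  set A' : M2 K := (A : M2 K) with hA'
  set C : M2 K := cube A' with hC
  set e : K := (((ε : ℤˣ) : ℤ) : K) with he
  have hee : e * e = 1 := by
    rw [he, ← Int.cast_mul, ← Units.val_mul, Int.units_mul_self]
    simp
  have hdetA : A'.det = 1 := A.det_coe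
  have hdetC : C.det = 1 := by
    have h := (RingHom.map_det (frobenius K 3) A').symm
    rw [RingHom.mapMatrix_apply] at h
    rw [hC]
    unfold cube
    rw [h, hdetA, map_one]
  have htrC : C.trace = A'.trace ^ 3 := by
    rw [trace_fin_two, trace_fin_two, hC, cube_apply, cube_apply, ← frobenius_def, ← frobenius_def,
      ← frobenius_def, map_add]
  have hCC : Cᵀ * (adjugate C)ᵀ = 1 := by
    rw [← transpose_mul, adjugate_mul, hdetC, one_smul, transpose_one]
  have h1 : e • (A' * X) = X * (adjugate C)ᵀ := by
    have h : e • (A' * X * Cᵀ) * (adjugate C)ᵀ = X * (adjugate C)ᵀ := by rw [h0]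
    rw [Matrix.smul_mul, Matrix.mul_assoc (A' * X), hCC, Matrix.mul_one] at h
    exact h
  have h2 : e • (X * Cᵀ) = adjugate A' * X := by
    have h : adjugate A' * e • (A' * X * Cᵀ) = adjugate A' * X := by rw [h0]
    rw [Matrix.mul_smul, Matrix.mul_assoc A' X, ← Matrix.mul_assoc (adjugate A') A', adjugate_mul,
      hdetA, one_smul, Matrix.one_mul] at h
    exact h
  have ht : (e * A'.trace - A'.trace ^ 3) • X = 0 := by
    have hA := fix_add_adjugate A'
    have hCa := fix_add_adjugate C
    calc (e * A'.trace - A'.trace ^ 3) • X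
        = e • ((A'.trace • (1 : M2 K)) * X) - X * (C.trace • (1 : M2 K))ᵀ := by
          rw [htrC, sub_smul, mul_smul, Matrix.smul_mul, Matrix.one_mul, transpose_smul,
            transpose_one, Matrix.mul_smul, Matrix.mul_one]
      _ = e • ((A' + adjugate A') * X) - X * (C + adjugate C)ᵀ := by rw [hA, hCa]
      _ = (e • (A' * X) + e • (adjugate A' * X)) - (X * Cᵀ + X * (adjugate C)ᵀ) := by
          rw [Matrix.add_mul, smul_add, transpose_add, Matrix.mul_add]
      _ = 0 := by
          rw [h1, ← h2, smul_smul, hee, one_smul]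
          abel
  have hCH : A' * A' = A'.trace • A' - 1 := by
    have h := congrArg (A' * ·) (fix_add_adjugate A')
    simp only [Matrix.mul_add, mul_adjugate, hdetA, one_smul, Matrix.mul_smul, Matrix.mul_one] at h
    exact eq_sub_of_add_eq h
  have hte : e * A'.trace = A'.trace ^ 3 := by
    rcases smul_eq_zero.mp ht with h | h
    · exact sub_eq_zero.mp h
    · exact absurd h hX0
  -- the three conclusions in terms of `A'`
  have hsq : A'.trace = 0 → (⟨rho K (ε, A), ⟨(ε, A), rfl⟩⟩ : Mq K) ^ 2 = 1 := by
    intro htr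
    apply hpow
    have hA2 : A ^ 2 = -1 := by
      apply Subtype.ext
      show ((A ^ 2 : Matrix.SpecialLinearGroup (Fin 2) K) : M2 K)
        = ((-1 : Matrix.SpecialLinearGroup (Fin 2) K) : M2 K)
      rw [Matrix.SpecialLinearGroup.coe_pow, Matrix.SpecialLinearGroup.coe_neg,
        Matrix.SpecialLinearGroup.coe_one, pow_two, ← hA', hCH, htr, zero_smul, zero_sub]
    rw [Prod.pow_mk, Int.units_sq, hA2]
    exact fix_rho_neg_one
  rcases Int.units_eq_one_or ε with hε | hε
  · -- ε = 1
    have he1 : e = 1 := by rw [he, hε]; simp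
    rw [he1, one_mul] at hte
    have hfac : A'.trace * ((A'.trace - 1) * (A'.trace + 1)) = 0 := by
      linear_combination -hte
    rcases mul_eq_zero.mp hfac with h | h
    · exact Or.inl (hsq h)
    · right
      apply hpow
      rw [Prod.pow_mk, hε, one_pow]
      rcases mul_eq_zero.mp h with h | h
      · -- t = 1 : A^3 = -1
        have htr : A'.trace = 1 := sub_eq_zero.mp h
        have hA3 : A ^ 3 = -1 := by
          apply Subtype.ext
          show ((A ^ 3 : Matrix.SpecialLinearGroup (Fin 2) K) : M2 K)
            = ((-1 : Matrix.SpecialLinearGroup (Fin 2) K) : M2 K)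
          rw [Matrix.SpecialLinearGroup.coe_pow, Matrix.SpecialLinearGroup.coe_neg,
            Matrix.SpecialLinearGroup.coe_one, pow_succ, pow_two, ← hA', hCH, htr, one_smul,
            Matrix.sub_mul, hCH, htr, one_smul, Matrix.one_mul]
          abel
        rw [hA3]
        exact fix_rho_neg_one
      · -- t = -1 : A^3 = 1
        have htr : A'.trace = -1 := eq_neg_of_add_eq_zero_left h
        have hA3 : A ^ 3 = 1 := by
          apply Subtype.ext
          show ((A ^ 3 : Matrix.SpecialLinearGroup (Fin 2) K) : M2 K)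
            = ((1 : Matrix.SpecialLinearGroup (Fin 2) K) : M2 K)
          rw [Matrix.SpecialLinearGroup.coe_pow,
            Matrix.SpecialLinearGroup.coe_one, pow_succ, pow_two, ← hA', hCH, htr, neg_one_smul,
            Matrix.sub_mul, Matrix.neg_mul, hCH, htr, neg_one_smul, Matrix.one_mul]
          abel
        rw [hA3]
        exact map_one _
  · -- ε = -1
    have he1 : e = -1 := by rw [he, hε]; simp
    rw [he1] at hte
    left
    apply hsq
    by_contra htr
    have hsq' : A'.trace * A'.trace = -1 := by
      have h : A'.trace * (A'.trace * A'.trace + 1) = 0 := by linear_combination -hte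
      rcases mul_eq_zero.mp h with h | h
      · exact absurd h htr
      · exact eq_neg_of_add_eq_zero_left h
    have hsquare : IsSquare (-1 : K) := ⟨A'.trace, hsq'.symm⟩
    have := FiniteField.isSquare_neg_one_iff.mp hsquare
    apply this
    rw [hK]
    exact fix_card_mod m

end field

end Cfsg.Agent.Lib.H5.RS
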