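import Mathlib
import Cfsg.Prelude.Def_Blocks
import Cfsg.Prelude.Def_Characters
import Cfsg.Prelude.Def_Local
import Cfsg.Prelude.Def_Transfer
import Cfsg.Agent.Lib.H1.PCore
import Cfsg.Agent.Lib.H5.NCTools

/-!
# S4751 piece IDX6 (architect helper23)

`V = O_2(G)` of order 4 with `C_G(V) = V ⊔ Z(G)`, `|Z(G)|` odd and `2 ∣ |G : V|`:
then `|G : C_G(V)| = 6`.
-/

set_option autoImplicit false

namespace Cfsg.Agent.Lib.H5.RU

open Cfsg

/-- the automorphism group of a group of order 4 has order dividing 6 -/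
theorem card_mulAut_dvd_six_of_card_four {V : Type*} [Group V] [Finite V]
    (hV4 : Nat.card V = 4) : Nat.card (MulAut V) ∣ 6 := by
  by_cases hcyc : IsCyclic V
  · haveI := hcyc
    rw [IsCyclic.card_mulAut, hV4]
    have : Nat.totient 4 = 2 := by decide
    rw [this]
    norm_num
  · have hexp : Monoid.exponent V = 2 :=
      (not_isCyclic_iff_exponent_eq_prime Nat.prime_two (by rw [hV4]; norm_num)).mp hcyc
    haveI : IsKleinFour V := ⟨hV4, hexp⟩
    rw [Cfsg.Agent.Lib.H5.AutQ8.card_mulAut_kleinFour]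

/-- IDX6. -/
theorem index_centralizer_eq_six {G : Type*} [Group G] [Finite G]
    (hV4 : Nat.card ↥(pCore 2 G) = 4)
    (hC : Subgroup.centralizer ((pCore 2 G : Subgroup G) : Set G) = pCore 2 G ⊔ Subgroup.center G)
    (hodd : Odd (Nat.card ↥(Subgroup.center G))) (h2 : 2 ∣ (pCore 2 G).index) :
    (Subgroup.centralizer ((pCore 2 G : Subgroup G) : Set G)).index = 6 := by
  haveI : Fact (Nat.Prime 2) := ⟨Nat.prime_two⟩
  obtain ⟨V, hVdef⟩ : ∃ V : Subgroup G, V = pCore 2 G := ⟨_, rfl⟩
  rw [← hVdef] at hV4 hC h2 ⊢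
  haveI hVn : V.Normal := by rw [hVdef]; exact Cfsg.Agent.Lib.H1.pCore_normal 2 G
  obtain ⟨Z, hZdef⟩ : ∃ Z : Subgroup G, Z = Subgroup.center G := ⟨_, rfl⟩
  rw [← hZdef] at hC hodd
  obtain ⟨C, hCdef⟩ : ∃ C : Subgroup G, C = Subgroup.centralizer (V : Set G) := ⟨_, rfl⟩
  rw [← hCdef] at hC ⊢
  have hVC : V ≤ C := by rw [hC]; exact le_sup_left
  have hoddZ : ¬ 2 ∣ Nat.card ↥Z := fun h => (Nat.not_even_iff_odd.mpr hodd) (even_iff_two_dvd.mpr h)
  -- step 1: the index divides 6
  have h6 : C.index ∣ 6 := by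
    have h1 := Cfsg.Agent.Lib.H5.relIndex_centralizer_normalizer_dvd V
    rw [Subgroup.normalizer_eq_top, Subgroup.relIndex_top_right, ← hCdef] at h1
    exact h1.trans (card_mulAut_dvd_six_of_card_four hV4)
  -- `|C : V|` is odd
  have hrel : V.relIndex C = V.relIndex Z := by
    rw [hC, Subgroup.relIndex_sup_left]
  have hrelodd : ¬ 2 ∣ V.relIndex C := by
    rw [hrel]
    intro h
    exact hoddZ (h.trans (Subgroup.relIndex_dvd_card V Z))
  -- step 2: the index is even
  have heven : 2 ∣ C.index := by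
    have h1 : V.relIndex C * C.index = V.index := Subgroup.relIndex_mul_index hVC
    rw [← h1] at h2
    exact (Nat.Prime.dvd_mul Nat.prime_two).mp h2 |>.resolve_left hrelodd
  -- step 3: the index is not 2
  have hne2 : C.index ≠ 2 := by
    intro hC2
    -- `V ⊓ Z = ⊥`
    have hVZ : V ⊓ Z = ⊥ := by
      apply Subgroup.inf_eq_bot_of_coprime
      rw [hV4]
      have : Nat.Coprime 2 (Nat.card ↥Z) := (Nat.Prime.coprime_iff_not_dvd Nat.prime_two).mpr hoddZ
      exact Nat.Coprime.pow_left 2 this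
    have hrelZ : V.relIndex Z = Nat.card ↥Z := by
      rw [← Subgroup.inf_relIndex_right, hVZ, Subgroup.relIndex_bot_left]
    have hcardC : Nat.card ↥C = 4 * Nat.card ↥Z := by
      have h1 := Subgroup.relIndex_mul_relIndex ⊥ V C bot_le hVC
      rw [Subgroup.relIndex_bot_left, Subgroup.relIndex_bot_left, hV4, hrel, hrelZ] at h1
      exact h1.symm
    have hcardG : Nat.card G = 2 ^ 3 * Nat.card ↥Z := by
      rw [← Subgroup.index_mul_card C, hC2, hcardC]
      ring
    obtain ⟨S⟩ : Nonempty (Sylow 2 G) := inferInstance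
    have hS8 : Nat.card (S : Subgroup G) = 2 ^ 3 := by
      rw [Sylow.card_eq_multiplicity, hcardG,
        Nat.factorization_mul (by norm_num) (Nat.card_pos.ne')]
      simp only [Finsupp.coe_add, Pi.add_apply]
      rw [Nat.factorization_eq_zero_of_not_dvd hoddZ, Nat.Prime.factorization_pow Nat.prime_two]
      simp
    -- `N_G(S) = G`
    have hN : Subgroup.normalizer ((S : Subgroup G) : Set G) = ⊤ := by
      have h8 : 2 ^ 3 ∣ Nat.card ↥(Subgroup.normalizer ((S : Subgroup G) : Set G)) := by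
        rw [← hS8]
        exact Subgroup.card_dvd_of_le Subgroup.le_normalizer
      have hZN : Nat.card ↥Z ∣ Nat.card ↥(Subgroup.normalizer ((S : Subgroup G) : Set G)) := by
        rw [hZdef]
        exact Subgroup.card_dvd_of_le (Subgroup.center_le_normalizer _)
      have hcop : Nat.Coprime (2 ^ 3) (Nat.card ↥Z) :=
        Nat.Coprime.pow_left 3 ((Nat.Prime.coprime_iff_not_dvd Nat.prime_two).mpr hoddZ)
      have hdvd := hcop.mul_dvd_of_dvd_of_dvd h8 hZN
      rw [← hcardG] at hdvd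
      apply (Subgroup.card_eq_iff_eq_top _).mp
      exact Nat.dvd_antisymm (Subgroup.card_subgroup_dvd_card _) hdvd
    have hSn : (S : Subgroup G).Normal := Subgroup.normalizer_eq_top_iff.mp hN
    have hSV : (S : Subgroup G) ≤ V := by
      rw [hVdef]
      exact Cfsg.Agent.Lib.H1.le_pCore hSn S.2
    have := Subgroup.card_le_of_le hSV
    rw [hS8, hV4] at this
    norm_num at this
  -- conclusion
  have hpos : 0 < C.index := Nat.pos_of_dvd_of_pos h6 (by norm_num)
  have hle : C.index ≤ 6 := Nat.le_of_dvd (by norm_num) h6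
  obtain ⟨d, hd⟩ : ∃ d, d = C.index := ⟨_, rfl⟩
  rw [← hd] at h6 heven hne2 hpos hle ⊢
  interval_cases d <;> omega

end Cfsg.Agent.Lib.H5.RU
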