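import Mathlib
import Cfsg.Agent.Lib.L0.TransferHall
import Cfsg.Agent.Lib.H5.S4Recog

/-!
# S4751 piece S4SPLIT: a central extension of `S₄` by an odd order group splits (helper5)
-/

set_option autoImplicit false

namespace Cfsg.Agent.Lib.H5.RU

open scoped commutatorElement

/-- a group of order 4 all of whose squares are trivial is a Klein four-group -/
theorem isKleinFour_of_card_of_sq {V : Type*} [Group V] (h4 : Nat.card V = 4)
    (h2 : ∀ v : V, v ^ 2 = 1) : IsKleinFour V := by
  refine ⟨h4, ?_⟩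
  have hd : Monoid.exponent V ∣ 2 := Monoid.exponent_dvd_of_forall_pow_eq_one h2
  rcases (Nat.dvd_prime Nat.prime_two).mp hd with h | h
  · exfalso
    rw [Monoid.exp_eq_one_iff] at h
    have : Nat.card V ≤ 1 := Finite.card_le_one_iff_subsingleton.mpr h
    omega
  · exact h

/-- the alternating group lies in the commutator subgroup of the symmetric group -/
theorem alternatingGroup_le_commutator_perm {α : Type*} [Fintype α] [DecidableEq α] :
    alternatingGroup α ≤ commutator (Equiv.Perm α) := by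
  rw [← Equiv.Perm.closure_three_cycles_eq_alternating, Subgroup.closure_le]
  intro σ hσ
  have hσ3 : Equiv.Perm.IsThreeCycle σ := hσ
  have h2 : IsConj σ (σ ^ 2) := by
    rw [Equiv.Perm.isConj_iff_cycleType_eq, pow_two]
    exact hσ3.cycleType.trans (hσ3.isThreeCycle_sq.cycleType).symm
  rw [commutator_eq_closure]
  apply Subgroup.subset_closure
  apply mem_commutatorSet_of_isConj_sq
  exact h2

/-- squares of permutations are products of commutators -/
theorem sq_mem_commutator_perm {α : Type*} [Fintype α] [DecidableEq α] (σ : Equiv.Perm α) :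
    σ ^ 2 ∈ commutator (Equiv.Perm α) := by
  apply alternatingGroup_le_commutator_perm
  rw [Equiv.Perm.mem_alternatingGroup, map_pow, Int.units_sq]

/-- if the Sylow `p`-subgroups are abelian for all primes dividing `|Z(G)|` then
`Z(G) ∩ G' = 1` (transfer) -/
theorem center_inf_commutator_eq_bot {G : Type*} [Group G] [Finite G]
    (h : ∀ (p : ℕ) [Fact p.Prime], p ∣ Nat.card ↥(Subgroup.center G) →
      ∀ P : Sylow p G, IsMulCommutative (P : Subgroup G)) :
    Subgroup.center G ⊓ commutator G = ⊥ := by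
  rw [eq_bot_iff]
  rintro z ⟨hzZ, hzC⟩
  rw [Subgroup.mem_bot]
  by_contra hz1
  have hord : orderOf z ≠ 1 := fun h1 => hz1 (orderOf_eq_one_iff.mp h1)
  obtain ⟨p, hp, hpz⟩ := Nat.exists_prime_and_dvd hord
  haveI : Fact p.Prime := ⟨hp⟩
  have hpos : orderOf z ≠ 0 := (orderOf_pos z).ne'
  obtain ⟨w, hw⟩ : ∃ w : G, w = z ^ (orderOf z / p) := ⟨_, rfl⟩
  have hwo : orderOf w = p := by rw [hw]; exact orderOf_pow_orderOf_div hpos hpz
  have hwZ : w ∈ Subgroup.center G := by rw [hw]; exact Subgroup.pow_mem _ hzZ _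
  have hwC : w ∈ commutator G := by rw [hw]; exact Subgroup.pow_mem _ hzC _
  have hpZ : p ∣ Nat.card ↥(Subgroup.center G) := by
    rw [← hwo]
    have := orderOf_dvd_natCard (⟨w, hwZ⟩ : Subgroup.center G)
    rwa [Subgroup.orderOf_mk] at this
  have hpg : IsPGroup p (Subgroup.zpowers w) := by
    apply IsPGroup.of_card (n := 1)
    rw [Nat.card_zpowers, hwo, pow_one]
  obtain ⟨P, hP⟩ := hpg.exists_le_sylow
  have hwP : w ∈ (P : Subgroup G) := hP (Subgroup.mem_zpowers w)
  have hbot := Cfsg.Agent.Lib.L0.hall_inf_commutator_inf_center (P : Subgroup G) (h p hpZ P)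
    P.card_coprime_index
  have : w ∈ (P : Subgroup G) ⊓ commutator G ⊓ Subgroup.center G := ⟨⟨hwP, hwC⟩, hwZ⟩
  rw [hbot, Subgroup.mem_bot] at this
  rw [this, orderOf_one] at hwo
  exact hp.one_lt.ne hwo

/-- if `|G : Z(G)| = 24` then the Sylow subgroups of `G` for odd primes are abelian -/
theorem sylow_isMulCommutative_of_index_center {G : Type*} [Group G] [Finite G]
    (h24 : (Subgroup.center G).index = 24) (p : ℕ) [hp : Fact p.Prime] (hp2 : p ≠ 2)
    (P : Sylow p G) : IsMulCommutative (P : Subgroup G) := by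
  obtain ⟨π, hπ⟩ : ∃ π : G →* G ⧸ Subgroup.center G,
    π = QuotientGroup.mk' (Subgroup.center G) := ⟨_, rfl⟩
  have hπker : ∀ x : G, π x = 1 ↔ x ∈ Subgroup.center G := by
    intro x; rw [hπ, QuotientGroup.mk'_apply, QuotientGroup.eq_one_iff]
  obtain ⟨f, hf⟩ : ∃ f : (P : Subgroup G) →* G ⧸ Subgroup.center G,
    f = π.comp (P : Subgroup G).subtype := ⟨_, rfl⟩
  have hcardQ : Nat.card (G ⧸ Subgroup.center G) = 24 := by
    rw [← Subgroup.index_eq_card]; exact h24
  have hd1 : Nat.card f.range ∣ 24 := hcardQ ▸ Subgroup.card_subgroup_dvd_card f.range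
  have hd2 : Nat.card f.range ∣ Nat.card (P : Subgroup G) := Subgroup.card_range_dvd f
  obtain ⟨k, hk⟩ := IsPGroup.iff_card.mp P.isPGroup'
  have hcop : Nat.Coprime (Nat.card f.range) 8 := by
    have h1 : Nat.Coprime p 2 := (Nat.coprime_primes hp.out Nat.prime_two).mpr hp2
    have h2 : Nat.Coprime (Nat.card (P : Subgroup G)) (2 ^ 3) := by
      rw [hk]; exact Nat.Coprime.pow k 3 h1
    exact Nat.Coprime.coprime_dvd_left hd2 h2
  have hd3 : Nat.card f.range ∣ 3 := by
    have : Nat.card f.range ∣ 8 * 3 := hd1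
    exact hcop.dvd_of_dvd_mul_left this
  haveI : IsCyclic f.range := by
    rcases (Nat.dvd_prime Nat.prime_three).mp hd3 with h | h
    · haveI : Subsingleton f.range :=
        Finite.card_le_one_iff_subsingleton.mp h.le
      infer_instance
    · haveI : Fact (Nat.Prime 3) := ⟨Nat.prime_three⟩
      exact isCyclic_of_prime_card h
  have hker : f.rangeRestrict.ker ≤ Subgroup.center (P : Subgroup G) := by
    rw [MonoidHom.ker_rangeRestrict]
    intro x hx
    rw [MonoidHom.mem_ker, hf] at hx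
    have hxZ : (x : G) ∈ Subgroup.center G := (hπker _).mp hx
    rw [Subgroup.mem_center_iff]
    intro y
    apply Subtype.ext
    exact Subgroup.mem_center_iff.mp hxZ (y : G)
  exact ⟨⟨fun a b => commutative_of_cyclic_center_quotient f.rangeRestrict hker a b⟩⟩

/-- S4SPLIT: `V ⊴ G` elementary abelian of order 4 with `C_G(V) = V × Z(G)`, `|Z(G)|` odd and
`|G : C_G(V)| = 6`.  Then `G = H × Z(G)` with `H ≅ S₄`. -/
theorem exists_S4_complement {G : Type*} [Group G] [Finite G] (V : Subgroup G) [V.Normal]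
    (hV4 : Nat.card V = 4) (hV2 : ∀ v ∈ V, v ^ 2 = 1)
    (hC : Subgroup.centralizer (V : Set G) = V ⊔ Subgroup.center G)
    (hVZ : V ⊓ Subgroup.center G = ⊥) (hodd : Odd (Nat.card ↥(Subgroup.center G)))
    (h6 : (Subgroup.centralizer (V : Set G)).index = 6) :
    ∃ H : Subgroup G, Nonempty (↥H ≃* Equiv.Perm (Fin 4)) ∧ H ⊓ Subgroup.center G = ⊥ ∧
      H ⊔ Subgroup.center G = ⊤ := by
  have hoddZ : ¬ 2 ∣ Nat.card ↥(Subgroup.center G) := fun h =>
    (Nat.not_even_iff_odd.mpr hodd) (even_iff_two_dvd.mpr h)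
  -- orders
  have hVC : V ≤ Subgroup.centralizer (V : Set G) := by rw [hC]; exact le_sup_left
  have hrelZ : V.relIndex (Subgroup.center G) = Nat.card ↥(Subgroup.center G) := by
    rw [← Subgroup.inf_relIndex_right, hVZ, Subgroup.relIndex_bot_left]
  have hrel : V.relIndex (Subgroup.centralizer (V : Set G)) = V.relIndex (Subgroup.center G) := by
    rw [hC, Subgroup.relIndex_sup_left]
  have hcardC : Nat.card ↥(Subgroup.centralizer (V : Set G))
      = 4 * Nat.card ↥(Subgroup.center G) := by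
    have h1 := Subgroup.relIndex_mul_relIndex ⊥ V _ bot_le hVC
    rw [Subgroup.relIndex_bot_left, Subgroup.relIndex_bot_left, hV4, hrel, hrelZ] at h1
    exact h1.symm
  have hcardG : Nat.card G = 24 * Nat.card ↥(Subgroup.center G) := by
    rw [← Subgroup.index_mul_card (Subgroup.centralizer (V : Set G)), h6, hcardC]; ring
  have h24 : (Subgroup.center G).index = 24 := by
    have h1 := Subgroup.index_mul_card (Subgroup.center G)
    rw [hcardG] at h1
    exact Nat.eq_of_mul_eq_mul_right Nat.card_pos h1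
  -- the quotient by the center
  obtain ⟨π, hπ⟩ : ∃ π : G →* G ⧸ Subgroup.center G,
    π = QuotientGroup.mk' (Subgroup.center G) := ⟨_, rfl⟩
  have hπs : Function.Surjective π := by rw [hπ]; exact QuotientGroup.mk'_surjective _
  have hπker : ∀ x : G, π x = 1 ↔ x ∈ Subgroup.center G := by
    intro x; rw [hπ, QuotientGroup.mk'_apply, QuotientGroup.eq_one_iff]
  have hπZ : (Subgroup.center G).map π = ⊥ := by
    rw [hπ]; exact QuotientGroup.map_mk'_self _
  have hcardQ : Nat.card (G ⧸ Subgroup.center G) = 24 := by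
    rw [← Subgroup.index_eq_card]; exact h24
  haveI hVbn : (V.map π).Normal := Subgroup.Normal.map inferInstance π hπs
  have hinj : Function.Injective (π.subgroupMap V) := by
    rw [injective_iff_map_eq_one]
    intro x hx
    have h1 : π (x : G) = 1 := congrArg Subtype.val hx
    have h2 : (x : G) ∈ Subgroup.center G := (hπker _).mp h1
    have h3 : (x : G) ∈ V ⊓ Subgroup.center G := ⟨x.2, h2⟩
    rw [hVZ, Subgroup.mem_bot] at h3
    exact Subtype.ext h3
  have hVbK : IsKleinFour ↥(V.map π) := by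
    apply isKleinFour_of_card_of_sq
    · rw [← Nat.card_congr (MulEquiv.ofBijective (π.subgroupMap V)
        ⟨hinj, π.subgroupMap_surjective V⟩).toEquiv]
      exact hV4
    · rintro ⟨x, hx⟩
      obtain ⟨v, hv, rfl⟩ := Subgroup.mem_map.mp hx
      apply Subtype.ext
      show (π v) ^ 2 = 1
      rw [← map_pow, hV2 v hv, map_one]
  have hCb : Subgroup.centralizer ((V.map π : Subgroup _) : Set (G ⧸ Subgroup.center G))
      ≤ V.map π := by
    intro q hq
    obtain ⟨g, rfl⟩ := hπs q
    have hg : g ∈ Subgroup.centralizer (V : Set G) := by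
      rw [Subgroup.mem_centralizer_iff]
      intro v hv
      have h1 := Subgroup.mem_centralizer_iff.mp hq (π v) (Subgroup.mem_map_of_mem π hv)
      have h3 : (g * v)⁻¹ * (v * g) ∈ Subgroup.center G := by
        rw [← hπker, map_mul, map_inv, map_mul, map_mul, h1, inv_mul_cancel]
      have h4 : (g * v)⁻¹ * (v * g) ∈ V := by
        have h : (g * v)⁻¹ * (v * g) = v⁻¹ * (g⁻¹ * v * g⁻¹⁻¹) := by group
        rw [h]
        exact V.mul_mem (V.inv_mem hv) (‹V.Normal›.conj_mem v hv g⁻¹)
      have h5 : (g * v)⁻¹ * (v * g) ∈ V ⊓ Subgroup.center G := ⟨h4, h3⟩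
      rw [hVZ, Subgroup.mem_bot] at h5
      exact (inv_mul_eq_one.mp h5).symm
    rw [hC] at hg
    have h : π g ∈ (V ⊔ Subgroup.center G).map π := Subgroup.mem_map_of_mem π hg
    rw [Subgroup.map_sup, hπZ, sup_bot_eq] at h
    exact h
  obtain ⟨e⟩ := Cfsg.Agent.Lib.H5.S4Recog.nonempty_mulEquiv_perm_four hcardQ (V.map π) hVbK hCb
  -- `Z(G) ∩ G' = 1`
  have hZC : Subgroup.center G ⊓ commutator G = ⊥ := by
    apply center_inf_commutator_eq_bot
    intro p hp hpZ P
    apply sylow_isMulCommutative_of_index_center h24 p _ P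
    rintro rfl
    exact hoddZ hpZ
  -- squares lie in `G' Z(G)`
  have hsq : ∀ g : G, ∃ c ∈ commutator G, ∃ z ∈ Subgroup.center G, g ^ 2 = c * z := by
    intro g
    obtain ⟨f, hf⟩ : ∃ f : G →* Equiv.Perm (Fin 4), f = e.toMonoidHom.comp π := ⟨_, rfl⟩
    have hfs : Function.Surjective f := by rw [hf]; exact e.surjective.comp hπs
    have h1 : (f g) ^ 2 ∈ commutator (Equiv.Perm (Fin 4)) := sq_mem_commutator_perm _
    have h2 : (commutator G).map f = commutator (Equiv.Perm (Fin 4)) := by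
      rw [commutator_def, commutator_def, Subgroup.map_commutator, ← MonoidHom.range_eq_map,
        MonoidHom.range_eq_top.mpr hfs]
    rw [← h2] at h1
    obtain ⟨c, hc, hcg⟩ := Subgroup.mem_map.mp h1
    refine ⟨c, hc, c⁻¹ * g ^ 2, ?_, by group⟩
    rw [← hπker]
    rw [hf] at hcg
    have h3 : e (π c) = (e (π g)) ^ 2 := hcg
    rw [← map_pow, ← map_pow] at h3
    have h4 : π c = π (g ^ 2) := e.injective h3
    rw [map_mul, map_inv, h4, inv_mul_cancel]
  -- the complement
  obtain ⟨H, hHmem⟩ : ∃ H : Subgroup G, ∀ g, g ∈ H ↔ g ^ 2 ∈ commutator G := by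
    refine ⟨{ carrier := {g | g ^ 2 ∈ commutator G}
              one_mem' := ?_
              mul_mem' := ?_
              inv_mem' := ?_ }, fun g => Iff.rfl⟩
    · intro a b ha hb
      have h : (a * b) ^ 2 = a ^ 2 * ⁅a⁻¹, b⁆ * b ^ 2 := by
        rw [commutatorElement_def, pow_two, pow_two, pow_two]; group
      show (a * b) ^ 2 ∈ commutator G
      rw [h]
      exact Subgroup.mul_mem _ (Subgroup.mul_mem _ ha
        (Subgroup.commutator_mem_commutator (Subgroup.mem_top _) (Subgroup.mem_top _))) hb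
    · show (1 : G) ^ 2 ∈ commutator G
      rw [one_pow]; exact Subgroup.one_mem _
    · intro a ha
      show (a⁻¹) ^ 2 ∈ commutator G
      rw [inv_pow]; exact Subgroup.inv_mem _ ha
  have hHZ : H ⊓ Subgroup.center G = ⊥ := by
    rw [eq_bot_iff]
    rintro z ⟨hzH, hzZ⟩
    rw [Subgroup.mem_bot]
    have h1 : z ^ 2 ∈ Subgroup.center G ⊓ commutator G :=
      ⟨Subgroup.pow_mem _ hzZ 2, (hHmem z).mp hzH⟩
    rw [hZC, Subgroup.mem_bot] at h1
    have h2 : orderOf z ∣ 2 := orderOf_dvd_of_pow_eq_one h1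
    have h3 : orderOf z ∣ Nat.card ↥(Subgroup.center G) := by
      have := orderOf_dvd_natCard (⟨z, hzZ⟩ : Subgroup.center G)
      rwa [Subgroup.orderOf_mk] at this
    have h4 : orderOf z ∣ Nat.gcd 2 (Nat.card ↥(Subgroup.center G)) := Nat.dvd_gcd h2 h3
    have h5 : Nat.gcd 2 (Nat.card ↥(Subgroup.center G)) = 1 :=
      (Nat.Prime.coprime_iff_not_dvd Nat.prime_two).mpr hoddZ
    rw [h5, Nat.dvd_one] at h4
    exact orderOf_eq_one_iff.mp h4
  have hHZtop : H ⊔ Subgroup.center G = ⊤ := by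
    rw [eq_top_iff]
    intro g _
    obtain ⟨c, hc, z₀, hz₀, hg⟩ := hsq g
    obtain ⟨m, hm⟩ := hodd
    have hz₀n : z₀ ^ (2 * m + 1) = 1 := by
      have := pow_card_eq_one' (G := Subgroup.center G) (x := ⟨z₀, hz₀⟩)
      rw [hm] at this
      exact congrArg Subtype.val this
    obtain ⟨w, hw⟩ : ∃ w : G, w = z₀ ^ (m + 1) := ⟨_, rfl⟩
    have hw2 : w ^ 2 = z₀ := by
      rw [hw, ← pow_mul, show (m + 1) * 2 = (2 * m + 1) + 1 by ring, pow_succ, hz₀n, one_mul]
    have hwZ : w ∈ Subgroup.center G := by rw [hw]; exact Subgroup.pow_mem _ hz₀ _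
    have hh : g * w⁻¹ ∈ H := by
      rw [hHmem]
      have hcm : Commute g w⁻¹ := Subgroup.mem_center_iff.mp (Subgroup.inv_mem _ hwZ) g
      rw [hcm.mul_pow, inv_pow, hw2, hg, mul_assoc, mul_inv_cancel, mul_one]
      exact hc
    have h : g = g * w⁻¹ * w := by group
    rw [h]
    exact Subgroup.mul_mem_sup hh hwZ
  refine ⟨H, ?_, hHZ, hHZtop⟩
  obtain ⟨φ, hφ⟩ : ∃ φ : H →* G ⧸ Subgroup.center G, φ = π.comp H.subtype := ⟨_, rfl⟩
  have hφi : Function.Injective φ := by
    rw [injective_iff_map_eq_one]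
    intro x hx
    rw [hφ] at hx
    have h1 : (x : G) ∈ Subgroup.center G := (hπker _).mp hx
    have h2 : (x : G) ∈ H ⊓ Subgroup.center G := ⟨x.2, h1⟩
    rw [hHZ, Subgroup.mem_bot] at h2
    exact Subtype.ext h2
  have hφs : Function.Surjective φ := by
    intro q
    obtain ⟨g, rfl⟩ := hπs q
    have hg : g ∈ H ⊔ Subgroup.center G := by rw [hHZtop]; exact Subgroup.mem_top g
    rw [← SetLike.mem_coe, Subgroup.mul_normal, Set.mem_mul] at hg
    obtain ⟨h, hh, z, hz, rfl⟩ := hg
    refine ⟨⟨h, hh⟩, ?_⟩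
    rw [hφ]
    show π h = π (h * z)
    rw [map_mul, (hπker z).mpr hz, mul_one]
  exact ⟨(MulEquiv.ofBijective φ ⟨hφi, hφs⟩).trans e⟩

end Cfsg.Agent.Lib.H5.RU
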