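/-
Ree tori farm-out (architect helper12), REE-F4b `card_nonsplit_elements`:
the number of non-trivial elements of order dividing `(q+1)/4` of the abstract Ree system.
-/
import Cfsg.Agent.Lib.H12.ReeU5
import Cfsg.Agent.Lib.H29.ReeB2

set_option autoImplicit false
set_option linter.unusedSectionVars false

namespace Cfsg.Agent.Lib.H5.Ree

open Cfsg.Agent.Lib.H12.ReeC Cfsg.Agent.Lib.H12.ReeC.RSys Cfsg.Agent.Lib.H12.ReeT

variable {G K : Type*} [Group G] [Field K] {R : RSys G K} [Fintype K] [Finite G]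

/-- the centraliser of a non-trivial `e₂`-element of the commutative group `C(y₀)` is `C(y₀)` -/
theorem f4b_centralizer_eq {q : ℕ} (D : R.ReeData q) (y₀ : G) (hy1 : y₀ ≠ 1)
    (hy : y₀ ^ ((q + 1) / 4) = 1) (y : G) (hyC : y ∈ Subgroup.centralizer {y₀}) (hy1' : y ≠ 1)
    (hy' : y ^ ((q + 1) / 4) = 1) : Subgroup.centralizer {y} = Subgroup.centralizer {y₀} := by
  obtain ⟨hc0, hcomm0⟩ := D.tor_centralizer y₀ hy1 hy
  obtain ⟨hc, -⟩ := D.tor_centralizer y hy1' hy'
  symm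
  apply Subgroup.eq_of_le_of_card_ge
  · intro u hu
    rw [Subgroup.mem_centralizer_singleton_iff]
    exact hcomm0 u hu y hyC
  · rw [hc, hc0]

/-- an element normalising `C(y₀)` normalises its `e₂`-torsion subgroup -/
theorem f4b_conj_mem {q : ℕ} (y₀ : G) (A₀ : Subgroup G)
    (hle : A₀ ≤ Subgroup.centralizer {y₀}) (hAc : Nat.card A₀ = (q + 1) / 4)
    (hmem : ∀ u ∈ Subgroup.centralizer {y₀}, u ^ ((q + 1) / 4) = 1 → u ∈ A₀) (g : G)
    (hg : ∀ x ∈ Subgroup.centralizer {y₀}, g * x * g⁻¹ ∈ Subgroup.centralizer {y₀}) (u : G)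
    (hu : u ∈ A₀) : g * u * g⁻¹ ∈ A₀ := by
  apply hmem _ (hg u (hle hu))
  have h1 : u ^ ((q + 1) / 4) = 1 := by
    have := pow_card_eq_one' (G := A₀) (x := ⟨u, hu⟩)
    rw [hAc] at this
    exact congrArg Subtype.val this
  rw [conj_pow, h1, mul_one, mul_inv_cancel]

/-- **REE-F4b** -/
theorem card_nonsplit_elements {q : ℕ} (D : R.ReeData q) (hq27 : 27 ≤ q)
    (hnorm : ∀ A : Subgroup G, IsCyclic A → Nat.card A = (q + 1) / 4 →
      Nat.card (Subgroup.normalizer (A : Set G)) = 6 * (q + 1)) :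
    Nat.card {y : G // y ≠ 1 ∧ y ^ ((q + 1) / 4) = 1} * (6 * (q + 1)) = Nat.card G * ((q + 1) / 4 - 1) := by
  have h8 := D.hq8
  have he4 := D.e4
  have hepos : 0 < (q + 1) / 4 := by omega
  have he1 : (q + 1) / 4 ≠ 1 := by omega
  -- an element of prime order dividing `e₂`
  have hrp : ((q + 1) / 4).minFac.Prime := Nat.minFac_prime he1
  have hre : ((q + 1) / 4).minFac ∣ (q + 1) / 4 := Nat.minFac_dvd _
  have : Fact ((q + 1) / 4).minFac.Prime := ⟨hrp⟩
  have hrG : ((q + 1) / 4).minFac ∣ Nat.card G := by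
    rw [D.card_eq']
    exact dvd_trans hre (Dvd.intro_left _ rfl |> fun h : (q + 1) / 4 ∣ (q - 1) / 2 * ((q + 1) / 4) =>
      dvd_mul_of_dvd_left (dvd_mul_of_dvd_left h _) _)
  obtain ⟨y₀, hy₀⟩ := exists_prime_orderOf_dvd_card' (G := G) ((q + 1) / 4).minFac hrG
  have hy1 : y₀ ≠ 1 := by
    intro h
    rw [h, orderOf_one] at hy₀
    exact hrp.one_lt.ne hy₀
  have hy : y₀ ^ ((q + 1) / 4) = 1 := by
    apply orderOf_dvd_iff_pow_eq_one.mp
    rw [hy₀]; exact hre
  obtain ⟨A₀, hcyc, hAc, hle, hmem⟩ := D.tor_cyclic y₀ hy1 hy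
  obtain ⟨hc0, hcomm0⟩ := D.tor_centralizer y₀ hy1 hy
  have hpowA : ∀ u ∈ A₀, u ^ ((q + 1) / 4) = 1 := by
    intro u hu
    have := pow_card_eq_one' (G := A₀) (x := ⟨u, hu⟩)
    rw [hAc] at this
    exact congrArg Subtype.val this
  -- (ii) the TI property
  have hTI : ∀ g : G, ∀ y ∈ A₀, y ≠ 1 → g * y * g⁻¹ ∈ A₀ → g ∈ Subgroup.normalizer (A₀ : Set G) := by
    intro g y hyA hy1' hgy
    have hC1 := f4b_centralizer_eq D y₀ hy1 hy y (hle hyA) hy1' (hpowA y hyA)
    have hgy1 : g * y * g⁻¹ ≠ 1 := by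
      intro h
      apply hy1'
      have : y = g⁻¹ * (g * y * g⁻¹) * g := by group
      rw [this, h]; group
    have hC2 := f4b_centralizer_eq D y₀ hy1 hy (g * y * g⁻¹) (hle hgy) hgy1 (hpowA _ hgy)
    -- g normalises C(y₀)
    have hg1 : ∀ x ∈ Subgroup.centralizer {y₀}, g * x * g⁻¹ ∈ Subgroup.centralizer {y₀} := by
      intro x hx
      rw [← hC1, Subgroup.mem_centralizer_singleton_iff] at hx
      rw [← hC2, Subgroup.mem_centralizer_singleton_iff]
      calc g * x * g⁻¹ * (g * y * g⁻¹) = g * (x * y) * g⁻¹ := by group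
        _ = g * (y * x) * g⁻¹ := by rw [hx]
        _ = g * y * g⁻¹ * (g * x * g⁻¹) := by group
    have hg2 : ∀ x ∈ Subgroup.centralizer {y₀}, g⁻¹ * x * g⁻¹⁻¹ ∈ Subgroup.centralizer {y₀} := by
      intro x hx
      rw [← hC2, Subgroup.mem_centralizer_singleton_iff] at hx
      rw [← hC1, Subgroup.mem_centralizer_singleton_iff]
      calc g⁻¹ * x * g⁻¹⁻¹ * y = g⁻¹ * (x * (g * y * g⁻¹)) * g := by group
        _ = g⁻¹ * ((g * y * g⁻¹) * x) * g := by rw [hx]
        _ = y * (g⁻¹ * x * g⁻¹⁻¹) := by group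
    rw [Subgroup.mem_normalizer_iff]
    intro u
    constructor
    · intro hu
      exact f4b_conj_mem y₀ A₀ hle hAc hmem g hg1 u hu
    · intro hu
      have := f4b_conj_mem y₀ A₀ hle hAc hmem g⁻¹ hg2 _ hu
      have e : g⁻¹ * (g * u * g⁻¹) * g⁻¹⁻¹ = u := by group
      rw [e] at this
      exact this
  -- (i) every non-trivial `e₂`-element is conjugate into `A₀`
  have hconj : ∀ y : G, y ≠ 1 → y ^ ((q + 1) / 4) = 1 → ∃ g : G, g⁻¹ * y * g ∈ A₀ := by
    intro y hy1' hy'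
    have ho1 : orderOf y ≠ 1 := fun h => hy1' (orderOf_eq_one_iff.mp h)
    have hoe : orderOf y ∣ (q + 1) / 4 := orderOf_dvd_of_pow_eq_one hy'
    have hsp : (orderOf y).minFac.Prime := Nat.minFac_prime ho1
    have hso : (orderOf y).minFac ∣ orderOf y := Nat.minFac_dvd _
    have : Fact (orderOf y).minFac.Prime := ⟨hsp⟩
    obtain ⟨m, hm⟩ := hso
    have hzs : (y ^ m) ^ (orderOf y).minFac = 1 := by
      rw [← pow_mul, mul_comm, ← hm, pow_orderOf_eq_one]
    have hz1 : y ^ m ≠ 1 := by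
      intro h
      have h1 : orderOf y ∣ m := orderOf_dvd_of_pow_eq_one h
      have hopos : 0 < orderOf y := Nat.pos_of_ne_zero (fun h0 => by rw [h0, zero_dvd_iff] at hoe; omega)
      have hmpos : 0 < m := by
        rcases Nat.eq_zero_or_pos m with h0 | h0
        · rw [h0, mul_zero] at hm; omega
        · exact h0
      have h2 : orderOf y ≤ m := Nat.le_of_dvd hmpos h1
      have h3 : 2 ≤ (orderOf y).minFac := hsp.two_le
      nlinarith
    have hze : (y ^ m) ^ ((q + 1) / 4) = 1 := by rw [← pow_mul, mul_comm, pow_mul, hy', one_pow]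
    -- the prime does not divide the index of C(y₀)
    have hidx : ¬ (orderOf y).minFac ∣ (Subgroup.centralizer {y₀}).index := by
      intro hdvd
      have hs_e : (orderOf y).minFac ∣ (q + 1) / 4 := dvd_trans ⟨m, hm⟩ hoe
      have h1 : (Subgroup.centralizer {y₀}).index * Nat.card (Subgroup.centralizer {y₀}) = Nat.card G :=
        Subgroup.index_mul_card _
      rw [hc0, D.card_eq'] at h1
      have h2 : (Subgroup.centralizer {y₀}).index * 4 = (q - 1) / 2 * (q ^ 2 - q + 1) * (8 * q ^ 3) := by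
        have h3 : (Subgroup.centralizer {y₀}).index * 4 * ((q + 1) / 4) =
            (q - 1) / 2 * (q ^ 2 - q + 1) * (8 * q ^ 3) * ((q + 1) / 4) := by
          have h1' : (Subgroup.centralizer {y₀}).index * (4 * ((q + 1) / 4)) =
              (q - 1) / 2 * ((q + 1) / 4) * (q ^ 2 - q + 1) * (8 * q ^ 3) := by
            rw [← he4]; exact h1
          rw [← mul_assoc] at h1'
          rw [h1']; ring
        exact Nat.eq_of_mul_eq_mul_right hepos h3
      have h4 : (orderOf y).minFac ∣ (q - 1) / 2 * (q ^ 2 - q + 1) * (8 * q ^ 3) := by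
        rw [← h2]; exact dvd_mul_of_dvd_left hdvd _
      have hcop : Nat.Coprime ((q + 1) / 4) ((q - 1) / 2 * (q ^ 2 - q + 1) * (8 * q ^ 3)) :=
        Nat.Coprime.mul_right (Nat.Coprime.mul_right D.coprime_e1_e2.symm D.coprime_e2_N) D.coprime_e2_q
      have h5 : (orderOf y).minFac ∣ Nat.gcd ((q + 1) / 4) ((q - 1) / 2 * (q ^ 2 - q + 1) * (8 * q ^ 3)) :=
        Nat.dvd_gcd hs_e h4
      rw [hcop.gcd_eq_one] at h5
      exact hsp.one_lt.ne' (Nat.dvd_one.mp h5)
    obtain ⟨g, hg⟩ := exists_conj_mem_of_prime (Subgroup.centralizer {y₀}) (y ^ m) (orderOf y).minFac hzs hidx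
    have hw1 : g⁻¹ * y ^ m * g ≠ 1 := conj_ne_one g _ hz1
    have hwe : (g⁻¹ * y ^ m * g) ^ ((q + 1) / 4) = 1 := conj_pow_eq_one g _ _ hze
    have hCw := f4b_centralizer_eq D y₀ hy1 hy _ hg hw1 hwe
    refine ⟨g, hmem _ ?_ (conj_pow_eq_one g y _ hy')⟩
    rw [← hCw, Subgroup.mem_centralizer_singleton_iff]
    calc g⁻¹ * y * g * (g⁻¹ * y ^ m * g) = g⁻¹ * (y * y ^ m) * g := by group
      _ = g⁻¹ * (y ^ m * y) * g := by rw [← pow_succ', ← pow_succ]
      _ = g⁻¹ * y ^ m * g * (g⁻¹ * y * g) := by group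
  -- (iii) counting
  have hcount := Cfsg.Agent.Lib.H29.Ree.card_conj_cover A₀ hTI
  rw [hnorm A₀ hcyc hAc, hAc] at hcount
  rw [← hcount]
  congr 1
  apply Nat.card_congr
  apply Equiv.subtypeEquivRight
  intro y
  constructor
  · rintro ⟨h1, h2⟩
    exact ⟨h1, hconj y h1 h2⟩
  · rintro ⟨h1, g, hg⟩
    refine ⟨h1, ?_⟩
    have h3 := hpowA _ hg
    have : y = g * (g⁻¹ * y * g) * g⁻¹ := by group
    rw [this, conj_pow, h3, mul_one, mul_inv_cancel]

end Cfsg.Agent.Lib.H5.Ree
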