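import Mathlib
import Cfsg.Prelude.Def_CaseTheorems
import Cfsg.Agent.Lib.H9.S28Defs
import Cfsg.Agent.Lib.H15.SymF6
import Cfsg.Agent.Lib.H9.S28GEN

/-!
# S2928 piece C3 PRIM: `G` is primitive (block argument), modulo the C1 lemma
`small_not_central_mod`, taken as a hypothesis in `G_primitive_of`.
-/

set_option autoImplicit false

namespace Cfsg.Agent.Lib.H5.S28

open Equiv Cfsg.Agent.Lib.H9.S28 Cfsg.Agent.Lib.H15.SymF
open scoped Pointwise

variable {β : Type*} [Fintype β] [DecidableEq β] {G L : Subgroup (Perm β)}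

theorem image_mul' (σ τ : Perm β) (C : Set β) : (σ * τ) '' C = σ '' (τ '' C) := by
  rw [Perm.coe_mul, Set.image_comp]

theorem image_inv_of_image {σ : Perm β} {C : Set β} (h : σ '' C = C) :
    (⇑(σ⁻¹ : Perm β)) '' C = C := by
  conv_lhs => rw [← h]
  rw [← image_mul' σ⁻¹ σ C, inv_mul_cancel, Perm.coe_one, Set.image_id]

theorem dt_support_subset {S : Finset β} {a b c d : β} (ha : a ∈ S) (hb : b ∈ S) (hc : c ∈ S)
    (hd : d ∈ S) : (swap a b * swap c d).support ⊆ S := by
  intro z hz
  by_contra hzS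
  apply Perm.mem_support.mp hz
  have hza : z ≠ a := fun h => hzS (h ▸ ha)
  have hzb : z ≠ b := fun h => hzS (h ▸ hb)
  have hzc : z ≠ c := fun h => hzS (h ▸ hc)
  have hzd : z ≠ d := fun h => hzS (h ▸ hd)
  rw [Perm.mul_apply, swap_apply_of_ne_of_ne hzc hzd, swap_apply_of_ne_of_ne hza hzb]

theorem dt_apply_of_notMem {S : Finset β} {a b c d : β} (ha : a ∈ S) (hb : b ∈ S) (hc : c ∈ S)
    (hd : d ∈ S) {z : β} (hz : z ∉ S) : (swap a b * swap c d) z = z := by
  by_contra hne
  exact hz (dt_support_subset ha hb hc hd (Perm.mem_support.mpr hne))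

theorem G_primitive_of
    (hC1 : ∀ {u : Perm β}, u ∈ G → u ≠ 1 → u.support.card ≤ 4 →
      (∀ x ∈ L, ∀ y ∈ L, (u * x * u⁻¹ * x⁻¹) * y = y * (u * x * u⁻¹ * x⁻¹)) → False)
    (h : Core G L) {S : Finset β} (hS : IsKlein G S)
    (htr : ∀ a b : β, ∃ x ∈ L, x a = b) : MulAction.IsPreprimitive ↥G β := by
  classical
  have : MulAction.IsPretransitive ↥G β := ⟨fun a b => by
    obtain ⟨x, hx, hxa⟩ := htr a b
    exact ⟨⟨x, h.le hx⟩, hxa⟩⟩
  refine ⟨fun {B} hB => ?_⟩
  by_contra hnt
  rw [MulAction.IsTrivialBlock, not_or] at hnt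
  obtain ⟨hns, hnu⟩ := hnt
  -- translates
  have hsmul : ∀ (g : Perm β) (hg : g ∈ G) (C : Set β), (⟨g, hg⟩ : ↥G) • C = g '' C := by
    intro g hg C
    ext z
    simp only [Set.mem_smul_set, Set.mem_image]
    rfl
  set T : Set β → Prop := fun C => ∃ g ∈ G, C = g '' B with hT
  have hTimg : ∀ {C : Set β}, T C → ∀ σ ∈ G, T (σ '' C) := by
    rintro C ⟨g, hg, rfl⟩ σ hσ
    exact ⟨σ * g, G.mul_mem hσ hg, (image_mul' σ g B).symm⟩
  have hTdisj : ∀ {C D : Set β}, T C → T D → C ≠ D → Disjoint C D := by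
    rintro C D ⟨g, hg, rfl⟩ ⟨k, hk, rfl⟩ hne
    have := @hB ⟨g, hg⟩ ⟨k, hk⟩
    rw [hsmul, hsmul] at this
    exact this hne
  have hBne : B.Nonempty := by
    by_contra hempty
    rw [Set.not_nonempty_iff_eq_empty] at hempty
    exact hns (by rw [hempty]; exact Set.subsingleton_empty)
  -- the kernel on the translates
  let N : Subgroup (Perm β) :=
    { carrier := {x | x ∈ L ∧ ∀ C, T C → x '' C = C}
      one_mem' := ⟨L.one_mem, fun C _ => by rw [Perm.coe_one, Set.image_id]⟩
      mul_mem' := by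
        rintro x y ⟨hx, hxC⟩ ⟨hy, hyC⟩
        refine ⟨L.mul_mem hx hy, fun C hC => ?_⟩
        rw [image_mul', hyC C hC, hxC C hC]
      inv_mem' := by
        rintro x ⟨hx, hxC⟩
        exact ⟨L.inv_mem hx, fun C hC => image_inv_of_image (hxC C hC)⟩ }
  have hNL : N ≤ L := fun x hx => hx.1
  have hNinv : ∀ x ∈ L, ∀ y ∈ N, x * y * x⁻¹ ∈ N := by
    rintro x hx y ⟨hy, hyC⟩
    refine ⟨L.mul_mem (L.mul_mem hx hy) (L.inv_mem hx), fun C hC => ?_⟩
    rw [image_mul', image_mul', hyC _ (hTimg hC x⁻¹ (h.le (L.inv_mem hx))), ← image_mul' x x⁻¹ C,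
      mul_inv_cancel, Perm.coe_one, Set.image_id]
  have hNne : N ≠ L := by
    intro hNeq
    obtain ⟨a, ha⟩ := hBne
    obtain ⟨b, hb⟩ : ∃ b, b ∉ B := by
      by_contra hcon
      push Not at hcon
      exact hnu (Set.eq_univ_of_forall hcon)
    obtain ⟨x, hx, hxa⟩ := htr a b
    have hxN : x ∈ N := by rw [hNeq]; exact hx
    have := hxN.2 B ⟨1, G.one_mem, by rw [Perm.coe_one, Set.image_id]⟩
    apply hb
    rw [← this]
    exact ⟨a, ha, hxa⟩
  have hNc : ∀ y ∈ N, ∀ x ∈ L, x * y = y * x := by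
    rcases eq_or_central_of_quasisimple L h.qs N hNL hNinv with h1 | h1
    · exact absurd h1 hNne
    · exact h1
  -- (*) small elements fixing all translates do not exist
  have star : ∀ u ∈ G, u ≠ 1 → u.support.card ≤ 4 → (∀ C, T C → u '' C = C) → False := by
    intro u hu hu1 hsupp hfix
    apply hC1 hu hu1 hsupp
    intro x hx y hy
    have hw : u * x * u⁻¹ * x⁻¹ ∈ N := by
      refine ⟨L.mul_mem (h.normal u hu x hx) (L.inv_mem hx), fun C hC => ?_⟩
      have hC1' : T ((⇑(x⁻¹ : Perm β)) '' C) := hTimg hC x⁻¹ (h.le (L.inv_mem hx))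
      rw [image_mul', image_mul', image_mul', image_inv_of_image (hfix _ hC1'),
        ← image_mul' x x⁻¹ C, mul_inv_cancel, Perm.coe_one, Set.image_id, hfix C hC]
    exact (hNc _ hw y hy).symm
  -- the four points of `S`
  obtain ⟨a, b, c, d, hab, hac, had, hbc, hbd, hcd, hSeq⟩ := Finset.card_eq_four.mp hS.1
  have haS : a ∈ S := by rw [hSeq]; simp
  have hbS : b ∈ S := by rw [hSeq]; simp
  have hcS : c ∈ S := by rw [hSeq]; simp
  have hdS : d ∈ S := by rw [hSeq]; simp
  set u₁ : Perm β := swap a b * swap c d with hu₁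
  have hu₁G : u₁ ∈ G := hS.2 a b c d haS hbS hcS hdS hab hac had hbc hbd hcd
  have hu₁1 : u₁ ≠ 1 := by
    intro h1
    have := congrArg (fun σ : Perm β => σ a) h1
    simp only [hu₁, Perm.mul_apply, Perm.coe_one, id_eq] at this
    rw [swap_apply_of_ne_of_ne hac had, swap_apply_left] at this
    exact hab this.symm
  have hu₁supp : u₁.support.card ≤ 4 := by
    rw [← hS.1]
    exact Finset.card_le_card (dt_support_subset haS hbS hcS hdS)
  have hu₁sq : u₁ * u₁ = 1 := by
    have hcomm : swap a b * swap c d = swap c d * swap a b := by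
      ext z
      simp only [Perm.mul_apply]
      by_cases hza : z = a
      · subst hza
        rw [swap_apply_of_ne_of_ne hac had, swap_apply_left, swap_apply_of_ne_of_ne hbc hbd]
      · by_cases hzb : z = b
        · subst hzb
          rw [swap_apply_of_ne_of_ne hbc hbd, swap_apply_right,
            swap_apply_of_ne_of_ne hac had]
        · rw [swap_apply_of_ne_of_ne hza hzb]
          by_cases hzc : z = c
          · subst hzc
            rw [swap_apply_left, swap_apply_of_ne_of_ne (Ne.symm had) (Ne.symm hbd)]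
          · by_cases hzd : z = d
            · subst hzd
              rw [swap_apply_right, swap_apply_of_ne_of_ne (Ne.symm hac) (Ne.symm hbc)]
            · rw [swap_apply_of_ne_of_ne hzc hzd, swap_apply_of_ne_of_ne hza hzb]
    rw [hu₁]
    calc swap a b * swap c d * (swap a b * swap c d)
        = swap a b * (swap c d * swap a b) * swap c d := by group
      _ = swap a b * (swap a b * swap c d) * swap c d := by rw [hcomm]
      _ = (swap a b * swap a b) * (swap c d * swap c d) := by group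
      _ = 1 := by rw [swap_mul_self, swap_mul_self, one_mul]
  -- a translate moved by `u₁`
  obtain ⟨C, hC, hCmove⟩ : ∃ C, T C ∧ u₁ '' C ≠ C := by
    by_contra hcon
    push Not at hcon
    exact star u₁ hu₁G hu₁1 hu₁supp hcon
  have hC' : T (u₁ '' C) := hTimg hC u₁ hu₁G
  have hdisj : Disjoint (u₁ '' C) C := hTdisj hC' hC hCmove
  have hu₁C' : u₁ '' (u₁ '' C) = C := by
    rw [← image_mul', hu₁sq, Perm.coe_one, Set.image_id]
  -- points of a translate moved off itself lie in `S`
  have hsub : ∀ {D : Set β}, Disjoint (u₁ '' D) D → ∀ p ∈ D, p ∈ S := by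
    intro D hD p hp
    by_contra hpS
    have hfix : u₁ p = p := dt_apply_of_notMem haS hbS hcS hdS hpS
    exact Set.disjoint_left.mp hD ⟨p, hp, hfix⟩ hp
  have hCS : ∀ p ∈ C, p ∈ S := hsub hdisj
  have hC'S : ∀ p ∈ u₁ '' C, p ∈ S := by
    apply hsub
    rw [hu₁C']
    exact hdisj.symm
  -- two points of `C`
  obtain ⟨g, hg, rfl⟩ := hC
  have hCns : ¬ (g '' B).Subsingleton := by
    intro hsub'
    apply hns
    intro x hx y hy
    exact g.injective (hsub' ⟨x, hx, rfl⟩ ⟨y, hy, rfl⟩)
  obtain ⟨p, hp, q, hq, hpq⟩ : ∃ p ∈ g '' B, ∃ q ∈ g '' B, p ≠ q := by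
    by_contra hcon
    push Not at hcon
    exact hCns (fun x hx y hy => hcon x hx y hy)
  have hp' : u₁ p ∈ u₁ '' (g '' B) := ⟨p, hp, rfl⟩
  have hq' : u₁ q ∈ u₁ '' (g '' B) := ⟨q, hq, rfl⟩
  have hne1 : u₁ p ≠ u₁ q := fun e => hpq (u₁.injective e)
  have hne2 : p ≠ u₁ p := fun e => Set.disjoint_left.mp hdisj hp' (e ▸ hp)
  have hne3 : p ≠ u₁ q := fun e => Set.disjoint_left.mp hdisj hq' (e ▸ hp)
  have hne4 : q ≠ u₁ p := fun e => Set.disjoint_left.mp hdisj hp' (e ▸ hq)
  have hne5 : q ≠ u₁ q := fun e => Set.disjoint_left.mp hdisj hq' (e ▸ hq)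
  have hpS := hCS p hp
  have hqS := hCS q hq
  have hp'S := hC'S _ hp'
  have hq'S := hC'S _ hq'
  -- `S = {p, q, u₁ p, u₁ q}`
  have hSeq' : S = {p, q, u₁ p, u₁ q} := by
    symm
    apply Finset.eq_of_subset_of_card_le
    · intro z hz
      simp only [Finset.mem_insert, Finset.mem_singleton] at hz
      rcases hz with rfl | rfl | rfl | rfl <;> assumption
    · rw [hS.1]
      have : ({p, q, u₁ p, u₁ q} : Finset β).card = 4 :=
        Finset.card_eq_four.mpr ⟨p, q, u₁ p, u₁ q, hpq, hne2, hne3, hne4, hne5, hne1, rfl⟩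
      rw [this]
  have hCeq : g '' B = {p, q} := by
    ext z
    constructor
    · intro hz
      have hzS := hCS z hz
      rw [hSeq'] at hzS
      simp only [Finset.mem_insert, Finset.mem_singleton] at hzS
      rcases hzS with rfl | rfl | rfl | rfl
      · exact Or.inl rfl
      · exact Or.inr rfl
      · exact absurd hz (Set.disjoint_left.mp hdisj hp')
      · exact absurd hz (Set.disjoint_left.mp hdisj hq')
    · rintro (rfl | rfl)
      · exact hp
      · exact hq
  have hC'eq : u₁ '' (g '' B) = {u₁ p, u₁ q} := by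
    rw [hCeq, Set.image_pair]
  -- the element `v`
  set v : Perm β := swap p q * swap (u₁ p) (u₁ q) with hv
  have hvG : v ∈ G := hS.2 p q (u₁ p) (u₁ q) hpS hqS hp'S hq'S hpq hne2 hne3 hne4 hne5 hne1
  have hv1 : v ≠ 1 := by
    intro h1
    have := congrArg (fun σ : Perm β => σ p) h1
    simp only [hv, Perm.mul_apply, Perm.coe_one, id_eq] at this
    rw [swap_apply_of_ne_of_ne hne2 hne3, swap_apply_left] at this
    exact hpq this.symm
  have hvsupp : v.support.card ≤ 4 := by
    rw [← hS.1]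
    exact Finset.card_le_card (dt_support_subset hpS hqS hp'S hq'S)
  have hvp : v p = q := by
    rw [hv, Perm.mul_apply, swap_apply_of_ne_of_ne hne2 hne3, swap_apply_left]
  have hvq : v q = p := by
    rw [hv, Perm.mul_apply, swap_apply_of_ne_of_ne hne4 hne5, swap_apply_right]
  have hvp' : v (u₁ p) = u₁ q := by
    rw [hv, Perm.mul_apply, swap_apply_left, swap_apply_of_ne_of_ne (Ne.symm hne3) (Ne.symm hne5)]
  have hvq' : v (u₁ q) = u₁ p := by
    rw [hv, Perm.mul_apply, swap_apply_right, swap_apply_of_ne_of_ne (Ne.symm hne2) (Ne.symm hne4)]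
  apply star v hvG hv1 hvsupp
  intro D hD
  by_cases hD1 : D = g '' B
  · rw [hD1, hCeq, Set.image_pair, hvp, hvq, Set.pair_comm]
  · by_cases hD2 : D = u₁ '' (g '' B)
    · rw [hD2, hC'eq, Set.image_pair, hvp', hvq', Set.pair_comm]
    · have hd1 : Disjoint D (g '' B) := hTdisj hD ⟨g, hg, rfl⟩ hD1
      have hd2 : Disjoint D (u₁ '' (g '' B)) := hTdisj hD hC' hD2
      have hfixD : ∀ z ∈ D, v z = z := by
        intro z hz
        apply dt_apply_of_notMem hpS hqS hp'S hq'S
        intro hzS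
        rw [hSeq'] at hzS
        simp only [Finset.mem_insert, Finset.mem_singleton] at hzS
        rcases hzS with rfl | rfl | rfl | rfl
        · exact Set.disjoint_left.mp hd1 hz hp
        · exact Set.disjoint_left.mp hd1 hz hq
        · exact Set.disjoint_left.mp hd2 hz hp'
        · exact Set.disjoint_left.mp hd2 hz hq'
      ext z
      constructor
      · rintro ⟨y, hy, rfl⟩
        rw [hfixD y hy]; exact hy
      · intro hz
        exact ⟨z, hz, hfixD z hz⟩

theorem G_primitive (h : Core G L) {S : Finset β} (hS : IsKlein G S)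
    (htr : ∀ a b : β, ∃ x ∈ L, x a = b) : MulAction.IsPreprimitive ↥G β :=
  G_primitive_of (fun hu hu1 hsupp hc => small_not_central_mod h hu hu1 hsupp hc) h hS htr

end Cfsg.Agent.Lib.H5.S28
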