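import Mathlib
import Cfsg.Prelude.Def_CaseTheorems
import Cfsg.Agent.Lib.H9.S28Defs
import Cfsg.Agent.Lib.H18.HSA5

/-!
# S2928 piece C4 2TR: a primitive group containing the Klein four-group on a 4-set is 2-transitive
-/

set_option autoImplicit false

namespace Cfsg.Agent.Lib.H5.S28

open Equiv Cfsg.Agent.Lib.H9.S28 Cfsg.Agent.Lib.H15.SymF

variable {β : Type*} [Fintype β] [DecidableEq β] {G L : Subgroup (Perm β)}

theorem G_two_trans (h5 : 5 ≤ Fintype.card β) (hprim : MulAction.IsPreprimitive ↥G β)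
    {S : Finset β} (hS : IsKlein G S) :
    ∀ a b c d : β, a ≠ b → c ≠ d → ∃ g ∈ G, g a = c ∧ g b = d := by
  apply Cfsg.Agent.Lib.H18.HS.a5_two_trans hprim (↑S : Set β)
  · rw [Set.ncard_coe_finset]; exact hS.1
  · rw [Nat.card_eq_fintype_card]; exact h5
  · intro u hu v hv
    rw [Finset.mem_coe] at hu hv
    by_cases huv : u = v
    · exact ⟨1, G.one_mem, fun _ _ => rfl, by rw [huv]; rfl⟩
    · have hc2 : ((S.erase u).erase v).card = 2 := by
        rw [Finset.card_erase_of_mem (Finset.mem_erase.mpr ⟨Ne.symm huv, hv⟩),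
          Finset.card_erase_of_mem hu, hS.1]
      obtain ⟨c, d, hcd, hcdeq⟩ := Finset.card_eq_two.mp hc2
      have hc : c ∈ (S.erase u).erase v := by rw [hcdeq]; simp
      have hd : d ∈ (S.erase u).erase v := by rw [hcdeq]; simp
      simp only [Finset.mem_erase] at hc hd
      obtain ⟨hcv, hcu, hcS⟩ := hc
      obtain ⟨hdv, hdu, hdS⟩ := hd
      refine ⟨swap u v * swap c d,
        hS.2 u v c d hu hv hcS hdS huv (Ne.symm hcu) (Ne.symm hdu) (Ne.symm hcv) (Ne.symm hdv) hcd,
        ?_, ?_⟩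
      · intro z hz
        have hzS : z ∉ S := fun h => hz (Finset.mem_coe.mpr h)
        have hzu : z ≠ u := fun h => hzS (h ▸ hu)
        have hzv : z ≠ v := fun h => hzS (h ▸ hv)
        have hzc : z ≠ c := fun h => hzS (h ▸ hcS)
        have hzd : z ≠ d := fun h => hzS (h ▸ hdS)
        rw [Perm.mul_apply, swap_apply_of_ne_of_ne hzc hzd, swap_apply_of_ne_of_ne hzu hzv]
      · rw [Perm.mul_apply, swap_apply_of_ne_of_ne (Ne.symm hcu) (Ne.symm hdu), swap_apply_left]

end Cfsg.Agent.Lib.H5.S28
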