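import Mathlib
import Cfsg.Agent.Lib.H9.S3571Defs

/-!
# S3571, group block, piece M6C (helper5): the core inside `A_6`

For a proper subgroup `K` of `A_6` and the largest prime divisor `r` of its index there is an
element of order `r` of `A_6` with no conjugate in `K`.
-/

set_option autoImplicit false

namespace Cfsg.Agent.Lib.H5.S3571M6

open Equiv

/-- the alternating group of degree six -/
abbrev A6 := ↥(alternatingGroup (Fin 6))

theorem card_A6 : Nat.card A6 = 360 := by
  rw [nat_card_alternatingGroup, Nat.card_fin]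
  decide

/-- the 5-cycle -/
def p5 : Perm (Fin 6) := swap 0 1 * swap 1 2 * swap 2 3 * swap 3 4
/-- the 3-cycle -/
def p3 : Perm (Fin 6) := swap 0 1 * swap 1 2
/-- the product of two 3-cycles -/
def p33 : Perm (Fin 6) := swap 0 1 * swap 1 2 * (swap 3 4 * swap 4 5)
/-- the double transposition -/
def p22 : Perm (Fin 6) := swap 0 1 * swap 2 3

theorem p5_mem : p5 ∈ alternatingGroup (Fin 6) := by
  rw [Perm.mem_alternatingGroup]; unfold p5
  rw [Perm.sign_mul, Perm.sign_mul, Perm.sign_mul, Perm.sign_swap (by decide),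
    Perm.sign_swap (by decide), Perm.sign_swap (by decide), Perm.sign_swap (by decide)]
  decide
theorem p3_mem : p3 ∈ alternatingGroup (Fin 6) := by
  rw [Perm.mem_alternatingGroup]; unfold p3
  rw [Perm.sign_mul, Perm.sign_swap (by decide), Perm.sign_swap (by decide)]
  decide
theorem p33_mem : p33 ∈ alternatingGroup (Fin 6) := by
  rw [Perm.mem_alternatingGroup]; unfold p33
  rw [Perm.sign_mul, Perm.sign_mul, Perm.sign_mul, Perm.sign_swap (by decide),
    Perm.sign_swap (by decide), Perm.sign_swap (by decide), Perm.sign_swap (by decide)]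
  decide
theorem p22_mem : p22 ∈ alternatingGroup (Fin 6) := by
  rw [Perm.mem_alternatingGroup]; unfold p22
  rw [Perm.sign_mul, Perm.sign_swap (by decide), Perm.sign_swap (by decide)]
  decide

theorem order_p5 : orderOf p5 = 5 := by
  have : Fact (Nat.Prime 5) := ⟨by norm_num⟩
  exact orderOf_eq_prime (by decide) (by decide)
theorem order_p3 : orderOf p3 = 3 := by
  have : Fact (Nat.Prime 3) := ⟨by norm_num⟩
  exact orderOf_eq_prime (by decide) (by decide)
theorem order_p33 : orderOf p33 = 3 := by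
  have : Fact (Nat.Prime 3) := ⟨by norm_num⟩
  exact orderOf_eq_prime (by decide) (by decide)
theorem order_p22 : orderOf p22 = 2 := by
  have : Fact (Nat.Prime 2) := ⟨by norm_num⟩
  exact orderOf_eq_prime (by decide) (by decide)

theorem supp_p3 : p3.support.card = 3 := by decide
theorem supp_p33 : p33.support.card = 6 := by decide

/-- conjugation as `g⁻¹ * t * g` preserves the order -/
theorem orderOf_conj' {G : Type*} [Group G] (g t : G) : orderOf (g⁻¹ * t * g) = orderOf t := by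
  have h : g⁻¹ * t * g = MulAut.conj g⁻¹ t := by rw [MulAut.conj_apply, inv_inv]
  rw [h, MulEquiv.orderOf_eq]

/-- an element whose order does not divide `|K|` has no conjugate in `K` -/
theorem no_conj_of_not_dvd {G : Type*} [Group G] (K : Subgroup G) (t : G)
    (h : ¬ orderOf t ∣ Nat.card ↥K) : ∀ g : G, g⁻¹ * t * g ∉ K := by
  intro g hg
  apply h
  rw [← orderOf_conj' g t]
  exact Subgroup.orderOf_dvd_natCard K hg

/-- **Sylow**: if `p² ∤ |G|` then any two elements of order `p` are conjugate up to a power. -/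
theorem exists_conj_pow {G : Type*} [Group G] [Finite G] {p : ℕ} [hp : Fact p.Prime]
    (h2 : ¬ p ^ 2 ∣ Nat.card G) {x y : G} (hx : orderOf x = p) (hy : orderOf y = p) :
    ∃ (g : G) (i : ℕ), y = g * x ^ i * g⁻¹ := by
  have key : ∀ z : G, orderOf z = p → ∃ Q : Sylow p G, (Q : Subgroup G) = Subgroup.zpowers z := by
    intro z hz
    have hcard : Nat.card ↥(Subgroup.zpowers z) = p := by rw [Nat.card_zpowers, hz]
    have hpg : IsPGroup p ↥(Subgroup.zpowers z) := IsPGroup.of_card (n := 1) (by rw [hcard, pow_one])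
    obtain ⟨Q, hQ⟩ := hpg.exists_le_sylow
    refine ⟨Q, ?_⟩
    have hQc := Q.card_eq_multiplicity
    have hk : (Nat.card G).factorization p ≤ 1 := by
      by_contra hlt
      rw [not_le] at hlt
      apply h2
      exact (pow_dvd_pow p hlt).trans (Nat.ordProj_dvd (Nat.card G) p)
    have hQle : Nat.card ↥(Q : Subgroup G) ≤ p := by
      rw [hQc]
      calc p ^ (Nat.card G).factorization p ≤ p ^ 1 := Nat.pow_le_pow_right hp.out.pos hk
        _ = p := pow_one p
    symm
    apply Subgroup.eq_of_le_of_card_ge hQ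
    rw [hcard]
    exact hQle
  obtain ⟨Qx, hQx⟩ := key x hx
  obtain ⟨Qy, hQy⟩ := key y hy
  obtain ⟨g, hg⟩ := MulAction.exists_smul_eq G Qx Qy
  have hy' : y ∈ (Qy : Subgroup G) := by rw [hQy]; exact Subgroup.mem_zpowers y
  rw [← hg, Sylow.coe_subgroup_smul, Subgroup.mem_smul_pointwise_iff_exists] at hy'
  obtain ⟨s, hs, hsy⟩ := hy'
  rw [hQx, ← mem_powers_iff_mem_zpowers] at hs
  obtain ⟨i, rfl⟩ := hs
  refine ⟨g, i, ?_⟩
  rw [← hsy, MulAut.smul_def, MulAut.conj_apply]

/-- the support of a power of an element of order three that is not trivial -/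
theorem support_pow_of_order_three (x : Perm (Fin 6)) (hx : orderOf x = 3) (i : ℕ)
    (hi : x ^ i ≠ 1) : (x ^ i).support = x.support := by
  have h3 : x ^ 3 = 1 := by rw [← hx]; exact pow_orderOf_eq_one x
  have hmod : x ^ i = x ^ (i % 3) := by
    rw [← hx]; exact (pow_mod_orderOf x i).symm
  have hlt : i % 3 < 3 := Nat.mod_lt _ (by norm_num)
  interval_cases hr : i % 3
  · exfalso; apply hi; rw [hmod, pow_zero]
  · rw [hmod, pow_one]
  · have : x ^ 2 = x⁻¹ := by
      rw [eq_inv_iff_mul_eq_one, ← pow_succ]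
      exact h3
    rw [hmod, this, Perm.support_inv]

/-- the case `r = 3` -/
theorem case3 (K : Subgroup A6) (h3 : 3 ∣ K.index) :
    ∃ t : A6, orderOf t = 3 ∧ ∀ g, g⁻¹ * t * g ∉ K := by
  have : Fact (Nat.Prime 3) := ⟨by norm_num⟩
  have hic : K.index * Nat.card ↥K = 360 := by rw [Subgroup.index_mul_card, card_A6]
  have h9 : ¬ 3 ^ 2 ∣ Nat.card ↥K := by
    intro h9
    obtain ⟨a, ha⟩ := h3
    obtain ⟨c, hc⟩ := h9
    rw [ha, hc] at hic
    have h27 : (27 : ℕ) ∣ 360 := Dvd.intro (a * c) (by rw [← hic]; ring)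
    exact absurd h27 (by decide)
  let t1 : A6 := ⟨p3, p3_mem⟩
  let t2 : A6 := ⟨p33, p33_mem⟩
  have ho1 : orderOf t1 = 3 := by
    rw [← order_p3]; exact Subgroup.orderOf_mk p3 p3_mem
  have ho2 : orderOf t2 = 3 := by
    rw [← order_p33]; exact Subgroup.orderOf_mk p33 p33_mem
  by_contra hcon
  have hc1 : ∃ g, g⁻¹ * t1 * g ∈ K := by
    by_contra h
    exact hcon ⟨t1, ho1, fun g hg => h ⟨g, hg⟩⟩
  have hc2 : ∃ g, g⁻¹ * t2 * g ∈ K := by
    by_contra h
    exact hcon ⟨t2, ho2, fun g hg => h ⟨g, hg⟩⟩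
  obtain ⟨g1, hg1⟩ := hc1
  obtain ⟨g2, hg2⟩ := hc2
  let x : ↥K := ⟨g1⁻¹ * t1 * g1, hg1⟩
  let y : ↥K := ⟨g2⁻¹ * t2 * g2, hg2⟩
  have hox : orderOf x = 3 := by
    rw [Subgroup.orderOf_mk, orderOf_conj', ho1]
  have hoy : orderOf y = 3 := by
    rw [Subgroup.orderOf_mk, orderOf_conj', ho2]
  obtain ⟨k, i, hki⟩ := exists_conj_pow h9 hox hoy
  -- transfer to permutations of `Fin 6`
  have hperm : ((g2 : Perm (Fin 6)))⁻¹ * p33 * (g2 : Perm (Fin 6)) =
      ((k : A6) : Perm (Fin 6)) * (((g1 : Perm (Fin 6)))⁻¹ * p3 * (g1 : Perm (Fin 6))) ^ i *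
        ((k : A6) : Perm (Fin 6))⁻¹ := by
    have := congrArg (fun z : ↥K => ((z : A6) : Perm (Fin 6))) hki
    simpa [x, y, t1, t2] using this
  have hxi : (((g1 : Perm (Fin 6)))⁻¹ * p3 * (g1 : Perm (Fin 6))) ^ i ≠ 1 := by
    intro h1
    rw [h1, mul_one, mul_inv_cancel] at hperm
    have : p33 = 1 := by
      have h := congrArg (fun z => (g2 : Perm (Fin 6)) * z * ((g2 : Perm (Fin 6)))⁻¹) hperm
      simpa [mul_assoc] using h
    exact absurd this (by decide)
  have hsupp : (((g2 : Perm (Fin 6)))⁻¹ * p33 * (g2 : Perm (Fin 6))).support.card =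
      (((k : A6) : Perm (Fin 6)) * (((g1 : Perm (Fin 6)))⁻¹ * p3 * (g1 : Perm (Fin 6))) ^ i *
        ((k : A6) : Perm (Fin 6))⁻¹).support.card := by rw [hperm]
  have e1 : ((g2 : Perm (Fin 6)))⁻¹ * p33 * (g2 : Perm (Fin 6)) =
      ((g2 : Perm (Fin 6)))⁻¹ * p33 * (((g2 : Perm (Fin 6)))⁻¹)⁻¹ := by rw [inv_inv]
  have e2 : ((g1 : Perm (Fin 6)))⁻¹ * p3 * (g1 : Perm (Fin 6)) =
      ((g1 : Perm (Fin 6)))⁻¹ * p3 * (((g1 : Perm (Fin 6)))⁻¹)⁻¹ := by rw [inv_inv]
  have hoc : orderOf (((g1 : Perm (Fin 6)))⁻¹ * p3 * (g1 : Perm (Fin 6))) = 3 := by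
    rw [orderOf_conj', order_p3]
  rw [Perm.card_support_conj, support_pow_of_order_three _ hoc i hxi, e1, e2,
    Perm.card_support_conj, Perm.card_support_conj, supp_p3, supp_p33] at hsupp
  omega

/-- the case `r = 5` -/
theorem case5 (K : Subgroup A6) (h5 : 5 ∣ K.index) :
    ∃ t : A6, orderOf t = 5 ∧ ∀ g, g⁻¹ * t * g ∉ K := by
  have hic : K.index * Nat.card ↥K = 360 := by rw [Subgroup.index_mul_card, card_A6]
  have ho : orderOf (⟨p5, p5_mem⟩ : A6) = 5 := by
    rw [← order_p5]; exact Subgroup.orderOf_mk p5 p5_mem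
  refine ⟨⟨p5, p5_mem⟩, ho, no_conj_of_not_dvd K _ ?_⟩
  rw [ho]
  intro h
  obtain ⟨a, ha⟩ := h5
  obtain ⟨c, hc⟩ := h
  rw [ha, hc] at hic
  have h25 : (25 : ℕ) ∣ 360 := Dvd.intro (a * c) (by rw [← hic]; ring)
  exact absurd h25 (by decide)

/-- the case `r = 2` -/
theorem case2 (K : Subgroup A6) (hK : K ≠ ⊤) (h3 : ¬ 3 ∣ K.index) (h5 : ¬ 5 ∣ K.index) :
    ∃ t : A6, orderOf t = 2 ∧ ∀ g, g⁻¹ * t * g ∉ K := by
  have hic : K.index * Nat.card ↥K = 360 := by rw [Subgroup.index_mul_card, card_A6]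
  have hdiv : ∀ d ∈ Nat.divisors 360, ¬ 3 ∣ d → ¬ 5 ∣ d → d = 1 ∨ d = 2 ∨ d = 4 ∨ d = 8 := by
    decide
  have hmem : K.index ∈ Nat.divisors 360 :=
    Nat.mem_divisors.2 ⟨Dvd.intro _ hic, by norm_num⟩
  have hsimple : IsSimpleGroup A6 := alternatingGroup.isSimpleGroup (by simp)
  have hcore : K.normalCore = ⊥ := by
    rcases (K.normalCore_normal).eq_bot_or_eq_top with h | h
    · exact h
    · exfalso; apply hK
      rw [eq_top_iff, ← h]
      exact K.normalCore_le
  have hfact : 360 ∣ (K.index).factorial := by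
    have h : K.normalCore.index ∣ (K.index).factorial := by
      rw [Subgroup.normalCore_eq_ker, Subgroup.index_ker, Subgroup.index_eq_card, ← Nat.card_perm]
      exact Subgroup.card_subgroup_dvd_card (MulAction.toPermHom A6 (A6 ⧸ K)).range
    rwa [hcore, Subgroup.index_bot, card_A6] at h
  have h8 : K.index = 8 := by
    rcases hdiv _ hmem h3 h5 with h | h | h | h
    · exfalso; rw [h] at hfact; revert hfact; decide
    · exfalso; rw [h] at hfact; revert hfact; decide
    · exfalso; rw [h] at hfact; revert hfact; decide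
    · exact h
  have ho : orderOf (⟨p22, p22_mem⟩ : A6) = 2 := by
    rw [← order_p22]; exact Subgroup.orderOf_mk p22 p22_mem
  refine ⟨⟨p22, p22_mem⟩, ho, no_conj_of_not_dvd K _ ?_⟩
  rw [ho]
  intro h
  obtain ⟨c, hc⟩ := h
  rw [h8, hc] at hic
  omega

/-- **(M6C)** the core inside `A_6`. -/
theorem m6core : Cfsg.Agent.Lib.H9.S3571.M6CoreStmt := by
  intro K r hK hr hrd hmax
  have hic : K.index * Nat.card ↥K = 360 := by rw [Subgroup.index_mul_card, card_A6]
  have hr360 : r ∣ 360 := hrd.trans (Dvd.intro _ hic)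
  have hr235 : r = 2 ∨ r = 3 ∨ r = 5 := by
    have h360 : (360 : ℕ) = 2 ^ 3 * 3 ^ 2 * 5 := by norm_num
    rw [h360] at hr360
    rcases (Nat.Prime.dvd_mul hr).1 hr360 with h | h
    · rcases (Nat.Prime.dvd_mul hr).1 h with h | h
      · left; exact (Nat.prime_dvd_prime_iff_eq hr (by norm_num)).1 (hr.dvd_of_dvd_pow h)
      · right; left; exact (Nat.prime_dvd_prime_iff_eq hr (by norm_num)).1 (hr.dvd_of_dvd_pow h)
    · right; right; exact (Nat.prime_dvd_prime_iff_eq hr (by norm_num)).1 h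
  rcases hr235 with rfl | rfl | rfl
  · refine case2 K hK ?_ ?_
    · intro h; have := hmax 3 (by norm_num) h; omega
    · intro h; have := hmax 5 (by norm_num) h; omega
  · exact case3 K hrd
  · exact case5 K hrd

end Cfsg.Agent.Lib.H5.S3571M6
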