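import Mathlib

/-!
# S3571, block NT (Sylvester-Schur), pieces SS4 + SS5 (helper5): the three-level upper bound

If every prime factor of `n.choose k` is at most `m` and `n < (t+1)^3`, then
`n.choose k ≤ n ^ t * 4 ^ (m + √n)`: the primes `≤ t` contribute at most `n` each, the primes
`> t` have exponent at most `2`, and those `> √n` exponent at most `1`.
For `2 * k ≤ n` no prime in `(n/3, k]` divides `n.choose k`.
-/

set_option autoImplicit false

namespace Cfsg.Agent.Lib.H5.S3571SS

open Nat

/-- the product of the primes `≤ m` in a set of primes is at most `4 ^ m` -/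
theorem prod_ite_le_four_pow (P : Finset ℕ) (hP : ∀ p ∈ P, p.Prime) (m : ℕ) :
    ∏ p ∈ P, (if p ≤ m then p else 1) ≤ 4 ^ m := by
  refine le_trans ?_ (primorial_le_four_pow m)
  rw [← Finset.prod_filter]
  unfold primorial
  refine Finset.prod_le_prod_of_subset_of_one_le' ?_ ?_
  · intro p hp
    obtain ⟨h1, h2⟩ := Finset.mem_filter.1 hp
    exact Finset.mem_filter.2 ⟨Finset.mem_range.2 (Nat.lt_succ_of_le h2), hP p h1⟩
  · intro p hp _
    exact (Finset.mem_filter.1 hp).2.one_lt.le

/-- SS4/SS5 in one: the three-level bound. -/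
theorem choose_le_three_level (n k m t : ℕ) (hn : 0 < n)
    (hm : ∀ p, p.Prime → p ∣ n.choose k → p ≤ m) (ht : n < (t + 1) ^ 3) :
    n.choose k ≤ n ^ t * 4 ^ (m + Nat.sqrt n) := by
  rcases Nat.lt_or_ge n k with hkn | hkn
  · rw [Nat.choose_eq_zero_of_lt hkn]
    exact Nat.zero_le _
  let P := {p ∈ Finset.range (n + 1) | Nat.Prime p}
  let f : ℕ → ℕ := fun x => x ^ (n.choose k).factorization x
  have hPf : ∏ x ∈ P, f x = ∏ x ∈ Finset.range (n + 1), f x := by
    refine Finset.prod_filter_of_ne fun p _ h => ?_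
    contrapose h; dsimp only [f]
    rw [factorization_eq_zero_of_not_prime (n.choose k) h, _root_.pow_zero]
  have hprime : ∀ p ∈ P, p.Prime := fun p hp => (Finset.mem_filter.1 hp).2
  rw [← Nat.prod_pow_factorization_choose n k hkn]
  change ∏ x ∈ Finset.range (n + 1), f x ≤ _
  rw [← hPf, ← Finset.prod_filter_mul_prod_filter_not P (· ≤ t), pow_add]
  apply mul_le_mul'
  · refine (Finset.prod_le_prod' fun p _ => (?_ : f p ≤ n)).trans ?_
    · exact pow_factorization_choose_le hn
    have : (Finset.Icc 1 t).card = t := by rw [card_Icc, Nat.add_sub_cancel]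
    rw [Finset.prod_const]
    refine pow_right_mono₀ hn ((Finset.card_le_card fun x hx => ?_).trans this.le)
    obtain ⟨h1, h2⟩ := Finset.mem_filter.1 hx
    exact Finset.mem_Icc.mpr ⟨(hprime x h1).one_lt.le, h2⟩
  · have hQ : ∀ p ∈ P.filter (fun p => ¬ p ≤ t), p.Prime :=
      fun p hp => hprime p (Finset.mem_filter.1 hp).1
    refine le_trans ?_ (mul_le_mul' (prod_ite_le_four_pow _ hQ m)
      (prod_ite_le_four_pow _ hQ (Nat.sqrt n)))
    rw [← Finset.prod_mul_distrib]
    refine Finset.prod_le_prod' fun p hp => ?_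
    obtain ⟨h1, h2⟩ := Finset.mem_filter.1 hp
    have hpp : p.Prime := hprime p h1
    have hp1 : 1 ≤ p := hpp.one_lt.le
    rw [not_le] at h2
    show p ^ (n.choose k).factorization p ≤ _
    by_cases hpm : p ≤ m
    · rw [if_pos hpm]
      by_cases hps : p ≤ Nat.sqrt n
      · rw [if_pos hps]
        have h3 : (n.choose k).factorization p ≤ 2 := by
          have hlog : Nat.log p n < 3 := by
            apply Nat.log_lt_of_lt_pow hn.ne'
            calc n < (t + 1) ^ 3 := ht
              _ ≤ p ^ 3 := Nat.pow_le_pow_left h2 3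
          have := Nat.factorization_choose_le_log (p := p) (n := n) (k := k)
          omega
        calc p ^ (n.choose k).factorization p ≤ p ^ 2 := pow_right_mono₀ hp1 h3
          _ = p * p := by ring
      · rw [if_neg hps, mul_one]
        have h1' : (n.choose k).factorization p ≤ 1 :=
          Nat.factorization_choose_le_one (sqrt_lt'.mp <| not_le.1 hps)
        exact (pow_right_mono₀ hp1 h1').trans (pow_one p).le
    · have hnd : ¬ p ∣ n.choose k := fun hd => hpm (hm p hpp hd)
      rw [Nat.factorization_eq_zero_of_not_dvd hnd, _root_.pow_zero]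
      exact Nat.one_le_iff_ne_zero.2 (by split_ifs <;> positivity)

/-- for `2 * k ≤ n` no prime in `(n/3, k]` divides `n.choose k` -/
theorem prime_dvd_choose_le_third (n k p : ℕ) (h2k : 2 * k ≤ n) (h6 : 6 ≤ n) (hp : p.Prime)
    (hpk : p ≤ k) (hd : p ∣ n.choose k) : p ≤ n / 3 := by
  by_contra hlt
  rw [not_le, Nat.div_lt_iff_lt_mul three_pos, mul_comm] at hlt
  have hp2 : p ≠ 2 := by
    rintro rfl
    omega
  have h0 := Nat.factorization_choose_of_lt_three_mul (n := n) (k := k) hp2 hpk (by omega) hlt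
  have hpos : 0 < n.choose k := Nat.choose_pos (by omega)
  have := (hp.dvd_iff_one_le_factorization hpos.ne').1 hd
  omega

/-- SS5: the bound with `n / 3` in the exponent. -/
theorem choose_le_third (n k t : ℕ) (h2k : 2 * k ≤ n) (h6 : 6 ≤ n)
    (hall : ∀ p, p.Prime → p ∣ n.choose k → p ≤ k) (ht : n < (t + 1) ^ 3) :
    n.choose k ≤ n ^ t * 4 ^ (n / 3 + Nat.sqrt n) :=
  choose_le_three_level n k (n / 3) t (by omega)
    (fun p hp hd => prime_dvd_choose_le_third n k p h2k h6 hp (hall p hp hd) hd) ht

/-- SS4: the bound with `k` in the exponent. -/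
theorem choose_le_level (n k t : ℕ) (hn : 0 < n)
    (hall : ∀ p, p.Prime → p ∣ n.choose k → p ≤ k) (ht : n < (t + 1) ^ 3) :
    n.choose k ≤ n ^ t * 4 ^ (k + Nat.sqrt n) :=
  choose_le_three_level n k k t hn hall ht

end Cfsg.Agent.Lib.H5.S3571SS
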