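import Mathlib

/-!
# S3776, the residual endgame R2+R3 in one brick (helper5; board #9800 / #9811)

`G` a finite 2-group, `V` = all `x` with `x² = 1` (central), `E` acting, transitive on `V ∖ 1`
(at least two non-identity elements), `K` abelian with `V ≤ K`, `k² ∈ V`, `[K,G] ≤ V`, squaring
`K → V` onto, `J = C_G(K)` (`E`-invariant), and (LEMMA E after R1) `C_K(g) ≤ V` for every `g ∉ J`.
Then every `x ∈ G` has `x² ∈ V`.  No idempotents, no coprime action: `|G : J| ≠ 2` by counting.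
-/

set_option autoImplicit false

namespace Cfsg.Agent.Lib.H5.S3776R23

universe u

variable {G : Type u} [Group G]

/-- FACT: an element of `J = C_G(K)` whose square lies in `V` lies in `K`. -/
theorem fact (V K J : Subgroup G)
    (hVmem : ∀ x : G, x ∈ V ↔ x ^ 2 = 1) (hVK : V ≤ K)
    (hsurj : ∀ v ∈ V, ∃ k ∈ K, k ^ 2 = v)
    (hJ : ∀ x : G, x ∈ J ↔ ∀ k ∈ K, x * k = k * x)
    (x : G) (hx : x ∈ J) (hx2 : x ^ 2 ∈ V) : x ∈ K := by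
  obtain ⟨z, hzK, hz⟩ := hsurj _ hx2
  have hc : x * z = z * x := (hJ x).mp hx z hzK
  have hc' : x * z⁻¹ = z⁻¹ * x := by
    have : z⁻¹ * (x * z) * z⁻¹ = z⁻¹ * (z * x) * z⁻¹ := by rw [hc]
    simpa [mul_assoc] using this.symm
  have h1 : (x * z⁻¹) ^ 2 = 1 := by
    have : (x * z⁻¹) ^ 2 = x ^ 2 * (z ^ 2)⁻¹ := by
      rw [pow_two, pow_two, pow_two]
      calc x * z⁻¹ * (x * z⁻¹) = x * (z⁻¹ * x) * z⁻¹ := by group
        _ = x * (x * z⁻¹) * z⁻¹ := by rw [hc']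
        _ = x * x * (z * z)⁻¹ := by group
    rw [this, hz, mul_inv_cancel]
  have h2 : x * z⁻¹ ∈ K := hVK ((hVmem _).mpr h1)
  have : x = x * z⁻¹ * z := by group
  rw [this]
  exact K.mul_mem h2 hzK

/-- for `g ∉ J`, an element of `J` commuting with `g` and of 2-power order has square `1`. -/
theorem sq_one_of_comm (V K J : Subgroup G)
    (hVmem : ∀ x : G, x ∈ V ↔ x ^ 2 = 1) (hVK : V ≤ K)
    (hsurj : ∀ v ∈ V, ∃ k ∈ K, k ^ 2 = v)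
    (hJ : ∀ x : G, x ∈ J ↔ ∀ k ∈ K, x * k = k * x)
    (g : G) (hg : g ∉ J)
    (hinj : ∀ k ∈ K, k * g = g * k → k ∈ V) :
    ∀ m : ℕ, ∀ y : G, y ∈ J → y * g = g * y → y ^ (2 ^ m) = 1 → y ^ 2 = 1 := by
  have four : ∀ z : G, z ∈ J → z * g = g * z → (z ^ 2) ^ 2 = 1 → z ^ 2 = 1 := by
    intro z hzJ hzg hz4
    have hzK : z ∈ K := fact V K J hVmem hVK hsurj hJ z hzJ ((hVmem _).mpr hz4)
    exact (hVmem z).mp (hinj z hzK hzg)
  intro m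
  induction m using Nat.strong_induction_on with
  | _ m ih =>
    intro y hyJ hyg hy
    match m, ih, hy with
    | 0, _, hy => simp at hy; simp [hy]
    | 1, _, hy => simpa using hy
    | (m + 2), ih, hy =>
      have hz : (y ^ (2 ^ m)) ^ 2 = 1 := by
        apply four (y ^ (2 ^ m)) (J.pow_mem hyJ _)
        · exact ((Commute.pow_left (show Commute y g from hyg) _)).eq
        · rw [← pow_mul, ← pow_mul]
          have : 2 ^ m * (2 * 2) = 2 ^ (m + 2) := by ring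
          rw [this]; exact hy
      refine ih (m + 1) (by omega) y hyJ hyg ?_
      rw [pow_succ, pow_mul]; exact hz

/-- `g² ∈ J = C_G(K)` when `[K,G] ≤ V` and `V` is central of exponent 2 -/
theorem sq_mem_J (V K J : Subgroup G)
    (hVmem : ∀ x : G, x ∈ V ↔ x ^ 2 = 1)
    (hVc : ∀ v ∈ V, ∀ g : G, g * v = v * g)
    (hJ : ∀ x : G, x ∈ J ↔ ∀ k ∈ K, x * k = k * x)
    (hKG : ∀ k ∈ K, ∀ g : G, g * k * g⁻¹ * k⁻¹ ∈ V) (g : G) : g ^ 2 ∈ J := by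
  rw [hJ]
  intro k hk
  have hv := hKG k hk g
  set v := g * k * g⁻¹ * k⁻¹ with hvdef
  have hgk : g * k = v * k * g := by rw [hvdef]; group
  have hvv : v * v = 1 := by have := (hVmem v).mp hv; rwa [pow_two] at this
  have hgv : g * v = v * g := hVc v hv g
  calc g ^ 2 * k = g * (g * k) := by rw [pow_two]; group
    _ = g * (v * k * g) := by rw [hgk]
    _ = (g * v) * k * g := by group
    _ = v * (g * k) * g := by rw [hgv]; group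
    _ = v * (v * k * g) * g := by rw [hgk]
    _ = (v * v) * k * g ^ 2 := by rw [pow_two]; group
    _ = k * g ^ 2 := by rw [hvv, one_mul]

/-- every `g ∉ J` has `g² ∈ V` -/
theorem sq_mem_V (hG : IsPGroup 2 G) (V K J : Subgroup G)
    (hVmem : ∀ x : G, x ∈ V ↔ x ^ 2 = 1) (hVK : V ≤ K)
    (hVc : ∀ v ∈ V, ∀ g : G, g * v = v * g)
    (hsurj : ∀ v ∈ V, ∃ k ∈ K, k ^ 2 = v)
    (hJ : ∀ x : G, x ∈ J ↔ ∀ k ∈ K, x * k = k * x)
    (hKG : ∀ k ∈ K, ∀ g : G, g * k * g⁻¹ * k⁻¹ ∈ V)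
    (hinj : ∀ g : G, g ∉ J → ∀ k ∈ K, k * g = g * k → k ∈ V)
    (g : G) (hg : g ∉ J) : g ^ 2 ∈ V := by
  rw [hVmem]
  obtain ⟨m, hm⟩ := hG (g ^ 2)
  refine sq_one_of_comm V K J hVmem hVK hsurj hJ g hg (hinj g hg) m (g ^ 2)
    (sq_mem_J V K J hVmem hVc hJ hKG g) ?_ hm
  rw [pow_two]; group

/-- `g ∉ J` inverts `J` modulo `V` -/
theorem inverts (V J : Subgroup G)
    (hVc : ∀ v ∈ V, ∀ g : G, g * v = v * g)
    (hsq : ∀ g : G, g ∉ J → g ^ 2 ∈ V)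
    (g : G) (hg : g ∉ J) (j : G) (hj : j ∈ J) : g * j * g⁻¹ * j ∈ V := by
  have hgj : g * j ∉ J := by
    intro h
    apply hg
    have : g = g * j * j⁻¹ := by group
    rw [this]; exact J.mul_mem h (J.inv_mem hj)
  have ha := hsq g hg
  have hb := hsq (g * j) hgj
  have hc : j⁻¹ * (g ^ 2)⁻¹ * j = (g ^ 2)⁻¹ := by
    have := hVc _ (V.inv_mem ha) j
    calc j⁻¹ * (g ^ 2)⁻¹ * j = j⁻¹ * ((g ^ 2)⁻¹ * j) := by group
      _ = j⁻¹ * (j * (g ^ 2)⁻¹) := by rw [this]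
      _ = (g ^ 2)⁻¹ := by group
  have : g * j * g⁻¹ * j = (g * j) ^ 2 * (j⁻¹ * (g ^ 2)⁻¹ * j) := by
    rw [pow_two, pow_two]; group
  rw [this, hc]
  exact V.mul_mem hb (V.inv_mem ha)

/-- if `g, h, g h ∉ J` then `J/V` has exponent 2 -/
theorem sq_mem_of_three (V J : Subgroup G)
    (hVc : ∀ v ∈ V, ∀ g : G, g * v = v * g)
    (hsq : ∀ g : G, g ∉ J → g ^ 2 ∈ V)
    (g h : G) (hg : g ∉ J) (hh : h ∉ J) (hgh : g * h ∉ J) (j : G) (hj : j ∈ J) : j ^ 2 ∈ V := by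
  have h1 := inverts V J hVc hsq h hh j hj
  have h2 := inverts V J hVc hsq g hg j⁻¹ (J.inv_mem hj)
  have h3 := inverts V J hVc hsq (g * h) hgh j hj
  set c1 := h * j * h⁻¹ * j with hc1
  set c2 := g * j⁻¹ * g⁻¹ * j⁻¹ with hc2
  set c3 := g * h * j * (g * h)⁻¹ * j with hc3
  have e1 : h * j * h⁻¹ = c1 * j⁻¹ := by rw [hc1]; group
  have e2 : g * j⁻¹ * g⁻¹ = c2 * j := by rw [hc2]; group
  have e3 : g * h * j * (g * h)⁻¹ = c3 * j⁻¹ := by rw [hc3]; group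
  have hgc : g * c1 = c1 * g := hVc c1 h1 g
  have key : c3 * j⁻¹ = c1 * c2 * j := by
    calc c3 * j⁻¹ = g * h * j * (g * h)⁻¹ := e3.symm
      _ = g * (h * j * h⁻¹) * g⁻¹ := by group
      _ = g * (c1 * j⁻¹) * g⁻¹ := by rw [e1]
      _ = (g * c1) * j⁻¹ * g⁻¹ := by group
      _ = c1 * (g * j⁻¹ * g⁻¹) := by rw [hgc]; group
      _ = c1 * (c2 * j) := by rw [e2]
      _ = c1 * c2 * j := by group
  have : j ^ 2 = (c1 * c2)⁻¹ * c3 := by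
    calc j ^ 2 = (c1 * c2)⁻¹ * (c1 * c2 * j) * j := by rw [pow_two]; group
      _ = (c1 * c2)⁻¹ * (c3 * j⁻¹) * j := by rw [key]
      _ = (c1 * c2)⁻¹ * c3 := by group
  rw [this]
  exact V.mul_mem (V.inv_mem (V.mul_mem h1 h2)) h3

/-- `|G : J| ≠ 2`: by counting (`|V| - 1` would divide the 2-power `|J|`) -/
theorem exists_three [Finite G] {E : Type*} [Group E] (φ : E →* MulAut G) (hG : IsPGroup 2 G)
    (V J : Subgroup G)
    (hVmem : ∀ x : G, x ∈ V ↔ x ^ 2 = 1) (hVJ : V ≤ J)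
    (hthree : ∃ v w : G, v ∈ V ∧ w ∈ V ∧ v ≠ w ∧ v ≠ 1 ∧ w ≠ 1)
    (htr : ∀ v w : G, v ∈ V → w ∈ V → v ≠ 1 → w ≠ 1 → ∃ e : E, φ e v = w)
    (hJE : ∀ e : E, ∀ x ∈ J, φ e x ∈ J)
    (hsq : ∀ g : G, g ∉ J → g ^ 2 ∈ V) (hJG : ∃ g : G, g ∉ J) :
    ∃ g h : G, g ∉ J ∧ h ∉ J ∧ g * h ∉ J := by
  classical
  by_contra H
  push_neg at H
  obtain ⟨g0, hg0⟩ := hJG
  have hg0' : g0⁻¹ ∉ J := fun h => hg0 (by simpa using J.inv_mem h)
  -- the complement of `J` is a single coset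
  have eX : ↥J ≃ {x : G // x ∉ J} :=
    { toFun := fun j => ⟨g0 * j, fun h => hg0 (by
        have := J.mul_mem h (J.inv_mem j.2); simpa using this)⟩
      invFun := fun x => ⟨g0⁻¹ * x, H g0⁻¹ x hg0' x.2⟩
      left_inv := fun j => by ext; simp
      right_inv := fun x => by ext; simp }
  have hXinv : ∀ e : E, ∀ x : G, x ∉ J → φ e x ∉ J := by
    intro e x hx h
    apply hx
    have := hJE e⁻¹ _ h
    rwa [map_inv, MulAut.inv_apply_self] at this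
  let W' : Set G := {v | v ∈ V ∧ v ≠ 1}
  let s : {x : G // x ∉ J} → ↥W' := fun x =>
    ⟨x.1 ^ 2, hsq x.1 x.2, fun h => x.2 (hVJ ((hVmem x.1).mpr h))⟩
  have hfib : ∀ y y' : ↥W', Nat.card {x : {x : G // x ∉ J} // s x = y} ≤
      Nat.card {x : {x : G // x ∉ J} // s x = y'} := by
    intro y y'
    obtain ⟨e, he⟩ := htr y.1 y'.1 y.2.1 y'.2.1 y.2.2 y'.2.2
    refine Nat.card_le_card_of_injective
      (fun x => ⟨⟨φ e x.1.1, hXinv e x.1.1 x.1.2⟩, Subtype.ext (by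
        show (φ e x.1.1) ^ 2 = y'.1
        have h1 : x.1.1 ^ 2 = y.1 := congrArg Subtype.val x.2
        rw [← map_pow, h1]; exact he)⟩) ?_
    intro a b h
    apply Subtype.ext; apply Subtype.ext
    have h1 : φ e a.1.1 = φ e b.1.1 := congrArg (fun z => z.1.1) h
    exact (φ e).injective h1
  haveI : Fintype ↥W' := Fintype.ofFinite _
  obtain ⟨v, w, hv, hw, hvw, hv1, hw1⟩ := hthree
  let y0 : ↥W' := ⟨v, hv, hv1⟩
  have hcard : Nat.card {x : G // x ∉ J} =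
      Fintype.card ↥W' * Nat.card {x : {x : G // x ∉ J} // s x = y0} := by
    rw [← Nat.card_congr (Equiv.sigmaFiberEquiv s), Nat.card_sigma]
    rw [Finset.sum_congr rfl (fun y _ => le_antisymm (hfib y y0) (hfib y0 y))]
    simp [Finset.sum_const]
  have hJcard : Nat.card {x : G // x ∉ J} = Nat.card ↥J := (Nat.card_congr eX).symm
  obtain ⟨a, ha⟩ := (hG.to_subgroup J).exists_card_eq
  obtain ⟨b, hb⟩ := (hG.to_subgroup V).exists_card_eq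
  -- `|V| = |W'| + 1`
  have hVW : Nat.card ↥V = Fintype.card ↥W' + 1 := by
    have h1 : W' = (V : Set G) \ {1} := by
      ext x; simp [W']
    have h2 := Set.ncard_diff_singleton_add_one (s := (V : Set G)) (a := 1) V.one_mem
    rw [← h1] at h2
    rw [← Nat.card_eq_fintype_card, Nat.card_coe_set_eq]
    exact h2.symm
  have hW2 : 2 ≤ Fintype.card ↥W' := by
    have : (⟨v, hv, hv1⟩ : ↥W') ≠ ⟨w, hw, hw1⟩ := fun h => hvw (congrArg Subtype.val h)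
    exact Fintype.one_lt_card_iff.mpr ⟨_, _, this⟩
  have hdvd : Fintype.card ↥W' ∣ 2 ^ a := by
    rw [← ha, ← hJcard, hcard]; exact dvd_mul_right _ _
  obtain ⟨c, _, hc⟩ := (Nat.dvd_prime_pow Nat.prime_two).mp hdvd
  rw [hc] at hVW hW2
  rw [hb] at hVW
  have hc0 : c ≠ 0 := by
    rintro rfl; simp at hW2
  have hb0 : b ≠ 0 := by
    rintro rfl
    have : 2 ^ c = 0 := by simpa using hVW.symm
    exact absurd this (by positivity)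
  have h2c : 2 ∣ 2 ^ c := dvd_pow_self 2 hc0
  have h2b : 2 ∣ 2 ^ b := dvd_pow_self 2 hb0
  rw [hVW] at h2b
  have : 2 ∣ 1 := (Nat.dvd_add_right h2c).mp h2b
  omega

/-- all squares lie in `V` -/
theorem all_sq [Finite G] {E : Type*} [Group E] (φ : E →* MulAut G) (hG : IsPGroup 2 G)
    (V K J : Subgroup G)
    (hVmem : ∀ x : G, x ∈ V ↔ x ^ 2 = 1)
    (hVc : ∀ v ∈ V, ∀ g : G, g * v = v * g)
    (hVK : V ≤ K) (hKJ : K ≤ J)
    (hthree : ∃ v w : G, v ∈ V ∧ w ∈ V ∧ v ≠ w ∧ v ≠ 1 ∧ w ≠ 1)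
    (htr : ∀ v w : G, v ∈ V → w ∈ V → v ≠ 1 → w ≠ 1 → ∃ e : E, φ e v = w)
    (hsurj : ∀ v ∈ V, ∃ k ∈ K, k ^ 2 = v)
    (hJ : ∀ x : G, x ∈ J ↔ ∀ k ∈ K, x * k = k * x)
    (hJE : ∀ e : E, ∀ x ∈ J, φ e x ∈ J)
    (hKG : ∀ k ∈ K, ∀ g : G, g * k * g⁻¹ * k⁻¹ ∈ V)
    (hinj : ∀ g : G, g ∉ J → ∀ k ∈ K, k * g = g * k → k ∈ V)
    (hJG : ∃ g : G, g ∉ J) : ∀ x : G, x ^ 2 ∈ V := by
  have hsq : ∀ g : G, g ∉ J → g ^ 2 ∈ V :=
    sq_mem_V hG V K J hVmem hVK hVc hsurj hJ hKG hinj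
  obtain ⟨g, h, hg, hh, hgh⟩ :=
    exists_three φ hG V J hVmem (hVK.trans hKJ) hthree htr hJE hsq hJG
  intro x
  by_cases hx : x ∈ J
  · exact sq_mem_of_three V J hVc hsq g h hg hh hgh x hx
  · exact hsq x hx

/-- if all squares lie in the central subgroup `V` then all commutators do -/
theorem comm_mem_of_all_sq (V : Subgroup G)
    (hVc : ∀ v ∈ V, ∀ g : G, g * v = v * g)
    (hsq : ∀ x : G, x ^ 2 ∈ V) (x g : G) : x * g * x⁻¹ * g⁻¹ ∈ V := by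
  have h1 := hsq (x * g)
  have h2 := V.inv_mem (hsq x)
  have h3 := V.inv_mem (hsq g)
  have hc : g⁻¹ * (x ^ 2)⁻¹ * g = (x ^ 2)⁻¹ := by
    have := hVc _ h2 g
    calc g⁻¹ * (x ^ 2)⁻¹ * g = g⁻¹ * ((x ^ 2)⁻¹ * g) := by group
      _ = g⁻¹ * (g * (x ^ 2)⁻¹) := by rw [this]
      _ = (x ^ 2)⁻¹ := by group
  have : x * g * x⁻¹ * g⁻¹ = (x * g) ^ 2 * (g⁻¹ * (x ^ 2)⁻¹ * g) * (g ^ 2)⁻¹ := by
    rw [pow_two, pow_two, pow_two]; group
  rw [this, hc]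
  exact V.mul_mem (V.mul_mem h1 h2) h3

/-- the commutator `[k,g]` depends only on `k²` (`K` abelian, involutions central) -/
theorem comm_indep (V K : Subgroup G)
    (hVmem : ∀ x : G, x ∈ V ↔ x ^ 2 = 1)
    (hVc : ∀ v ∈ V, ∀ g : G, g * v = v * g)
    (hKab : ∀ a ∈ K, ∀ b ∈ K, a * b = b * a)
    (k k' : G) (hk : k ∈ K) (hk' : k' ∈ K) (h : k ^ 2 = k' ^ 2) (g : G) :
    k * g * k⁻¹ * g⁻¹ = k' * g * k'⁻¹ * g⁻¹ := by
  set z := k' * k⁻¹ with hz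
  have hcomm : k' * k⁻¹ = k⁻¹ * k' := hKab k' hk' k⁻¹ (K.inv_mem hk)
  have hz2 : z ^ 2 = 1 := by
    have : z ^ 2 = k' ^ 2 * (k ^ 2)⁻¹ := by
      rw [hz, pow_two, pow_two, pow_two]
      calc k' * k⁻¹ * (k' * k⁻¹) = k' * (k⁻¹ * k') * k⁻¹ := by group
        _ = k' * (k' * k⁻¹) * k⁻¹ := by rw [hcomm]
        _ = k' * k' * (k * k)⁻¹ := by group
    rw [this, h, mul_inv_cancel]
  have hzV : z ∈ V := (hVmem z).mpr hz2
  have hzc : ∀ x : G, x * z = z * x := hVc z hzV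
  have hk'z : k' = z * k := by rw [hz]; group
  have hzi : ∀ x : G, x * z⁻¹ = z⁻¹ * x := hVc _ (V.inv_mem hzV)
  rw [hk'z]
  calc k * g * k⁻¹ * g⁻¹ = z * z⁻¹ * (k * g * k⁻¹ * g⁻¹) := by group
    _ = z * (z⁻¹ * (k * g * k⁻¹)) * g⁻¹ := by group
    _ = z * ((k * g * k⁻¹) * z⁻¹) * g⁻¹ := by rw [hzi]
    _ = z * k * g * (z * k)⁻¹ * g⁻¹ := by group

theorem comm_mul_right (V : Subgroup G) (hVc : ∀ v ∈ V, ∀ g : G, g * v = v * g)
    (k g h : G) (hkh : k * h * k⁻¹ * h⁻¹ ∈ V) :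
    k * (g * h) * k⁻¹ * (g * h)⁻¹ = (k * g * k⁻¹ * g⁻¹) * (k * h * k⁻¹ * h⁻¹) := by
  set c := k * h * k⁻¹ * h⁻¹ with hc
  have hcg : g⁻¹ * c = c * g⁻¹ := hVc c hkh g⁻¹
  calc k * (g * h) * k⁻¹ * (g * h)⁻¹ = k * g * k⁻¹ * (k * h * k⁻¹ * h⁻¹) * g⁻¹ := by group
    _ = k * g * k⁻¹ * (c * g⁻¹) := by rw [← hc]; group
    _ = k * g * k⁻¹ * (g⁻¹ * c) := by rw [hcg]
    _ = k * g * k⁻¹ * g⁻¹ * c := by group

theorem comm_mul_left (V : Subgroup G) (hVc : ∀ v ∈ V, ∀ g : G, g * v = v * g)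
    (a b g : G) (hb : b * g * b⁻¹ * g⁻¹ ∈ V) :
    (a * b) * g * (a * b)⁻¹ * g⁻¹ = (a * g * a⁻¹ * g⁻¹) * (b * g * b⁻¹ * g⁻¹) := by
  set c := b * g * b⁻¹ * g⁻¹ with hc
  have hca : a * c = c * a := hVc c hb a
  have hcx : ∀ x : G, x * c = c * x := hVc c hb
  calc (a * b) * g * (a * b)⁻¹ * g⁻¹ = a * (b * g * b⁻¹ * g⁻¹) * g * a⁻¹ * g⁻¹ := by group
    _ = (a * c) * (g * a⁻¹ * g⁻¹) := by rw [← hc]; group
    _ = c * a * (g * a⁻¹ * g⁻¹) := by rw [hca]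
    _ = c * (a * g * a⁻¹ * g⁻¹) := by group
    _ = (a * g * a⁻¹ * g⁻¹) * c := (hcx _).symm

end Cfsg.Agent.Lib.H5.S3776R23
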