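import Mathlib
import Cfsg.Agent.Lib.H9.S3776Defs
import Cfsg.Agent.Lib.H5.S3776R23

/-!
# S3776: the residual configuration dies for a GENERAL `J = C_G(K)` (helper5)

`r23 : LemEMulStmt → Resid φ V K → JData φ K J → (G ⧸ J is E-irreducible) → False`
(so R2 of the cut is not needed), and `r3 : R3Stmt` as the special case `J = K`.
-/

set_option autoImplicit false

namespace Cfsg.Agent.Lib.H5.S3776R23W

open Cfsg.Agent.Lib.H9.S3776 Cfsg.Agent.Lib.H5.S3776R23

universe u

variable {G E : Type u} [Group G] [Group E] {φ : E →* MulAut G} {V K J : Subgroup G}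

/-- a chosen square root in `K` of `v ∈ V` -/
noncomputable def rt (hres : Resid φ V K) (v : ↥V) : G := Classical.choose (hres.sq v.1 v.2)

theorem rt_mem (hres : Resid φ V K) (v : ↥V) : rt hres v ∈ K :=
  (Classical.choose_spec (hres.sq v.1 v.2)).1

theorem rt_sq (hres : Resid φ V K) (v : ↥V) : rt hres v ^ 2 = v.1 :=
  (Classical.choose_spec (hres.sq v.1 v.2)).2

/-- `g ↦ [k_v, g]` as a homomorphism `G →* V` -/
noncomputable def psi (hres : Resid φ V K) (v : ↥V) : G →* ↥V where
  toFun g := ⟨rt hres v * g * (rt hres v)⁻¹ * g⁻¹, ((hres.kd.mem _).mp (rt_mem hres v)).2 g⟩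
  map_one' := by ext; simp
  map_mul' g h := by
    ext
    simp only [Subgroup.coe_mul]
    exact comm_mul_right V hres.fr.cen _ g h (((hres.kd.mem _).mp (rt_mem hres v)).2 h)

theorem psi_val (hres : Resid φ V K) (v : ↥V) (g : G) :
    (psi hres v g : G) = rt hres v * g * (rt hres v)⁻¹ * g⁻¹ := rfl

theorem psi_eq (hres : Resid φ V K) (v : ↥V) (k : G) (hk : k ∈ K) (hkv : k ^ 2 = v.1) (g : G) :
    (psi hres v g : G) = k * g * k⁻¹ * g⁻¹ := by
  rw [psi_val]
  exact comm_indep V K hres.fr.mem hres.fr.cen hres.ab _ k (rt_mem hres v) hk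
    ((rt_sq hres v).trans hkv.symm) g

theorem psi_ker (hres : Resid φ V K) (hJ : JData φ K J) (v : ↥V) : J ≤ (psi hres v).ker := by
  intro j hj
  rw [MonoidHom.mem_ker]
  ext
  rw [psi_val]
  have := (hJ.mem j).mp hj _ (rt_mem hres v)
  simp only [OneMemClass.coe_one]
  calc rt hres v * j * (rt hres v)⁻¹ * j⁻¹ = (rt hres v * j) * (rt hres v)⁻¹ * j⁻¹ := by group
    _ = (j * rt hres v) * (rt hres v)⁻¹ * j⁻¹ := by rw [this]
    _ = 1 := by group

/-- the pairing `b : G ⧸ J → V → V` -/
noncomputable def bmap [J.Normal] (hres : Resid φ V K) (hJ : JData φ K J) (t : G ⧸ J) (v : ↥V) : ↥V :=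
  QuotientGroup.lift J (psi hres v) (psi_ker hres hJ v) t

theorem bmap_mk [J.Normal] (hres : Resid φ V K) (hJ : JData φ K J) (g : G) (v : ↥V) :
    bmap hres hJ (QuotientGroup.mk g) v = psi hres v g := rfl

/-- the action of `E` on `G ⧸ J` -/
noncomputable def aT [J.Normal] (hJ : JData φ K J) (e : E) : G ⧸ J → G ⧸ J :=
  QuotientGroup.map J J (φ e).toMonoidHom (fun j hj => hJ.inv e j hj)

theorem aT_mk [J.Normal] (hJ : JData φ K J) (e : E) (g : G) :
    aT hJ e (QuotientGroup.mk g) = QuotientGroup.mk (φ e g) := rfl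

/-- the action of `E` on `V` -/
def aV (hres : Resid φ V K) (e : E) (v : ↥V) : ↥V := ⟨φ e v.1, hres.fr.inv e v.1 v.2⟩

/-- LEMMA E applied to `T = G ⧸ J`, `V`: a non-central (mod `J`) element centralises no element
of `K ∖ V`. -/
theorem leapp [Finite G] [Finite E] (hE : LemEMulStmt.{u}) (hres : Resid φ V K) (hJ : JData φ K J)
    (hirr : ∀ G1 : Subgroup G, J ≤ G1 → Inv φ G1 → G1 = J ∨ G1 = ⊤) :
    ∀ g : G, g ∉ J → ∀ k ∈ K, k * g = g * k → k ∈ V := by
  haveI : J.Normal := hJ.nor
  have hKG : ∀ k ∈ K, ∀ g : G, g * k * g⁻¹ * k⁻¹ ∈ V := by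
    intro k hk g
    have h1 := ((hres.kd.mem _).mp hk).2 g
    have : g * k * g⁻¹ * k⁻¹ = (k * g * k⁻¹ * g⁻¹)⁻¹ := by group
    rw [this]; exact V.inv_mem h1
  have key := hE E ↥V (G ⧸ J) (aV hres) (aT hJ) (bmap hres hJ) hres.hyp.solv
    (by
      intro v; ext
      have := (hres.fr.mem v.1).mp v.2
      simpa [pow_two] using this)
    (by
      intro t
      induction t using QuotientGroup.induction_on with
      | H g =>
        rw [← QuotientGroup.mk_mul, QuotientGroup.eq_one_iff, ← pow_two]
        exact sq_mem_J V K J hres.fr.mem hres.fr.cen hJ.mem hKG g)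
    (by intro e v w; ext; simp [aV])
    (by intro e f v; ext; simp [aV])
    (by intro v; ext; simp [aV])
    (by intro e t s; exact map_mul _ t s)
    (by
      intro e f t
      induction t using QuotientGroup.induction_on with
      | H g => simp [aT_mk])
    (by
      intro t
      induction t using QuotientGroup.induction_on with
      | H g => simp [aT_mk])
    (by
      obtain ⟨x, y, hx, hy, hxy, hx1, hy1⟩ := hres.fr.two
      exact ⟨⟨x, hx⟩, ⟨y, hy⟩, fun h => hx1 (congrArg Subtype.val h),
        fun h => hy1 (congrArg Subtype.val h), fun h => hxy (congrArg Subtype.val h)⟩)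
    (by
      intro v w hv hw
      obtain ⟨e, he⟩ := hres.fr.trans v.1 w.1 v.2 w.2 (fun h => hv (Subtype.ext h))
        (fun h => hw (Subtype.ext h))
      exact ⟨e, Subtype.ext he⟩)
    (by
      intro S hS
      rcases hirr (S.comap (QuotientGroup.mk' J)) (by
          intro j hj
          rw [Subgroup.mem_comap]
          have : (QuotientGroup.mk' J) j = 1 := (QuotientGroup.eq_one_iff j).mpr hj
          rw [this]; exact S.one_mem)
        (by
          intro e h hh
          rw [Subgroup.mem_comap] at hh ⊢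
          exact hS e _ hh) with h | h
      · left
        rw [eq_bot_iff]
        intro t ht
        induction t using QuotientGroup.induction_on with
        | H g =>
          have : g ∈ S.comap (QuotientGroup.mk' J) := ht
          rw [h] at this
          rw [Subgroup.mem_bot]
          exact (QuotientGroup.eq_one_iff g).mpr this
      · right
        rw [eq_top_iff]
        intro t _
        induction t using QuotientGroup.induction_on with
        | H g =>
          have : g ∈ S.comap (QuotientGroup.mk' J) := by rw [h]; exact Subgroup.mem_top g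
          exact this)
    (by intro t s v; exact map_mul _ t s)
    (by
      intro t v w
      induction t using QuotientGroup.induction_on with
      | H g =>
        rw [bmap_mk, bmap_mk, bmap_mk]
        ext
        have hkv := rt_mem hres v
        have hkw := rt_mem hres w
        rw [psi_eq hres (v * w) (rt hres v * rt hres w) (K.mul_mem hkv hkw) (by
          have hc := hres.ab _ hkv _ hkw
          rw [Subgroup.coe_mul, ← rt_sq hres v, ← rt_sq hres w, pow_two, pow_two, pow_two]
          calc rt hres v * rt hres w * (rt hres v * rt hres w)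
              = rt hres v * (rt hres w * rt hres v) * rt hres w := by group
            _ = rt hres v * (rt hres v * rt hres w) * rt hres w := by rw [hc]
            _ = rt hres v * rt hres v * (rt hres w * rt hres w) := by group) g]
        rw [Subgroup.coe_mul, psi_val, psi_val]
        exact comm_mul_left V hres.fr.cen _ _ g (((hres.kd.mem _).mp hkw).2 g))
    (by
      intro e t v
      induction t using QuotientGroup.induction_on with
      | H g =>
        rw [aT_mk, bmap_mk, bmap_mk]
        ext
        have hkv := rt_mem hres v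
        rw [psi_eq hres (aV hres e v) (φ e (rt hres v)) (hres.kd.inv e _ hkv) (by
          rw [← map_pow, rt_sq]; rfl) (φ e g)]
        show _ = φ e (psi hres v g : G)
        rw [psi_val]
        simp [map_mul, map_inv])
    (by
      have hne : ∃ g : G, g ∉ J := by
        by_contra h
        push_neg at h
        exact hJ.ne (eq_top_iff.mpr fun g _ => h g)
      obtain ⟨g, hg⟩ := hne
      have : ¬ ∀ k ∈ K, g * k = k * g := fun h => hg ((hJ.mem g).mpr h)
      push_neg at this
      obtain ⟨k, hk, hgk⟩ := this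
      have hk2 : k ^ 2 ∈ V := ((hres.kd.mem _).mp hk).1
      refine ⟨QuotientGroup.mk g, ⟨k ^ 2, hk2⟩, ?_⟩
      rw [bmap_mk]
      intro h
      have h1 : (psi hres ⟨k ^ 2, hk2⟩ g : G) = 1 := by rw [h]; rfl
      rw [psi_eq hres ⟨k ^ 2, hk2⟩ k hk rfl g] at h1
      apply hgk
      have : k * g = g * k := by
        calc k * g = (k * g * k⁻¹ * g⁻¹) * g * k := by group
          _ = g * k := by rw [h1]; group
      exact this.symm)
  intro g hg k hk hkg
  by_contra hkV
  have hk2 : k ^ 2 ∈ V := ((hres.kd.mem _).mp hk).1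
  have hk21 : k ^ 2 ≠ 1 := fun h => hkV ((hres.fr.mem k).mpr h)
  have := key (QuotientGroup.mk g) ⟨k ^ 2, hk2⟩
    (fun h => hg ((QuotientGroup.eq_one_iff g).mp h))
    (fun h => hk21 (congrArg Subtype.val h))
  apply this
  rw [bmap_mk]
  ext
  rw [psi_eq hres ⟨k ^ 2, hk2⟩ k hk rfl g, hkg]
  simp

/-- **R23**: the residual configuration is impossible, for a GENERAL `J = C_G(K)`. -/
theorem r23 [Finite G] [Finite E] (hE : LemEMulStmt.{u}) (hres : Resid φ V K) (hJ : JData φ K J)
    (hirr : ∀ G1 : Subgroup G, J ≤ G1 → Inv φ G1 → G1 = J ∨ G1 = ⊤) : False := by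
  have hinj := leapp hE hres hJ hirr
  have hKG : ∀ k ∈ K, ∀ g : G, g * k * g⁻¹ * k⁻¹ ∈ V := by
    intro k hk g
    have h1 := ((hres.kd.mem _).mp hk).2 g
    have : g * k * g⁻¹ * k⁻¹ = (k * g * k⁻¹ * g⁻¹)⁻¹ := by group
    rw [this]; exact V.inv_mem h1
  have hne : ∃ g : G, g ∉ J := by
    by_contra h
    push_neg at h
    exact hJ.ne (eq_top_iff.mpr fun g _ => h g)
  have hall := all_sq φ hres.hyp.pG V K J hres.fr.mem hres.fr.cen hres.kd.VK hJ.KJ hres.fr.two
    hres.fr.trans hres.sq hJ.mem hJ.inv hKG hinj hne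
  have hK : ∀ x : G, x ∈ K := fun x =>
    (hres.kd.mem x).mpr ⟨hall x, comm_mem_of_all_sq V hres.fr.cen hall x⟩
  obtain ⟨g, hg⟩ := hres.big
  exact hg (hK g)

/-- the statement of `r23` as a `Prop` -/
def R23Stmt : Prop :=
  ∀ (G E : Type u) [Group G] [Finite G] [Group E] [Finite E] (φ : E →* MulAut G) (V K J : Subgroup G),
    LemEMulStmt.{u} → Resid φ V K → JData φ K J →
    (∀ G1 : Subgroup G, J ≤ G1 → Inv φ G1 → G1 = J ∨ G1 = ⊤) → False

theorem r23' : R23Stmt.{u} := fun _ _ _ _ _ _ _ _ _ _ hE hres hJ hirr => r23 hE hres hJ hirr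

/-- (R3) of the cut, as the special case `J = K` -/
theorem r3 : R3Stmt.{u} := fun _ _ _ _ _ _ _ _ _ hE hres hJ hirr => r23 hE hres hJ hirr

example : R3Stmt.{0} := r3
example : R23Stmt.{0} := r23'

end Cfsg.Agent.Lib.H5.S3776R23W
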