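import Mathlib
import Cfsg.Agent.Lib.H9.S3776Defs
import Cfsg.Agent.Lib.H5.S3776R23W
import Cfsg.Agent.Lib.H7.S3776LemEM
import Cfsg.Agent.Lib.H12.S3776LemE
import Cfsg.Agent.Lib.H1.S3776R1

/-!
# S3776 piece (14) R2 in the exact cut shape, without idempotents (helper5)

The residual configuration is already contradictory for a general `J = C_G(K)` (`r23`), given
LEMMA E (landed: `lemem leme`) and R1 (landed); so `J = K` holds vacuously.
-/

set_option autoImplicit false

namespace Cfsg.Agent.Lib.H5.S3776R2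

open Cfsg.Agent.Lib.H9.S3776

universe u

theorem r2 : R2Stmt.{u} := fun G E _ _ _ _ φ V K J hres hJ =>
  (Cfsg.Agent.Lib.H5.S3776R23W.r23
    (Cfsg.Agent.H7.S3776LemEM.lemem.{u} Cfsg.Agent.Lib.H12.S3776LemE.leme.{u}) hres hJ
    (Cfsg.Agent.Lib.H1.S3776R1.r1.{u} G E φ V K J hres hJ)).elim

example : R2Stmt.{0} := r2

end Cfsg.Agent.Lib.H5.S3776R2
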