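import Cfsg.Agent.Lib.H5.S3777P1Defs
import Cfsg.Agent.Lib.H6.S3777Sub

/-!
# S3777, P1 step, piece (S4): the sub-pair `(K₀, A)`, `K₀ = A ⊔ zpowers y₀` (helper5)
-/

set_option autoImplicit false

namespace Cfsg.Agent.Lib.H5.S3777

open Cfsg.Agent.Lib.H6.S3777Sub

universe u

/-- `M ⊓ (A ⊔ zpowers y₀) = A` -/
theorem inf_sup_zpowers {G : Type u} [Group G] {p : ℕ} [hp : Fact p.Prime] (M A : Subgroup G)
    [A.Normal] (hAM : A ≤ M) (y0 : G) (hy0 : y0 ∉ M) (hpow : y0 ^ p ∈ A) :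
    M ⊓ (A ⊔ Subgroup.zpowers y0) = A := by
  apply le_antisymm
  · intro x hx
    obtain ⟨hxM, hxK⟩ := Subgroup.mem_inf.1 hx
    rw [← SetLike.mem_coe, Subgroup.normal_mul, Set.mem_mul] at hxK
    obtain ⟨a, ha, z, hz, rfl⟩ := hxK
    obtain ⟨i, rfl⟩ := Subgroup.mem_zpowers_iff.1 hz
    have hzM : y0 ^ i ∈ M := by
      have := M.mul_mem (M.inv_mem (hAM ha)) hxM
      simpa using this
    have hdvd : (p : ℤ) ∣ i := by
      by_contra hnd
      have hcop : IsCoprime i (p : ℤ) :=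
        ((Nat.prime_iff_prime_int.1 hp.out).coprime_iff_not_dvd.2 hnd).symm
      obtain ⟨u, v, huv⟩ := hcop
      apply hy0
      have h1 : y0 = (y0 ^ i) ^ u * (y0 ^ (p : ℤ)) ^ v := by
        rw [← zpow_mul, ← zpow_mul, ← zpow_add, mul_comm i u, mul_comm (p : ℤ) v, huv, zpow_one]
      rw [h1]
      apply M.mul_mem (M.zpow_mem hzM u)
      apply M.zpow_mem
      rw [zpow_natCast]
      exact hAM hpow
    obtain ⟨j, rfl⟩ := hdvd
    apply A.mul_mem ha
    rw [zpow_mul, zpow_natCast]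
    exact A.zpow_mem hpow j
  · exact le_inf hAM le_sup_left

/-- (S4) -/
theorem s4 : S4Stmt.{u} := by
  intro p _ G _ _ hG hIH M A lam Delta hM hAn hAM hlam hrel hpow hcent hidx hdel y0 hy0
  have hp : p.Prime := Fact.out
  set K0 : Subgroup G := A ⊔ Subgroup.zpowers y0 with hK0
  have hAK : A ≤ K0 := le_sup_left
  have hyK : y0 ∈ K0 := (le_sup_right : Subgroup.zpowers y0 ≤ K0) (Subgroup.mem_zpowers y0)
  have hinf : M ⊓ K0 = A := inf_sup_zpowers M A hAM y0 hy0 (hpow y0 hy0)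
  have hKM : ¬ K0 ≤ M := fun h => hy0 (h hyK)
  -- `|K₀ : A| = p`
  have hrelK : A.relIndex K0 = p := by
    have h1 := relIndex_eq_of_not_le hG M hM K0 hKM
    rw [← Subgroup.inf_relIndex_right, hinf] at h1
    exact h1
  -- `|G : A| = p ^ lam * p`
  have hAidx : A.index = p ^ lam * p := by
    rw [← Subgroup.relIndex_mul_index hAM, hrel, hM]
  -- `|G : K₀| = p ^ lam`
  have hKidx : K0.index = p ^ lam := by
    have h1 := Subgroup.relIndex_mul_index hAK
    rw [hrelK, hAidx, mul_comm] at h1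
    exact Nat.eq_of_mul_eq_mul_right hp.pos h1
  have hKtop : K0 ≠ ⊤ := by
    intro h
    rw [h, Subgroup.index_top] at hKidx
    have : 1 < p ^ lam := Nat.one_lt_pow (by omega) hp.one_lt
    omega
  -- the pair `(↥K₀, A)`
  have hpairK : IsPair p (A.subgroupOf K0) Delta := by
    apply isPair_of_relIndex K0 A Delta hrelK
    intro k hkK hkA
    have hkM : k ∉ M := by
      intro h
      apply hkA
      rw [← hinf]
      exact Subgroup.mem_inf.2 ⟨h, hkK⟩
    have hle : Subgroup.centralizer ({k} : Set G) ≤ K0 := by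
      refine (hcent k hkM).trans (sup_le hAK ?_)
      rw [Subgroup.zpowers_le]
      exact hkK
    have h1 := Subgroup.relIndex_mul_index hle
    rw [hKidx, hidx k hkM, mul_comm] at h1
    have h2 := Nat.eq_of_mul_eq_mul_left (pow_pos hp.pos lam) h1
    rw [h2]
    exact hdel k hkM
  obtain ⟨p1, p2, -⟩ := ih_subgroup hG hIH K0 hKtop
  by_cases hres : ⁅A.subgroupOf K0, A.subgroupOf K0⁆ = commutator ↥K0
  · have h := p2 (A.subgroupOf K0) Delta hpairK hres
    rw [card_commutator_subtype] at h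
    refine ⟨h, ?_⟩
    intro hne
    exact absurd ((residual_iff K0 A hAK).1 hres).symm hne
  · have h := p1 (A.subgroupOf K0) Delta hpairK hres
    rw [card_commutator_subtype] at h
    refine ⟨h.trans (Nat.pow_le_pow_right hp.pos (Nat.le_add_right _ _)), fun _ => h⟩

end Cfsg.Agent.Lib.H5.S3777
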