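import Cfsg.Agent.Lib.H5.S3777P1Asm
import Cfsg.Agent.Lib.H5.S3777S4
import Cfsg.Agent.Lib.H9.S3777S1
import Cfsg.Agent.Lib.H24.S3777MD
import Cfsg.Agent.Lib.H11.S3777S3
import Cfsg.Agent.Lib.H22.S3777S6

/-!
# S3777: the (P1) step, assembled

`p1step : P1StepStmt` from the five landed pieces
`s1` (helper9), `s2` (helper24), `s3` (helper11), `s4` (helper5), `s6` (helper22).
-/

namespace Cfsg.Agent.Lib.H5.S3777

universe u

/-- The (P1) step of the simultaneous induction. -/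
theorem p1step : P1StepStmt.{u} :=
  p1step_of Cfsg.Agent.Lib.H9.S3777S1.s1 Cfsg.Agent.Lib.H24.S3777MD.s2
    Cfsg.Agent.H11.S3777S3.s3 s4 Cfsg.Agent.Lib.H22.S3777S6.s6

end Cfsg.Agent.Lib.H5.S3777
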