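import Cfsg.Agent.Lib.H5.S3777P1Defs

/-!
# S3777, the step for `P1`: assembly from the pieces `S1 … S6` (helper5)
-/

set_option autoImplicit false

namespace Cfsg.Agent.Lib.H5.S3777

universe u

theorem card_le_of_le {G : Type u} [Group G] [Finite G] {H K : Subgroup G} (h : H ≤ K) :
    Nat.card ↥H ≤ Nat.card ↥K :=
  Nat.le_of_dvd Nat.card_pos (Subgroup.card_dvd_of_le h)

/-- the step for `P1` from the pieces -/
theorem p1step_of (s1 : S1Stmt.{u}) (s2 : S2Stmt.{u}) (s3 : S3Stmt.{u}) (s4 : S4Stmt.{u})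
    (s6 : S6Stmt.{u}) : P1StepStmt.{u} := by
  intro p _ G _ _ hG hIH M f hpair hne
  have hp : p.Prime := Fact.out
  obtain ⟨A, lam, hAn, hAM, hlam, hcard, hrel, hpow, hcent, hidx⟩ :=
    s1 p G hG M f hpair hne
  -- an element outside `M`
  have hMtop : M ≠ ⊤ := by
    intro h
    have := hpair.idx
    rw [h, Subgroup.index_top] at this
    exact hp.one_lt.ne this
  obtain ⟨y1, hy1⟩ : ∃ y : G, y ∉ M := by
    by_contra hcon
    apply hMtop
    rw [eq_top_iff]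
    intro x _
    by_contra hx
    exact hcon ⟨x, hx⟩
  -- `lam ≤ f`
  have hlamf : lam ≤ f := by
    have h1 := hpair.out y1 hy1
    rw [hidx y1 hy1] at h1
    have hpos : 0 < (Subgroup.centralizer ({y1} : Set G)).relIndex A := by
      unfold Subgroup.relIndex
      exact Nat.pos_of_ne_zero Subgroup.index_ne_zero_of_finite
    have h2 : p ^ lam ≤ p ^ f :=
      le_trans (Nat.le_mul_of_pos_right _ hpos) h1
    exact (Nat.pow_le_pow_iff_right hp.one_lt).1 h2
  obtain ⟨Delta, hD⟩ : ∃ Delta, f = lam + Delta := ⟨f - lam, by omega⟩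
  -- the `A`-breadth of the elements outside `M`
  have hdel : ∀ y : G, y ∉ M → (Subgroup.centralizer ({y} : Set G)).relIndex A ≤ p ^ Delta := by
    intro y hy
    have h1 := hpair.out y hy
    rw [hidx y hy, hD, pow_add] at h1
    exact Nat.le_of_mul_le_mul_left h1 (pow_pos hp.pos lam)
  have hS2 := s2 p G hG hIH M A lam hpair.idx hAn hAM hrel hlam
  have hAMtop : ⁅A, M⁆ ≤ ⁅A, (⊤ : Subgroup G)⁆ := Subgroup.commutator_mono le_rfl le_top
  -- `|G'| ≤ p ^ tri lam * |[A,G]|`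
  have hmain : Nat.card ↥(commutator G) ≤ p ^ tri lam * Nat.card ↥⁅A, (⊤ : Subgroup G)⁆ := by
    rw [hcard]
    calc p ^ lam * Nat.card ↥⁅M, M⁆
        ≤ p ^ lam * (p ^ tri (lam - 1) * Nat.card ↥⁅A, M⁆) := Nat.mul_le_mul_left _ hS2
      _ = p ^ tri lam * Nat.card ↥⁅A, M⁆ := by
          rw [← mul_assoc, ← pow_add, tri_pred_add lam hlam]
      _ ≤ p ^ tri lam * Nat.card ↥⁅A, (⊤ : Subgroup G)⁆ :=
          Nat.mul_le_mul_left _ (card_le_of_le hAMtop)
  have hAK : ∀ y0 : G, ⁅A, A⁆ ≤ ⁅A ⊔ Subgroup.zpowers y0, A ⊔ Subgroup.zpowers y0⁆ :=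
    fun y0 => Subgroup.commutator_mono le_sup_left le_sup_left
  have hAK' : ∀ y0 : G, ⁅A, A ⊔ Subgroup.zpowers y0⁆ ≤
      ⁅A ⊔ Subgroup.zpowers y0, A ⊔ Subgroup.zpowers y0⁆ :=
    fun y0 => Subgroup.commutator_mono le_sup_left le_rfl
  have htri : tri f = tri lam + lam * Delta + tri Delta := by rw [hD, tri_add]
  by_cases hcase : ⁅A, (⊤ : Subgroup G)⁆ ≤ ⁅A, A⁆
  · -- case (i): `[A,G] = A'`
    obtain ⟨h4, -⟩ := s4 p G hG hIH M A lam Delta hpair.idx hAn hAM hlam hrel hpow hcent hidx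
      hdel y1 hy1
    calc Nat.card ↥(commutator G)
        ≤ p ^ tri lam * Nat.card ↥⁅A, (⊤ : Subgroup G)⁆ := hmain
      _ ≤ p ^ tri lam * Nat.card ↥⁅A ⊔ Subgroup.zpowers y1, A ⊔ Subgroup.zpowers y1⁆ :=
          Nat.mul_le_mul_left _ (card_le_of_le (hcase.trans (hAK y1)))
      _ ≤ p ^ tri lam * p ^ (tri Delta + Delta) := Nat.mul_le_mul_left _ h4
      _ = p ^ (tri lam + (tri Delta + Delta)) := by rw [← pow_add]
      _ ≤ p ^ tri f := by
          apply Nat.pow_le_pow_right hp.pos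
          rw [htri]
          nlinarith
  · -- case (ii): some `y0 ∉ M` acts nontrivially on `A/A'`
    have hex : ∃ y0 : G, y0 ∉ M ∧ ¬ ⁅A, Subgroup.zpowers y0⁆ ≤ ⁅A, A⁆ := by
      by_contra hcon
      apply hcase
      apply s6 p G M A hpair.idx hAn
      intro y hy
      by_contra h
      exact hcon ⟨y, hy, h⟩
    obtain ⟨y0, hy0, hy0A⟩ := hex
    have hneK : ⁅A ⊔ Subgroup.zpowers y0, A ⊔ Subgroup.zpowers y0⁆ ≠ ⁅A, A⁆ := by
      intro h
      apply hy0A
      rw [← h]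
      exact Subgroup.commutator_mono le_sup_left le_sup_right
    obtain ⟨-, h4⟩ := s4 p G hG hIH M A lam Delta hpair.idx hAn hAM hlam hrel hpow hcent hidx
      hdel y0 hy0
    have h3 := s3 p G hG M A lam Delta hpair.idx hAn hAM hrel hdel y0 hy0
    calc Nat.card ↥(commutator G)
        ≤ p ^ tri lam * Nat.card ↥⁅A, (⊤ : Subgroup G)⁆ := hmain
      _ ≤ p ^ tri lam * (Nat.card ↥⁅A, A ⊔ Subgroup.zpowers y0⁆ * p ^ (lam * Delta)) :=
          Nat.mul_le_mul_left _ h3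
      _ ≤ p ^ tri lam * (Nat.card ↥⁅A ⊔ Subgroup.zpowers y0, A ⊔ Subgroup.zpowers y0⁆ *
            p ^ (lam * Delta)) :=
          Nat.mul_le_mul_left _ (Nat.mul_le_mul_right _ (card_le_of_le (hAK' y0)))
      _ ≤ p ^ tri lam * (p ^ tri Delta * p ^ (lam * Delta)) :=
          Nat.mul_le_mul_left _ (Nat.mul_le_mul_right _ (h4 hneK))
      _ = p ^ tri f := by
          rw [htri, pow_add, pow_add]
          ring

end Cfsg.Agent.Lib.H5.S3777
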