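import Cfsg.Agent.Lib.H25.S3777P2Asm
import Cfsg.Agent.Lib.H1.S3777A2
import Cfsg.Agent.Lib.H1.S3777Alg
import Cfsg.Agent.Lib.H6.S3777P2W
import Cfsg.Agent.Lib.H29.S3777TG
import Cfsg.Agent.Lib.H20.S3777Geo

/-!
# S3777: the (P2) step, assembled

`p2step : P2StepStmt` from helper25's assembly `p2step_of` and the landed pieces
`a`, `alg` (helper1), `t1`, `res`, `pair` (helper6), `tg` (helper29), `geo` (helper20).
-/

namespace Cfsg.Agent.Lib.H5.S3777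

universe u

/-- The (P2) step of the simultaneous induction. -/
theorem p2step : P2StepStmt.{u} :=
  Cfsg.Agent.Lib.H25.S3777P2.p2step_of Cfsg.Agent.Lib.H1.S3777A2.a
    Cfsg.Agent.Lib.H6.S3777P2W.t1 Cfsg.Agent.Lib.H29.S3777TG.tg
    Cfsg.Agent.Lib.H6.S3777P2W.res Cfsg.Agent.Lib.H20.S3777Geo.geo
    Cfsg.Agent.Lib.H1.S3777Alg.alg Cfsg.Agent.Lib.H6.S3777P2W.pair

end Cfsg.Agent.Lib.H5.S3777
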