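import Cfsg.Agent.Lib.H5.S3797MLDefs

/-!
# S3797 main lemma, piece (M2) and basic facts about `Quad`, `Invs`
-/

set_option autoImplicit false

namespace Cfsg.Agent.Lib.H5.S3797ML

universe u

variable {U V : Type u} [AddCommGroup U] [AddCommGroup V] {κ : U → V} {β : U → U → V}

namespace Quad

theorem v_cancel (q : Quad κ β) {a b c : V} (h : a + b = a + c) : b = c := add_left_cancel h

theorem v_eq_of_add_eq_zero (q : Quad κ β) {a b : V} (h : a + b = 0) : a = b := by
  have := q.two_V b
  have h2 : a + b = b + b := by rw [h, this]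
  exact add_right_cancel h2

theorem u_eq_of_add_eq_zero (q : Quad κ β) {a b : U} (h : a + b = 0) : a = b := by
  have := q.two_U b
  have h2 : a + b = b + b := by rw [h, this]
  exact add_right_cancel h2

theorem beta_symm (q : Quad κ β) (x y : U) : β x y = β y x := by
  have h1 := q.polar x y
  have h2 := q.polar y x
  rw [add_comm y x] at h2
  rw [h1, add_comm (κ y) (κ x)] at h2
  exact add_left_cancel h2

theorem add_right (q : Quad κ β) (x y z : U) : β x (y + z) = β x y + β x z := by
  rw [q.beta_symm x (y + z), q.add_left, q.beta_symm y x, q.beta_symm z x]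

theorem beta_zero_left (q : Quad κ β) (y : U) : β 0 y = 0 := by
  have h := q.add_left 0 0 y
  rw [add_zero] at h
  have : β 0 y + 0 = β 0 y + β 0 y := by rw [add_zero]; exact h
  exact (add_left_cancel this).symm

theorem beta_zero_right (q : Quad κ β) (y : U) : β y 0 = 0 := by
  rw [q.beta_symm, q.beta_zero_left]

theorem kappa_zero (q : Quad κ β) : κ 0 = 0 := by
  have h := q.polar 0 0
  rw [add_zero, q.beta_zero_left, add_zero, q.two_V] at h
  exact h

theorem beta_self (q : Quad κ β) (x : U) : β x x = 0 := by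
  have h := q.polar x x
  rw [q.two_U, q.kappa_zero, q.two_V, zero_add] at h
  exact h.symm

theorem neg_eq_U (q : Quad κ β) (x : U) : -x = x := by
  have := q.two_U x
  exact neg_eq_of_add_eq_zero_left this

theorem neg_eq_V (q : Quad κ β) (v : V) : -v = v := by
  have := q.two_V v
  exact neg_eq_of_add_eq_zero_left this

end Quad

namespace Invs

variable {W : Set (U → U)}

theorem map_zero (hW : Invs κ W) {g : U → U} (hg : g ∈ W) : g 0 = 0 := by
  have h := hW.add g hg 0 0
  rw [add_zero] at h
  have : g 0 + 0 = g 0 + g 0 := by rw [add_zero]; exact h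
  exact (add_left_cancel this).symm

/-- `β` is `g`-invariant -/
theorem beta_inv (q : Quad κ β) (hW : Invs κ W) {g : U → U} (hg : g ∈ W) (x y : U) :
    β (g x) (g y) = β x y := by
  have h1 := q.polar (g x) (g y)
  rw [← hW.add g hg, hW.pres g hg, hW.pres g hg, hW.pres g hg, q.polar x y] at h1
  exact (add_left_cancel h1).symm

/-- `κ (x + g x) = β x (g x)` -/
theorem kappa_comm (q : Quad κ β) (hW : Invs κ W) {g : U → U} (hg : g ∈ W) (x : U) :
    κ (x + g x) = β x (g x) := by
  rw [q.polar, hW.pres g hg, q.two_V, zero_add]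

/-- `κ` is additive on `{x + g x}` -/
theorem kappa_add (q : Quad κ β) (hW : Invs κ W) {g : U → U} (hg : g ∈ W) (x y : U) :
    κ ((x + g x) + (y + g y)) = κ (x + g x) + κ (y + g y) := by
  have e : (x + g x) + (y + g y) = (x + y) + g (x + y) := by
    rw [hW.add g hg]; abel
  rw [e, hW.kappa_comm q hg, hW.kappa_comm q hg, hW.kappa_comm q hg, hW.add g hg, q.add_left,
    q.add_right, q.add_right]
  have hc : β y (g x) = β x (g y) := by
    have := hW.beta_inv q hg y (g x)
    rw [hW.invol g hg] at this
    rw [← this, q.beta_symm]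
  rw [hc]
  have h2 := q.two_V (β x (g y))
  calc β x (g x) + β x (g y) + (β x (g y) + β y (g y))
      = β x (g x) + (β x (g y) + β x (g y)) + β y (g y) := by abel
    _ = β x (g x) + β y (g y) := by rw [h2, add_zero]

/-- every `h ∈ W` fixes every `x + g x` -/
theorem fix_gen (q : Quad κ β) (hW : Invs κ W) {g h : U → U} (hg : g ∈ W) (hh : h ∈ W) (x : U) :
    h (x + g x) = x + g x := by
  have e1 : h (x + g x) = h x + g (h x) := by
    rw [hW.add h hh, hW.comm g hg h hh]
  have hk : κ ((h x + g (h x)) + (x + g x)) = 0 := by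
    rw [hW.kappa_add q hg, ← e1, hW.pres h hh, q.two_V]
  have := q.anis _ hk
  rw [e1]
  exact q.u_eq_of_add_eq_zero this

theorem fix_M (q : Quad κ β) (hW : Invs κ W) : ∀ m ∈ Mof W, ∀ g ∈ W, g m = m := by
  intro m hm h hh
  unfold Mof at hm
  induction hm using AddSubgroup.closure_induction with
  | mem y hy =>
    obtain ⟨g, hg, x, rfl⟩ := hy
    exact hW.fix_gen q hg hh x
  | zero => exact hW.map_zero hh
  | add a b _ _ iha ihb => rw [hW.add h hh, iha, ihb]
  | neg a _ iha => rw [q.neg_eq_U]; exact iha

theorem iso_M (q : Quad κ β) (hW : Invs κ W) : ∀ m ∈ Mof W, ∀ m' ∈ Mof W, β m m' = 0 := by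
  intro m hm m' hm'
  have hfix := hW.fix_M q m' hm'
  unfold Mof at hm
  induction hm using AddSubgroup.closure_induction with
  | mem y hy =>
    obtain ⟨g, hg, x, rfl⟩ := hy
    rw [q.add_left]
    have := hW.beta_inv q hg x m'
    rw [hfix g hg] at this
    rw [this, q.two_V]
  | zero => exact q.beta_zero_left _
  | add a b _ _ iha ihb => rw [q.add_left, iha, ihb, add_zero]
  | neg a _ iha => rw [q.neg_eq_U]; exact iha

end Invs

/-- (M2) -/
theorem m2 : M2Stmt.{u} := by
  intro U V _ _ κ β W q hW
  exact ⟨hW.fix_M q, hW.iso_M q⟩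

end Cfsg.Agent.Lib.H5.S3797ML
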