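import Cfsg.Agent.Lib.H5.S3797M2

/-!
# S3797 main lemma: assembly of the abstract lemma `AMLStmt` from the pieces (M1)-(M4)
-/

set_option autoImplicit false

namespace Cfsg.Agent.Lib.H5.S3797ML

universe u

/-- the fibres of `κ` over two non-zero values have the same size -/
theorem fibre_card {U V : Type u} [AddCommGroup U] [AddCommGroup V] [Finite U] [Finite V]
    {κ : U → V} {W : Set (U → U)} {I : Type u} {a : I → U → U} {b : I → V → V}
    (hA : Act κ W a b) (v w : V) (hv : v ≠ 0) (hw : w ≠ 0) :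
    Nat.card {x : U // κ x = v} = Nat.card {x : U // κ x = w} := by
  have key : ∀ v w : V, v ≠ 0 → w ≠ 0 →
      Nat.card {x : U // κ x = v} ≤ Nat.card {x : U // κ x = w} := by
    intro v w hv hw
    obtain ⟨i, hi⟩ := hA.trans v w hv hw
    refine Nat.card_le_card_of_injective
      (fun x => (⟨a i x.1, by rw [hA.equiv, x.2, hi]⟩ : {x : U // κ x = w})) ?_
    intro x y hxy
    have := congrArg Subtype.val hxy
    exact Subtype.ext (hA.a_inj i this)
  exact le_antisymm (key v w hv hw) (key w v hw hv)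

theorem aml_of (h1 : M1Stmt.{u}) (h2 : M2Stmt.{u}) (h3 : M3Stmt.{u}) (h4 : M4Stmt.{u}) :
    AMLStmt.{u} := by
  intro U V _ _ _ _ κ β W I a b q hW hA g hg h hh hgx hhx x
  obtain ⟨hfix, hiso⟩ := h2 U V κ β W q hW
  obtain ⟨_, hcardM⟩ := h3 U V κ β W I a b q hW hA hiso ⟨g, hg, hgx⟩
  rcases h1 U V κ β q (fun v w hv hw => fibre_card hA v w hv hw) with hU1 | hUV | ⟨hUV2, hsurj⟩
  · -- `U` is trivial
    exfalso
    obtain ⟨y, hy⟩ := hgx
    have : Subsingleton U := (Nat.card_eq_one_iff_unique.mp hU1).1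
    exact hy (Subsingleton.elim _ _)
  · -- `M = U`
    exfalso
    obtain ⟨y, hy⟩ := hgx
    have htop : Mof W = ⊤ := by
      rw [← AddSubgroup.card_eq_iff_eq_top, hcardM, hUV]
    exact hy (hfix y (by rw [htop]; trivial) g hg)
  · -- the main case
    have hker : ∀ c ∈ Mof W, c ≠ 0 → ∀ y : U, β c y = 0 → y ∈ Mof W := by
      intro c hc hc0 y hy
      let φ : U →+ V := AddMonoidHom.mk' (β c) (fun y z => q.add_right c y z)
      have hφs : Function.Surjective φ := hsurj c hc0
      have hle : Mof W ≤ φ.ker := by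
        intro m hm
        rw [AddMonoidHom.mem_ker]
        exact hiso c hc m hm
      have hVpos : 0 < Nat.card V := Nat.card_pos
      have hcard : Nat.card φ.ker * Nat.card V = Nat.card U := by
        have h1 := AddSubgroup.card_mul_index φ.ker
        rw [AddSubgroup.index_ker, AddMonoidHom.range_eq_top.mpr hφs] at h1
        rw [← h1, AddSubgroup.card_top]
      have hkc : Nat.card φ.ker = Nat.card V := by
        rw [hUV2, pow_two] at hcard
        exact Nat.eq_of_mul_eq_mul_right hVpos hcard
      have heq : Mof W = φ.ker :=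
        AddSubgroup.eq_of_le_of_card_ge hle (by rw [hkc, hcardM])
      rw [heq, AddMonoidHom.mem_ker]
      exact hy
    exact h4 U V κ β W I a b q hW hA hfix hiso hUV2 hcardM hsurj hker g hg h hh hgx hhx x

end Cfsg.Agent.Lib.H5.S3797ML
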