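import Mathlib
import Cfsg.Agent.Lib.H27.S3814C1Defs

/-!
# S3814, Case 1, piece (21) LCYC (helper5)

A `t`-group `P` and `α` of prime order `t' ∣ t - 1` normalising and not centralising `P`:
some cyclic `α`-invariant subgroup of `P` is not centralised.
Type-level induction on the order, no Frattini subgroup.
-/

set_option autoImplicit false
set_option linter.style.haveILetI false

namespace Cfsg.Agent.Lib.H5.S3814C1LCyc

open Cfsg.Agent.H7.S3814Defs Cfsg.Agent.H27.S3814C1
open Polynomial

universe u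

/-! ## eigenvectors -/

theorem first_vanish {K : Type*} [Field K] {M : Type*} [AddCommGroup M] [Module K M]
    (f : Module.End K M) (S : Finset K) :
    ∀ v : M, v ≠ 0 → (aeval f (∏ c ∈ S, (X - C c))) v = 0 →
      ∃ c ∈ S, ∃ w : M, w ≠ 0 ∧ f w = c • w := by
  classical
  induction S using Finset.induction_on with
  | empty =>
    intro v hv h
    simp at h
    exact absurd h hv
  | insert a S ha ih =>
    intro v hv h
    rw [Finset.prod_insert ha, map_mul, Module.End.mul_apply] at h
    by_cases hw : (aeval f (∏ c ∈ S, (X - C c))) v = 0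
    · obtain ⟨c, hc, w, hw0, hfw⟩ := ih v hv hw
      exact ⟨c, Finset.mem_insert_of_mem hc, w, hw0, hfw⟩
    · refine ⟨a, Finset.mem_insert_self a S, _, hw, ?_⟩
      simp only [map_sub, aeval_X, aeval_C, LinearMap.sub_apply,
        Module.algebraMap_end_apply] at h
      exact sub_eq_zero.1 h

theorem eigen_module {t t' : ℕ} [Fact t.Prime] (ht' : t'.Prime) (hd : t' ∣ t - 1)
    {A : Type*} [AddCommGroup A] [Module (ZMod t) A] (f : Module.End (ZMod t) A)
    (hf : f ^ t' = 1) (a₀ : A) (ha₀ : f a₀ ≠ a₀) :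
    ∃ c : ZMod t, c ≠ 1 ∧ ∃ w : A, w ≠ 0 ∧ f w = c • w := by
  haveI : Fact t'.Prime := ⟨ht'⟩
  have hcard : t' ∣ Fintype.card (ZMod t)ˣ := by
    rw [ZMod.card_units t]
    exact hd
  obtain ⟨u, hu⟩ := exists_prime_orderOf_dvd_card t' hcard
  have hζ : IsPrimitiveRoot (u : ZMod t) t' := by
    rw [IsPrimitiveRoot.coe_units_iff, ← hu]
    exact IsPrimitiveRoot.orderOf u
  have hprod := X_pow_sub_one_eq_prod ht'.pos hζ
  have h1S : (1 : ZMod t) ∈ nthRootsFinset t' (1 : ZMod t) := by
    rw [mem_nthRootsFinset ht'.pos]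
    exact one_pow _
  have hsplit : (X - C (1 : ZMod t)) *
      ∏ c ∈ (nthRootsFinset t' (1 : ZMod t)).erase 1, (X - C c) = X ^ t' - 1 := by
    rw [Finset.mul_prod_erase (nthRootsFinset t' (1 : ZMod t)) (fun c => X - C c) h1S, hprod]
  have hv₀ : f a₀ - a₀ ≠ 0 := fun h => ha₀ (sub_eq_zero.1 h)
  have hkill : (aeval f (∏ c ∈ (nthRootsFinset t' (1 : ZMod t)).erase 1, (X - C c)))
      (f a₀ - a₀) = 0 := by
    have h1 : (aeval f (X ^ t' - 1 : (ZMod t)[X])) a₀ = 0 := by
      simp [hf]
    rw [← hsplit, mul_comm, map_mul, Module.End.mul_apply] at h1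
    simpa using h1
  obtain ⟨c, hc, w, hw, hfw⟩ := first_vanish f _ _ hv₀ hkill
  exact ⟨c, (Finset.mem_erase.1 hc).1, w, hw, hfw⟩

theorem eigen_add {t t' : ℕ} [Fact t.Prime] (ht' : t'.Prime) (hd : t' ∣ t - 1)
    {A : Type*} [AddCommGroup A] [Module (ZMod t) A] (ψ : A →+ A)
    (hψ : ∀ a, ψ^[t'] a = a) (a₀ : A) (ha₀ : ψ a₀ ≠ a₀) :
    ∃ n : ℕ, ∃ w : A, ψ w = n • w ∧ ψ w ≠ w := by
  let f : Module.End (ZMod t) A := ψ.toZModLinearMap t
  have hfapp : ∀ a : A, f a = ψ a := fun a => rfl
  have hfit : ∀ (k : ℕ) (a : A), (f ^ k) a = ψ^[k] a := by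
    intro k
    induction k with
    | zero =>
      intro a
      simp
    | succ k ih =>
      intro a
      rw [pow_succ', Module.End.mul_apply, ih, hfapp, Function.iterate_succ_apply']
  have hf : f ^ t' = 1 := by
    apply LinearMap.ext
    intro a
    rw [hfit, hψ]
    rfl
  obtain ⟨c, hc1, w, hw, hfw⟩ := eigen_module ht' hd f hf a₀ (by rw [hfapp]; exact ha₀)
  refine ⟨c.val, w, ?_, ?_⟩
  · rw [← hfapp, hfw, ← Nat.cast_smul_eq_nsmul (ZMod t), ZMod.natCast_zmod_val]
  · intro h
    rw [← hfapp, hfw] at h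
    have h3 : (c - 1) • w = 0 := by
      rw [sub_smul, one_smul, h, sub_self]
    rcases smul_eq_zero.1 h3 with h4 | h4
    · exact hc1 (sub_eq_zero.1 h4)
    · exact hw h4

theorem eigen_abstract {H : Type*} [CommGroup H] {t t' : ℕ} (ht : t.Prime) (ht' : t'.Prime)
    (hd : t' ∣ t - 1) (hexp : ∀ x : H, x ^ t = 1) (φ : H →* H) (hφ : ∀ x, φ^[t'] x = x)
    (x₀ : H) (hx₀ : φ x₀ ≠ x₀) : ∃ g : H, φ g ∈ Subgroup.zpowers g ∧ φ g ≠ g := by
  haveI : Fact t.Prime := ⟨ht⟩
  have hit : ∀ (k : ℕ) (a : Additive H),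
      (MonoidHom.toAdditive φ)^[k] a = Additive.ofMul (φ^[k] a.toMul) := by
    intro k
    induction k with
    | zero =>
      intro a
      rfl
    | succ k ih =>
      intro a
      rw [Function.iterate_succ_apply', ih, Function.iterate_succ_apply']
      rfl
  obtain ⟨n, w, h1, h2⟩ := @eigen_add t t' _ ht' hd (Additive H) _
    (AddCommGroup.zmodModule (n := t) (fun x => by
      apply Additive.toMul.injective
      rw [toMul_nsmul, toMul_zero]
      exact hexp _))
    (MonoidHom.toAdditive φ) (fun a => by rw [hit, hφ]; rfl) (Additive.ofMul x₀)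
    (fun h => hx₀ (congrArg Additive.toMul h))
  refine ⟨w.toMul, ?_, ?_⟩
  · have h3 : φ w.toMul = w.toMul ^ n := by
      have := congrArg Additive.toMul h1
      rw [toMul_nsmul] at this
      exact this
    rw [h3]
    exact Subgroup.npow_mem_zpowers _ _
  · intro h
    exact h2 (congrArg Additive.ofMul h)

/-! ## the stability lemma -/

theorem stab {H : Type*} [Group H] {t t' : ℕ} (ht : t.Prime) (ht' : t'.Prime) (htt : t ≠ t')
    (hP : IsPGroup t H) (φ : H →* H) (hφ : ∀ x, φ^[t'] x = x) (N : Subgroup H)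
    (hfix : ∀ z ∈ N, φ z = z) (hmod : ∀ x, x⁻¹ * φ x ∈ N) : ∀ x, φ x = x := by
  intro x
  have hz := hfix _ (hmod x)
  have hxz : φ x = x * (x⁻¹ * φ x) := by group
  have hk : ∀ k : ℕ, φ^[k] x = x * (x⁻¹ * φ x) ^ k := by
    intro k
    induction k with
    | zero => simp
    | succ k ih =>
      rw [Function.iterate_succ_apply', ih, map_mul, map_pow, hz, pow_succ', ← mul_assoc, ← hxz]
  have h1 : (x⁻¹ * φ x) ^ t' = 1 := by
    have h0 := hk t'
    rw [hφ] at h0
    have h00 : x * 1 = x * (x⁻¹ * φ x) ^ t' := by rw [mul_one]; exact h0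
    exact (mul_left_cancel h00).symm
  obtain ⟨m, hm⟩ := hP (x⁻¹ * φ x)
  have hd1 : orderOf (x⁻¹ * φ x) ∣ t' := orderOf_dvd_of_pow_eq_one h1
  have hd2 : orderOf (x⁻¹ * φ x) ∣ t ^ m := orderOf_dvd_of_pow_eq_one hm
  have hcop : Nat.Coprime t' (t ^ m) :=
    Nat.Coprime.pow_right m ((Nat.coprime_primes ht' ht).2 (Ne.symm htt))
  have h2 : orderOf (x⁻¹ * φ x) = 1 := Nat.eq_one_of_dvd_coprimes hcop hd1 hd2
  have h3 : x⁻¹ * φ x = 1 := orderOf_eq_one_iff.1 h2
  rw [hxz, h3, mul_one]

/-! ## the induction -/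

open scoped IsMulCommutative in
theorem main {t t' : ℕ} (ht : t.Prime) (ht' : t'.Prime) (hd : t' ∣ t - 1) :
    ∀ n : ℕ, ∀ (H : Type u) [Group H] [Finite H], Nat.card H = n → IsPGroup t H →
      ∀ φ : H →* H, (∀ x, φ^[t'] x = x) → (∃ x, φ x ≠ x) →
      ∃ g : H, φ g ∈ Subgroup.zpowers g ∧ φ g ≠ g := by
  haveI : Fact t.Prime := ⟨ht⟩
  have htt : t ≠ t' := by
    intro h
    have h1 : t' ≤ t - 1 := Nat.le_of_dvd (Nat.sub_pos_of_lt ht.one_lt) hd
    have h2 : 2 ≤ t := ht.two_le
    omega
  intro n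
  induction n using Nat.strong_induction_on with
  | _ n ih =>
  intro H _ _ hcard hP φ hφ hne
  by_contra hgoal
  -- (B) proper invariant subgroups are fixed pointwise
  have hB : ∀ L : Subgroup H, (∀ x ∈ L, φ x ∈ L) → L ≠ ⊤ → ∀ x ∈ L, φ x = x := by
    intro L hL hLtop
    by_contra hex
    push Not at hex
    obtain ⟨x, hxL, hx⟩ := hex
    let ψ : ↥L →* ↥L := (φ.comp L.subtype).codRestrict L (fun y => hL y y.2)
    have hψ1 : ∀ y : ↥L, ((ψ y : ↥L) : H) = φ y := fun y => rfl
    have hψ : ∀ (k : ℕ) (y : ↥L), ((ψ^[k] y : ↥L) : H) = φ^[k] y := by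
      intro k
      induction k with
      | zero =>
        intro y
        rfl
      | succ k ih2 =>
        intro y
        rw [Function.iterate_succ_apply', hψ1, ih2, Function.iterate_succ_apply']
    have hlt : Nat.card ↥L < n := by
      rw [← hcard]
      apply lt_of_le_of_ne (Subgroup.card_le_card_group L)
      intro h
      exact hLtop (Subgroup.eq_top_of_card_eq L h)
    obtain ⟨g, hg1, hg2⟩ := ih (Nat.card ↥L) hlt ↥L rfl (hP.to_subgroup L) ψ
      (fun y => Subtype.ext (by rw [hψ]; exact hφ y))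
      ⟨⟨x, hxL⟩, fun h => hx (congrArg Subtype.val h)⟩
    apply hgoal
    refine ⟨(g : H), ?_, ?_⟩
    · obtain ⟨k, hk⟩ := Subgroup.mem_zpowers_iff.1 hg1
      rw [Subgroup.mem_zpowers_iff]
      refine ⟨k, ?_⟩
      have := congrArg Subtype.val hk
      rw [hψ1] at this
      rw [← this]
      simp
    · intro h
      exact hg2 (Subtype.ext h)
  -- φ is onto
  have hsurj : ∀ y : H, ∃ y' : H, φ y' = y := by
    intro y
    refine ⟨φ^[t' - 1] y, ?_⟩
    have h1 : t' = (t' - 1) + 1 := by
      have := ht'.pos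
      omega
    have h2 := hφ y
    rw [h1, Function.iterate_succ_apply'] at h2
    exact h2
  obtain ⟨x₀, hx₀⟩ := hne
  haveI : Nontrivial H := ⟨⟨φ x₀, x₀, hx₀⟩⟩
  -- (i) `H` is commutative
  have hcomm : ∀ a b : H, a * b = b * a := by
    by_contra hnc
    have hZinv : ∀ x ∈ Subgroup.center H, φ x ∈ Subgroup.center H := by
      intro z hz
      rw [Subgroup.mem_center_iff] at hz ⊢
      intro y
      obtain ⟨y', rfl⟩ := hsurj y
      rw [← map_mul, ← map_mul, hz y']
    have hZtop : Subgroup.center H ≠ ⊤ := by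
      intro h
      apply hnc
      intro a b
      have hb : b ∈ Subgroup.center H := by
        rw [h]
        exact Subgroup.mem_top b
      exact Subgroup.mem_center_iff.1 hb a
    have hZfix := hB _ hZinv hZtop
    let φb : H ⧸ Subgroup.center H →* H ⧸ Subgroup.center H :=
      QuotientGroup.map (Subgroup.center H) (Subgroup.center H) φ
        (fun z hz => Subgroup.mem_comap.2 (hZinv z hz))
    have hφb1 : ∀ x : H, φb (QuotientGroup.mk x) = QuotientGroup.mk (φ x) := fun x => rfl
    have hφb : ∀ (k : ℕ) (x : H), φb^[k] (QuotientGroup.mk x) = QuotientGroup.mk (φ^[k] x) := by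
      intro k
      induction k with
      | zero =>
        intro x
        rfl
      | succ k ih2 =>
        intro x
        rw [Function.iterate_succ_apply', ih2, hφb1, Function.iterate_succ_apply']
    have hbne : ∃ q : H ⧸ Subgroup.center H, φb q ≠ q := by
      by_contra hall
      push Not at hall
      apply hx₀
      apply stab ht ht' htt hP φ hφ (Subgroup.center H) hZfix
      intro x
      have := hall (QuotientGroup.mk x)
      rw [hφb1] at this
      exact QuotientGroup.eq.1 this.symm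
    have hZnt : Nontrivial (Subgroup.center H) := hP.center_nontrivial
    have hlt : Nat.card (H ⧸ Subgroup.center H) < n := by
      rw [← hcard, Subgroup.card_eq_card_quotient_mul_card_subgroup (Subgroup.center H)]
      have h1 : 1 < Nat.card (Subgroup.center H) := Finite.one_lt_card
      have h2 : 0 < Nat.card (H ⧸ Subgroup.center H) := Nat.card_pos
      nlinarith
    obtain ⟨gb, hgb1, hgb2⟩ := ih _ hlt (H ⧸ Subgroup.center H) rfl
      (hP.to_quotient (Subgroup.center H)) φb
      (fun q => by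
        induction q using QuotientGroup.induction_on with
        | H x => rw [hφb, hφ])
      hbne
    -- the preimage of `zpowers gb`
    let L : Subgroup H := (Subgroup.zpowers gb).comap (QuotientGroup.mk' (Subgroup.center H))
    have hLinv : ∀ x ∈ L, φ x ∈ L := by
      intro x hx
      have hx' : (QuotientGroup.mk x : H ⧸ Subgroup.center H) ∈ Subgroup.zpowers gb := hx
      change (QuotientGroup.mk (φ x) : H ⧸ Subgroup.center H) ∈ Subgroup.zpowers gb
      rw [← hφb1]
      obtain ⟨k, hk⟩ := Subgroup.mem_zpowers_iff.1 hx'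
      rw [← hk, map_zpow]
      exact Subgroup.zpow_mem _ hgb1 k
    have hLtop : L = ⊤ := by
      by_contra hLne
      have hfix := hB L hLinv hLne
      induction gb using QuotientGroup.induction_on with
      | H g =>
        apply hgb2
        rw [hφb1, hfix g (Subgroup.mem_zpowers _)]
    haveI : IsCyclic (H ⧸ Subgroup.center H) := by
      rw [isCyclic_iff_exists_zpowers_eq_top]
      refine ⟨gb, ?_⟩
      rw [eq_top_iff]
      intro q _
      induction q using QuotientGroup.induction_on with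
      | H x =>
        have : x ∈ L := by
          rw [hLtop]
          exact Subgroup.mem_top x
        exact this
    have hcm := MonoidHom.isMulCommutative_of_isCyclic_of_ker_le_center
      (QuotientGroup.mk' (Subgroup.center H)) (by rw [QuotientGroup.ker_mk'])
    exact hnc (fun a b => hcm.is_comm.comm a b)
  -- (ii) exponent `t`
  have hexp : ∀ x : H, x ^ t = 1 := by
    by_contra hne2
    let Om : Subgroup H :=
      { carrier := {x | x ^ t = 1}
        mul_mem' := by
          intro a b ha hb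
          have hc : Commute a b := hcomm a b
          change (a * b) ^ t = 1
          rw [hc.mul_pow, ha, hb, one_mul]
        one_mem' := one_pow t
        inv_mem' := by
          intro a ha
          change a⁻¹ ^ t = 1
          rw [inv_pow, ha, inv_one] }
    have hOm : ∀ x : H, x ∈ Om ↔ x ^ t = 1 := fun x => Iff.rfl
    let Pt : Subgroup H :=
      { carrier := {y | ∃ x : H, x ^ t = y}
        mul_mem' := by
          rintro a b ⟨x, rfl⟩ ⟨y, rfl⟩
          have hc : Commute x y := hcomm x y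
          exact ⟨x * y, hc.mul_pow t⟩
        one_mem' := ⟨1, one_pow t⟩
        inv_mem' := by
          rintro a ⟨x, rfl⟩
          exact ⟨x⁻¹, inv_pow x t⟩ }
    have hPt : ∀ y : H, y ∈ Pt ↔ ∃ x : H, x ^ t = y := fun y => Iff.rfl
    have hOmfix := hB Om (fun x hx => by rw [hOm] at hx ⊢; rw [← map_pow, hx, map_one])
      (fun h => hne2 (fun x => (hOm x).1 (by rw [h]; exact Subgroup.mem_top x)))
    have hPttop : Pt ≠ ⊤ := by
      intro h
      have hsur : Function.Surjective (fun x : H => x ^ t) := by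
        intro y
        have : y ∈ Pt := by
          rw [h]
          exact Subgroup.mem_top y
        exact (hPt y).1 this
      have hinj := Finite.injective_iff_surjective.2 hsur
      have hdvd : t ∣ Nat.card H := by
        obtain ⟨m, hm⟩ := IsPGroup.iff_card.1 hP
        rw [hm]
        rcases Nat.eq_zero_or_pos m with h0 | h0
        · exfalso
          rw [h0, pow_zero] at hm
          have : Subsingleton H := (Nat.card_eq_one_iff_unique.1 hm).1
          exact hx₀ (Subsingleton.elim _ _)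
        · exact dvd_pow_self t h0.ne'
      obtain ⟨z, hz⟩ := exists_prime_orderOf_dvd_card' t hdvd
      have hz1 : z ^ t = 1 := by
        rw [← hz]
        exact pow_orderOf_eq_one z
      have : z = 1 := hinj (by simp only [hz1, one_pow])
      rw [this, orderOf_one] at hz
      exact ht.one_lt.ne hz
    have hPtfix := hB Pt (fun y hy => by
      obtain ⟨x, rfl⟩ := (hPt y).1 hy
      exact (hPt _).2 ⟨φ x, (map_pow φ x t).symm⟩) hPttop
    apply hx₀
    apply stab ht ht' htt hP φ hφ Om hOmfix
    intro x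
    rw [hOm]
    have hc : Commute x⁻¹ (φ x) := hcomm _ _
    rw [hc.mul_pow, ← map_pow, hPtfix (x ^ t) ((hPt _).2 ⟨x, rfl⟩), inv_pow, inv_mul_cancel]
  -- (iii) the eigenvector
  haveI : IsMulCommutative H := ⟨⟨hcomm⟩⟩
  exact hgoal (eigen_abstract ht ht' hd hexp φ hφ x₀ hx₀)

/-! ## the piece -/

/-- **(LCYC)** -/
theorem lcyc : LCycStmt.{u} := by
  intro G _ _ P t t' ht ht' hd hP α hα hn hnc
  let φ : ↥P →* ↥P :=
    { toFun := fun x => ⟨α * x * α⁻¹, hn x x.2⟩
      map_one' := by
        apply Subtype.ext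
        simp
      map_mul' := by
        intro x y
        apply Subtype.ext
        simp [mul_assoc] }
  have hφ1 : ∀ x : ↥P, ((φ x : ↥P) : G) = α * x * α⁻¹ := fun x => rfl
  have hφk : ∀ (k : ℕ) (x : ↥P), ((φ^[k] x : ↥P) : G) = α ^ k * x * (α ^ k)⁻¹ := by
    intro k
    induction k with
    | zero =>
      intro x
      simp
    | succ k ih =>
      intro x
      rw [Function.iterate_succ_apply', hφ1, ih, pow_succ']
      simp [mul_assoc]
  obtain ⟨a, haP, hane⟩ := hnc
  obtain ⟨g, hg1, hg2⟩ := main ht ht' hd (Nat.card ↥P) ↥P rfl hP φ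
    (fun x => Subtype.ext (by
      rw [hφk, ← hα, pow_orderOf_eq_one]
      simp))
    ⟨⟨a, haP⟩, fun h => hane (by
      have h1 := congrArg Subtype.val h
      rw [hφ1] at h1
      exact mul_inv_eq_iff_eq_mul.1 h1)⟩
  refine ⟨(g : G), g.2, ?_, ?_⟩
  · obtain ⟨k, hk⟩ := Subgroup.mem_zpowers_iff.1 hg1
    rw [Subgroup.mem_zpowers_iff]
    refine ⟨k, ?_⟩
    have := congrArg Subtype.val hk
    rw [hφ1] at this
    rw [← this]
    simp
  · intro h
    apply hg2
    apply Subtype.ext
    rw [hφ1]
    exact mul_inv_eq_iff_eq_mul.2 h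

example : LCycStmt.{0} := lcyc

end Cfsg.Agent.Lib.H5.S3814C1LCyc
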