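import Mathlib
import Cfsg.Agent.Lib.H7.S3814Defs2

/-!
# S3814, piece `CaseSplitStmt` (helper5)

Pure group theory: a subgroup `K` of a finite group either has a normal elementary abelian
subgroup of rank at least `2`, or all its normal abelian subgroups are cyclic.

Route: a finite group with commuting elements in which `x ^ c = 1` has at most `c` solutions for
every prime `c` has at most `n` solutions of `x ^ n = 1` for every `n > 0` (strong induction via
`x ↦ x ^ c`), hence is cyclic (`isCyclic_of_card_pow_eq_one_le`).
-/

set_option autoImplicit false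
set_option linter.style.haveILetI false

namespace Cfsg.Agent.Lib.H5.S3814CaseSplit

open Cfsg.Agent.H7.S3814Defs

universe u

/-- in a commutative finite group, `x ^ n = 1` has at most `n` solutions as soon as this holds
for the primes -/
theorem card_pow_eq_one_le {A : Type*} [Group A] [Fintype A] [DecidableEq A]
    (hcomm : ∀ a b : A, a * b = b * a)
    (h : ∀ c : ℕ, c.Prime → (Finset.univ.filter fun x : A => x ^ c = 1).card ≤ c) :
    ∀ n : ℕ, 0 < n → (Finset.univ.filter fun x : A => x ^ n = 1).card ≤ n := by
  intro n
  induction n using Nat.strong_induction_on with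
  | _ n ih =>
    intro hn
    rcases Nat.lt_or_ge 1 n with h1 | h1
    · obtain ⟨c, hc, hcn⟩ := Nat.exists_prime_and_dvd (ne_of_gt h1)
      obtain ⟨m, rfl⟩ := hcn
      have hm : 0 < m := Nat.pos_of_mul_pos_left hn
      have hmlt : m < c * m := by
        have := hc.two_le
        nlinarith
      have key := Finset.card_le_mul_card_image_of_maps_to (f := fun x : A => x ^ c)
        (s := Finset.univ.filter fun x : A => x ^ (c * m) = 1)
        (t := Finset.univ.filter fun x : A => x ^ m = 1) ?_ c ?_
      · calc _ ≤ c * (Finset.univ.filter fun x : A => x ^ m = 1).card := key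
          _ ≤ c * m := Nat.mul_le_mul_left _ (ih m hmlt hm)
      · intro a ha
        simp only [Finset.mem_filter, Finset.mem_univ, true_and] at ha ⊢
        rw [← pow_mul]
        exact ha
      · intro b _
        by_cases hne : (Finset.filter (fun a : A => a ^ c = b)
            (Finset.univ.filter fun x : A => x ^ (c * m) = 1)).Nonempty
        · obtain ⟨a₀, ha₀⟩ := hne
          simp only [Finset.mem_filter, Finset.mem_univ, true_and] at ha₀
          refine le_trans (Finset.card_le_card_of_injOn (fun a => a₀⁻¹ * a) ?_ ?_) (h c hc)
          · intro a ha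
            simp only [Finset.coe_filter, Finset.mem_filter, Finset.mem_univ, true_and,
              Set.mem_ofPred_eq] at ha ⊢
            have hco : Commute a₀⁻¹ a := hcomm _ _
            rw [hco.mul_pow, inv_pow, ha₀.2, ha.2, inv_mul_cancel]
          · intro a _ a' _ haa
            exact mul_left_cancel haa
        · rw [Finset.not_nonempty_iff_eq_empty] at hne
          rw [hne]
          simp
    · have h1' : n = 1 := by omega
      subst h1'
      rw [Finset.card_le_one]
      intro a ha b hb
      simp only [Finset.mem_filter, Finset.mem_univ, true_and, pow_one] at ha hb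
      rw [ha, hb]

/-- a finite group with commuting elements and at most `c` solutions of `x ^ c = 1` for every
prime `c` is cyclic -/
theorem isCyclic_of_prime_torsion {A : Type*} [Group A] [Finite A]
    (hcomm : ∀ a b : A, a * b = b * a)
    (h : ∀ c : ℕ, c.Prime → Nat.card {x : A // x ^ c = 1} ≤ c) : IsCyclic A := by
  classical
  haveI : Fintype A := Fintype.ofFinite A
  apply isCyclic_of_card_pow_eq_one_le
  apply card_pow_eq_one_le hcomm
  intro c hc
  have := h c hc
  rwa [Nat.card_eq_fintype_card, Fintype.card_subtype] at this

/-- **CaseSplit** -/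
theorem caseSplit : CaseSplitStmt.{u} := by
  intro G _ _ K
  by_cases hcyc : ∀ M : Subgroup G, M ≤ K → K ≤ Subgroup.normalizer (M : Set G) →
      (∀ x ∈ M, ∀ y ∈ M, x * y = y * x) → IsCyclic M
  · exact Or.inr hcyc
  · left
    push Not at hcyc
    obtain ⟨M, hMK, hMn, hMab, hMnc⟩ := hcyc
    have hex : ∃ c : ℕ, c.Prime ∧ c < Nat.card {x : M // x ^ c = 1} := by
      by_contra hno
      push Not at hno
      exact hMnc (isCyclic_of_prime_torsion
        (fun a b => Subtype.ext (hMab a a.2 b b.2)) hno)
    obtain ⟨c, hc, hlt⟩ := hex
    let M' : Subgroup G :=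
      { carrier := {x | x ∈ M ∧ x ^ c = 1}
        mul_mem' := by
          rintro a b ⟨ha, hac⟩ ⟨hb, hbc⟩
          refine ⟨M.mul_mem ha hb, ?_⟩
          have hco : Commute a b := hMab a ha b hb
          rw [hco.mul_pow, hac, hbc, one_mul]
        one_mem' := ⟨M.one_mem, one_pow c⟩
        inv_mem' := by
          rintro a ⟨ha, hac⟩
          exact ⟨M.inv_mem ha, by rw [inv_pow, hac, inv_one]⟩ }
    have hmem : ∀ x : G, x ∈ M' ↔ x ∈ M ∧ x ^ c = 1 := fun x => Iff.rfl
    have hM'M : M' ≤ M := fun x hx => ((hmem x).1 hx).1
    refine ⟨c, M', hc, hM'M.trans hMK, ?_, ⟨?_, ?_⟩, ?_⟩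
    · intro k hk
      have hkn := hMn hk
      rw [Subgroup.mem_normalizer_iff] at hkn ⊢
      intro x
      rw [hmem, hmem, ← hkn x]
      constructor
      · rintro ⟨hx, hxc⟩
        exact ⟨hx, by rw [conj_pow, hxc, mul_one, mul_inv_cancel]⟩
      · rintro ⟨hx, hxc⟩
        refine ⟨hx, ?_⟩
        rw [conj_pow] at hxc
        have : x ^ c = k⁻¹ * (k * x ^ c * k⁻¹) * k := by group
        rw [this, hxc, mul_one, inv_mul_cancel]
    · intro v hv w hw
      exact hMab v (hM'M hv) w (hM'M hw)
    · intro v hv
      exact ((hmem v).1 hv).2
    · -- the order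
      haveI : Fact c.Prime := ⟨hc⟩
      have hP : IsPGroup c M' := by
        intro g
        refine ⟨1, ?_⟩
        apply Subtype.ext
        rw [pow_one]
        simpa using ((hmem g.1).1 g.2).2
      obtain ⟨n, hn⟩ := IsPGroup.iff_card.1 hP
      have hle : Nat.card {x : M // x ^ c = 1} ≤ Nat.card M' := by
        refine Nat.card_le_card_of_injective
          (fun x => (⟨x.1.1, (hmem _).2 ⟨x.1.2, ?_⟩⟩ : M')) ?_
        · have := x.2
          have h2 := congrArg Subtype.val this
          simpa using h2
        · intro x y hxy
          apply Subtype.ext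
          apply Subtype.ext
          have h3 := congrArg (fun z : M' => (z : G)) hxy
          exact h3
      have hcn : c < c ^ n := by
        rw [← hn]
        exact lt_of_lt_of_le hlt hle
      have h2n : 2 ≤ n := by
        by_contra hn2
        push Not at hn2
        have : c ^ n ≤ c ^ 1 := Nat.pow_le_pow_right hc.pos (by omega)
        rw [pow_one] at this
        omega
      rw [hn]
      exact pow_dvd_pow c h2n

example : CaseSplitStmt.{0} := caseSplit

end Cfsg.Agent.Lib.H5.S3814CaseSplit
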