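import Mathlib
import Cfsg.Agent.Lib.H8.S3814MPDefs

/-!
# S3814, block (MP), piece (K3d) (helper5)

The norm argument: `A = C_r × C_r` normalised by `T = C_s × C_s`, `y₀ ≠ 1` in `T` centralising `A`
and `t₁ ∈ T` not centralising `A` is impossible.
-/

set_option autoImplicit false
set_option linter.style.haveILetI false

namespace Cfsg.Agent.Lib.H5.S3814MPK3d

open Cfsg.Agent.H7.S3814Defs Cfsg.Agent.Lib.H8.S3814MP

universe u

/-! ## the abstract norm argument -/

section abstract

theorem prod_shift {M : Type*} [CommGroup M] (F : ℕ → M) (n : ℕ) (h : F n = F 0) :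
    ∏ i ∈ Finset.range n, F (i + 1) = ∏ i ∈ Finset.range n, F i := by
  have h1 := Finset.prod_range_succ' F n
  have h2 := Finset.prod_range_succ F n
  rw [h1, h] at h2
  exact mul_right_cancel h2

theorem trace_ne_one {H M : Type*} [Group H] [CommGroup M] [MulDistribMulAction H M] {r s : ℕ}
    (hs : 0 < s) (e t : H) (v : M) (her : e ^ r = 1) (hts : t ^ s = 1) (hev : e • v = v)
    (hvr : v ^ r ≠ 1) (hcomm : ∀ i : ℕ, Commute (t ^ i * e * (t ^ i)⁻¹) e)
    (hncf : ∀ i : ℕ, 0 < i → i < s → ∀ u : M, e • u = u →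
      (t ^ i * e * (t ^ i)⁻¹) • u = u → u = 1) :
    t • (∏ i ∈ Finset.range s, t ^ i • v) = ∏ i ∈ Finset.range s, t ^ i • v ∧
      (∏ i ∈ Finset.range s, t ^ i • v) ≠ 1 := by
  constructor
  · rw [Finset.smul_prod']
    have := prod_shift (fun i => t ^ i • v) s (by simp [hts])
    simp only [smul_smul, ← pow_succ']
    exact this
  · have hNfix : ∀ u : M, e • (∏ k ∈ Finset.range r, e ^ k • u) =
        ∏ k ∈ Finset.range r, e ^ k • u := by
      intro u
      rw [Finset.smul_prod']
      simp only [smul_smul, ← pow_succ']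
      exact prod_shift (fun k => e ^ k • u) r (by simp [her])
    have hfixk : ∀ k : ℕ, e ^ k • v = v := by
      intro k
      induction k with
      | zero => simp
      | succ k ih => rw [pow_succ, mul_smul, hev, ih]
    have hNv : (∏ k ∈ Finset.range r, e ^ k • v) = v ^ r := by
      simp [hfixk]
    have hNi : ∀ i : ℕ, 0 < i → i < s →
        (∏ k ∈ Finset.range r, e ^ k • (t ^ i • v)) = 1 := by
      intro i hi his
      apply hncf i hi his _ (hNfix _)
      have hu : (t ^ i * e * (t ^ i)⁻¹) • (t ^ i • v) = t ^ i • v := by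
        rw [smul_smul, inv_mul_cancel_right, mul_smul, hev]
      have hck : ∀ k : ℕ, (t ^ i * e * (t ^ i)⁻¹) * e ^ k = e ^ k * (t ^ i * e * (t ^ i)⁻¹) :=
        fun k => ((hcomm i).pow_right k).eq
      rw [Finset.smul_prod']
      apply Finset.prod_congr rfl
      intro k _
      rw [smul_smul, hck, mul_smul, hu]
    intro hw
    have h1 : (∏ k ∈ Finset.range r, e ^ k • (∏ i ∈ Finset.range s, t ^ i • v)) =
        ∏ i ∈ Finset.range s, ∏ k ∈ Finset.range r, e ^ k • (t ^ i • v) := by
      rw [Finset.prod_comm]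
      apply Finset.prod_congr rfl
      intro k _
      rw [Finset.smul_prod']
    rw [hw] at h1
    simp only [smul_one, Finset.prod_const_one] at h1
    rw [Finset.prod_eq_single 0] at h1
    · simp only [pow_zero, one_smul] at h1
      rw [hNv] at h1
      exact hvr h1.symm
    · intro i hi hi0
      exact hNi i (Nat.pos_of_ne_zero hi0) (Finset.mem_range.1 hi)
    · intro h0
      exact absurd (Finset.mem_range.2 hs) h0

end abstract

/-! ## subgroups generated by two commuting elements -/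

section pair

variable {G : Type*} [Group G]

theorem pair_le {a b : G} {X : Subgroup G} (ha : a ∈ X) (hb : b ∈ X) :
    Subgroup.closure ({a, b} : Set G) ≤ X := by
  rw [Subgroup.closure_le]
  intro x hx
  simp only [Set.mem_insert_iff, Set.mem_singleton_iff] at hx
  rcases hx with rfl | rfl
  · exact ha
  · exact hb

theorem pair_comm {a b : G} (hab : a * b = b * a) :
    ∀ x ∈ Subgroup.closure ({a, b} : Set G), ∀ y ∈ Subgroup.closure ({a, b} : Set G),
      x * y = y * x := by
  have h1 : Subgroup.closure ({a, b} : Set G) ≤ Subgroup.centralizer ({a, b} : Set G) := by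
    apply pair_le
    · rw [Subgroup.mem_centralizer_iff]
      intro h hh
      simp only [Set.mem_insert_iff, Set.mem_singleton_iff] at hh
      rcases hh with rfl | rfl
      · rfl
      · exact hab.symm
    · rw [Subgroup.mem_centralizer_iff]
      intro h hh
      simp only [Set.mem_insert_iff, Set.mem_singleton_iff] at hh
      rcases hh with rfl | rfl
      · exact hab
      · rfl
  have h2 : Subgroup.closure ({a, b} : Set G) ≤
      Subgroup.centralizer (Subgroup.closure ({a, b} : Set G) : Set G) := by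
    apply pair_le
    · rw [Subgroup.mem_centralizer_iff]
      intro h hh
      have := h1 hh
      rw [Subgroup.mem_centralizer_iff] at this
      exact (this a (by simp)).symm
    · rw [Subgroup.mem_centralizer_iff]
      intro h hh
      have := h1 hh
      rw [Subgroup.mem_centralizer_iff] at this
      exact (this b (by simp)).symm
  intro x hx y hy
  have := h2 hx
  rw [Subgroup.mem_centralizer_iff] at this
  exact (this y hy).symm

theorem pair_pow {a b : G} {t : ℕ} (hab : a * b = b * a) (ha : a ^ t = 1) (hb : b ^ t = 1) :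
    ∀ x ∈ Subgroup.closure ({a, b} : Set G), x ^ t = 1 := by
  intro x hx
  induction hx using Subgroup.closure_induction with
  | mem x hx =>
    simp only [Set.mem_insert_iff, Set.mem_singleton_iff] at hx
    rcases hx with rfl | rfl <;> assumption
  | one => exact one_pow t
  | mul x y hx hy ihx ihy =>
    have hc : Commute x y := pair_comm hab x hx y hy
    rw [hc.mul_pow, ihx, ihy, one_mul]
  | inv x hx ih => rw [inv_pow, ih, inv_one]

theorem pair_conj_mem [Finite G] {a b c d : G}
    (hca : c * a * c⁻¹ ∈ Subgroup.closure ({a, b} : Set G))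
    (hcb : c * b * c⁻¹ ∈ Subgroup.closure ({a, b} : Set G))
    (hda : d * a * d⁻¹ ∈ Subgroup.closure ({a, b} : Set G))
    (hdb : d * b * d⁻¹ ∈ Subgroup.closure ({a, b} : Set G)) :
    ∀ t ∈ Subgroup.closure ({c, d} : Set G), ∀ x ∈ Subgroup.closure ({a, b} : Set G),
      t * x * t⁻¹ ∈ Subgroup.closure ({a, b} : Set G) := by
  have key : ∀ g : G, g * a * g⁻¹ ∈ Subgroup.closure ({a, b} : Set G) →
      g * b * g⁻¹ ∈ Subgroup.closure ({a, b} : Set G) →
      g ∈ Subgroup.normalizer ((Subgroup.closure ({a, b} : Set G) : Subgroup G) : Set G) := by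
    intro g hga hgb
    apply Subgroup.mem_normalizer_fintype
    intro n hn
    have hle : Subgroup.closure ({a, b} : Set G) ≤
        (Subgroup.closure ({a, b} : Set G)).comap (MulAut.conj g).toMonoidHom := by
      apply pair_le
      · rw [Subgroup.mem_comap]
        simpa using hga
      · rw [Subgroup.mem_comap]
        simpa using hgb
    have := hle hn
    rw [Subgroup.mem_comap] at this
    simpa using this
  have hT : Subgroup.closure ({c, d} : Set G) ≤
      Subgroup.normalizer ((Subgroup.closure ({a, b} : Set G) : Subgroup G) : Set G) :=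
    pair_le (key c hca hcb) (key d hda hdb)
  intro t ht x hx
  exact (Subgroup.mem_normalizer_iff.1 (hT ht) x).1 hx

/-- conjugation action of the normaliser of `V` on `V` -/
@[reducible] def normalizerAct (V : Subgroup G) :
    MulDistribMulAction ↥(Subgroup.normalizer (V : Set G)) ↥V where
  smul g x := ⟨(g : G) * x * (g : G)⁻¹, (Subgroup.mem_normalizer_iff.1 g.2 x).1 x.2⟩
  one_smul x := by
    apply Subtype.ext
    change ((1 : ↥(Subgroup.normalizer (V : Set G))) : G) * x *
      ((1 : ↥(Subgroup.normalizer (V : Set G))) : G)⁻¹ = x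
    simp
  mul_smul g h x := by
    apply Subtype.ext
    change ((g * h : ↥(Subgroup.normalizer (V : Set G))) : G) * x *
      ((g * h : ↥(Subgroup.normalizer (V : Set G))) : G)⁻¹ =
      (g : G) * ((h : G) * x * (h : G)⁻¹) * (g : G)⁻¹
    simp [mul_assoc]
  smul_mul g x y := by
    apply Subtype.ext
    change (g : G) * ((x * y : ↥V) : G) * (g : G)⁻¹ =
      ((g : G) * x * (g : G)⁻¹) * ((g : G) * y * (g : G)⁻¹)
    simp [mul_assoc]
  smul_one g := by
    apply Subtype.ext
    change (g : G) * ((1 : ↥V) : G) * (g : G)⁻¹ = ((1 : ↥V) : G)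
    simp

end pair

attribute [local instance] normalizerAct

theorem smul_coe {G : Type*} [Group G] (V : Subgroup G)
    (g : ↥(Subgroup.normalizer (V : Set G))) (x : ↥V) :
    ((g • x : ↥V) : G) = (g : G) * x * (g : G)⁻¹ := rfl

open scoped IsMulCommutative in
/-- the main step: `t₁` has a nontrivial fixed point on `V` -/
theorem colV (hL : LineProp.{u}) (hN : NcfProp.{u}) (hK2 : K2Prop.{u})
    {G : Type u} [Group G] [Finite G] {r s : ℕ} {V W X : Subgroup G} (h : Hyp r s V W X)
    {a b c d : G} (ctx : K3Ctx r s X a b c d)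
    (y₀ : G) (hy₀ : y₀ ∈ Subgroup.closure ({c, d} : Set G)) (hy₀1 : y₀ ≠ 1)
    (hy₀c : ∀ e ∈ Subgroup.closure ({a, b} : Set G), y₀ * e = e * y₀)
    (t₁ : G) (ht₁ : t₁ ∈ Subgroup.closure ({c, d} : Set G))
    (hnc : ¬ ∀ e ∈ Subgroup.closure ({a, b} : Set G), t₁ * e = e * t₁) : Col t₁ V := by
  obtain ⟨hao, hbo, hab, -⟩ := ctx.pab
  obtain ⟨hco, hdo, hcd, -⟩ := ctx.pcd
  have hr := h.hr
  have hs := h.hs
  have hAX : Subgroup.closure ({a, b} : Set G) ≤ X := pair_le ctx.ha ctx.hb
  have hAc := pair_comm hab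
  have hAr : ∀ x ∈ Subgroup.closure ({a, b} : Set G), x ^ r = 1 :=
    pair_pow hab (by rw [← hao]; exact pow_orderOf_eq_one a)
      (by rw [← hbo]; exact pow_orderOf_eq_one b)
  have hTX : Subgroup.closure ({c, d} : Set G) ≤ X := pair_le ctx.hc ctx.hd
  have hTc := pair_comm hcd
  have hTs : ∀ x ∈ Subgroup.closure ({c, d} : Set G), x ^ s = 1 :=
    pair_pow hcd (by rw [← hco]; exact pow_orderOf_eq_one c)
      (by rw [← hdo]; exact pow_orderOf_eq_one d)
  have hTA := pair_conj_mem ctx.nca ctx.ncb ctx.nda ctx.ndb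
  have ord_of : ∀ {p : ℕ}, p.Prime → ∀ {x : G}, x ^ p = 1 → x ≠ 1 → orderOf x = p := by
    intro p hp x hx hx1
    rcases (Nat.dvd_prime hp).1 (orderOf_dvd_of_pow_eq_one hx) with h1 | h1
    · exact absurd (orderOf_eq_one_iff.1 h1) hx1
    · exact h1
  have ht₁1 : t₁ ≠ 1 := by
    rintro rfl
    apply hnc
    intro e _
    simp
  have ht₁o : orderOf t₁ = s := ord_of hs (hTs t₁ ht₁) ht₁1
  have hy₀o : orderOf y₀ = s := ord_of hs (hTs y₀ hy₀) hy₀1
  have hCA : ∀ g : G, g ∈ Subgroup.zpowers y₀ →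
      ∀ e ∈ Subgroup.closure ({a, b} : Set G), g * e = e * g := by
    intro g hg
    have hle : Subgroup.zpowers y₀ ≤
        Subgroup.centralizer ((Subgroup.closure ({a, b} : Set G) : Subgroup G) : Set G) := by
      rw [Subgroup.zpowers_le, Subgroup.mem_centralizer_iff]
      intro e he
      exact (hy₀c e he).symm
    intro e he
    have := hle hg
    rw [Subgroup.mem_centralizer_iff] at this
    exact (this e he).symm
  have hy₀not : ∀ g ∈ Subgroup.zpowers t₁, g ≠ 1 → y₀ ∉ Subgroup.zpowers g := by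
    intro g hg _ hy
    have hle : Subgroup.zpowers y₀ ≤ Subgroup.zpowers t₁ := by
      rw [Subgroup.zpowers_le]
      exact (Subgroup.zpowers_le.2 hg) hy
    have heq : Subgroup.zpowers y₀ = Subgroup.zpowers t₁ := by
      apply Subgroup.eq_of_le_of_card_ge hle
      rw [Nat.card_zpowers, Nat.card_zpowers, ht₁o, hy₀o]
    have : t₁ ∈ Subgroup.zpowers y₀ := by
      rw [heq]
      exact Subgroup.mem_zpowers t₁
    exact hnc (hCA t₁ this)
  have haN : ∀ x ∈ X, ∀ u ∈ V, x * u * x⁻¹ ∈ V := fun x hx u hu =>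
    (Subgroup.mem_normalizer_iff.1 (h.normV hx) u).1 hu
  obtain ⟨e, heA, he1, v, hvV, hv1, hev⟩ :=
    hL h hr ctx.ha ctx.hb ctx.pab V le_rfl h.neV (haN a ctx.ha) (haN b ctx.hb)
  have heo : orderOf e = r := ord_of hr (hAr e heA) he1
  have heX : e ∈ X := hAX heA
  have ht₁X : t₁ ∈ X := hTX ht₁
  have hconjA : ∀ i : ℕ, t₁ ^ i * e * (t₁ ^ i)⁻¹ ∈ Subgroup.closure ({a, b} : Set G) :=
    fun i => hTA _ (Subgroup.pow_mem _ ht₁ i) e heA
  have hK2' : ∀ i : ℕ, 0 < i → i < s → t₁ ^ i * e * (t₁ ^ i)⁻¹ ∉ Subgroup.zpowers e := by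
    intro i hi his hmem
    have hg1 : t₁ ^ i ≠ 1 := by
      intro h1
      have := orderOf_dvd_of_pow_eq_one h1
      rw [ht₁o] at this
      exact absurd (Nat.le_of_dvd hi this) (not_le.2 his)
    have hgT : t₁ ^ i ∈ Subgroup.closure ({c, d} : Set G) := Subgroup.pow_mem _ ht₁ i
    have hpair : IsRank2Pair s (t₁ ^ i) y₀ :=
      ⟨ord_of hs (hTs _ hgT) hg1, hy₀o, hTc _ hgT _ hy₀,
        hy₀not _ (Subgroup.pow_mem _ (Subgroup.mem_zpowers t₁) i) hg1⟩
    refine hK2 h heX heo ⟨v, hvV, hv1, hev⟩ (hTX hgT) (hTX hy₀) hpair hmem ?_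
    rw [hy₀c e heA, mul_inv_cancel_right]
    exact Subgroup.mem_zpowers e
  -- instantiate the norm lemma
  haveI : IsMulCommutative ↥V := ⟨⟨fun x y => Subtype.ext (h.commV x x.2 y y.2)⟩⟩
  let eN : ↥(Subgroup.normalizer (V : Set G)) := ⟨e, h.normV heX⟩
  let tN : ↥(Subgroup.normalizer (V : Set G)) := ⟨t₁, h.normV ht₁X⟩
  let vV : ↥V := ⟨v, hvV⟩
  have hcoe : ∀ i : ℕ, ((tN ^ i * eN * (tN ^ i)⁻¹ : ↥(Subgroup.normalizer (V : Set G))) : G) =
      t₁ ^ i * e * (t₁ ^ i)⁻¹ := by
    intro i
    simp [eN, tN]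
  have key := trace_ne_one (r := r) (s := s) hs.pos eN tN vV ?_ ?_ ?_ ?_ ?_ ?_
  · obtain ⟨k1, k2⟩ := key
    refine ⟨((∏ i ∈ Finset.range s, tN ^ i • vV : ↥V) : G), Subtype.property _, ?_, ?_⟩
    · intro hw
      exact k2 (Subtype.ext hw)
    · have := congrArg Subtype.val k1
      rw [smul_coe] at this
      exact mul_inv_eq_iff_eq_mul.1 this
  · apply Subtype.ext
    simp only [eN, Subgroup.coe_pow, Subgroup.coe_one]
    rw [← heo]
    exact pow_orderOf_eq_one e
  · apply Subtype.ext
    simp only [tN, Subgroup.coe_pow, Subgroup.coe_one]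
    rw [← ht₁o]
    exact pow_orderOf_eq_one t₁
  · apply Subtype.ext
    rw [smul_coe]
    change e * v * e⁻¹ = v
    rw [hev, mul_inv_cancel_right]
  · intro hh
    have hvr : v ^ r = 1 := by
      have := congrArg Subtype.val hh
      simpa [vV] using this
    have hov : orderOf v = r := ord_of hr hvr hv1
    have hdV : r ∣ Nat.card ↥V := by
      rw [← hov, ← Subgroup.orderOf_mk v hvV]
      exact orderOf_dvd_natCard _
    have hdX : r ∣ Nat.card ↥X := by
      rw [← heo, ← Subgroup.orderOf_mk e heX]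
      exact orderOf_dvd_natCard _
    have hcop : Nat.Coprime r r :=
      Nat.Coprime.coprime_dvd_left hdV (Nat.Coprime.coprime_dvd_right hdX h.copV)
    exact hr.one_lt.ne' ((Nat.coprime_self r).1 hcop)
  · intro i
    apply Subtype.ext
    simp only [Subgroup.coe_mul, Subgroup.coe_inv, Subgroup.coe_pow]
    exact hAc _ (hconjA i) e heA
  · intro i hi his u hu1 hu2
    have hpair : IsRank2Pair r e (t₁ ^ i * e * (t₁ ^ i)⁻¹) :=
      ⟨heo, ord_of hr (hAr _ (hconjA i)) (fun h1 => he1 (conj_eq_one_iff.1 h1)),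
        hAc e heA _ (hconjA i), hK2' i hi his⟩
    have h1 : e * (u : G) = u * e := by
      have := congrArg Subtype.val hu1
      rw [smul_coe] at this
      exact mul_inv_eq_iff_eq_mul.1 this
    have h2 : (t₁ ^ i * e * (t₁ ^ i)⁻¹) * (u : G) = u * (t₁ ^ i * e * (t₁ ^ i)⁻¹) := by
      have := congrArg Subtype.val hu2
      rw [smul_coe, hcoe] at this
      exact mul_inv_eq_iff_eq_mul.1 this
    exact Subtype.ext (hN h hr heX (hAX (hconjA i)) hpair u u.2 h1 h2)

/-- **(K3d)** -/
theorem k3d : K3dStmt.{u} := by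
  intro hL hN hK2 G _ _ r s V W X h a b c d ctx y₀ hy₀ hy₀1 hy₀c t₁ ht₁ hnc
  have hV := colV hL hN hK2 h ctx y₀ hy₀ hy₀1 hy₀c t₁ ht₁ hnc
  have hW := colV hL hN hK2 h.swapVW ctx y₀ hy₀ hy₀1 hy₀c t₁ ht₁ hnc
  have ht₁1 : t₁ ≠ 1 := by
    rintro rfl
    apply hnc
    intro e _
    simp
  exact h.h1 t₁ (pair_le ctx.hc ctx.hd ht₁) ht₁1 hV hW

example : K3dStmt.{0} := k3d

end Cfsg.Agent.Lib.H5.S3814MPK3d
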