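import Cfsg.Agent.Lib.H22.S3901Defs
import Cfsg.Agent.S0144

/-!
# S3901: the assembly (twin, helper5)

`main : PropAStmt → StepBStmt → (the row's statement without `N ≠ ⊥`)`, via the landed Burnside
two-prime theorem `Cfsg.Agent.S0144.result`.
-/

set_option autoImplicit false

namespace Cfsg.Agent.Lib.H5.S3901Main

open Cfsg.Agent.Lib.H22.S3901Defs
open scoped Pointwise

universe u

/-- A nonzero natural number all of whose prime divisors are `p` or `q` is `p ^ a * q ^ b`. -/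
theorem eq_two_prime_pow (n p q : ℕ) (hn : n ≠ 0) (hpq : p ≠ q)
    (h : ∀ r : ℕ, r.Prime → r ∣ n → r = p ∨ r = q) : ∃ a b : ℕ, n = p ^ a * q ^ b := by
  have hsupp : n.factorization.support ⊆ {p, q} := by
    intro r hr
    rw [Nat.support_factorization] at hr
    have h1 := Nat.mem_primeFactors.mp hr
    rcases h r h1.1 h1.2.1 with h2 | h2 <;> simp [h2]
  have h3 := Nat.prod_factorization_pow_eq_self hn
  rw [Finsupp.prod_of_support_subset _ hsupp _ (by intros; simp), Finset.prod_pair hpq] at h3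
  exact ⟨_, _, h3.symm⟩

/-- The index computation: `K` normal in `G`, `g0` with `g0 ^ q ∈ K`, `g0 ∉ K`, every element of
`G` in `K * g0 ^ i`: then `K.index = q`. -/
theorem index_eq_prime_of_cyclic {G : Type u} [Group G] (K : Subgroup G) [K.Normal]
    (q : ℕ) (hq : q.Prime) (g0 : G) (hg0q : g0 ^ q ∈ K) (hg0 : g0 ∉ K)
    (hgen : ∀ g : G, ∃ i : ℤ, g * g0 ^ i ∈ K) : K.index = q := by
  have hall : ∀ x : G ⧸ K, x ∈ Subgroup.zpowers (QuotientGroup.mk' K g0) := by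
    intro x
    obtain ⟨g, rfl⟩ := QuotientGroup.mk'_surjective K x
    obtain ⟨i, hi⟩ := hgen g
    rw [Subgroup.mem_zpowers_iff]
    refine ⟨-i, ?_⟩
    have h1 : QuotientGroup.mk' K (g * g0 ^ i) = 1 := by
      rw [QuotientGroup.mk'_apply, QuotientGroup.eq_one_iff]; exact hi
    rw [map_mul, map_zpow] at h1
    rw [zpow_neg]
    exact (eq_inv_of_mul_eq_one_left h1).symm
  have hcard := orderOf_eq_card_of_forall_mem_zpowers hall
  rw [Subgroup.index_eq_card, ← hcard]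
  have hdvd : orderOf (QuotientGroup.mk' K g0) ∣ q := by
    apply orderOf_dvd_of_pow_eq_one
    rw [← map_pow, QuotientGroup.mk'_apply, QuotientGroup.eq_one_iff]; exact hg0q
  rcases (Nat.dvd_prime hq).mp hdvd with h1 | h1
  · exfalso
    rw [orderOf_eq_one_iff, QuotientGroup.mk'_apply, QuotientGroup.eq_one_iff] at h1
    exact hg0 h1
  · exact h1

theorem main (hA : PropAStmt.{u}) (hB : StepBStmt.{u}) {G : Type u} [Group G] [Finite G]
    (N : Subgroup G) [N.Normal] (hns : ¬ Group.IsSolvable ↥N)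
    (h : ∀ x : G, x ∉ N → IsPrimePow (orderOf x)) : Group.IsSolvable (G ⧸ N) := by
  by_contra hsol
  have hnpp : ¬ ∃ p k : ℕ, p.Prime ∧ Nat.card (G ⧸ N) = p ^ k := by
    rintro ⟨p, k, hp, hk⟩
    have : Fact p.Prime := ⟨hp⟩
    have hpg : IsPGroup p (G ⧸ N) := IsPGroup.of_card hk
    have := hpg.isNilpotent
    exact hsol inferInstance
  obtain ⟨p, q, hp, hq, hpq, Hb, hHp, hHne, yb, hyN, hyq⟩ := hB (G ⧸ N) hnpp
  -- `yb ∉ Hb`
  have hybH : yb ∉ Hb := by
    intro hmem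
    obtain ⟨k, hk⟩ := hHp ⟨yb, hmem⟩
    have hk' : yb ^ (p ^ k) = 1 := by
      have := congrArg Subtype.val hk
      simpa using this
    have hd : q ∣ p ^ k := hyq ▸ orderOf_dvd_of_pow_eq_one hk'
    have hd' : q ∣ p := hq.dvd_of_dvd_pow hd
    exact hpq ((Nat.prime_dvd_prime_iff_eq hq hp).mp hd').symm
  have hzN : Subgroup.zpowers yb ≤ Subgroup.normalizer (Hb : Set (G ⧸ N)) := by
    rw [Subgroup.zpowers_le]; exact hyN
  have hJN : Hb ⊔ Subgroup.zpowers yb ≤ Subgroup.normalizer (Hb : Set (G ⧸ N)) :=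
    sup_le Subgroup.le_normalizer hzN
  have hJset : ((Hb ⊔ Subgroup.zpowers yb : Subgroup (G ⧸ N)) : Set (G ⧸ N))
      = (Hb : Set (G ⧸ N)) * (Subgroup.zpowers yb : Set (G ⧸ N)) :=
    Subgroup.coe_mul_of_right_le_normalizer_left Hb (Subgroup.zpowers yb) hzN
  -- the group `G1`
  let G1 : Subgroup G := (Hb ⊔ Subgroup.zpowers yb).comap (QuotientGroup.mk' N)
  have hNG1 : N ≤ G1 := by
    intro x hx
    show QuotientGroup.mk' N x ∈ Hb ⊔ Subgroup.zpowers yb
    have : QuotientGroup.mk' N x = 1 := by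
      rw [QuotientGroup.mk'_apply, QuotientGroup.eq_one_iff]; exact hx
    rw [this]; exact one_mem _
  let f : G1 →* G ⧸ N := (QuotientGroup.mk' N).comp G1.subtype
  have hf : ∀ x : G1, f x ∈ Hb ⊔ Subgroup.zpowers yb := fun x => x.2
  have hfker : ∀ x : G1, f x = 1 ↔ x ∈ N.subgroupOf G1 := by
    intro x
    show QuotientGroup.mk' N (x : G) = 1 ↔ _
    rw [QuotientGroup.mk'_apply, QuotientGroup.eq_one_iff, Subgroup.mem_subgroupOf]
  let K1 : Subgroup G1 := Hb.comap f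
  have hK1n : K1.Normal := by
    constructor
    intro k hk g
    show f (g * k * g⁻¹) ∈ Hb
    rw [map_mul, map_mul, map_inv]
    exact (Subgroup.mem_normalizer_iff.mp (hJN (hf g)) (f k)).mp hk
  have hN1K1 : N.subgroupOf G1 ≤ K1 := by
    intro x hx
    show f x ∈ Hb
    rw [(hfker x).mpr hx]; exact one_mem _
  -- a lift of `yb`
  obtain ⟨y0, hy0⟩ := QuotientGroup.mk'_surjective N yb
  have hy0G1 : y0 ∈ G1 := by
    show QuotientGroup.mk' N y0 ∈ Hb ⊔ Subgroup.zpowers yb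
    rw [hy0]; exact Subgroup.mem_sup_right (Subgroup.mem_zpowers yb)
  have hfy0 : f ⟨y0, hy0G1⟩ = yb := hy0
  have hidx : K1.index = q := by
    apply index_eq_prime_of_cyclic K1 q hq ⟨y0, hy0G1⟩
    · show f (⟨y0, hy0G1⟩ ^ q) ∈ Hb
      rw [map_pow, hfy0, ← hyq, pow_orderOf_eq_one]; exact one_mem _
    · intro hmem
      have : f ⟨y0, hy0G1⟩ ∈ Hb := hmem
      rw [hfy0] at this
      exact hybH this
    · intro g
      have hg : f g ∈ ((Hb ⊔ Subgroup.zpowers yb : Subgroup (G ⧸ N)) : Set (G ⧸ N)) := hf g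
      rw [hJset] at hg
      obtain ⟨a, ha, b, hb, hab⟩ := hg
      obtain ⟨i, hi⟩ := Subgroup.mem_zpowers_iff.mp hb
      refine ⟨-i, ?_⟩
      show f (g * ⟨y0, hy0G1⟩ ^ (-i)) ∈ Hb
      rw [map_mul, map_zpow, hfy0, ← hab, ← hi, zpow_neg, mul_assoc, mul_inv_cancel, mul_one]
      exact ha
  have hpow : ∀ k ∈ K1, ∃ j : ℕ, k ^ (p ^ j) ∈ N.subgroupOf G1 := by
    intro k hk
    obtain ⟨j, hj⟩ := hHp ⟨f k, hk⟩
    refine ⟨j, ?_⟩
    rw [← hfker, map_pow]
    have := congrArg Subtype.val hj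
    simpa using this
  have hex : ∃ k ∈ K1, k ∉ N.subgroupOf G1 := by
    obtain ⟨hb, hbH, hb1⟩ := (Subgroup.ne_bot_iff_exists_ne_one (H := Hb)).mp hHne |> fun ⟨a, ha⟩ =>
      (⟨(a : G ⧸ N), a.2, fun h1 => ha (Subtype.ext h1)⟩ : ∃ x : G ⧸ N, x ∈ Hb ∧ x ≠ 1)
    obtain ⟨g, hg⟩ := QuotientGroup.mk'_surjective N hb
    have hgG1 : g ∈ G1 := by
      show QuotientGroup.mk' N g ∈ Hb ⊔ Subgroup.zpowers yb
      rw [hg]; exact Subgroup.mem_sup_left hbH
    refine ⟨⟨g, hgG1⟩, ?_, ?_⟩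
    · show f ⟨g, hgG1⟩ ∈ Hb
      have : f ⟨g, hgG1⟩ = hb := hg
      rw [this]; exact hbH
    · intro hmem
      have : f ⟨g, hgG1⟩ = 1 := (hfker _).mpr hmem
      have h2 : f ⟨g, hgG1⟩ = hb := hg
      exact hb1 (h2 ▸ this)
  have hpp : ∀ x : G1, x ∉ N.subgroupOf G1 → IsPrimePow (orderOf x) := by
    intro x hx
    rw [← Subgroup.orderOf_coe]
    exact h (x : G) (fun hxN => hx (Subgroup.mem_subgroupOf.mpr hxN))
  have hfac := hA G1 (N.subgroupOf G1) K1 p q hp hq hpq hN1K1 hidx hpow hex hpp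
  have hcardN : Nat.card (N.subgroupOf G1) = Nat.card N :=
    Nat.card_congr (Subgroup.subgroupOfEquivOfLe hNG1).toEquiv
  rw [hcardN] at hfac
  obtain ⟨a, b, hab⟩ := eq_two_prime_pow (Nat.card N) p q Nat.card_pos.ne' hpq hfac
  exact hns (Cfsg.Agent.S0144.result p q a b hp hq hab)

/-- The row's exact statement shape from the two pieces. -/
theorem row (hA : PropAStmt.{u}) (hB : StepBStmt.{u}) {G : Type u} [Group G] [Finite G]
    (N : Subgroup G) [N.Normal] (_hN : N ≠ ⊥) (hns : ¬ Group.IsSolvable ↥N)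
    (h : ∀ x : G, x ∉ N → IsPrimePow (orderOf x)) : Group.IsSolvable (G ⧸ N) :=
  main hA hB N hns h

example (hA : PropAStmt.{0}) (hB : StepBStmt.{0}) {G : Type} [Group G] [Finite G]
    (N : Subgroup G) [N.Normal] (hns : ¬ Group.IsSolvable ↥N)
    (h : ∀ x : G, x ∉ N → IsPrimePow (orderOf x)) : Group.IsSolvable (G ⧸ N) :=
  main hA hB N hns h

end Cfsg.Agent.Lib.H5.S3901Main
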