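import Cfsg.Agent.Lib.H5.S4415G4
import Cfsg.Agent.Lib.H10.S4415BadDefs

/-!
# S4415, GOOD block, part (c) of `FourStmt` (helper5): the diagonal part of `R` has order `8`

With `n = 4` lines, `A := {r ∈ R | φ r = 1}` is elementary abelian of order exactly `8`:
* `A` acts by signs on the frame and is faithful, so it embeds in the sign vectors;
* the product of the signs of the monomial cocycle is a homomorphism `R<b> → {±1}`, trivial on
  `R = [R,b]`, so the sign vectors of `A` are even: `|A| ≤ 8`;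
* conjugating the nonscalar element `a` into `a₁` with a `-1` at the fixed point `p` of `φ b`,
  the five elements `1, a₁, a₂ = b a₁ b⁻¹, a₃ = b a₂ b⁻¹, a₁ a₂` of the `2`-group `A` are different.
-/

set_option autoImplicit false

namespace Cfsg.Agent.Lib.H5.S4415G5c

open Cfsg.Agent.Lib.H10.S4415 Cfsg.Agent.Lib.H24.S4415G Cfsg.Agent.Lib.H5.S4415G3
  Cfsg.Agent.Lib.H5.S4415G4

universe u v

set_option maxRecDepth 100000 in
/-- there are eight even sign vectors of length four -/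
theorem card_aux4 : Fintype.card
    {v : Fin 4 → ZMod 3 // (∀ i, v i = 1 ∨ v i = -1) ∧ ∏ i, v i = 1} = 8 := by
  decide

set_option maxRecDepth 100000 in
/-- an even sign vector of length four with a `-1` at `p` and a `1` somewhere has exactly one
more `-1` -/
theorem weight_two : ∀ (v : Fin 4 → ZMod 3) (p i' : Fin 4),
    ((∀ x, v x = 1 ∨ v x = -1) ∧ ∏ x, v x = 1 ∧ v p = -1 ∧ v i' = 1) →
    ∃ q, q ≠ p ∧ v q = -1 ∧ ∀ x, x ≠ p → x ≠ q → v x = 1 := by
  decide

section cocycle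

variable {S : Type u} {E : Type v} [Group S] [AddCommGroup E] [Module (ZMod 3) E]
  {ρ : Representation (ZMod 3) S E} {R : Subgroup S} {b : S} {W : Submodule (ZMod 3) E}
  {n : ℕ} {f : Fin n → E} {φ : ↥(RB R b) → Equiv.Perm (Fin n)}

theorem phi_one' (hM : MonoFrame ρ R b W f φ) : φ 1 = 1 := by
  have h := phi_mul hM 1 1
  rw [mul_one] at h
  have h2 : φ 1 * 1 = φ 1 * φ 1 := by rw [mul_one]; exact h
  exact (mul_left_cancel h2).symm

theorem phi_inv' (hM : MonoFrame ρ R b W f φ) (g : ↥(RB R b)) : φ g⁻¹ = (φ g)⁻¹ := by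
  have h := phi_mul hM g⁻¹ g
  rw [inv_mul_cancel, phi_one' hM] at h
  exact eq_inv_of_mul_eq_one_left h.symm

open Classical in
/-- the monomial sign cocycle -/
noncomputable def sgn (ρ : Representation (ZMod 3) S E) (f : Fin n → E)
    (φ : ↥(RB R b) → Equiv.Perm (Fin n)) (g : ↥(RB R b)) (i : Fin n) : ZMod 3 :=
  if ρ (g : S) (f i) = f (φ g i) then 1 else -1

theorem sgn_spec (hM : MonoFrame ρ R b W f φ) (g : ↥(RB R b)) (i : Fin n) :
    ρ (g : S) (f i) = sgn ρ f φ g i • f (φ g i) := by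
  unfold sgn
  split_ifs with h
  · rw [h, one_smul]
  · rcases hM.mono g i with h' | h'
    · exact absurd h' h
    · rw [h', neg_smul, one_smul]

theorem sgn_unique (hM : MonoFrame ρ R b W f φ) {g : ↥(RB R b)} {i : Fin n} {c : ZMod 3}
    (h : ρ (g : S) (f i) = c • f (φ g i)) : sgn ρ f φ g i = c := by
  apply smul_cancel hM (i := φ g i)
  rw [← sgn_spec hM g i, h]

theorem sgn_mul (hM : MonoFrame ρ R b W f φ) (g h : ↥(RB R b)) (i : Fin n) :
    sgn ρ f φ (g * h) i = sgn ρ f φ h i * sgn ρ f φ g (φ h i) := by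
  apply sgn_unique hM
  rw [Subgroup.coe_mul, map_mul, Module.End.mul_apply, sgn_spec hM h i, map_smul,
    sgn_spec hM g (φ h i), smul_smul, phi_mul hM g h, Equiv.Perm.mul_apply]

/-- the product of the signs -/
noncomputable def prodSgn (ρ : Representation (ZMod 3) S E) (f : Fin n → E)
    (φ : ↥(RB R b) → Equiv.Perm (Fin n)) (g : ↥(RB R b)) : ZMod 3 :=
  ∏ i, sgn ρ f φ g i

theorem prodSgn_mul (hM : MonoFrame ρ R b W f φ) (g h : ↥(RB R b)) :
    prodSgn ρ f φ (g * h) = prodSgn ρ f φ g * prodSgn ρ f φ h := by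
  unfold prodSgn
  rw [← Equiv.prod_comp (φ h) (fun j => sgn ρ f φ g j), ← Finset.prod_mul_distrib]
  apply Finset.prod_congr rfl
  intro i _
  rw [sgn_mul hM, mul_comm]

theorem prodSgn_one (hM : MonoFrame ρ R b W f φ) : prodSgn ρ f φ 1 = 1 := by
  unfold prodSgn
  apply Finset.prod_eq_one
  intro i _
  apply sgn_unique hM
  rw [phi_one' hM, Equiv.Perm.one_apply, Subgroup.coe_one, map_one, Module.End.one_apply, one_smul]

theorem prodSgn_mul_inv (hM : MonoFrame ρ R b W f φ) (g : ↥(RB R b)) :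
    prodSgn ρ f φ g * prodSgn ρ f φ g⁻¹ = 1 := by
  rw [← prodSgn_mul hM, mul_inv_cancel, prodSgn_one hM]

theorem prodSgn_comm (hM : MonoFrame ρ R b W f φ) (g h : ↥(RB R b)) :
    prodSgn ρ f φ (g * h * g⁻¹ * h⁻¹) = 1 := by
  rw [prodSgn_mul hM, prodSgn_mul hM, prodSgn_mul hM]
  calc prodSgn ρ f φ g * prodSgn ρ f φ h * prodSgn ρ f φ g⁻¹ * prodSgn ρ f φ h⁻¹
      = (prodSgn ρ f φ g * prodSgn ρ f φ g⁻¹) * (prodSgn ρ f φ h * prodSgn ρ f φ h⁻¹) := by ring
    _ = 1 := by rw [prodSgn_mul_inv hM, prodSgn_mul_inv hM, mul_one]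

/-- the product of the signs is trivial on `R = [R,b]` -/
theorem prodSgn_eq_one (hL : LinCtx ρ R b W) (hM : MonoFrame ρ R b W f φ) (y : ↥(RB R b))
    (hy : (y : S) ∈ R) : prodSgn ρ f φ y = 1 := by
  let K : Subgroup S :=
    { carrier := {s | ∃ h : s ∈ RB R b, prodSgn ρ f φ ⟨s, h⟩ = 1}
      mul_mem' := by
        rintro s t ⟨hs, ps⟩ ⟨ht, pt⟩
        refine ⟨(RB R b).mul_mem hs ht, ?_⟩
        have e : (⟨s * t, (RB R b).mul_mem hs ht⟩ : ↥(RB R b)) = ⟨s, hs⟩ * ⟨t, ht⟩ := rfl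
        rw [e, prodSgn_mul hM, ps, pt, mul_one]
      one_mem' := ⟨(RB R b).one_mem, prodSgn_one hM⟩
      inv_mem' := by
        rintro s ⟨hs, ps⟩
        refine ⟨(RB R b).inv_mem hs, ?_⟩
        have e : (⟨s⁻¹, (RB R b).inv_mem hs⟩ : ↥(RB R b)) = (⟨s, hs⟩ : ↥(RB R b))⁻¹ := rfl
        have h := prodSgn_mul_inv hM ⟨s, hs⟩
        rw [ps, one_mul] at h
        rw [e, h] }
  have hle : ⁅R, Subgroup.zpowers b⁆ ≤ K := by
    rw [Subgroup.commutator_le]
    intro r hr z hz
    have hr' : r ∈ RB R b := R_le_RB R b hr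
    have hz' : z ∈ RB R b := (le_sup_right : Subgroup.zpowers b ≤ RB R b) hz
    rw [commutatorElement_def]
    refine ⟨(RB R b).mul_mem ((RB R b).mul_mem ((RB R b).mul_mem hr' hz') ((RB R b).inv_mem hr'))
      ((RB R b).inv_mem hz'), ?_⟩
    exact prodSgn_comm hM ⟨r, hr'⟩ ⟨z, hz'⟩
  rw [hL.R_comm] at hle
  obtain ⟨h, hp⟩ := hle hy
  exact hp

end cocycle

section four

set_option linter.unusedSectionVars false

variable {S : Type u} {E : Type v} [Group S] [Finite S] [AddCommGroup E] [Module (ZMod 3) E]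
  {ρ : Representation (ZMod 3) S E} {R : Subgroup S} {b : S} {W : Submodule (ZMod 3) E}
  {n : ℕ} {f : Fin n → E} {φ : ↥(RB R b) → Equiv.Perm (Fin n)}

/-- `R<b>` normalises `R` -/
theorem conj_mem_R (hL : LinCtx ρ R b W) {g : S} (hg : g ∈ RB R b) {r : S} (hr : r ∈ R) :
    g * r * g⁻¹ ∈ R := by
  have hnorm : RB R b ≤ Subgroup.normalizer (R : Set S) := by
    refine sup_le Subgroup.le_normalizer ?_
    rw [Subgroup.zpowers_le]
    apply Subgroup.mem_normalizer_fintype
    intro r hr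
    exact hL.b_norm r hr
  have h := hnorm hg
  rw [Subgroup.mem_normalizer_iff] at h
  exact (h r).1 hr

/-- an element of `R` fixing every line acts by signs, with even sign vector -/
theorem diag_of_phi_one (hM : MonoFrame ρ R b W f φ) (y : ↥(RB R b)) (hφ : φ y = 1) :
    Diag ρ f (y : S) := by
  intro i
  have h := hM.mono y i
  rw [hφ, Equiv.Perm.one_apply] at h
  exact h

theorem sgn_eq_sg (hM : MonoFrame ρ R b W f φ) (y : ↥(RB R b)) (hφ : φ y = 1) (i : Fin n) :
    sgn ρ f φ y i = sg ρ f (y : S) i := by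
  apply sgn_unique hM
  rw [hφ, Equiv.Perm.one_apply]
  exact sg_spec (diag_of_phi_one hM y hφ) i

theorem prod_sg_eq_one (hL : LinCtx ρ R b W) (hM : MonoFrame ρ R b W f φ) (y : ↥(RB R b))
    (hy : (y : S) ∈ R) (hφ : φ y = 1) : ∏ i, sg ρ f (y : S) i = 1 := by
  rw [← prodSgn_eq_one hL hM y hy]
  unfold prodSgn
  apply Finset.prod_congr rfl
  intro i _
  exact (sgn_eq_sg hM y hφ i).symm

/-- conjugation permutes the signs -/
theorem sg_conj' (hM : MonoFrame ρ R b W f φ) (g y : ↥(RB R b)) (hφ : φ y = 1) (i : Fin n) :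
    sg ρ f ((g : S) * (y : S) * (g : S)⁻¹) (φ g i) = sg ρ f (y : S) i := by
  obtain ⟨ε, hε, e⟩ := mono_smul hM g i
  have hd := diag_of_phi_one hM y hφ
  have hφ' : φ (g * y * g⁻¹) = 1 := by
    rw [phi_mul hM, phi_mul hM, hφ, mul_one, phi_inv' hM, mul_inv_cancel]
  have hd' : Diag ρ f ((g : S) * (y : S) * (g : S)⁻¹) := by
    have := diag_of_phi_one hM (g * y * g⁻¹) hφ'
    simpa using this
  apply sg_unique hM hd'
  have h1 : f (φ g i) = ε • ρ (g : S) (f i) := by
    rw [e, smul_smul, hε, one_smul]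
  have h2 : ρ ((g : S) * (y : S) * (g : S)⁻¹) (ρ (g : S) (f i)) = ρ (g : S) (ρ (y : S) (f i)) := by
    rw [← Module.End.mul_apply, ← map_mul, ← Module.End.mul_apply, ← map_mul]
    congr 2
    group
  calc ρ ((g : S) * (y : S) * (g : S)⁻¹) (f (φ g i))
      = ε • ρ ((g : S) * (y : S) * (g : S)⁻¹) (ρ (g : S) (f i)) := by rw [h1, map_smul]
    _ = ε • ρ (g : S) (ρ (y : S) (f i)) := by rw [h2]
    _ = ε • (sg ρ f (y : S) i • (ε • f (φ g i))) := by rw [sg_spec hd i, map_smul, e]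
    _ = sg ρ f (y : S) i • f (φ g i) := by
        rw [smul_smul, smul_smul, mul_comm ε, mul_assoc, hε, mul_one]

end four

set_option maxRecDepth 1000000 in
/-- a three-cycle on four points fixes a point and is transitive on the other three -/
theorem three_cycle_fin4 : ∀ c : Equiv.Perm (Fin 4), c.support.card = 3 →
    ∃ p, c p = p ∧ ∀ x y, x ≠ p → y ≠ p → (y = x ∨ y = c x ∨ y = c (c x)) := by
  decide

section pairs

set_option linter.unusedSectionVars false

variable {S : Type u} {E : Type v} [Group S] [AddCommGroup E] [Module (ZMod 3) E]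
  {ρ : Representation (ZMod 3) S E} {R : Subgroup S} {b : S} {W : Submodule (ZMod 3) E}
  {f : Fin 4 → E} {φ : ↥(RB R b) → Equiv.Perm (Fin 4)}

/-- part (a) in the shape of the `(e)` seats: the product of the signs of an element of `R`
is `1` -/
theorem prod_sign_eq_one (hL : LinCtx ρ R b W) (hM : MonoFrame ρ R b W f φ) :
    ∀ r : ↥(RB R b), (r : S) ∈ R → ∀ c : Fin 4 → ZMod 3,
      (∀ i, ρ (r : S) (f i) = c i • f (φ r i)) → ∏ i, c i = 1 := by
  intro r hr c hc
  rw [← prodSgn_eq_one hL hM r hr]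
  unfold prodSgn
  apply Finset.prod_congr rfl
  intro i _
  exact (sgn_unique hM (hc i)).symm

/-- `φ (R<b>)` is two-transitive on the four lines -/
theorem two_trans (hM : MonoFrame ρ R b W f φ) {i j i' j' : Fin 4} (hij : i ≠ j)
    (hij' : i' ≠ j') : ∃ g : ↥(RB R b), φ g i = i' ∧ φ g j = j' := by
  obtain ⟨p, hp, hpt⟩ := three_cycle_fin4 (φ (bRB R b)) hM.three.card_support
  obtain ⟨g1, hg1⟩ := hM.trans i p
  obtain ⟨g2, hg2⟩ := hM.trans i' p
  have hq1 : φ g1 j ≠ p := by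
    intro h
    apply hij
    apply (φ g1).injective
    rw [hg1, h]
  have hj1 : φ g2 j' ≠ p := by
    intro h
    apply hij'
    apply (φ g2).injective
    rw [hg2, h]
  have hinv : ∀ x y, φ g2 x = y → φ g2⁻¹ y = x := by
    intro x y h
    rw [phi_inv' hM, ← h]
    exact (φ g2).symm_apply_apply x
  rcases hpt (φ g1 j) (φ g2 j') hq1 hj1 with h | h | h
  · refine ⟨g2⁻¹ * g1, ?_, ?_⟩
    · rw [phi_mul hM, Equiv.Perm.mul_apply, hg1]
      exact hinv _ _ hg2
    · rw [phi_mul hM, Equiv.Perm.mul_apply, ← h]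
      exact hinv _ _ rfl
  · refine ⟨g2⁻¹ * (bRB R b * g1), ?_, ?_⟩
    · rw [phi_mul hM, phi_mul hM, Equiv.Perm.mul_apply, Equiv.Perm.mul_apply, hg1, hp]
      exact hinv _ _ hg2
    · rw [phi_mul hM, phi_mul hM, Equiv.Perm.mul_apply, Equiv.Perm.mul_apply, ← h]
      exact hinv _ _ rfl
  · refine ⟨g2⁻¹ * (bRB R b * (bRB R b * g1)), ?_, ?_⟩
    · rw [phi_mul hM, phi_mul hM, phi_mul hM, Equiv.Perm.mul_apply, Equiv.Perm.mul_apply,
        Equiv.Perm.mul_apply, hg1, hp, hp]
      exact hinv _ _ hg2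
    · rw [phi_mul hM, phi_mul hM, phi_mul hM, Equiv.Perm.mul_apply, Equiv.Perm.mul_apply,
        Equiv.Perm.mul_apply, ← h]
      exact hinv _ _ rfl

variable [Finite S]

/-- part (c) in the shape of the `(e)` seats: for every pair of lines `R` has an element
fixing every line, with sign `-1` exactly on the pair -/
theorem diag_pairs (hL : LinCtx ρ R b W) (hM : MonoFrame ρ R b W f φ) :
    ∀ i j : Fin 4, i ≠ j → ∃ r : ↥(RB R b), (r : S) ∈ R ∧ φ r = 1 ∧
      ρ (r : S) (f i) = -f i ∧ ρ (r : S) (f j) = -f j ∧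
      ∀ k, k ≠ i → k ≠ j → ρ (r : S) (f k) = f k := by
  intro i j hij
  obtain ⟨a, haR, hφa, i0, j0, hi0, hj0⟩ := hM.nonscalar
  have hda := diag_of_phi_one hM a hφa
  have hv1 : sg ρ f (a : S) i0 = 1 := by
    apply sg_unique hM hda
    rw [hi0, one_smul]
  have hv2 : sg ρ f (a : S) j0 = -1 := by
    apply sg_unique hM hda
    rw [hj0, neg_smul, one_smul]
  obtain ⟨q0, hq0, hvq, hrest⟩ := weight_two (sg ρ f (a : S)) j0 i0
    ⟨fun x => sg_pm (a : S) x, prod_sg_eq_one hL hM a haR hφa, hv2, hv1⟩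
  obtain ⟨g, hgi, hgj⟩ := two_trans hM hq0.symm hij
  have hφr : φ (g * a * g⁻¹) = 1 := by
    rw [phi_mul hM, phi_mul hM, hφa, mul_one, phi_inv' hM, mul_inv_cancel]
  have hdr : Diag ρ f ((g : S) * (a : S) * (g : S)⁻¹) := by
    have := diag_of_phi_one hM (g * a * g⁻¹) hφr
    simpa using this
  have hsg : ∀ x, sg ρ f ((g : S) * (a : S) * (g : S)⁻¹) (φ g x) = sg ρ f (a : S) x :=
    fun x => sg_conj' hM g a hφa x
  refine ⟨g * a * g⁻¹, ?_, hφr, ?_, ?_, ?_⟩
  · have := conj_mem_R hL g.2 haR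
    simpa using this
  · have h := sg_spec hdr i
    rw [← hgi, hsg, hv2, neg_smul, one_smul] at h
    rw [← hgi]
    simpa using h
  · have h := sg_spec hdr j
    rw [← hgj, hsg, hvq, neg_smul, one_smul] at h
    rw [← hgj]
    simpa using h
  · intro k hki hkj
    obtain ⟨x, rfl⟩ := (φ g).surjective k
    have hx1 : x ≠ j0 := by
      rintro rfl
      exact hki hgi
    have hx2 : x ≠ q0 := by
      rintro rfl
      exact hkj hgj
    have h := sg_spec hdr (φ g x)
    rw [hsg, hrest x hx1 hx2, one_smul] at h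
    simpa using h

/-- `R` contains an element acting as `-1` on `W` -/
theorem exists_neg (hL : LinCtx ρ R b W) (hM : MonoFrame ρ R b W f φ) :
    ∃ z ∈ R, IsNeg ρ W z := by
  obtain ⟨r1, hr1, -, h10, h11, h1r⟩ := diag_pairs hL hM 0 1 (by decide)
  obtain ⟨r2, hr2, -, h22, h23, h2r⟩ := diag_pairs hL hM 2 3 (by decide)
  refine ⟨(r1 : S) * (r2 : S), R.mul_mem hr1 hr2, ?_⟩
  have hz : ∀ k, ρ ((r1 : S) * (r2 : S)) (f k) = -f k := by
    intro k
    rw [map_mul, Module.End.mul_apply]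
    rcases (by decide : ∀ k : Fin 4, k = 0 ∨ k = 1 ∨ k = 2 ∨ k = 3) k with rfl | rfl | rfl | rfl
    · rw [h2r 0 (by decide) (by decide)]; exact h10
    · rw [h2r 1 (by decide) (by decide)]; exact h11
    · rw [h22, map_neg, h1r 2 (by decide) (by decide)]
    · rw [h23, map_neg, h1r 3 (by decide) (by decide)]
  have key : ∀ w ∈ Submodule.span (ZMod 3) (Set.range f),
      ρ ((r1 : S) * (r2 : S)) w = -w := by
    intro w hw'
    induction hw' using Submodule.span_induction with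
    | mem x hx =>
      obtain ⟨k, rfl⟩ := hx
      exact hz k
    | zero => rw [map_zero, neg_zero]
    | add x y _ _ hx hy => rw [map_add, hx, hy, neg_add]
    | smul c x _ hx => rw [map_smul, hx, smul_neg]
  intro w hw
  exact key w (hM.span w hw)

end pairs

end Cfsg.Agent.Lib.H5.S4415G5c
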