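import Cfsg.Agent.Lib.H1.S77.Hyp

/-!
# S0429 piece (GQ): the non-orthogonality graph on the 15 classes is an srg(15,6,1,3) (helper5)
-/

set_option autoImplicit false
set_option linter.unusedSectionVars false
open Cfsg

namespace Cfsg.Agent.Lib.H5.S77

open Cfsg.Agent.Lib.H1.S77 Finset

section
variable {V : Type*} [Fintype V] [DecidableEq V] {G : SimpleGraph V} [DecidableRel G.Adj] {v0 : V}

/-- number of neighbours of `y` in `K` -/
def dK (G : SimpleGraph V) [DecidableRel G.Adj] (K : Finset V) (y : V) : ℕ :=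
  (K.filter (fun z => G.Adj y z)).card

theorem class_subset_nB (hp : HPart G v0) {K : Finset V} (hK : K ∈ classes G v0) :
    K ⊆ nB G v0 := by
  rw [← hp.union]
  exact Finset.subset_biUnion_of_mem id hK

theorem sum_over_classes (hp : HPart G v0) (f : V → ℕ) :
    ∑ L ∈ classes G v0, ∑ y ∈ L, f y = ∑ y ∈ nB G v0, f y := by
  have h := hp.union
  have h2 : ∑ y ∈ (classes G v0).biUnion id, f y = ∑ L ∈ classes G v0, ∑ y ∈ id L, f y := by
    apply Finset.sum_biUnion
    intro K hK K' hK' hne
    exact hp.disj K hK K' hK' hne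
  rw [h] at h2
  rw [h2]
  rfl

theorem dK_eq_zero_of_orth {K L : Finset V} (hn : ¬ nonorth G K L) {y : V} (hy : y ∈ L) :
    dK G K y = 0 := by
  unfold dK
  rw [Finset.card_eq_zero, Finset.filter_eq_empty_iff]
  intro z hz hadj
  exact hn ⟨z, hz, y, hy, hadj.symm⟩

theorem dK_eq_two (hp : HPart G v0) (hd : HDich G v0) {K L : Finset V} (hK : K ∈ classes G v0)
    (hL : L ∈ classes G v0) (hn : nonorth G K L) {y : V} (hy : y ∈ L) : dK G K y = 2 := by
  have hne : L ≠ K := by
    rintro rfl
    exact hp.no_edge L hL hn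
  rcases hd L hL K hK hne with ⟨h1, -⟩ | ⟨h2, -⟩
  · exfalso
    obtain ⟨z, hz, z', hz', hadj⟩ := hn
    exact h1 ⟨z', hz', z, hz, hadj.symm⟩
  · exact h2 y hy

theorem hgq_deg (hG : G.IsSRGWith 77 16 0 4) (hp : HPart G v0) (hd : HDich G v0) :
    ∀ K ∈ classes G v0, ((classes G v0).filter (fun K' => nonorth G K K')).card = 6 := by
  intro K hK
  have hKne : K.Nonempty := by
    rw [← Finset.card_pos, hp.card_mem K hK]; norm_num
  obtain ⟨z, hz⟩ := hKne
  have hzB := class_subset_nB hp hK hz
  have h12 := card_adj_nB hG hzB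
  have hsum : ∑ L ∈ classes G v0, dK G L z = 12 := by
    rw [← h12]
    unfold dK
    simp only [Finset.card_filter]
    exact sum_over_classes hp _
  have hval : ∀ L ∈ classes G v0, dK G L z = if nonorth G K L then 2 else 0 := by
    intro L hL
    split_ifs with hn
    · have hn' : nonorth G L K := by
        obtain ⟨a, ha, b, hb, hadj⟩ := hn
        exact ⟨b, hb, a, ha, hadj.symm⟩
      exact dK_eq_two hp hd hL hK hn' hz
    · have hn' : ¬ nonorth G L K := by
        rintro ⟨a, ha, b, hb, hadj⟩
        exact hn ⟨b, hb, a, ha, hadj.symm⟩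
      exact dK_eq_zero_of_orth hn' hz
  rw [Finset.sum_congr rfl hval, Finset.sum_ite] at hsum
  simp only [Finset.sum_const, smul_eq_mul, Finset.sum_const_zero, add_zero] at hsum
  omega

theorem double_count (K K' : Finset V) :
    ∑ z ∈ K, ∑ z' ∈ K', (G.neighborFinset z ∩ G.neighborFinset z').card
      = ∑ y, dK G K y * dK G K' y := by
  rw [← Finset.sum_product']
  have h : ∀ p ∈ K ×ˢ K', (G.neighborFinset p.1 ∩ G.neighborFinset p.2).card
      = ((univ : Finset V).bipartiteBelow
          (fun y (p : V × V) => G.Adj y p.1 ∧ G.Adj y p.2) p).card := by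
    intro p _
    congr 1
    ext y
    simp only [Finset.mem_inter, SimpleGraph.mem_neighborFinset, Finset.bipartiteBelow,
      Finset.mem_filter, Finset.mem_univ, true_and]
    rw [G.adj_comm p.1 y, G.adj_comm p.2 y]
  rw [Finset.sum_congr rfl h, ← Finset.sum_card_bipartiteAbove_eq_sum_card_bipartiteBelow]
  refine Finset.sum_congr rfl (fun y _ => ?_)
  unfold dK
  rw [← Finset.card_product, Finset.bipartiteAbove]
  congr 1
  ext p
  simp only [Finset.mem_filter, Finset.mem_product]
  tauto

theorem rhs_count (hG : G.IsSRGWith 77 16 0 4) (hp : HPart G v0) (hd : HDich G v0)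
    {K K' : Finset V} (hK : K ∈ classes G v0) (hK' : K' ∈ classes G v0) :
    ∑ y, dK G K y * dK G K' y
      = 16 + 16 * ((classes G v0).filter (fun L => nonorth G K L ∧ nonorth G K' L)).card := by
  have huniv : (univ : Finset V) = insert v0 (nA G v0 ∪ nB G v0) := by
    ext y
    simp only [Finset.mem_univ, Finset.mem_insert, Finset.mem_union, true_iff]
    exact trichotomy y
  have hnot : v0 ∉ nA G v0 ∪ nB G v0 := by
    rw [Finset.mem_union]
    rintro (h | h)
    · exact v0_notMem_nA h
    · exact v0_notMem_nB h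
  have hdisj : Disjoint (nA G v0) (nB G v0) := by
    rw [Finset.disjoint_left]
    intro y h1 h2
    exact nA_nB_disjoint h1 h2
  rw [huniv, Finset.sum_insert hnot, Finset.sum_union hdisj]
  -- the term of v0
  have t0 : dK G K v0 = 0 := by
    unfold dK
    rw [Finset.card_eq_zero, Finset.filter_eq_empty_iff]
    intro z hz hadj
    exact (mem_nB.mp (class_subset_nB hp hK hz)).2 hadj
  -- the points
  have tA : ∑ y ∈ nA G v0, dK G K y * dK G K' y = 16 := by
    have h1 : ∀ y ∈ nA G v0, dK G K y * dK G K' y = 1 := by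
      intro y hy
      have a1 : dK G K y = 1 := hp.thru K hK y hy
      have a2 : dK G K' y = 1 := hp.thru K' hK' y hy
      rw [a1, a2]
    rw [Finset.sum_congr rfl h1, Finset.sum_const, card_nA hG]
    rfl
  -- the block vertices, class by class
  have tB : ∑ y ∈ nB G v0, dK G K y * dK G K' y
      = 16 * ((classes G v0).filter (fun L => nonorth G K L ∧ nonorth G K' L)).card := by
    rw [← sum_over_classes hp]
    have h1 : ∀ L ∈ classes G v0, ∑ y ∈ L, dK G K y * dK G K' y
        = if nonorth G K L ∧ nonorth G K' L then 16 else 0 := by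
      intro L hL
      split_ifs with hn
      · have h2 : ∀ y ∈ L, dK G K y * dK G K' y = 4 := by
          intro y hy
          rw [dK_eq_two hp hd hK hL hn.1 hy, dK_eq_two hp hd hK' hL hn.2 hy]
        rw [Finset.sum_congr rfl h2, Finset.sum_const, hp.card_mem L hL]
        rfl
      · have h2 : ∀ y ∈ L, dK G K y * dK G K' y = 0 := by
          intro y hy
          by_cases h3 : nonorth G K L
          · have h4 : ¬ nonorth G K' L := fun h => hn ⟨h3, h⟩
            rw [dK_eq_zero_of_orth h4 hy, mul_zero]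
          · rw [dK_eq_zero_of_orth h3 hy, zero_mul]
        rw [Finset.sum_congr rfl h2, Finset.sum_const_zero]
    rw [Finset.sum_congr rfl h1, Finset.sum_ite]
    simp only [Finset.sum_const, smul_eq_mul, Finset.sum_const_zero, add_zero]
    ring
  rw [t0, zero_mul, zero_add, tA, tB]

theorem lhs_orth (hG : G.IsSRGWith 77 16 0 4) (hp : HPart G v0)
    {K K' : Finset V} (hK : K ∈ classes G v0) (hK' : K' ∈ classes G v0) (hne : K ≠ K')
    (hn : ¬ nonorth G K K') :
    ∑ z ∈ K, ∑ z' ∈ K', (G.neighborFinset z ∩ G.neighborFinset z').card = 64 := by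
  have h1 : ∀ z ∈ K, ∑ z' ∈ K', (G.neighborFinset z ∩ G.neighborFinset z').card = 16 := by
    intro z hz
    have h2 : ∀ z' ∈ K', (G.neighborFinset z ∩ G.neighborFinset z').card = 4 := by
      intro z' hz'
      have hzz : z ≠ z' := by
        rintro rfl
        exact Finset.disjoint_left.mp (hp.disj K hK K' hK' hne) hz hz'
      exact nadj_common hG hzz (fun hadj => hn ⟨z, hz, z', hz', hadj⟩)
    rw [Finset.sum_congr rfl h2, Finset.sum_const, hp.card_mem K' hK']
    rfl
  rw [Finset.sum_congr rfl h1, Finset.sum_const, hp.card_mem K hK]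
  rfl

theorem lhs_nonorth (hG : G.IsSRGWith 77 16 0 4) (hp : HPart G v0) (hd : HDich G v0)
    {K K' : Finset V} (hK : K ∈ classes G v0) (hK' : K' ∈ classes G v0)
    (hn : nonorth G K K') :
    ∑ z ∈ K, ∑ z' ∈ K', (G.neighborFinset z ∩ G.neighborFinset z').card = 32 := by
  have hne : K ≠ K' := by
    rintro rfl
    exact hp.no_edge K hK hn
  have hn' : nonorth G K' K := by
    obtain ⟨a, ha, b, hb, hadj⟩ := hn
    exact ⟨b, hb, a, ha, hadj.symm⟩
  have h1 : ∀ z ∈ K, ∑ z' ∈ K', (G.neighborFinset z ∩ G.neighborFinset z').card = 8 := by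
    intro z hz
    have h2 : ∀ z' ∈ K', (G.neighborFinset z ∩ G.neighborFinset z').card
        = if G.Adj z z' then 0 else 4 := by
      intro z' hz'
      split_ifs with hadj
      · rw [adj_common hG hadj, Finset.card_empty]
      · have hzz : z ≠ z' := by
          rintro rfl
          exact Finset.disjoint_left.mp (hp.disj K hK K' hK' hne) hz hz'
        exact nadj_common hG hzz hadj
    have h3 : dK G K' z = 2 := dK_eq_two hp hd hK' hK hn' hz
    have h4 := Finset.card_filter_add_card_filter_not (s := K') (fun z' => G.Adj z z')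
    rw [hp.card_mem K' hK'] at h4
    unfold dK at h3
    rw [Finset.sum_congr rfl h2, Finset.sum_ite]
    simp only [Finset.sum_const, smul_eq_mul, Finset.sum_const_zero, zero_add]
    omega
  rw [Finset.sum_congr rfl h1, Finset.sum_const, hp.card_mem K hK]
  rfl

/-- (GQ) -/
theorem hgq (hG : G.IsSRGWith 77 16 0 4) (hp : HPart G v0) (hd : HDich G v0) : HGQ G v0 := by
  refine ⟨?_, hgq_deg hG hp hd, ?_, ?_⟩
  · rintro K K' ⟨a, ha, b, hb, hadj⟩
    exact ⟨b, hb, a, ha, hadj.symm⟩
  · intro K hK K' hK' hn
    have h1 := lhs_nonorth hG hp hd hK hK' hn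
    rw [double_count, rhs_count hG hp hd hK hK'] at h1
    omega
  · intro K hK K' hK' hne hn
    have h1 := lhs_orth hG hp hK hK' hne hn
    rw [double_count, rhs_count hG hp hd hK hK'] at h1
    omega

end

end Cfsg.Agent.Lib.H5.S77
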