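import Mathlib
import Cfsg.Prelude.Def_Solvable
import Cfsg.Prelude.Def_SubgroupEmbedding
import Cfsg.Agent.Lib.H4.SHPIHC
import Cfsg.Agent.Lib.H26.SH16Min
import Cfsg.Agent.Lib.H12.SHPSYL
import Cfsg.Agent.Lib.H6.SHPCASEB
import Cfsg.Agent.Lib.H16.SHINVp
import Cfsg.Agent.Lib.H1.ShIWrap
import Cfsg.Agent.Lib.H19.SHODDKEY

/-!
# S3016 (Shult, odd `p`): compiled assembly of the landed pieces (helper5)

Everything here is glue.  The two inputs that were not on main when this file was written are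
explicit hypotheses:

* `caseB3 : H26.SH16.CaseB3Stmt` (CASE B group side for `|H| = 3`),
* `hlemI` : the conclusion of helper24's `lemma_I` (conclusion (I), character side).

`caseA_stmt`, `caseB5_stmt` are the architect's `CaseAStmtP p`, `CaseB5StmtP p` from the landed
`H12.SHP.caseA_top`, `H6.SHP.caseB_p` + `H16.SHp.char_mul_order_p_ge'`;
`concl_II` is conclusion (II); `final_of` is the statement of S3016.
-/

set_option autoImplicit false

namespace Cfsg.Agent.Lib.H5.SH16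

open Cfsg

universe u

/-- the architect's `CaseAStmtP p` from helper12's landed `caseA_top` (any prime `p`) -/
theorem caseA_stmt {p : ℕ} [Fact p.Prime] : Cfsg.Agent.Lib.H26.SH16.CaseAStmtP.{u} p := by
  intro G _ _ M hM H hHp hHab hcl hloc _hfus hncl hO _hne hnt
  refine Cfsg.Agent.Lib.H12.SHP.caseA_top M hM H hHp ?_ hcl hloc hncl hO hnt
  intro a ha b hb
  have h := hHab.is_comm.comm (⟨a, ha⟩ : ↥H) ⟨b, hb⟩
  exact congrArg Subtype.val h

/-- the architect's `CaseB5StmtP p` (`p` odd) from helper6's landed `caseB_p` and helper16's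
landed rank bound `char_mul_order_p_ge'` -/
theorem caseB5_stmt {p : ℕ} [hp : Fact p.Prime] (hp2 : p ≠ 2) :
    Cfsg.Agent.Lib.H26.SH16.CaseB5StmtP.{u} p := by
  intro G _ _ M hM H hHp _hHab hloc hncl htr hq
  refine Cfsg.Agent.Lib.H6.SHP.caseB_p hp2 M hM H hHp hloc hncl htr hq ?_
  intro χ hχ x y hx hy d hdx hdy
  have h := Cfsg.Agent.Lib.H16.SHp.char_mul_order_p_ge' χ hχ p hp.out.pos x y hx hy (d : ℂ)
    hdx hdy
  simpa using h

/-- **conclusion (II) of S3016**, given CASE B for `|H| = 3` -/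
theorem concl_II {p : ℕ} [Fact p.Prime] (hp2 : p ≠ 2)
    (caseB3 : Cfsg.Agent.Lib.H26.SH16.CaseB3Stmt.{u}) :
    ∀ (G : Type u) [Group G] [Finite G] (H : Subgroup G), IsPGroup p H → IsMulCommutative H →
      IsExtremelyClosed H → Subgroup.normalizer (H : Set G) ⊔ pPrimeCore p G = ⊤ :=
  Cfsg.Agent.Lib.H4.SHP.red_p (fun G _ _ H hHp hHab hcl IH hO hncl hZ =>
    Cfsg.Agent.Lib.H26.SH16.min_normal_p hp2 caseA_stmt (caseB5_stmt hp2) caseB3 G H hHp hHab hcl
      (Cfsg.Agent.Lib.H4.SHP.ih_centralizer_p hHp hHab hcl IH hZ) hO hncl)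

/-- the shape of helper24's `lemma_I` (cut #9054) as a statement -/
def LemmaIStmt (p : ℕ) : Prop :=
  ∀ (G : Type u) [Group G] [Finite G] (H : Subgroup G), IsPGroup p H →
    (∀ a ∈ H, ∀ b ∈ H, a * b = b * a) →
    (∀ Y : Subgroup G, ¬ p ∣ Nat.card Y → (∀ h ∈ H, ∀ y ∈ Y, h * y * h⁻¹ ∈ Y) →
      Cfsg.Agent.Lib.H24.ShI.EC H Y → Cfsg.Agent.Lib.H24.ShI.KeyStmt H Y) →
    ∀ Y : Subgroup G, ¬ p ∣ Nat.card Y → (∀ h ∈ H, ∀ y ∈ Y, h * y * h⁻¹ ∈ Y) →
      Cfsg.Agent.Lib.H24.ShI.EC H Y → ⁅Y, H⁆ ⊓ Subgroup.centralizer (H : Set G) = ⊥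

/-- **the statement of S3016**, given CASE B for `|H| = 3` and `lemma_I` -/
theorem final_of {p : ℕ} [Fact p.Prime] (hp2 : p ≠ 2)
    (caseB3 : Cfsg.Agent.Lib.H26.SH16.CaseB3Stmt.{u}) (hlemI : LemmaIStmt.{u} p)
    {G : Type u} [Group G] [Finite G] (H : Subgroup G) (hHp : IsPGroup p H)
    (hHab : IsMulCommutative H) (hcl : Cfsg.IsExtremelyClosed H) :
    Subgroup.normalClosure (H : Set G) ⊓ Subgroup.normalizer (H : Set G) = H ∧
      Subgroup.normalizer (H : Set G) ⊔ Cfsg.pPrimeCore p G = ⊤ := by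
  have hII := concl_II hp2 caseB3 G H hHp hHab hcl
  have hab : ∀ a ∈ H, ∀ b ∈ H, a * b = b * a := by
    intro a ha b hb
    exact congrArg Subtype.val (hHab.is_comm.comm (⟨a, ha⟩ : ↥H) ⟨b, hb⟩)
  refine ⟨?_, hII⟩
  refine Cfsg.Agent.Lib.H1.ShIWrap.concl_I_of_II hp2 H hHp hHab hcl ?_ hII
  intro Y hYp hnorm hEC
  exact hlemI G H hHp hab
    (fun Y' hY' hn' hEC' => Cfsg.Agent.Lib.H19.ShI.key_conj hp2 H Y' hHp hab hY' hn' hEC')
    Y hYp hnorm hEC

end Cfsg.Agent.Lib.H5.SH16
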