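import Mathlib
import Cfsg.Agent.Lib.H11.SHCSG
import Cfsg.Agent.Lib.H12.SHGLUEA
import Cfsg.Agent.Lib.H15.SHCSB
import Cfsg.Agent.Lib.H17.SHINV2
import Cfsg.Agent.Lib.H25.SHENDB

/-!
# S3017 (Shult), CASE B group-side theorem (helper5, 2nd seat)

`N = N_G(H)` transitive on `H#` and not centralizing `H` is impossible (in the minimal
configuration: `LocData` for the principal 2-block and `⟨H^G⟩ = G`).

Route: `H11.SH.cs_master` at `b = a`; the bad pairs give `S χ`, and
`S χ = |G| |C_N(a)| R χ` with `R χ = (q-1) d²/f - (q-2) d`; the eigenvalue bound (H17) gives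
`2d - f ≤ R`; block orthogonality (H11.sum_block_regular) gives `∑ d R = 0`; `H12.mult` with the
trivial character of `H` gives `q ∣ f - d`; `H12.ker` gives `d ≠ f`; `H25.endB_arith_finsum` ends.
-/

set_option autoImplicit false

namespace Cfsg.Agent.Lib.H5.SH

open Cfsg

variable {G : Type*} [Group G]

/-- basic consequences of `TransN` + non-centrality for a 2-group `H` -/
theorem caseB_basic [Finite G] {H : Subgroup G} (hH2 : IsPGroup 2 H)
    (htr : Cfsg.Agent.Lib.H12.SH.TransN H)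
    (hnc : ¬ (∀ n ∈ Subgroup.normalizer (H : Set G), ∀ a ∈ H, n * a * n⁻¹ = a)) :
    (∀ x ∈ H, x * x = 1) ∧ 4 ≤ Nat.card ↥H ∧ ∃ a ∈ H, a ≠ 1 := by
  classical
  push Not at hnc
  obtain ⟨n0, hn0, a0, ha0, hne0⟩ := hnc
  have ha01 : a0 ≠ 1 := by
    rintro rfl
    apply hne0
    group
  have hb0 : n0 * a0 * n0⁻¹ ∈ H := Cfsg.Agent.Lib.H11.SH.conj_mem_of_mem_normalizer hn0 ha0
  have hb01 : n0 * a0 * n0⁻¹ ≠ 1 := by
    intro h
    apply ha01
    have h2 : a0 = n0⁻¹ * (n0 * a0 * n0⁻¹) * n0 := by group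
    rw [h2, h]
    group
  have hHne : H ≠ ⊥ := by
    intro h
    rw [h, Subgroup.mem_bot] at ha0
    exact ha01 ha0
  obtain ⟨t, ht, hto⟩ := Cfsg.Agent.Lib.H12.SH.exists_involution hH2 hHne
  have ht1 : t ≠ 1 := by
    rintro rfl
    rw [orderOf_one] at hto
    norm_num at hto
  have htt : t * t = 1 := by
    rw [← sq, ← hto]
    exact pow_orderOf_eq_one t
  have hinv : ∀ x ∈ H, x * x = 1 := by
    intro x hx
    by_cases hx1 : x = 1
    · rw [hx1, one_mul]
    · obtain ⟨n, -, hnx⟩ := htr t ht x hx ht1 hx1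
      have h2 : x = n⁻¹ * t * n := by
        rw [← hnx]
        group
      rw [h2]
      calc n⁻¹ * t * n * (n⁻¹ * t * n) = n⁻¹ * (t * t) * n := by group
        _ = 1 := by rw [htt]; group
  refine ⟨hinv, ?_, a0, ha0, ha01⟩
  have h3 : 3 ≤ Nat.card ↥H := by
    letI : Fintype ↥H := Fintype.ofFinite _
    rw [Nat.card_eq_fintype_card]
    have h : ({⟨1, H.one_mem⟩, ⟨a0, ha0⟩, ⟨n0 * a0 * n0⁻¹, hb0⟩} : Finset ↥H).card = 3 := by
      rw [Finset.card_eq_three]
      refine ⟨_, _, _, ?_, ?_, ?_, rfl⟩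
      · intro h
        exact ha01 (Subtype.ext_iff.1 h).symm
      · intro h
        exact hb01 (Subtype.ext_iff.1 h).symm
      · intro h
        exact hne0 (Subtype.ext_iff.1 h).symm
    calc 3 = _ := h.symm
      _ ≤ _ := Finset.card_le_univ _
  obtain ⟨k, hk⟩ := IsPGroup.iff_card.mp hH2
  rw [hk] at h3 ⊢
  have hk2 : 2 ≤ k := by
    by_contra hcon
    push Not at hcon
    interval_cases k <;> norm_num at h3
  calc 4 = 2 ^ 2 := by norm_num
    _ ≤ 2 ^ k := Nat.pow_le_pow_right (by norm_num) hk2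

/-- **CASE B** (group side): `N_G(H)` transitive on `H#` and not centralizing `H` is impossible. -/
theorem caseB [Finite G] (M : Ideal AlgInt) (hM : IsPModular 2 M) (H : Subgroup G)
    (hH2 : IsPGroup 2 H) (hHab : ∀ a ∈ H, ∀ b ∈ H, a * b = b * a)
    (hloc : Cfsg.Agent.Lib.H11.SH.LocData 2 H (principalBlock M G))
    (hncl : Subgroup.normalClosure (H : Set G) = ⊤)
    (htr : Cfsg.Agent.Lib.H12.SH.TransN H)
    (hnc : ¬ (∀ n ∈ Subgroup.normalizer (H : Set G), ∀ a ∈ H, n * a * n⁻¹ = a)) : False := by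
  classical
  haveI : Fact (Nat.Prime 2) := ⟨Nat.prime_two⟩
  letI : Fintype G := Fintype.ofFinite G
  letI : Fintype ↥(Subgroup.normalizer (H : Set G)) := Fintype.ofFinite _
  letI : Fintype ↥H := Fintype.ofFinite _
  obtain ⟨hinv, hq4, a, ha, ha1⟩ := caseB_basic hH2 htr hnc
  have haa : a * a = 1 := hinv a ha
  have hainv : a⁻¹ = a := inv_eq_of_mul_eq_one_right haa
  have horder : orderOf a = 2 := orderOf_eq_prime (by rw [sq]; exact haa) ha1
  have hN : ∀ n ∈ Subgroup.normalizer (H : Set G), ∀ h ∈ H, n * h * n⁻¹ ∈ H :=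
    fun n hn h hh => Cfsg.Agent.Lib.H11.SH.conj_mem_of_mem_normalizer hn hh
  have htr' : ∀ b ∈ H, b ≠ 1 → ∃ n ∈ Subgroup.normalizer (H : Set G), n * a * n⁻¹ = b :=
    fun b hb hb1 => htr b hb a ha hb1 ha1
  have hNC := Cfsg.Agent.Lib.H15.SH.card_N_eq (N := Subgroup.normalizer (H : Set G)) hN ha ha1 htr'
  set C : ℕ := (Finset.univ.filter (fun n : ↥(Subgroup.normalizer (H : Set G)) =>
      (n : G) * a * (n : G)⁻¹ = a)).card with hC
  have hCpos : 0 < C := Finset.card_pos.2 ⟨1, by simp⟩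
  obtain ⟨ν, hν, hbad, hm⟩ := Cfsg.Agent.Lib.H11.SH.cs_master hloc
  -- characters
  have hchar : ∀ χ : IrrCharacter G, IsCharacter G (χ : G → ℂ) :=
    fun χ => Cfsg.Agent.Lib.L0.isCharacter_of_irr χ.2
  choose d hd using fun χ : IrrCharacter G =>
    Cfsg.Agent.Lib.H17.SH.char_involution_int (χ : G → ℂ) (hchar χ) a haa
  choose f hfpos hf using fun χ : IrrCharacter G => Cfsg.Agent.Lib.H24.irr_one_eq χ
  have hcf : ∀ (χ : IrrCharacter G) (x n : G), (χ : G → ℂ) (n * x * n⁻¹) = (χ : G → ℂ) x :=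
    fun χ x n => Cfsg.Agent.Lib.H24.isClassFunction_irr χ x n
  have hconst : ∀ (χ : IrrCharacter G), ∀ b ∈ H, b ≠ 1 → (χ : G → ℂ) b = (d χ : ℂ) := by
    intro χ b hb hb1
    obtain ⟨n, -, hn⟩ := htr' b hb hb1
    rw [← hn, hcf, hd]
  -- the bad pairs
  set P : G → ↥(Subgroup.normalizer (H : Set G)) → Prop :=
    fun g n => a * (ν g * ((n : G) * a * (n : G)⁻¹) * (ν g)⁻¹) = 1 with hPdef
  set w : G → ↥(Subgroup.normalizer (H : Set G)) → G :=
    fun g n => a * (g * ((n : G) * a * (n : G)⁻¹) * g⁻¹) with hwdef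
  set S : IrrCharacter G → ℂ :=
    fun χ => ∑ g : G, ∑ n : ↥(Subgroup.normalizer (H : Set G)),
      if P g n then (χ : G → ℂ) (w g n) else 0 with hSdef
  have hPiff : ∀ g n, P g n ↔
      ((⟨ν g, hν g⟩ * n : ↥(Subgroup.normalizer (H : Set G))) : G) * a *
        ((⟨ν g, hν g⟩ * n : ↥(Subgroup.normalizer (H : Set G))) : G)⁻¹ = a := by
    intro g n
    have h1 : ((⟨ν g, hν g⟩ * n : ↥(Subgroup.normalizer (H : Set G))) : G) * a *
        ((⟨ν g, hν g⟩ * n : ↥(Subgroup.normalizer (H : Set G))) : G)⁻¹ =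
        ν g * ((n : G) * a * (n : G)⁻¹) * (ν g)⁻¹ := by
      simp only [Subgroup.coe_mul]
      group
    rw [h1]
    show a * (ν g * ((n : G) * a * (n : G)⁻¹) * (ν g)⁻¹) = 1 ↔ _
    constructor
    · intro h
      rw [eq_inv_of_mul_eq_one_right h, hainv]
    · intro h
      rw [h, haa]
  have hcount : ∀ g, (Finset.univ.filter (fun n : ↥(Subgroup.normalizer (H : Set G)) => P g n)).card = C := by
    intro g
    rw [hC]
    refine Finset.card_bij (fun n _ => (⟨ν g, hν g⟩ : ↥(Subgroup.normalizer (H : Set G))) * n) ?_ ?_ ?_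
    · intro n hn
      simp only [Finset.mem_filter, Finset.mem_univ, true_and] at hn ⊢
      exact (hPiff g n).1 hn
    · intro n1 _ n2 _ h
      exact mul_left_cancel h
    · intro m hm'
      simp only [Finset.mem_filter, Finset.mem_univ, true_and] at hm'
      refine ⟨(⟨ν g, hν g⟩ : ↥(Subgroup.normalizer (H : Set G)))⁻¹ * m, ?_, by simp⟩
      simp only [Finset.mem_filter, Finset.mem_univ, true_and]
      rw [hPiff g, mul_inv_cancel_left]
      exact hm'
  -- the real quantities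
  set R : IrrCharacter G → ℝ := fun χ =>
    ((Nat.card ↥H : ℝ) - 1) * (d χ : ℝ) ^ 2 / (f χ : ℝ) - ((Nat.card ↥H : ℝ) - 2) * (d χ : ℝ) with hRdef
  have hq1 : 1 ≤ Nat.card ↥H := Nat.card_pos
  have hGpos : (0 : ℝ) < (Nat.card G : ℝ) := by exact_mod_cast (Nat.card_pos (α := G))
  have hCposR : (0 : ℝ) < (C : ℝ) := by exact_mod_cast hCpos
  have hGC : (0 : ℝ) < (Nat.card G : ℝ) * (C : ℝ) := mul_pos hGpos hCposR
  -- the good sum
  have hgood : ∀ χ : IrrCharacter G,
      ∑ n : ↥(Subgroup.normalizer (H : Set G)),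
        (if a * ((n : G) * a * (n : G)⁻¹) ≠ 1 then
          (χ : G → ℂ) (a * ((n : G) * a * (n : G)⁻¹)) else 0) =
      (d χ : ℂ) * ((Fintype.card ↥(Subgroup.normalizer (H : Set G)) : ℂ) - (C : ℂ)) := by
    intro χ
    have h1 : ∀ n : ↥(Subgroup.normalizer (H : Set G)),
        (if a * ((n : G) * a * (n : G)⁻¹) ≠ 1 then
          (χ : G → ℂ) (a * ((n : G) * a * (n : G)⁻¹)) else 0) =
        (d χ : ℂ) - (if (n : G) * a * (n : G)⁻¹ = a then (d χ : ℂ) else 0) := by
      intro n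
      by_cases h : a * ((n : G) * a * (n : G)⁻¹) = 1
      · have h4 : (n : G) * a * (n : G)⁻¹ = a := by
          rw [eq_inv_of_mul_eq_one_right h, hainv]
        rw [if_neg (not_not.2 h), if_pos h4, sub_self]
      · have h4 : ¬ (n : G) * a * (n : G)⁻¹ = a := by
          intro h5
          apply h
          rw [h5, haa]
        rw [if_pos h, if_neg h4, sub_zero]
        exact hconst χ _ (H.mul_mem ha (hN n n.2 a ha)) h
    rw [Finset.sum_congr rfl (fun n _ => h1 n), Finset.sum_sub_distrib, Finset.sum_const,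
      Finset.card_univ, nsmul_eq_mul, ← Finset.sum_filter, Finset.sum_const, nsmul_eq_mul, ← hC]
    ring
  -- the structure equation
  have hS : ∀ χ ∈ principalBlock M G,
      S χ = (((Nat.card G : ℝ) * (C : ℝ) * R χ : ℝ) : ℂ) := by
    intro χ hχ
    have h : (Nat.card ↥(Subgroup.normalizer (H : Set G)) : ℂ) *
        ((Nat.card G : ℂ) * (χ : G → ℂ) a * (χ : G → ℂ) a / (χ : G → ℂ) 1) =
        (Nat.card G : ℂ) * ∑ n : ↥(Subgroup.normalizer (H : Set G)),
          (if a * ((n : G) * a * (n : G)⁻¹) ≠ 1 then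
            (χ : G → ℂ) (a * ((n : G) * a * (n : G)⁻¹)) else 0) + S χ := hm χ hχ a ha a ha
    rw [hgood χ, hd χ, hf χ, Nat.card_eq_fintype_card (α := ↥(Subgroup.normalizer (H : Set G))),
      hNC] at h
    have hf0 : (f χ : ℂ) ≠ 0 := by exact_mod_cast (hfpos χ).ne'
    have hf0R : (f χ : ℝ) ≠ 0 := by exact_mod_cast (hfpos χ).ne'
    simp only [hRdef]
    push_cast [Nat.cast_sub hq1] at h ⊢
    field_simp
    field_simp at h
    linear_combination (-1 : ℂ) * h
  -- counting the bad pairs against a constant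
  have hcountsum : ∀ c : ℝ, ∑ g : G, ∑ n : ↥(Subgroup.normalizer (H : Set G)),
      (if P g n then c else 0) = c * ((Nat.card G : ℝ) * (C : ℝ)) := by
    intro c
    have h1 : ∀ g : G, ∑ n : ↥(Subgroup.normalizer (H : Set G)), (if P g n then c else 0) =
        (C : ℝ) * c := by
      intro g
      rw [← Finset.sum_filter, Finset.sum_const, hcount g, nsmul_eq_mul]
    rw [Finset.sum_congr rfl (fun g _ => h1 g), Finset.sum_const, Finset.card_univ, nsmul_eq_mul,
      Nat.card_eq_fintype_card]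
    ring
  -- the eigenvalue bound
  have hEV : ∀ χ ∈ principalBlock M G, 2 * (d χ : ℝ) - (f χ : ℝ) ≤ R χ := by
    intro χ hχ
    have hre : (S χ).re = ∑ g : G, ∑ n : ↥(Subgroup.normalizer (H : Set G)),
        (if P g n then ((χ : G → ℂ) (w g n)).re else 0) := by
      simp only [hSdef, Complex.re_sum]
      refine Finset.sum_congr rfl (fun g _ => Finset.sum_congr rfl (fun n _ => ?_))
      split_ifs <;> simp
    have hterm : ∀ (g : G) (n : ↥(Subgroup.normalizer (H : Set G))),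
        (if P g n then (2 * (d χ : ℝ) - (f χ : ℝ)) else 0) ≤
          (if P g n then ((χ : G → ℂ) (w g n)).re else 0) := by
      intro g n
      split_ifs with hP
      · have hy : (g * ((n : G) * a * (n : G)⁻¹) * g⁻¹) * (g * ((n : G) * a * (n : G)⁻¹) * g⁻¹) = 1 := by
          calc (g * ((n : G) * a * (n : G)⁻¹) * g⁻¹) * (g * ((n : G) * a * (n : G)⁻¹) * g⁻¹)
              = g * ((n : G) * (a * a) * (n : G)⁻¹) * g⁻¹ := by group
            _ = 1 := by rw [haa]; group
        have h := Cfsg.Agent.Lib.H17.SH.char_mul_involutions_ge (χ : G → ℂ) (hchar χ) a _ haa hy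
        rw [hcf, hcf, hd χ, hf χ] at h
        simp only [Complex.intCast_re, Complex.natCast_re] at h
        show 2 * (d χ : ℝ) - (f χ : ℝ) ≤ ((χ : G → ℂ) (a * (g * ((n : G) * a * (n : G)⁻¹) * g⁻¹))).re
        linarith
      · exact le_refl _
    have h1 : (2 * (d χ : ℝ) - (f χ : ℝ)) * ((Nat.card G : ℝ) * (C : ℝ)) ≤ (S χ).re := by
      rw [hre, ← hcountsum]
      exact Finset.sum_le_sum (fun g _ => Finset.sum_le_sum (fun n _ => hterm g n))
    rw [hS χ hχ, Complex.ofReal_re] at h1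
    have h2 : (2 * (d χ : ℝ) - (f χ : ℝ)) * ((Nat.card G : ℝ) * (C : ℝ)) ≤
        R χ * ((Nat.card G : ℝ) * (C : ℝ)) := by linarith
    exact le_of_mul_le_mul_right h2 hGC
  -- block orthogonality
  have hfin : (principalBlock M G).Finite := Set.toFinite _
  have hORTH : ∑ᶠ χ ∈ principalBlock M G, (d χ : ℝ) * R χ = 0 := by
    rw [finsum_mem_eq_finite_toFinset_sum _ hfin]
    have h1 : ∑ χ ∈ hfin.toFinset, ((d χ : ℂ) * S χ) = 0 := by
      simp only [hSdef, Finset.mul_sum]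
      rw [Finset.sum_comm]
      refine Finset.sum_eq_zero (fun g _ => ?_)
      rw [Finset.sum_comm]
      refine Finset.sum_eq_zero (fun n _ => ?_)
      by_cases hP : P g n
      · simp only [if_pos hP]
        have hreg := hbad g a ha _ (hN n n.2 a ha) hP
        have h2 := Cfsg.Agent.Lib.H11.SH.sum_block_regular M hM _ a hreg
          ⟨1, by rw [pow_one]; exact horder⟩ ha1
        rw [finsum_mem_eq_finite_toFinset_sum _ hfin, hainv] at h2
        rw [← h2]
        refine Finset.sum_congr rfl (fun χ _ => ?_)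
        rw [hd χ]
        ring
      · simp only [if_neg hP, mul_zero, Finset.sum_const_zero]
    have h2 : ∀ χ ∈ hfin.toFinset, ((d χ : ℂ) * S χ) =
        (((d χ : ℝ) * ((Nat.card G : ℝ) * (C : ℝ) * R χ) : ℝ) : ℂ) := by
      intro χ hχ
      rw [hS χ ((Set.Finite.mem_toFinset hfin).1 hχ)]
      push_cast
      ring
    rw [Finset.sum_congr rfl h2, ← Complex.ofReal_sum] at h1
    have h3 : ∑ χ ∈ hfin.toFinset, (d χ : ℝ) * ((Nat.card G : ℝ) * (C : ℝ) * R χ) = 0 := by
      exact_mod_cast h1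
    have h4 : ((Nat.card G : ℝ) * (C : ℝ)) * ∑ χ ∈ hfin.toFinset, (d χ : ℝ) * R χ = 0 := by
      rw [Finset.mul_sum, ← h3]
      refine Finset.sum_congr rfl (fun χ _ => by ring)
    exact (mul_eq_zero.1 h4).resolve_left hGC.ne'
  -- the class-sum identity in the ENDB form
  have hCS : ∀ χ ∈ principalBlock M G, ((Nat.card ↥H : ℝ) - 1) * (d χ : ℝ) ^ 2 =
      (f χ : ℝ) * (((Nat.card ↥H : ℝ) - 2) * (d χ : ℝ) + R χ) := by
    intro χ _
    have hf0R : (f χ : ℝ) ≠ 0 := by exact_mod_cast (hfpos χ).ne'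
    simp only [hRdef]
    field_simp
    ring
  -- `d ≤ f`
  have hdle : ∀ χ ∈ principalBlock M G, d χ ≤ (f χ : ℤ) := by
    intro χ _
    have h := Cfsg.Agent.Lib.H17.SH.char_mul_involutions_ge (χ : G → ℂ) (hchar χ) a a haa haa
    rw [haa, hd χ, hf χ] at h
    simp only [Complex.intCast_re, Complex.natCast_re] at h
    have h2 : (d χ : ℝ) ≤ (f χ : ℝ) := by linarith
    exact_mod_cast h2
  -- `q ∣ f - d`
  have hmult : ∀ χ ∈ principalBlock M G, (Nat.card ↥H : ℤ) ∣ (f χ : ℤ) - d χ := by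
    intro χ _
    obtain ⟨m, hm1⟩ := Cfsg.Agent.Lib.H12.SH.mult (hchar χ) H (1 : ↥H →* ℂˣ)
    have h1 : ∑ b : ↥H, (χ : G → ℂ) b * (starRingEnd ℂ) (((1 : ↥H →* ℂˣ) b : ℂˣ) : ℂ) =
        (Nat.card ↥H : ℂ) * (d χ : ℂ) + ((f χ : ℂ) - (d χ : ℂ)) := by
      have h2 : ∀ b : ↥H, (χ : G → ℂ) b * (starRingEnd ℂ) (((1 : ↥H →* ℂˣ) b : ℂˣ) : ℂ) =
          (d χ : ℂ) + (if b = 1 then (f χ : ℂ) - (d χ : ℂ) else 0) := by
        intro b
        simp only [MonoidHom.one_apply, Units.val_one, map_one, mul_one]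
        by_cases hb : b = 1
        · rw [if_pos hb, hb, Subgroup.coe_one, hf χ]
          ring
        · rw [if_neg hb, add_zero]
          exact hconst χ b b.2 (fun h => hb (Subtype.ext h))
      rw [Finset.sum_congr rfl (fun b _ => h2 b), Finset.sum_add_distrib, Finset.sum_const,
        Finset.card_univ, nsmul_eq_mul, Finset.sum_ite_eq' Finset.univ (1 : ↥H),
        if_pos (Finset.mem_univ _), Nat.card_eq_fintype_card]
    rw [h1, ← Nat.card_eq_fintype_card] at hm1
    have h3 : ((f χ : ℤ) - d χ : ℤ) = (Nat.card ↥H : ℤ) * ((m : ℤ) - d χ) := by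
      have h4 : (((f χ : ℤ) - d χ : ℤ) : ℂ) = (((Nat.card ↥H : ℤ) * ((m : ℤ) - d χ) : ℤ) : ℂ) := by
        push_cast
        linear_combination hm1
      exact_mod_cast h4
    exact ⟨_, h3⟩
  -- the trivial character
  set i₀ : IrrCharacter G := Cfsg.Agent.Lib.H24.trivialIrr G with hi₀def
  have hi₀ : i₀ ∈ principalBlock M G := by
    intro x
    refine ⟨0, 1, M.zero_mem, ?_, ?_⟩
    · intro h1
      exact hM.2.1.ne_top ((Ideal.eq_top_iff_one M).2 h1)
    · have hc : ((i₀ : IrrCharacter G) : G → ℂ) = fun _ => (1 : ℂ) := rfl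
      rw [hc, sub_self]
      simp
  have hd0 : d i₀ = 1 := by
    have h := hd i₀
    have hc : ((i₀ : IrrCharacter G) : G → ℂ) a = 1 := rfl
    rw [hc] at h
    exact_mod_cast h.symm
  have hf0 : f i₀ = 1 := by
    have h := hf i₀
    have hc : ((i₀ : IrrCharacter G) : G → ℂ) 1 = 1 := rfl
    rw [hc] at h
    exact_mod_cast h.symm
  -- `d ≠ f` off the trivial character
  have hdf : ∀ χ ∈ principalBlock M G, χ ≠ i₀ → d χ ≠ (f χ : ℤ) := by
    intro χ _ hne heq
    apply hne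
    have hconst1 : ∀ b ∈ H, (χ : G → ℂ) b = (χ : G → ℂ) 1 := by
      intro b hb
      by_cases hb1 : b = 1
      · rw [hb1]
      · rw [hconst χ b hb hb1, hf χ, heq]
        push_cast
        rfl
    have h := Cfsg.Agent.Lib.H12.SH.ker χ.2 H hncl hconst1
    exact Subtype.ext h
  exact Cfsg.Agent.Lib.H25.SH.endB_arith_finsum (principalBlock M G) i₀ hi₀ (Nat.card ↥H) hq4
    d f R (fun χ _ => hfpos χ) hd0 hf0 hdf hdle hmult hCS hEV hORTH

end Cfsg.Agent.Lib.H5.SH
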