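import Mathlib
import Cfsg.Prelude.Def_SubgroupEmbedding
import Cfsg.Prelude.Def_CaseTheorems

/-!
# S3017 piece RED, group-theoretic cores (helper5)

* `FRAT`: `X` normal of odd order, `H` a 2-subgroup whose image in `G ⧸ X` is normal: `N_G(H) X = G`.
* `NCL`: an extremely closed subgroup normalized by its normal closure is normal.
-/

set_option autoImplicit false

namespace Cfsg.Agent.Lib.H5.SH

variable {G : Type*} [Group G]

/-- `|K.subgroupOf N| = |K|` for `K ≤ N`. -/
theorem card_subgroupOf_of_le {K N : Subgroup G} (h : K ≤ N) :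
    Nat.card ↥(K.subgroupOf N) = Nat.card ↥K :=
  Nat.card_congr (Subgroup.subgroupOfEquivOfLe h).toEquiv

/-- FRAT (step ii of RED). -/
theorem normalizer_sup_eq_top_of_map_normal [Finite G] (X : Subgroup G) [X.Normal]
    (hX : Odd (Nat.card ↥X)) (H : Subgroup G) (hH : IsPGroup 2 ↥H)
    (hn : (H.map (QuotientGroup.mk' X)).Normal) : Subgroup.normalizer (H : Set G) ⊔ X = ⊤ := by
  have : Fact (Nat.Prime 2) := ⟨Nat.prime_two⟩
  set N := H ⊔ X with hN
  have hHN : H ≤ N := le_sup_left
  have hXN : X ≤ N := le_sup_right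
  have hNn : N.Normal := by
    have e : N = (H.map (QuotientGroup.mk' X)).comap (QuotientGroup.mk' X) := by
      rw [Subgroup.comap_map_eq, QuotientGroup.ker_mk']
    rw [e]
    exact hn.comap _
  -- `H ⊓ X = ⊥`
  have hcop : Nat.Coprime (Nat.card ↥H) (Nat.card ↥X) := by
    obtain ⟨k, hk⟩ := (IsPGroup.iff_card.mp hH)
    rw [hk]
    exact Nat.Coprime.pow_left k (Nat.coprime_two_left.mpr hX)
  have hinf : X ⊓ H = ⊥ := by
    rw [inf_comm]
    exact (Subgroup.disjoint_of_coprime_natCard hcop).eq_bot
  -- `|N| = |X| * |H|`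
  have h1 : Nat.card ↥N = Nat.card ↥X * X.relIndex N := by
    have := Subgroup.card_mul_index (X.subgroupOf N)
    rw [card_subgroupOf_of_le hXN] at this
    exact this.symm
  have h2 : X.relIndex N = Nat.card ↥H := by
    rw [hN, Subgroup.relIndex_sup_right, ← Subgroup.inf_relIndex_right, hinf, Subgroup.relIndex_bot_left]
  have h3 : Nat.card ↥N = Nat.card ↥H * H.relIndex N := by
    have := Subgroup.card_mul_index (H.subgroupOf N)
    rw [card_subgroupOf_of_le hHN] at this
    exact this.symm
  have h4 : H.relIndex N = Nat.card ↥X := by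
    have hpos : 0 < Nat.card ↥H := Nat.card_pos
    have : Nat.card ↥H * H.relIndex N = Nat.card ↥H * Nat.card ↥X := by
      rw [← h3, h1, h2, mul_comm]
    exact Nat.eq_of_mul_eq_mul_left hpos this
  have hidx : ¬ 2 ∣ (H.subgroupOf N).index := by
    change ¬ 2 ∣ H.relIndex N
    rw [h4]
    exact fun h => (Nat.not_even_iff_odd.mpr hX) (even_iff_two_dvd.mpr h)
  have hHp : IsPGroup 2 ↥(H.subgroupOf N) := hH.comap_subtype
  have hfr := Sylow.normalizer_sup_eq_top (hHp.toSylow hidx)
  have hmap : ((hHp.toSylow hidx : Sylow 2 ↥N) : Subgroup ↥N).map N.subtype = H := by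
    rw [IsPGroup.toSylow_coe, Subgroup.subgroupOf_map_subtype, inf_of_le_left hHN]
  rw [hmap, hN, ← sup_assoc, sup_of_le_left Subgroup.le_normalizer] at hfr
  exact hfr

/-- NCL (step iii of RED). -/
theorem normal_of_normalClosure_le_normalizer [Finite G] (H : Subgroup G)
    (hcl : Cfsg.IsExtremelyClosed H)
    (h : Subgroup.normalClosure (H : Set G) ≤ Subgroup.normalizer (H : Set G)) : H.Normal := by
  -- every conjugate of `H` lies in `H`
  have hconj : ∀ g : G, H.map (MulAut.conj g).toMonoidHom ≤ H := by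
    intro g
    have h1 : H.map (MulAut.conj g).toMonoidHom ≤ Subgroup.normalClosure (H : Set G) := by
      rintro _ ⟨x, hx, rfl⟩
      have hxc : x ∈ Subgroup.normalClosure (H : Set G) := Subgroup.subset_normalClosure hx
      have hnc : (Subgroup.normalClosure (H : Set G)).Normal := Subgroup.normalClosure_normal
      have hmem : g * x * g⁻¹ ∈ Subgroup.normalClosure (H : Set G) := hnc.conj_mem x hxc g
      have e : (MulAut.conj g).toMonoidHom x = g * x * g⁻¹ := rfl
      rw [e]
      exact hmem
    have h2 : H ⊔ H.map (MulAut.conj g).toMonoidHom ≤ Subgroup.normalizer (H : Set G) :=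
      sup_le Subgroup.le_normalizer (h1.trans h)
    have h3 := hcl g
    rw [inf_of_le_left h2] at h3
    exact le_sup_right.trans (le_of_eq h3)
  constructor
  intro x hx g
  have := hconj g ⟨x, hx, rfl⟩
  rwa [MulEquiv.coe_toMonoidHom, MulAut.conj_apply] at this

end Cfsg.Agent.Lib.H5.SH
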