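import Mathlib
import Cfsg.Prelude.Def_CaseTheorems
import Cfsg.Agent.Lib.H22.PPrimeCore
import Cfsg.Agent.Lib.H5.SHRED

/-!
# S3017 piece RED, core OQZ (helper5)

`Z ≤ Z(G)` a 2-group and `O(G) = 1`  ⟹  `O(G ⧸ Z) = 1`.
-/

set_option autoImplicit false

namespace Cfsg.Agent.Lib.H5.SH

variable {G : Type*} [Group G]

/-- OQZ (step iv of RED). -/
theorem oddCore_quotient_eq_bot_of_central [Finite G] (Z : Subgroup G) [Z.Normal]
    (hZc : Z ≤ Subgroup.center G) (hZ2 : IsPGroup 2 ↥Z) (hO : Cfsg.oddCore G = ⊥) :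
    Cfsg.oddCore (G ⧸ Z) = ⊥ := by
  classical
  have hp2 : Fact (Nat.Prime 2) := ⟨Nat.prime_two⟩
  set O' : Subgroup (G ⧸ Z) := Cfsg.pPrimeCore 2 (G ⧸ Z) with hO'
  have hO'n : O'.Normal := Cfsg.Agent.Lib.H22.pPrimeCore_normal 2
  have hO'c : (Nat.card ↥O').Coprime 2 := Cfsg.Agent.Lib.H22.card_pPrimeCore_coprime 2
  set m := Nat.card ↥O' with hm
  set Y : Subgroup G := O'.comap (QuotientGroup.mk' Z) with hY
  have hYn : Y.Normal := hO'n.comap _
  have hZY : Z ≤ Y := by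
    intro z hz
    rw [hY, Subgroup.mem_comap]
    have : QuotientGroup.mk' Z z = 1 := (QuotientGroup.eq_one_iff z).mpr hz
    rw [this]
    exact one_mem _
  have hrel : Z.relIndex Y = m := by
    have e : Z = (⊥ : Subgroup (G ⧸ Z)).comap (QuotientGroup.mk' Z) := by
      rw [MonoidHom.comap_bot, QuotientGroup.ker_mk']
    conv_lhs => rw [e]
    rw [Subgroup.relIndex_comap, Subgroup.relIndex_bot_left, hY,
      Subgroup.map_comap_eq_self_of_surjective (QuotientGroup.mk'_surjective Z)]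
  obtain ⟨a, ha⟩ := IsPGroup.iff_card.mp hZ2
  have hcop : Nat.Coprime (Nat.card ↥(Z.subgroupOf Y)) (Z.subgroupOf Y).index := by
    rw [card_subgroupOf_of_le hZY]
    change Nat.Coprime _ (Z.relIndex Y)
    rw [hrel, ha]
    exact Nat.Coprime.pow_left a hO'c.symm
  obtain ⟨K', hK'⟩ := Subgroup.exists_right_complement'_of_coprime hcop
  have hK'card : Nat.card ↥K' = m := by
    have h1 := hK'.symm.index_eq_card
    rw [← h1]
    exact hrel
  -- the key property
  have hkey : ∀ y : ↥Y, y ^ m = 1 → y ∈ K' := by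
    intro y hy
    obtain ⟨⟨n, k⟩, hnk, -⟩ := (Subgroup.isComplement_iff_existsUnique.mp
      ((Subgroup.isComplement'_def).mp hK')) y
    have hnk' : (n : ↥Y) * (k : ↥Y) = y := hnk
    have hnZ : ((n : ↥Y) : G) ∈ Z := Subgroup.mem_subgroupOf.mp n.2
    have hcomm : Commute (n : ↥Y) (k : ↥Y) := by
      apply Subtype.ext
      show ((n : ↥Y) : G) * ((k : ↥Y) : G) = ((k : ↥Y) : G) * ((n : ↥Y) : G)
      exact ((Subgroup.mem_center_iff.mp (hZc hnZ)) _).symm
    have hkm : (k : ↥Y) ^ m = 1 := by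
      have : (k : ↥K') ^ Nat.card ↥K' = 1 := pow_card_eq_one'
      rw [hK'card] at this
      have := congrArg (fun t : ↥K' => (t : ↥Y)) this
      simpa using this
    have hnm : (n : ↥Y) ^ m = 1 := by
      have := hcomm.mul_pow m
      rw [hnk', hy, hkm, mul_one] at this
      exact this.symm
    -- `n` is a 2-element
    have hn2 : ∃ j : ℕ, (n : ↥Y) ^ 2 ^ j = 1 := by
      obtain ⟨j, hj⟩ := hZ2 ⟨((n : ↥Y) : G), hnZ⟩
      refine ⟨j, ?_⟩
      apply Subtype.ext
      have := congrArg Subtype.val hj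
      simpa using this
    obtain ⟨j, hj⟩ := hn2
    have hn1 : (n : ↥Y) = 1 := by
      have hd1 : orderOf (n : ↥Y) ∣ m := orderOf_dvd_of_pow_eq_one hnm
      have hd2 : orderOf (n : ↥Y) ∣ 2 ^ j := orderOf_dvd_of_pow_eq_one hj
      have hc : Nat.Coprime m (2 ^ j) := Nat.Coprime.pow_right j hO'c
      have : orderOf (n : ↥Y) = 1 := Nat.eq_one_of_dvd_coprimes hc hd1 hd2
      exact orderOf_eq_one_iff.mp this
    rw [← hnk', hn1, one_mul]
    exact k.2
  set K : Subgroup G := K'.map Y.subtype with hK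
  have hKcard : Nat.card ↥K = m := by
    rw [hK, Subgroup.card_map_of_injective Y.subtype_injective, hK'card]
  have hKmem : ∀ x : G, x ∈ K ↔ x ∈ Y ∧ x ^ m = 1 := by
    intro x
    constructor
    · rintro ⟨k, hk, rfl⟩
      refine ⟨k.2, ?_⟩
      have : (⟨k, hk⟩ : ↥K') ^ Nat.card ↥K' = 1 := pow_card_eq_one'
      rw [hK'card] at this
      have h2 := congrArg (fun t : ↥K' => ((t : ↥Y) : G)) this
      simpa using h2
    · rintro ⟨hxY, hxm⟩
      refine ⟨⟨x, hxY⟩, hkey ⟨x, hxY⟩ ?_, rfl⟩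
      apply Subtype.ext
      simpa using hxm
  have hKn : K.Normal := by
    constructor
    intro x hx g
    obtain ⟨hxY, hxm⟩ := (hKmem x).mp hx
    refine (hKmem _).mpr ⟨hYn.conj_mem x hxY g, ?_⟩
    rw [conj_pow, hxm, mul_one, mul_inv_cancel]
  have hKle : K ≤ Cfsg.pPrimeCore 2 G :=
    Cfsg.Agent.Lib.H22.le_pPrimeCore 2 K hKn (by rw [hKcard]; exact hO'c)
  have hObot : Cfsg.pPrimeCore 2 G = ⊥ := hO
  rw [hObot, le_bot_iff] at hKle
  have hm1 : m = 1 := by
    rw [← hKcard, hKle, Subgroup.card_bot]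
  show O' = ⊥
  exact Subgroup.card_eq_one.mp hm1

end Cfsg.Agent.Lib.H5.SH
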