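import Mathlib
import Cfsg.Agent.Lib.H4.SLKDefs

set_option autoImplicit false
open Polynomial

/-!
# S2479 piece P20 (helper4 architect): `idx τ ∣ gcd (n, q - 1)`.
-/

namespace Cfsg.Agent.Lib.H5.SLK

open Cfsg.Agent.Lib.H12.Cls Cfsg.Agent.Lib.H4.SLK

universe u
variable {F : Type u} [Field F]

/-- IDXDVD -/
theorem idx_dvd [Fintype F] {n : ℕ} (τ : TSet F n n) :
    idx τ.1 ∣ Nat.gcd n (Fintype.card F - 1) := by
  classical
  have hdg : dg τ.1 ∣ n := by
    have h2 := τ.2.2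
    refine (Dvd.dvd.trans ?_ (dvd_of_eq h2))
    apply Finset.dvd_sum
    intro j _
    by_cases hj : τ.1 j = 1
    · rw [hj, natDegree_one, mul_zero]
      exact dvd_zero _
    · have hmem : j ∈ supp τ.1 := (mem_supp τ.1 j).2 hj
      have : dg τ.1 ∣ (j : ℕ) + 1 := Finset.gcd_dvd (f := fun j : Fin n => (j : ℕ) + 1) hmem
      exact Dvd.dvd.mul_right this _
  unfold idx
  exact Nat.dvd_gcd ((Nat.gcd_dvd_right _ _).trans hdg) (Nat.gcd_dvd_left _ _)

end Cfsg.Agent.Lib.H5.SLK
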