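import Mathlib
import Cfsg.Agent.Lib.H4.SLKDefs
import Cfsg.Agent.Lib.H12.SemiF

set_option autoImplicit false

/-!
# S2479 piece P28 (helper4 architect): the lower bound `q ^ (n - 1) < k(SL_n(q))`.
-/

namespace Cfsg.Agent.Lib.H5.SLK

universe u
variable {F : Type u} [Field F]

theorem transvection_pow' {n : Type*} [Fintype n] [DecidableEq n] {R : Type*} [CommRing R]
    (i j : n) (h : i ≠ j) (c : R) (k : ℕ) :
    Matrix.transvection i j c ^ k = Matrix.transvection i j (k • c) := by
  induction k with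
  | zero => rw [pow_zero, zero_smul, Matrix.transvection_zero]
  | succ k ih => rw [pow_succ, ih, Matrix.transvection_mul_transvection_same i j h, succ_nsmul]

/-- LOW -/
theorem card_conjClasses_SL_gt [Fintype F] (n : ℕ) (hn : 2 ≤ n) :
    Fintype.card F ^ (n - 1) < Nat.card (ConjClasses (Matrix.SpecialLinearGroup (Fin n) F)) := by
  classical
  obtain ⟨p, hp⟩ := CharP.exists F
  have hpp : Fact p.Prime := ⟨CharP.char_is_prime F p⟩
  have hcard := Cfsg.Agent.Lib.H12.Semi.card_semisimple_classes_SL (F := F) p n (by omega)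
  rw [← hcard]
  obtain ⟨i0, hi0⟩ : ∃ i0 : Fin n, i0 = ⟨0, by omega⟩ := ⟨_, rfl⟩
  obtain ⟨i1, hi1⟩ : ∃ i1 : Fin n, i1 = ⟨1, by omega⟩ := ⟨_, rfl⟩
  have h01 : i0 ≠ i1 := by
    intro h
    have := congrArg Fin.val h
    rw [hi0, hi1] at this
    simp at this
  obtain ⟨T, hT⟩ : ∃ T : Matrix.SpecialLinearGroup (Fin n) F,
      (T : Matrix (Fin n) (Fin n) F) = Matrix.transvection i0 i1 1 :=
    ⟨⟨Matrix.transvection i0 i1 1, Matrix.det_transvection_of_ne i0 i1 h01 1⟩, rfl⟩
  have hTp : T ^ p = 1 := by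
    apply Subtype.ext
    rw [Matrix.SpecialLinearGroup.coe_pow, hT, transvection_pow' i0 i1 h01, nsmul_one,
      CharP.cast_eq_zero, Matrix.transvection_zero]
    rfl
  have hT1 : T ≠ 1 := by
    intro h
    have h2 : (T : Matrix (Fin n) (Fin n) F) i0 i1 = (1 : Matrix (Fin n) (Fin n) F) i0 i1 := by
      rw [h]; rfl
    rw [hT, Matrix.transvection, Matrix.add_apply, Matrix.one_apply_ne h01, zero_add,
      Matrix.single_apply_same] at h2
    exact one_ne_zero h2
  have hTo : orderOf T = p := orderOf_eq_prime hTp hT1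
  apply Finite.card_subtype_lt (x := ConjClasses.mk T)
  rintro ⟨g, hg, hcop⟩
  rw [ConjClasses.mk_eq_mk_iff_isConj, isConj_iff] at hg
  obtain ⟨c, hc⟩ := hg
  have hsc : SemiconjBy c g T := by
    show c * g = T * c
    rw [← hc]; group
  have hgo : orderOf g = p := by rw [hsc.orderOf_eq, hTo]
  rw [hgo, Nat.coprime_self] at hcop
  exact hpp.out.one_lt.ne' hcop

end Cfsg.Agent.Lib.H5.SLK
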