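/-
S2332 CNT (helper12 farm-out): the number of transvections of SL_{m+1}(q).
The transvections (conjugates of the uEl a, a ≠ 0) are exactly the 1 + v wᵀ with v, w ≠ 0, w ⬝ᵥ v = 0
(SL_{m+1} moves e₀ to every non-zero vector); the pairs (v, w) are counted by rank-nullity and the map
(v, w) ↦ 1 + v wᵀ has fibres the orbits of the free action of Fˣ.
-/
import Mathlib
import Cfsg.Agent.Lib.H12.SLMinDefs

set_option autoImplicit false

namespace Cfsg.Agent.Lib.H5.SLMin

open Matrix Cfsg.Agent.Lib.H12.SLMin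

variable {F : Type*} [Field F] {m : ℕ}

/-- the transvection `1 + v wᵀ` (`w ⬝ᵥ v = 0`) -/
def tvEl (v w : Fin (m + 1) → F) (h : w ⬝ᵥ v = 0) : Matrix.SpecialLinearGroup (Fin (m + 1)) F :=
  ⟨1 + vecMulVec v w, by
    rw [vecMulVec_eq (Fin 1), det_one_add_replicateCol_mul_replicateRow, h, add_zero]⟩

@[simp] theorem tvEl_coe (v w : Fin (m + 1) → F) (h : w ⬝ᵥ v = 0) :
    (tvEl v w h : Matrix (Fin (m + 1)) (Fin (m + 1)) F) = 1 + vecMulVec v w := rfl

/-- `uEl a = 1 + e₀ (0,a)ᵀ` -/
theorem uEl_eq_tv (a : Fin m → F) :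
    (uEl a : Matrix (Fin (m + 1)) (Fin (m + 1)) F) =
      1 + vecMulVec (Fin.cons 1 0 : Fin (m + 1) → F) (Fin.cons 0 a : Fin (m + 1) → F) := by
  rw [uEl_coe]
  apply bm_ext
  · simp [vecMulVec_apply]
  · intro j
    simp [vecMulVec_apply, Matrix.one_apply, (Fin.succ_ne_zero j).symm]
  · intro i
    simp [vecMulVec_apply, Matrix.one_apply, Fin.succ_ne_zero]
  · intro i j
    simp [vecMulVec_apply, Matrix.one_apply]

/-- conjugating `1 + v wᵀ` -/
theorem conj_tv (g : Matrix.SpecialLinearGroup (Fin (m + 1)) F) (v w : Fin (m + 1) → F) :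
    (g : Matrix (Fin (m + 1)) (Fin (m + 1)) F) * (1 + vecMulVec v w) *
      ((g⁻¹ : Matrix.SpecialLinearGroup (Fin (m + 1)) F) : Matrix (Fin (m + 1)) (Fin (m + 1)) F) =
      1 + vecMulVec ((g : Matrix (Fin (m + 1)) (Fin (m + 1)) F) *ᵥ v)
        (w ᵥ* ((g⁻¹ : Matrix.SpecialLinearGroup (Fin (m + 1)) F) : Matrix (Fin (m + 1)) (Fin (m + 1)) F)) := by
  rw [Matrix.mul_add, Matrix.add_mul, Matrix.mul_one, ← Matrix.SpecialLinearGroup.coe_mul, mul_inv_cancel,
    Matrix.SpecialLinearGroup.coe_one]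
  congr 1
  rw [vecMulVec_eq (Fin 1), vecMulVec_eq (Fin 1)]
  ext i j
  simp [Matrix.mul_apply, mulVec, vecMul, dotProduct, Finset.mul_sum, mul_assoc, mul_comm, mul_left_comm]
  rw [Finset.sum_comm]

/-- lower unipotent `[[1,0],[l,1]]` -/
def lowEl (l : Fin m → F) : Matrix.SpecialLinearGroup (Fin (m + 1)) F :=
  ⟨bm 1 0 l 1, by
    have h : bm (1 : F) 0 l 1 = (bm (1 : F) l 0 1)ᵀ := by
      apply bm_ext
      · simp
      · intro j; simp
      · intro i; simp
      · intro i j; simp [Matrix.one_apply, eq_comm]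
    rw [h, det_transpose, det_bm, det_one, mul_one]⟩

theorem lowEl_mulVec (l : Fin m → F) (x : F) (v : Fin m → F) :
    (lowEl l : Matrix (Fin (m + 1)) (Fin (m + 1)) F) *ᵥ (Fin.cons x v : Fin (m + 1) → F) =
      Fin.cons x (x • l + v) := by
  show bm 1 0 l 1 *ᵥ _ = _
  rw [bm_mulVec]; simp

theorem uEl_mulVec (a : Fin m → F) (x : F) (v : Fin m → F) :
    (uEl a : Matrix (Fin (m + 1)) (Fin (m + 1)) F) *ᵥ (Fin.cons x v : Fin (m + 1) → F) =
      Fin.cons (x + a ⬝ᵥ v) v := by
  rw [uEl_coe, bm_mulVec]; simp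

/-- `SL_{m+1}` moves `e₀` to any non-zero vector (`m ≥ 1`) -/
theorem exists_sl_mulVec_e0 (hm : 1 ≤ m) (v : Fin (m + 1) → F) (hv : v ≠ 0) :
    ∃ g : Matrix.SpecialLinearGroup (Fin (m + 1)) F,
      (g : Matrix (Fin (m + 1)) (Fin (m + 1)) F) *ᵥ (Fin.cons 1 0 : Fin (m + 1) → F) = v := by
  obtain ⟨x, l, rfl⟩ : ∃ (x : F) (l : Fin m → F), v = Fin.cons x l :=
    ⟨v 0, Fin.tail v, (Fin.cons_self_tail v).symm⟩
  by_cases hl : l = 0
  · subst hl
    have hx : x ≠ 0 := by
      rintro rfl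
      apply hv
      funext i
      refine Fin.cases ?_ (fun i' => ?_) i <;> simp
    let i0 : Fin m := ⟨0, hm⟩
    refine ⟨lowEl (-(x⁻¹) • Pi.single i0 1) * uEl (Pi.single i0 (x - 1)) * lowEl (Pi.single i0 1), ?_⟩
    rw [Matrix.SpecialLinearGroup.coe_mul, Matrix.SpecialLinearGroup.coe_mul, ← Matrix.mulVec_mulVec,
      ← Matrix.mulVec_mulVec, lowEl_mulVec, uEl_mulVec, lowEl_mulVec]
    congr 1
    · simp
    · simp only [one_smul, add_zero, single_dotProduct, Pi.single_eq_same, mul_one]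
      rw [smul_smul]
      have : (1 + (x - 1)) * -x⁻¹ = -1 := by field_simp; ring
      rw [this]; simp
  · obtain ⟨i, hi⟩ : ∃ i, l i ≠ 0 := by
      by_contra hcon
      push Not at hcon
      exact hl (funext hcon)
    refine ⟨uEl (Pi.single i ((x - 1) / l i)) * lowEl l, ?_⟩
    rw [Matrix.SpecialLinearGroup.coe_mul, ← Matrix.mulVec_mulVec, lowEl_mulVec, uEl_mulVec]
    congr 1
    · simp only [one_smul, add_zero, single_dotProduct]
      field_simp; ring
    · simp


theorem sl_inv_mul (g : Matrix.SpecialLinearGroup (Fin (m + 1)) F) :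
    ((g⁻¹ : Matrix.SpecialLinearGroup (Fin (m + 1)) F) : Matrix (Fin (m + 1)) (Fin (m + 1)) F) *
      (g : Matrix (Fin (m + 1)) (Fin (m + 1)) F) = 1 := by
  rw [← Matrix.SpecialLinearGroup.coe_mul, inv_mul_cancel, Matrix.SpecialLinearGroup.coe_one]

theorem sl_mul_inv (g : Matrix.SpecialLinearGroup (Fin (m + 1)) F) :
    (g : Matrix (Fin (m + 1)) (Fin (m + 1)) F) *
      ((g⁻¹ : Matrix.SpecialLinearGroup (Fin (m + 1)) F) : Matrix (Fin (m + 1)) (Fin (m + 1)) F) = 1 := by
  rw [← Matrix.SpecialLinearGroup.coe_mul, mul_inv_cancel, Matrix.SpecialLinearGroup.coe_one]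

/-- the transvections are exactly the `1 + v wᵀ` with `v, w ≠ 0`, `w ⬝ᵥ v = 0` -/
theorem mem_transv_iff [Finite F] (hm : 1 ≤ m) (x : Matrix.SpecialLinearGroup (Fin (m + 1)) F) :
    x ∈ transv m F ↔ ∃ v w : Fin (m + 1) → F, v ≠ 0 ∧ w ≠ 0 ∧ w ⬝ᵥ v = 0 ∧
      (x : Matrix (Fin (m + 1)) (Fin (m + 1)) F) = 1 + vecMulVec v w := by
  rw [mem_transv]
  constructor
  · rintro ⟨g, a, ha, rfl⟩
    refine ⟨(g : Matrix (Fin (m + 1)) (Fin (m + 1)) F) *ᵥ (Fin.cons 1 0 : Fin (m + 1) → F),
      (Fin.cons 0 a : Fin (m + 1) → F) ᵥ* ((g⁻¹ : Matrix.SpecialLinearGroup (Fin (m + 1)) F) :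
        Matrix (Fin (m + 1)) (Fin (m + 1)) F), ?_, ?_, ?_, ?_⟩
    · intro h
      have h2 := congrArg (fun u => ((g⁻¹ : Matrix.SpecialLinearGroup (Fin (m + 1)) F) :
        Matrix (Fin (m + 1)) (Fin (m + 1)) F) *ᵥ u) h
      simp only [Matrix.mulVec_mulVec, sl_inv_mul, Matrix.one_mulVec, Matrix.mulVec_zero] at h2
      have := congrFun h2 0
      simp at this
    · intro h
      have h2 := congrArg (fun u => u ᵥ* (g : Matrix (Fin (m + 1)) (Fin (m + 1)) F)) h
      simp only [Matrix.vecMul_vecMul, sl_inv_mul, Matrix.vecMul_one, Matrix.zero_vecMul] at h2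
      apply ha
      funext i
      have := congrFun h2 i.succ
      simpa using this
    · rw [← Matrix.dotProduct_mulVec, Matrix.mulVec_mulVec, sl_inv_mul, Matrix.one_mulVec]
      simp [dotProduct, Fin.sum_univ_succ]
    · rw [Matrix.SpecialLinearGroup.coe_mul, Matrix.SpecialLinearGroup.coe_mul, uEl_eq_tv, conj_tv]
  · rintro ⟨v, w, hv, hw, hwv, hx⟩
    obtain ⟨g, hg⟩ := exists_sl_mulVec_e0 hm v hv
    set w' : Fin (m + 1) → F := w ᵥ* (g : Matrix (Fin (m + 1)) (Fin (m + 1)) F) with hw'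
    have hw'0 : w' 0 = 0 := by
      have : w' ⬝ᵥ (Fin.cons 1 0 : Fin (m + 1) → F) = 0 := by
        rw [hw', ← Matrix.dotProduct_mulVec, hg, hwv]
      simpa [dotProduct, Fin.sum_univ_succ] using this
    have hw'c : w' = Fin.cons 0 (Fin.tail w') := by
      rw [← hw'0]; exact (Fin.cons_self_tail w').symm
    have hback : w' ᵥ* ((g⁻¹ : Matrix.SpecialLinearGroup (Fin (m + 1)) F) :
        Matrix (Fin (m + 1)) (Fin (m + 1)) F) = w := by
      rw [hw', Matrix.vecMul_vecMul, sl_mul_inv, Matrix.vecMul_one]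
    refine ⟨g, Fin.tail w', ?_, ?_⟩
    · intro h
      apply hw
      rw [← hback, hw'c, h]
      have : (Fin.cons 0 0 : Fin (m + 1) → F) = 0 := by
        funext i; refine Fin.cases ?_ (fun i' => ?_) i <;> simp
      rw [this, Matrix.zero_vecMul]
    · apply Subtype.ext
      rw [Matrix.SpecialLinearGroup.coe_mul, Matrix.SpecialLinearGroup.coe_mul, uEl_eq_tv, conj_tv, hg,
        ← hw'c, hback, hx]


/-- the functional `w ↦ w ⬝ᵥ v` -/
def dotL (v : Fin (m + 1) → F) : (Fin (m + 1) → F) →ₗ[F] F where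
  toFun w := w ⬝ᵥ v
  map_add' := fun a b => add_dotProduct a b v
  map_smul' := fun c a => smul_dotProduct c a v

@[simp] theorem dotL_apply (v w : Fin (m + 1) → F) : dotL v w = w ⬝ᵥ v := rfl

theorem card_ker_dotL [Fintype F] (v : Fin (m + 1) → F) (hv : v ≠ 0) :
    Nat.card (LinearMap.ker (dotL v)) = Fintype.card F ^ m := by
  classical
  have hsurj : Function.Surjective (dotL v) := by
    obtain ⟨i, hi⟩ : ∃ i, v i ≠ 0 := by
      by_contra hcon
      push Not at hcon
      exact hv (funext hcon)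
    intro c
    refine ⟨Pi.single i (c / v i), ?_⟩
    rw [dotL_apply, single_dotProduct]
    field_simp
  have hrange : LinearMap.range (dotL v) = ⊤ := LinearMap.range_eq_top.mpr hsurj
  have hrn := LinearMap.finrank_range_add_finrank_ker (dotL v)
  rw [hrange, finrank_top, Module.finrank_self, Module.finrank_fin_fun] at hrn
  have hker : Module.finrank F (LinearMap.ker (dotL v)) = m := by omega
  haveI : Fintype (LinearMap.ker (dotL v)) := Fintype.ofFinite _
  rw [Nat.card_eq_fintype_card, Module.card_eq_pow_finrank (K := F) (V := LinearMap.ker (dotL v)), hker]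


/-- two presentations `1 + v wᵀ = 1 + v₀ w₀ᵀ` differ by a scalar -/
theorem tv_eq_iff {v w v₀ w₀ : Fin (m + 1) → F} (hv : v ≠ 0) (hw : w ≠ 0) (hv₀ : v₀ ≠ 0)
    (h : (1 : Matrix (Fin (m + 1)) (Fin (m + 1)) F) + vecMulVec v w = 1 + vecMulVec v₀ w₀) :
    ∃ c : Fˣ, v = (c : F) • v₀ ∧ w = ((c⁻¹ : Fˣ) : F) • w₀ := by
  have h1 : vecMulVec v w = vecMulVec v₀ w₀ := add_left_cancel h
  have hij : ∀ i j, v i * w j = v₀ i * w₀ j := fun i j => by
    have := congrFun (congrFun h1 i) j
    simpa [vecMulVec_apply] using this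
  obtain ⟨j, hj⟩ : ∃ j, w j ≠ 0 := by
    by_contra hcon
    push Not at hcon
    exact hw (funext hcon)
  obtain ⟨i, hi⟩ : ∃ i, v i ≠ 0 := by
    by_contra hcon
    push Not at hcon
    exact hv (funext hcon)
  have hc0 : w₀ j / w j ≠ 0 := by
    intro h0
    have h2 := hij i j
    have h3 : w₀ j = 0 := by
      rcases div_eq_zero_iff.mp h0 with h | h
      · exact h
      · exact absurd h hj
    rw [h3, mul_zero] at h2
    exact (mul_ne_zero hi hj) h2
  refine ⟨Units.mk0 _ hc0, ?_, ?_⟩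
  · funext i'
    have := hij i' j
    simp only [Units.val_mk0, Pi.smul_apply, smul_eq_mul]
    field_simp
    linear_combination this
  · -- w = c⁻¹ w₀ : use a coordinate of v₀ ≠ 0
    obtain ⟨i₀, hi₀⟩ : ∃ i, v₀ i ≠ 0 := by
      by_contra hcon
      push Not at hcon
      exact hv₀ (funext hcon)
    have hvi : v i₀ = (w₀ j / w j) * v₀ i₀ := by
      have := hij i₀ j
      field_simp
      linear_combination this
    funext j'
    have := hij i₀ j'
    rw [hvi] at this
    simp only [Units.val_inv_eq_inv_val, Units.val_mk0, Pi.smul_apply, smul_eq_mul]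
    have h5 : w₀ j / w j * v₀ i₀ * w j' = v₀ i₀ * w₀ j' := this
    have : (w₀ j / w j) * w j' = w₀ j' := by
      apply mul_left_cancel₀ hi₀
      rw [← h5]; ring
    rw [← this, ← mul_assoc, inv_mul_cancel₀ hc0, one_mul]

theorem card_transv_aux [Fintype F] (hm : 1 ≤ m) :
    (transv m F).card * (Fintype.card F - 1) =
      (Fintype.card F ^ (m + 1) - 1) * (Fintype.card F ^ m - 1) := by
  classical
  set q := Fintype.card F with hq
  let S : Finset ((Fin (m + 1) → F) × (Fin (m + 1) → F)) :=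
    Finset.univ.filter (fun p => p.1 ≠ 0 ∧ p.2 ≠ 0 ∧ p.2 ⬝ᵥ p.1 = 0)
  let φ : (Fin (m + 1) → F) × (Fin (m + 1) → F) → Matrix.SpecialLinearGroup (Fin (m + 1)) F :=
    fun p => if h : p.2 ⬝ᵥ p.1 = 0 then tvEl p.1 p.2 h else 1
  have hφ : ∀ p ∈ S, (φ p : Matrix (Fin (m + 1)) (Fin (m + 1)) F) = 1 + vecMulVec p.1 p.2 := by
    intro p hp
    have h := (Finset.mem_filter.mp hp).2.2.2
    simp only [φ, dif_pos h, tvEl_coe]
  -- Step A : the number of pairs
  have hA : S.card = (q ^ (m + 1) - 1) * (q ^ m - 1) := by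
    let N : Finset (Fin (m + 1) → F) := Finset.univ.filter (fun v => v ≠ 0)
    have hN : N.card = q ^ (m + 1) - 1 := by
      have : N = Finset.univ.erase 0 := by
        ext v; simp [N]
      rw [this, Finset.card_erase_of_mem (Finset.mem_univ _), Finset.card_univ, Fintype.card_fun,
        Fintype.card_fin]
    have hmap : ∀ p ∈ S, p.1 ∈ N := fun p hp => by
      simp only [N, Finset.mem_filter, Finset.mem_univ, true_and]
      exact (Finset.mem_filter.mp hp).2.1
    rw [Finset.card_eq_sum_card_fiberwise hmap]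
    have hfib : ∀ v ∈ N, (S.filter (fun p => p.1 = v)).card = q ^ m - 1 := by
      intro v hv
      have hv0 : v ≠ 0 := (Finset.mem_filter.mp hv).2
      -- the fibre is the set of non-zero w in the kernel
      have h1 : (S.filter (fun p => p.1 = v)).card =
          ((Finset.univ.filter (fun w : Fin (m + 1) → F => w ⬝ᵥ v = 0)).erase 0).card := by
        apply Finset.card_bij (fun p _ => p.2)
        · intro p hp
          rw [Finset.mem_filter] at hp
          obtain ⟨hpS, rfl⟩ := hp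
          have := (Finset.mem_filter.mp hpS).2
          rw [Finset.mem_erase, Finset.mem_filter]
          exact ⟨this.2.1, Finset.mem_univ _, this.2.2⟩
        · intro p hp p' hp' h
          rw [Finset.mem_filter] at hp hp'
          exact Prod.ext (hp.2.trans hp'.2.symm) h
        · intro w hw
          rw [Finset.mem_erase, Finset.mem_filter] at hw
          refine ⟨(v, w), ?_, rfl⟩
          rw [Finset.mem_filter]
          refine ⟨?_, rfl⟩
          simp only [S, Finset.mem_filter, Finset.mem_univ, true_and]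
          exact ⟨hv0, hw.1, hw.2.2⟩
      rw [h1, Finset.card_erase_of_mem (by simp)]
      have h2 : (Finset.univ.filter (fun w : Fin (m + 1) → F => w ⬝ᵥ v = 0)).card = q ^ m := by
        rw [← card_ker_dotL v hv0, Nat.card_eq_fintype_card, ← Fintype.card_subtype]
        apply Fintype.card_congr
        exact Equiv.subtypeEquivRight (fun w => by simp [LinearMap.mem_ker])
      rw [h2]
    rw [Finset.sum_congr rfl hfib, Finset.sum_const, hN, smul_eq_mul]
  -- Step B : the fibres of φ over the transvections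
  have hmapT : ∀ p ∈ S, φ p ∈ transv m F := by
    intro p hp
    rw [mem_transv_iff hm]
    have := (Finset.mem_filter.mp hp).2
    exact ⟨p.1, p.2, this.1, this.2.1, this.2.2, hφ p hp⟩
  have hB : ∀ x ∈ transv m F, (S.filter (fun p => φ p = x)).card = q - 1 := by
    intro x hx
    obtain ⟨v₀, w₀, hv₀, hw₀, hwv₀, hx₀⟩ := (mem_transv_iff hm x).mp hx
    rw [hq, ← Fintype.card_units, ← Finset.card_univ]
    symm
    apply Finset.card_bij (fun (c : Fˣ) _ => (((c : F) • v₀, ((c⁻¹ : Fˣ) : F) • w₀) :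
      (Fin (m + 1) → F) × (Fin (m + 1) → F)))
    · intro c _
      have hmemS : (((c : F) • v₀, ((c⁻¹ : Fˣ) : F) • w₀) :
          (Fin (m + 1) → F) × (Fin (m + 1) → F)) ∈ S := by
        simp only [S, Finset.mem_filter, Finset.mem_univ, true_and]
        refine ⟨smul_ne_zero (Units.ne_zero c) hv₀, smul_ne_zero (Units.ne_zero _) hw₀, ?_⟩
        rw [smul_dotProduct, dotProduct_smul, hwv₀]; simp
      rw [Finset.mem_filter]
      refine ⟨hmemS, ?_⟩
      apply Subtype.ext
      rw [hφ _ hmemS, hx₀]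
      congr 1
      ext i j
      simp only [vecMulVec_apply, Pi.smul_apply, smul_eq_mul, Units.val_inv_eq_inv_val]
      field_simp
    · intro c _ c' _ h
      have h1 := congrArg Prod.fst h
      simp only at h1
      obtain ⟨i, hi⟩ : ∃ i, v₀ i ≠ 0 := by
        by_contra hcon
        push Not at hcon
        exact hv₀ (funext hcon)
      have h2 := congrFun h1 i
      simp only [Pi.smul_apply, smul_eq_mul] at h2
      exact Units.ext (mul_right_cancel₀ hi h2)
    · intro p hp
      rw [Finset.mem_filter] at hp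
      obtain ⟨hpS, hpx⟩ := hp
      have hp' := (Finset.mem_filter.mp hpS).2
      have heq : (1 : Matrix (Fin (m + 1)) (Fin (m + 1)) F) + vecMulVec p.1 p.2 = 1 + vecMulVec v₀ w₀ := by
        rw [← hφ p hpS, hpx, hx₀]
      obtain ⟨c, hc1, hc2⟩ := tv_eq_iff hp'.1 hp'.2.1 hv₀ heq
      exact ⟨c, Finset.mem_univ _, Prod.ext hc1.symm hc2.symm⟩
  -- Step C
  rw [← hA, Finset.card_eq_sum_card_fiberwise hmapT, Finset.sum_congr rfl hB, Finset.sum_const, smul_eq_mul]

/-- **S2332 CNT**: the number of transvections of `SL_{m+1}(q)` is `(q^(m+1)-1)(q^m-1)/(q-1)`. -/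
theorem card_transv {F : Type*} [Field F] [Fintype F] {m : ℕ} (hm : 1 ≤ m) :
    (transv m F).card * (Fintype.card F - 1) =
      (Fintype.card F ^ (m + 1) - 1) * (Fintype.card F ^ m - 1) :=
  card_transv_aux hm

end Cfsg.Agent.Lib.H5.SLMin
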