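import Cfsg.Agent.Lib.H2.SpMinFIX
import Cfsg.Agent.Lib.H3.SpMinCNT
import Cfsg.Agent.Lib.H1.SpMinA2

/-!
# S2142-A4 (helper5, for architect helper7): a subgroup of `Sp_{2m}(2)` that is not transitive on the non-zero vectors has index
at least `2^(m-1) (2^m - 1)`  (rank-3 Fisher inequality A2 on the symplectic graph).
-/

set_option autoImplicit false
set_option linter.unusedSectionVars false
set_option linter.unusedVariables false
set_option linter.unusedSimpArgs false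

namespace Cfsg.Agent.Lib.H5.SpMin

open Matrix Cfsg.Agent.Lib.H4 Cfsg.Agent.Lib.H2.Sp Cfsg.Agent.Lib.H7.SpMin


variable {F : Type*} [Field F] [Fintype F] (m : ℕ)

set_option quotPrecheck false in
local notation "Sp" => ↥(Matrix.symplecticGroup (Fin m) F)

set_option quotPrecheck false in
local notation "MM" => Matrix (Fin m ⊕ Fin m) (Fin m ⊕ Fin m) F

set_option quotPrecheck false in
local notation "VV" => (Fin m ⊕ Fin m → F)

set_option quotPrecheck false in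
local notation "B" => Cfsg.sympForm m F

/-- the non-zero vectors -/
def NZ (m : ℕ) (F : Type*) [Field F] : Type _ := {v : Fin m ⊕ Fin m → F // v ≠ 0}

theorem a4_mulVec_ne_zero (g : Sp) (v : VV) (hv : v ≠ 0) : (g : MM) *ᵥ v ≠ 0 := by
  intro h0
  apply hv
  have h2 : ((g⁻¹ : Sp) : MM) *ᵥ ((g : MM) *ᵥ v) = v := by
    rw [Matrix.mulVec_mulVec, ← Submonoid.coe_mul, inv_mul_cancel, Submonoid.coe_one, Matrix.one_mulVec]
  rw [h0, Matrix.mulVec_zero] at h2
  exact h2.symm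

/-- `Sp` acts on the non-zero vectors -/
@[instance_reducible] noncomputable def nzAction : MulAction Sp (NZ m F) where
  smul g v := ⟨(g : MM) *ᵥ v.1, a4_mulVec_ne_zero m g v.1 v.2⟩
  one_smul v := by
    apply Subtype.ext
    show ((1 : Sp) : MM) *ᵥ v.1 = v.1
    rw [Submonoid.coe_one, Matrix.one_mulVec]
  mul_smul g h v := by
    apply Subtype.ext
    show ((g * h : Sp) : MM) *ᵥ v.1 = (g : MM) *ᵥ ((h : MM) *ᵥ v.1)
    rw [Submonoid.coe_mul, Matrix.mulVec_mulVec]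

theorem nz_smul_val (g : Sp) (v : NZ m F) :
    (letI := nzAction (F := F) m; (g • v : NZ m F)).1 = (g : MM) *ᵥ v.1 := rfl

/-- filter counts on `NZ` as subtype counts on `VV` -/
theorem nz_filter_card [Fintype (NZ m F)] (P : VV → Prop) [DecidablePred fun z : NZ m F => P z.1] :
    (Finset.univ.filter fun z : NZ m F => P z.1).card = Nat.card {z : VV // z ≠ 0 ∧ P z} := by
  rw [← Fintype.card_subtype, ← Nat.card_eq_fintype_card]
  exact Nat.card_congr (Equiv.subtypeSubtypeEquivSubtypeInter (fun z : VV => z ≠ 0) P)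

theorem nz_card [Fintype (NZ m F)] (hF : Fintype.card F = 2) :
    Fintype.card (NZ m F) = 2 ^ (2 * m) - 1 := by
  have h1 := Cfsg.Agent.Lib.H3.SpMin.cnt_card_ne_zero (F := F) m (fun _ => True) trivial
  have e : {z : VV // z ≠ 0 ∧ True} ≃ NZ m F :=
    { toFun := fun z => ⟨z.1, z.2.1⟩
      invFun := fun z => ⟨z.1, z.2, trivial⟩
      left_inv := fun z => rfl
      right_inv := fun z => rfl }
  have e2 : {z : VV // True} ≃ VV := Equiv.subtypeUnivEquiv (fun _ => trivial)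
  rw [Nat.card_congr e, Nat.card_congr e2, Nat.card_eq_fintype_card, Nat.card_eq_fintype_card,
    Fintype.card_fun, Fintype.card_sum, Fintype.card_fin, ← two_mul, hF] at h1
  exact h1

/-- **S2142-A4**. -/
theorem index_ge_of_not_isTrans (hF : Fintype.card F = 2) (hm : 1 ≤ m) (H : Subgroup Sp) (h : ¬ IsTrans m H) :
    2 ^ (m - 1) * (2 ^ m - 1) ≤ H.index := by
  classical
  unfold Cfsg.Agent.Lib.H7.SpMin.IsTrans at h
  push Not at h
  obtain ⟨v₀, w₀, hv₀, hw₀, hvw⟩ := h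
  letI : MulAction Sp (NZ m F) := nzAction (F := F) m
  haveI : Finite (NZ m F) := by unfold NZ; infer_instance
  letI : Fintype (NZ m F) := Fintype.ofFinite _
  -- numerics
  obtain ⟨k, hk⟩ : ∃ k, 2 ^ (m - 1) = k + 1 := ⟨2 ^ (m - 1) - 1, by have := Nat.one_le_two_pow (n := m - 1); omega⟩
  have e1 : 2 ^ m = 2 * (k + 1) := by
    rw [← hk, ← pow_succ']; congr 1; omega
  have e2 : 2 ^ (2 * m) = 4 * (k + 1) * (k + 1) := by
    rw [two_mul, pow_add, e1]; ring
  have e3 : 2 ^ (2 * m - 1) = 2 * (k + 1) * (k + 1) := by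
    have : 2 * 2 ^ (2 * m - 1) = 2 ^ (2 * m) := by rw [← pow_succ']; congr 1; omega
    have h4 : 2 * 2 ^ (2 * m - 1) = 2 * (2 * (k + 1) * (k + 1)) := by rw [this, e2]; ring
    exact Nat.eq_of_mul_eq_mul_left (by norm_num) h4
  have e4 : 2 ^ (2 * m - 2) = (k + 1) * (k + 1) := by
    have : 2 * 2 ^ (2 * m - 2) = 2 ^ (2 * m - 1) := by rw [← pow_succ']; congr 1; omega
    have h4 : 2 * 2 ^ (2 * m - 2) = 2 * ((k + 1) * (k + 1)) := by rw [this, e3]; ring
    exact Nat.eq_of_mul_eq_mul_left (by norm_num) h4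
  have hN : Fintype.card (NZ m F) = 4 * (k * k) + 8 * k + 3 := by
    rw [nz_card m hF, e2]
    have : 4 * (k + 1) * (k + 1) = 4 * (k * k) + 8 * k + 3 + 1 := by ring
    omega
  have hκ : 2 ^ (2 * m - 1) - 1 = 2 * (k * k) + 4 * k + 1 := by
    rw [e3]
    have : 2 * (k + 1) * (k + 1) = 2 * (k * k) + 4 * k + 1 + 1 := by ring
    omega
  have ht' : 2 ^ (2 * m - 2) - 1 = k * k + 2 * k := by
    rw [e4]
    have : (k + 1) * (k + 1) = k * k + 2 * k + 1 := by ring
    omega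
  have hgoal : 2 ^ (m - 1) * (2 ^ m - 1) = (2 * (k * k) + 3 * k) + 1 := by
    rw [hk, e1]
    have : 2 * (k + 1) - 1 = 2 * k + 1 := by omega
    rw [this]; ring
  rw [hgoal]
  let R : NZ m F → NZ m F → Prop := fun x y => B x.1 y.1 = 0
  let x₀ : NZ m F := ⟨v₀, hv₀⟩
  let x₁ : NZ m F := ⟨w₀, hw₀⟩
  refine Cfsg.Agent.Lib.H1.SpMin.fisher_rank3 (G := Sp) (X := NZ m F) R ?_ ?_ ?_ ?_ ?_ ?_ (k + 1) (2 * (k * k) + 4 * k + 1) (k * k + 2 * k)
    (4 * (k * k) + 8 * k + 3) (by omega) hN ?_ ?_ (by ring) (by nlinarith) (2 * (k * k) + 3 * k) ?_ H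
    {y : NZ m F | ∃ h ∈ H, h • x₀ = y} ?_ x₀ x₁ ⟨1, H.one_mem, one_smul _ _⟩ ?_
  · intro x
    exact sympForm_self m x.1
  · intro x y hxy
    show B y.1 x.1 = 0
    rw [sympForm_symm m hF]; exact hxy
  · intro g x y hxy
    show B ((g : MM) *ᵥ x.1) ((g : MM) *ᵥ y.1) = 0
    rw [(mem_symplecticGroup_iff_sympForm m g.1).1 g.2 x.1 y.1]; exact hxy
  · intro x y
    obtain ⟨g, -, hg⟩ := TS_transitive m x.1 y.1 x.2 y.2
    exact ⟨g, Subtype.ext hg⟩
  · intro x y x' y' hxy hxy' hR hR'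
    obtain ⟨g, hg1, hg2⟩ := Cfsg.Agent.Lib.H2.SpMin.exists_map_perp_pair m hF x.1 y.1 x'.1 y'.1 x.2 y.2
      (fun h => hxy (Subtype.ext h)) x'.2 y'.2 (fun h => hxy' (Subtype.ext h)) hR hR'
    exact ⟨g, Subtype.ext hg1, Subtype.ext hg2⟩
  · intro x y x' y' hR hR'
    have h1 : B x.1 y.1 = 1 := eq_one_of_ne_zero hF hR
    have h2 : B x'.1 y'.1 = 1 := eq_one_of_ne_zero hF hR'
    obtain ⟨g, -, hg1, hg2⟩ := TS_pair_transitive m x.1 y.1 x'.1 y'.1 h1 h2
    exact ⟨g, Subtype.ext hg1, Subtype.ext hg2⟩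
  · intro x
    show (Finset.univ.filter fun z : NZ m F => B x.1 z.1 = 0).card = _
    rw [nz_filter_card m (fun z => B x.1 z = 0), Cfsg.Agent.Lib.H3.SpMin.card_perp m hF x.1 x.2, hκ]
  · intro x y hxy
    show (Finset.univ.filter fun z : NZ m F => B x.1 z.1 = 0 ∧ B z.1 y.1 = 0).card = _
    rw [nz_filter_card m (fun z => B x.1 z = 0 ∧ B z y.1 = 0),
      Cfsg.Agent.Lib.H3.SpMin.card_perp_two m hF x.1 y.1 x.2 y.2 (fun h => hxy (Subtype.ext h)), ht']
  · have : 4 * (k * k) + 8 * k + 3 - (2 * (k * k) + 4 * k + 1) = 2 * (k * k) + 4 * k + 2 := by omega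
    rw [this]
    have : 4 * (k * k) + 8 * k + 3 - 1 = 4 * (k * k) + 8 * k + 2 := by omega
    rw [this]; ring
  · rintro h hh y ⟨h', hh', rfl⟩
    exact ⟨h * h', H.mul_mem hh hh', mul_smul _ _ _⟩
  · rintro ⟨h, hh, hhv⟩
    exact hvw h hh (congrArg Subtype.val hhv)

end Cfsg.Agent.Lib.H5.SpMin
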