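import Cfsg.Agent.Lib.H7.SpMinQA
import Cfsg.Agent.Lib.H2.FiberCount

/-!
# S2142-QC (helper5, for architect helper7): `|Q_a| = 2^(2m-1)`

Fix `x₀` with `B a x₀ = 1`.  `g ↦ g x₀ + x₀` is a bijection from `Q_a` onto `a^⊥ = {z | B a z = 0}`.
-/

set_option autoImplicit false
set_option linter.unusedSectionVars false
set_option linter.unusedVariables false
set_option linter.unusedSimpArgs false

namespace Cfsg.Agent.Lib.H5.SpMin

open Matrix Cfsg.Agent.Lib.H4 Cfsg.Agent.Lib.H2.Sp Cfsg.Agent.Lib.H7.SpMin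

variable {F : Type*} [Field F] [Fintype F] (m : ℕ)

set_option quotPrecheck false in
local notation "Sp" => ↥(Matrix.symplecticGroup (Fin m) F)

set_option quotPrecheck false in
local notation "MM" => Matrix (Fin m ⊕ Fin m) (Fin m ⊕ Fin m) F

set_option quotPrecheck false in
local notation "VV" => (Fin m ⊕ Fin m → F)

set_option quotPrecheck false in
local notation "B" => Cfsg.sympForm m F

/-- `s a y * t a` evaluated -/
theorem st_mulVec (hF : Fintype.card F = 2) (a y x : VV) (hay : B a y = 0) :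
    ((s m a y * t m a : Sp) : MM) *ᵥ x = x + B x a • y + B x y • a + B x a • a := by
  rw [mul_mulVec, t_mulVec, s_mulVec m hF a y _ hay]
  simp only [sympForm_add_left, sympForm_smul_left, sympForm_self, hay, mul_zero, add_zero]
  funext i
  simp only [Pi.add_apply, Pi.smul_apply, smul_eq_mul]
  ring

/-- an element of `Q_a` fixing a vector `x₀` with `B a x₀ = 1` is trivial -/
theorem eq_one_of_fix (hF : Fintype.card F = 2) (a x₀ : VV) (hx₀ : B a x₀ = 1) (h : Sp)
    (hh : h ∈ Qa m a) (hfix : (h : MM) *ᵥ x₀ = x₀) : h = 1 := by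
  have h2 := two_eq_zero hF
  have hx₀' : B x₀ a = 1 := by rw [sympForm_symm m hF, hx₀]
  obtain ⟨y, hay, hy⟩ := (mem_Qa_iff m hF a h).1 hh
  -- in both cases `y = ε • a`
  have key : ∀ ε : F, y = ε • a → (∀ x, (s m a y : MM) *ᵥ x = x) := by
    intro ε hε x
    rw [s_mulVec m hF a y x hay, hε, sympForm_smul_right]
    funext i
    simp only [Pi.add_apply, Pi.smul_apply, smul_eq_mul]
    linear_combination (B x a * ε * a i) * h2
  rcases hy with rfl | rfl
  · rw [s_mulVec m hF a y x₀ hay, hx₀', one_smul] at hfix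
    have hy : y = (B x₀ y) • a := by
      funext i
      have := congrFun hfix i
      simp only [Pi.add_apply, Pi.smul_apply, smul_eq_mul] at this ⊢
      linear_combination this - (B x₀ y * a i) * h2
    apply Cfsg.Agent.Lib.H7.SpMin.ext_mulVec
    intro x
    rw [key _ hy x, Submonoid.coe_one, Matrix.one_mulVec]
  · rw [st_mulVec m hF a y x₀ hay, hx₀', one_smul, one_smul] at hfix
    have hy : y = (B x₀ y + 1) • a := by
      funext i
      have := congrFun hfix i
      simp only [Pi.add_apply, Pi.smul_apply, smul_eq_mul] at this ⊢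
      linear_combination this - (B x₀ y * a i + a i) * h2
    -- then `B x₀ y = B x₀ y + 1`, impossible
    exfalso
    have h3 : B x₀ y = (B x₀ y + 1) * B x₀ a := by
      conv_lhs => rw [hy]
      rw [sympForm_smul_right]
    rw [hx₀', mul_one] at h3
    have : (1 : F) = 0 := by linear_combination -h3
    exact one_ne_zero this

/-- **S2142-QC**. -/
theorem card_Qa (hF : Fintype.card F = 2) (a : VV) (ha : a ≠ 0) : Nat.card (Qa m a) = 2 ^ (2 * m - 1) := by
  have h2 := two_eq_zero hF
  obtain ⟨x₀, hx₀n⟩ := exists_sympForm_ne_zero m a ha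
  have hx₀ : B a x₀ = 1 := eq_one_of_ne_zero hF hx₀n
  have hx₀' : B x₀ a = 1 := by rw [sympForm_symm m hF, hx₀]
  -- the map
  have hmem : ∀ g : Qa m a, B a (((g : Sp) : MM) *ᵥ x₀ + x₀) = 0 := by
    intro g
    have hg : ((g : Sp) : MM) *ᵥ a = a := (mem_Pa m a g).1 (Qa_le_Pa m hF a g.2)
    have h1 := sympForm_mulVec m (g : Sp) a x₀
    rw [hg] at h1
    rw [sympForm_add_right, h1, hx₀]
    linear_combination h2
  let ψ : Qa m a → {z : VV // B a z = 0} := fun g => ⟨((g : Sp) : MM) *ᵥ x₀ + x₀, hmem g⟩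
  have hinj : Function.Injective ψ := by
    intro g g' hgg
    have h1 : ((g : Sp) : MM) *ᵥ x₀ + x₀ = ((g' : Sp) : MM) *ᵥ x₀ + x₀ := congrArg Subtype.val hgg
    have h3 : ((g : Sp) : MM) *ᵥ x₀ = ((g' : Sp) : MM) *ᵥ x₀ := add_right_cancel h1
    have h4 : (((g : Sp)⁻¹ * (g' : Sp) : Sp) : MM) *ᵥ x₀ = x₀ := by
      rw [mul_mulVec, ← h3, ← mul_mulVec, inv_mul_cancel, Submonoid.coe_one, Matrix.one_mulVec]
    have h5 := eq_one_of_fix m hF a x₀ hx₀ _ ((Qa m a).mul_mem ((Qa m a).inv_mem g.2) g'.2) h4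
    apply Subtype.ext
    exact inv_mul_eq_one.1 h5
  have hsurj : Function.Surjective ψ := by
    rintro ⟨z, hz⟩
    rcases eq_zero_or_one hF (B x₀ z) with h0 | h1
    · refine ⟨⟨s m a z, (mem_Qa_iff m hF a _).2 ⟨z, hz, Or.inl rfl⟩⟩, ?_⟩
      apply Subtype.ext
      show (s m a z : MM) *ᵥ x₀ + x₀ = z
      rw [s_mulVec m hF a z x₀ hz, hx₀', h0, one_smul, zero_smul, add_zero]
      funext i
      simp only [Pi.add_apply]
      linear_combination (x₀ i) * h2
    · refine ⟨⟨s m a z * t m a, (mem_Qa_iff m hF a _).2 ⟨z, hz, Or.inr rfl⟩⟩, ?_⟩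
      apply Subtype.ext
      show ((s m a z * t m a : Sp) : MM) *ᵥ x₀ + x₀ = z
      rw [st_mulVec m hF a z x₀ hz, hx₀', h1, one_smul, one_smul]
      funext i
      simp only [Pi.add_apply]
      linear_combination (x₀ i + a i) * h2
  rw [Nat.card_congr (Equiv.ofBijective ψ ⟨hinj, hsurj⟩)]
  -- count `a^⊥`
  let φ : VV →+ F :=
    { toFun := fun v => B a v
      map_zero' := by
        have := sympForm_smul_right m (0 : F) a 0
        rwa [zero_smul, zero_mul] at this
      map_add' := fun v w => sympForm_add_right m a v w }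
  have hφ : Function.Surjective φ := by
    intro c
    refine ⟨c • x₀, ?_⟩
    show B a (c • x₀) = c
    rw [sympForm_smul_right, hx₀, mul_one]
  have h := Cfsg.Agent.Lib.H2.card_fiber_mul φ hφ 0
  rw [Nat.card_eq_fintype_card (α := F), Nat.card_eq_fintype_card (α := VV),
    Fintype.card_fun, Fintype.card_sum, Fintype.card_fin, ← two_mul, hF] at h
  have hm : 1 ≤ 2 * m := by
    rcases Nat.eq_zero_or_pos m with h0 | h0
    · exfalso
      subst h0
      apply ha
      funext i
      rcases i with i | i <;> exact i.elim0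
    · omega
  have h6 : (2 : ℕ) ^ (2 * m) = 2 ^ (2 * m - 1) * 2 := by
    rw [← pow_succ, Nat.sub_add_cancel hm]
  rw [h6] at h
  exact Nat.eq_of_mul_eq_mul_right (by norm_num) h

end Cfsg.Agent.Lib.H5.SpMin
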