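import Mathlib

set_option autoImplicit false

/-!
# S1874 piece Y1 (helper7 architect): an element of order `p` outside `A`, central modulo `A`
-/

namespace Cfsg.Agent.Lib.H5.SympBY1

universe u
variable {G : Type u} [Group G]

/-! ### group identities -/

theorem comm_mul_aux (u v h : G)
    (hcu : (v * h * v⁻¹ * h⁻¹) * u = u * (v * h * v⁻¹ * h⁻¹)) :
    u * v * h * (u * v)⁻¹ * h⁻¹ = (v * h * v⁻¹ * h⁻¹) * (u * h * u⁻¹ * h⁻¹) := by
  calc u * v * h * (u * v)⁻¹ * h⁻¹ = u * (v * h * v⁻¹ * h⁻¹) * (h * u⁻¹ * h⁻¹) := by group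
    _ = (v * h * v⁻¹ * h⁻¹) * u * (h * u⁻¹ * h⁻¹) := by rw [← hcu]
    _ = _ := by group

theorem comm_inv_aux (u h : G)
    (hcu : (u * h * u⁻¹ * h⁻¹) * u = u * (u * h * u⁻¹ * h⁻¹)) :
    u⁻¹ * h * u⁻¹⁻¹ * h⁻¹ = (u * h * u⁻¹ * h⁻¹)⁻¹ := by
  calc u⁻¹ * h * u⁻¹⁻¹ * h⁻¹ = ((u * h * u⁻¹ * h⁻¹) * u)⁻¹ * u := by group
    _ = (u * (u * h * u⁻¹ * h⁻¹))⁻¹ * u := by rw [hcu]
    _ = (u * h * u⁻¹ * h⁻¹)⁻¹ := by group

theorem comm_conj_aux (w u h : G) :
    (w * u * w⁻¹) * h * (w * u * w⁻¹)⁻¹ * h⁻¹ =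
      w * (u * (w⁻¹ * h * w) * u⁻¹ * (w⁻¹ * h * w)⁻¹) * w⁻¹ := by
  group

theorem comm_eq_inv_aux (u x w : G)
    (hcx : (u * x * u⁻¹ * x⁻¹) * x = x * (u * x * u⁻¹ * x⁻¹))
    (hwc : w * (u * x * u⁻¹ * x⁻¹) = (u * x * u⁻¹ * x⁻¹) * w)
    (hwu : w * u * w⁻¹ = u) (hwx : w * x * w⁻¹ = x⁻¹) :
    (u * x * u⁻¹ * x⁻¹) = (u * x * u⁻¹ * x⁻¹)⁻¹ := by
  calc (u * x * u⁻¹ * x⁻¹) = w * (u * x * u⁻¹ * x⁻¹) * w⁻¹ := by rw [hwc]; group
    _ = (w * u * w⁻¹) * (w * x * w⁻¹) * (w * u * w⁻¹)⁻¹ * (w * x * w⁻¹)⁻¹ := by group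
    _ = u * x⁻¹ * u⁻¹ * x⁻¹⁻¹ := by rw [hwu, hwx]
    _ = ((u * x * u⁻¹ * x⁻¹) * x)⁻¹ * x := by group
    _ = (x * (u * x * u⁻¹ * x⁻¹))⁻¹ * x := by rw [hcx]
    _ = (u * x * u⁻¹ * x⁻¹)⁻¹ := by group

theorem conj_pow_comm_aux (g h c : G) (hgh : g * h * g⁻¹ = c * h) (hcg : c * g = g * c) (n : ℕ) :
    g ^ n * h * (g ^ n)⁻¹ = c ^ n * h := by
  induction n with
  | zero => simp
  | succ n ih =>
    have hc : Commute (c ^ n) g := (show Commute c g from hcg).pow_left n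
    calc g ^ (n + 1) * h * (g ^ (n + 1))⁻¹ = g * (g ^ n * h * (g ^ n)⁻¹) * g⁻¹ := by
          rw [pow_succ']; group
      _ = g * (c ^ n * h) * g⁻¹ := by rw [ih]
      _ = (g * c ^ n) * (h * g⁻¹) := by simp only [mul_assoc]
      _ = (c ^ n * g) * (h * g⁻¹) := by rw [hc.eq]
      _ = c ^ n * (g * h * g⁻¹) := by simp only [mul_assoc]
      _ = c ^ n * (c * h) := by rw [hgh]
      _ = c ^ (n + 1) * h := by rw [pow_succ, mul_assoc]

/-- an element with `c = c⁻¹` and `c ^ p = 1`, `p` odd, is trivial -/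
theorem eq_one_of_eq_inv (p : ℕ) [Fact p.Prime] (hp2 : p ≠ 2) (c : G) (h : c = c⁻¹) (hp : c ^ p = 1) :
    c = 1 := by
  have h2 : c ^ 2 = 1 := by
    rw [pow_two]
    nth_rewrite 2 [h]
    exact mul_inv_cancel c
  have hd2 : orderOf c ∣ 2 := orderOf_dvd_of_pow_eq_one h2
  have hdp : orderOf c ∣ p := orderOf_dvd_of_pow_eq_one hp
  have hcop : Nat.Coprime 2 p := (Nat.coprime_primes Nat.prime_two Fact.out).2 (Ne.symm hp2)
  have : orderOf c ∣ 1 := by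
    have := Nat.dvd_gcd hd2 hdp
    rwa [hcop.gcd_eq_one] at this
  exact orderOf_eq_one_iff.1 (Nat.dvd_one.1 this)

/-- a nontrivial `p`-element has a power of order `p`; inversion by `w` passes to the power -/
theorem exists_pow_inverted (p : ℕ) (t w : G) (k : ℕ) (ht : t ^ (p ^ k) = 1) (ht1 : t ≠ 1)
    (hw : w * t * w⁻¹ = t⁻¹) :
    ∃ m : ℕ, t ^ m ≠ 1 ∧ (t ^ m) ^ p = 1 ∧ w * t ^ m * w⁻¹ = (t ^ m)⁻¹ := by
  induction k with
  | zero => exact absurd (by simpa using ht) ht1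
  | succ k ih =>
    by_cases h : t ^ (p ^ k) = 1
    · exact ih h
    · refine ⟨p ^ k, h, ?_, ?_⟩
      · rw [← pow_mul, ← pow_succ]; exact ht
      · rw [← conj_pow, hw, inv_pow]

/-- a non-abelian finite `p`-group has a non-central element `g`, central modulo the centre, with
`g ^ p` central -/
theorem exists_second_center {K : Type*} [Group K] [Finite K] (p : ℕ) [Fact p.Prime]
    (hK : IsPGroup p K) (hnc : ∃ a b : K, a * b ≠ b * a) :
    ∃ g : K, g ∉ Subgroup.center K ∧ g ^ p ∈ Subgroup.center K ∧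
      ∀ h : K, g * h * g⁻¹ * h⁻¹ ∈ Subgroup.center K := by
  classical
  have hQ : IsPGroup p (K ⧸ Subgroup.center K) := hK.to_quotient _
  have hnt : Nontrivial (K ⧸ Subgroup.center K) := by
    by_contra hnt
    rw [not_nontrivial_iff_subsingleton] at hnt
    obtain ⟨a, b, hab⟩ := hnc
    apply hab
    have : ((a : K) : K ⧸ Subgroup.center K) = 1 := Subsingleton.elim _ _
    have haZ : a ∈ Subgroup.center K := (QuotientGroup.eq_one_iff a).1 this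
    exact (Subgroup.mem_center_iff.1 haZ b).symm
  have hcn : Nontrivial (Subgroup.center (K ⧸ Subgroup.center K)) := hQ.center_nontrivial
  have hcp : IsPGroup p (Subgroup.center (K ⧸ Subgroup.center K)) := hQ.to_subgroup _
  obtain ⟨n, hn⟩ := IsPGroup.iff_card.1 hcp
  have hn0 : n ≠ 0 := by
    rintro rfl
    rw [pow_zero] at hn
    have h1 := Finite.one_lt_card_iff_nontrivial.2 hcn
    omega
  have hdvd : p ∣ Nat.card (Subgroup.center (K ⧸ Subgroup.center K)) := by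
    rw [hn]; exact dvd_pow_self p hn0
  obtain ⟨q, hq⟩ := exists_prime_orderOf_dvd_card' p hdvd
  obtain ⟨g, hg⟩ := QuotientGroup.mk_surjective (q : K ⧸ Subgroup.center K)
  have hqc : ∀ z : K ⧸ Subgroup.center K, z * (q : K ⧸ Subgroup.center K) = q * z :=
    Subgroup.mem_center_iff.1 q.2
  have hq1 : (q : K ⧸ Subgroup.center K) ≠ 1 := by
    intro h
    have : q = 1 := Subtype.ext h
    rw [this, orderOf_one] at hq
    exact (Fact.out : p.Prime).one_lt.ne hq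
  have hqp : (q : K ⧸ Subgroup.center K) ^ p = 1 := by
    have := pow_orderOf_eq_one q
    rw [hq] at this
    exact_mod_cast congrArg Subtype.val this
  refine ⟨g, ?_, ?_, ?_⟩
  · intro hgZ
    apply hq1
    rw [← hg]
    exact (QuotientGroup.eq_one_iff g).2 hgZ
  · rw [← QuotientGroup.eq_one_iff, QuotientGroup.mk_pow, hg]
    exact hqp
  · intro h
    rw [← QuotientGroup.eq_one_iff]
    simp only [QuotientGroup.mk_mul, QuotientGroup.mk_inv, hg]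
    rw [← hqc (h : K ⧸ Subgroup.center K)]
    group

/-- **Y1**. -/
theorem exists_central_mod [Finite G] (p : ℕ) [Fact p.Prime] (A : Subgroup G) (x₁ x₂ w₁ w₂ : G)
    (hp2 : p ≠ 2)
    (hAc : ∀ a ∈ A, ∀ b ∈ A, a * b = b * a) (hAp : ∀ a ∈ A, a ^ p = 1)
    (hH : IsPGroup p ↥(A ⊔ Subgroup.closure {x₁, x₂}))
    (hAx₁ : ∀ a ∈ A, a * x₁ = x₁ * a) (hAx₂ : ∀ a ∈ A, a * x₂ = x₂ * a)
    (hx₁ : x₁ ^ p = 1) (hx₂ : x₂ ^ p = 1) (hx₁1 : x₁ ≠ 1) (hx₂1 : x₂ ≠ 1)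
    (hw₁ : w₁ ^ 2 = 1) (hw₂ : w₂ ^ 2 = 1)
    (hw₁A : ∀ a ∈ A, w₁ * a = a * w₁) (hw₂A : ∀ a ∈ A, w₂ * a = a * w₂)
    (h11 : w₁ * x₁ * w₁⁻¹ = x₁⁻¹) (h12 : w₁ * x₂ * w₁⁻¹ = x₂)
    (h21 : w₂ * x₁ * w₂⁻¹ = x₁) (h22 : w₂ * x₂ * w₂⁻¹ = x₂⁻¹)
    (hnc : x₁ * x₂ ≠ x₂ * x₁)
    (hR : ∀ x ∈ A ⊔ Subgroup.closure {x₁, x₂}, ∀ y ∈ A ⊔ Subgroup.closure {x₁, x₂},
      x ^ p = 1 → y ^ p = 1 → x * y = y * x → x ∉ A → ∃ a ∈ A, ∃ k : ℕ, y = a * x ^ k) :
    ∃ y ∈ A ⊔ Subgroup.closure {x₁, x₂}, y ^ p = 1 ∧ y ∉ A ∧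
      ∀ h ∈ A ⊔ Subgroup.closure {x₁, x₂}, y * h * y⁻¹ * h⁻¹ ∈ A := by
  classical
  have hpp : p.Prime := Fact.out
  obtain ⟨H, hHdef⟩ : ∃ H : Subgroup G, H = A ⊔ Subgroup.closure {x₁, x₂} := ⟨_, rfl⟩
  rw [← hHdef] at hH hR ⊢
  have hAH : A ≤ H := hHdef ▸ le_sup_left
  have hx₁H : x₁ ∈ H :=
    hHdef ▸ (le_sup_right : Subgroup.closure {x₁, x₂} ≤ _) (Subgroup.subset_closure (by simp))
  have hx₂H : x₂ ∈ H :=
    hHdef ▸ (le_sup_right : Subgroup.closure {x₁, x₂} ≤ _) (Subgroup.subset_closure (by simp))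
  -- generation principle
  have hgen : ∀ K : Subgroup G, A ≤ K → x₁ ∈ K → x₂ ∈ K → H ≤ K := by
    intro K hA h1 h2
    rw [hHdef]
    refine sup_le hA ((Subgroup.closure_le K).2 ?_)
    intro z hz
    rcases hz with rfl | hz
    · exact h1
    · rw [Set.mem_singleton_iff.1 hz]; exact h2
  -- `A` is central in `H`
  have hAcen : ∀ a ∈ A, ∀ h ∈ H, a * h = h * a := by
    intro a ha h hh
    have : H ≤ Subgroup.centralizer ({a} : Set G) :=
      hgen _ (fun b hb => Subgroup.mem_centralizer_singleton_iff.2 (hAc b hb a ha))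
        (Subgroup.mem_centralizer_singleton_iff.2 (hAx₁ a ha).symm)
        (Subgroup.mem_centralizer_singleton_iff.2 (hAx₂ a ha).symm)
    exact (Subgroup.mem_centralizer_singleton_iff.1 (this hh)).symm
  -- conjugation by `w` preserves `H`
  have hwH : ∀ w : G, (∀ a ∈ A, w * a = a * w) → w * x₁ * w⁻¹ ∈ H → w * x₂ * w⁻¹ ∈ H →
      ∀ h ∈ H, w * h * w⁻¹ ∈ H := by
    intro w hwA h1 h2 h hh
    have : H ≤ H.comap (MulAut.conj w).toMonoidHom :=
      hgen _ (fun a ha => by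
        rw [Subgroup.mem_comap]
        show w * a * w⁻¹ ∈ H
        rw [hwA a ha, mul_inv_cancel_right]; exact hAH ha)
        (by rw [Subgroup.mem_comap]; exact h1) (by rw [Subgroup.mem_comap]; exact h2)
    exact this hh
  have hw₁H : ∀ h ∈ H, w₁ * h * w₁⁻¹ ∈ H :=
    hwH w₁ hw₁A (by rw [h11]; exact H.inv_mem hx₁H) (by rw [h12]; exact hx₂H)
  have hw₂H : ∀ h ∈ H, w₂ * h * w₂⁻¹ ∈ H :=
    hwH w₂ hw₂A (by rw [h21]; exact hx₁H) (by rw [h22]; exact H.inv_mem hx₂H)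
  -- the subgroup of elements central modulo `A`
  let U : Subgroup G :=
    { carrier := {u | u ∈ H ∧ ∀ h ∈ H, u * h * u⁻¹ * h⁻¹ ∈ A}
      one_mem' := ⟨H.one_mem, fun h _ => by simp [A.one_mem]⟩
      mul_mem' := by
        rintro u v ⟨hu, hu'⟩ ⟨hv, hv'⟩
        refine ⟨H.mul_mem hu hv, fun h hh => ?_⟩
        rw [comm_mul_aux u v h (hAcen _ (hv' h hh) u hu)]
        exact A.mul_mem (hv' h hh) (hu' h hh)
      inv_mem' := by
        rintro u ⟨hu, hu'⟩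
        refine ⟨H.inv_mem hu, fun h hh => ?_⟩
        rw [comm_inv_aux u h (hAcen _ (hu' h hh) u hu)]
        exact A.inv_mem (hu' h hh) }
  have hUmem : ∀ u, u ∈ U ↔ u ∈ H ∧ ∀ h ∈ H, u * h * u⁻¹ * h⁻¹ ∈ A := fun u => Iff.rfl
  have hUH : U ≤ H := fun u hu => ((hUmem u).1 hu).1
  by_contra hcon
  have hno : ∀ y ∈ U, y ^ p = 1 → y ∈ A := by
    intro y hy hyp
    by_contra hyA
    exact hcon ⟨y, ((hUmem y).1 hy).1, hyp, hyA, ((hUmem y).1 hy).2⟩
  -- (a) an involution `w` centralising `A` and normalising `H` centralises `U`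
  have hstepa : ∀ w : G, w ^ 2 = 1 → (∀ a ∈ A, w * a = a * w) → (∀ h ∈ H, w * h * w⁻¹ ∈ H) →
      ∀ u ∈ U, w * u * w⁻¹ = u := by
    intro w hw2 hwA hwHH u hu
    have hwinv : w⁻¹ = w := inv_eq_of_mul_eq_one_right (by rw [← pow_two]; exact hw2)
    -- `U` is `w`-invariant
    have hUw : ∀ v ∈ U, w * v * w⁻¹ ∈ U := by
      intro v hv
      rw [hUmem] at hv ⊢
      refine ⟨hwHH v hv.1, fun h hh => ?_⟩
      rw [comm_conj_aux w v h]
      have hh' : w⁻¹ * h * w ∈ H := by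
        have := hwHH h hh
        rw [hwinv] at this ⊢
        exact this
      have hc := hv.2 _ hh'
      rw [hwA _ hc, mul_inv_cancel_right]
      exact hc
    by_contra hne
    obtain ⟨t, htdef⟩ : ∃ t : G, t = u⁻¹ * (w * u * w⁻¹) := ⟨_, rfl⟩
    have htU : t ∈ U := htdef ▸ U.mul_mem (U.inv_mem hu) (hUw u hu)
    have ht1 : t ≠ 1 := by
      intro h
      apply hne
      rw [htdef] at h
      exact (inv_mul_eq_one.1 h).symm
    have htw : w * t * w⁻¹ = t⁻¹ := by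
      have hww : w * w = 1 := by rw [← pow_two]; exact hw2
      rw [htdef]
      calc w * (u⁻¹ * (w * u * w⁻¹)) * w⁻¹ = w * u⁻¹ * w * u * (w * w)⁻¹ := by group
        _ = w * u⁻¹ * w * u := by rw [hww, inv_one, mul_one]
        _ = w * u⁻¹ * w⁻¹ * u := by rw [hwinv]
        _ = (u⁻¹ * (w * u * w⁻¹))⁻¹ := by group
    obtain ⟨k, hk⟩ := (hH.to_le hUH) ⟨t, htU⟩
    have hk' : t ^ (p ^ k) = 1 := by
      have := congrArg Subtype.val hk
      simpa using this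
    obtain ⟨m, hm1, hmp, hmw⟩ := exists_pow_inverted p t w k hk' ht1 htw
    have hxA : t ^ m ∈ A := hno _ (U.pow_mem htU m) hmp
    have : t ^ m = (t ^ m)⁻¹ := by
      rw [← hmw, hwA _ hxA, mul_inv_cancel_right]
    exact hm1 (eq_one_of_eq_inv p hp2 _ this hmp)
  -- (b) `U` is central in `H`
  have hstepb : ∀ u ∈ U, ∀ h ∈ H, u * h = h * u := by
    intro u hu h hh
    have hu' := (hUmem u).1 hu
    have key : ∀ w x : G, w ^ 2 = 1 → (∀ a ∈ A, w * a = a * w) → (∀ h ∈ H, w * h * w⁻¹ ∈ H) →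
        x ∈ H → w * x * w⁻¹ = x⁻¹ → u * x = x * u := by
      intro w x hw2 hwA hwHH hxH hwx
      have hc := hu'.2 x hxH
      have h1 := comm_eq_inv_aux u x w (hAcen _ hc x hxH) (hwA _ hc)
        (hstepa w hw2 hwA hwHH u hu) hwx
      have h2 := eq_one_of_eq_inv p hp2 _ h1 (hAp _ hc)
      have h3 : u * x * u⁻¹ = x := by
        have := mul_inv_eq_one.1 h2
        exact this
      calc u * x = u * x * u⁻¹ * u := by group
        _ = x * u := by rw [h3]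
    have : H ≤ Subgroup.centralizer ({u} : Set G) :=
      hgen _ (fun b hb => Subgroup.mem_centralizer_singleton_iff.2 (hAcen b hb u hu'.1))
        (Subgroup.mem_centralizer_singleton_iff.2 (key w₁ x₁ hw₁ hw₁A hw₁H hx₁H h11).symm)
        (Subgroup.mem_centralizer_singleton_iff.2 (key w₂ x₂ hw₂ hw₂A hw₂H hx₂H h22).symm)
    exact (Subgroup.mem_centralizer_singleton_iff.1 (this hh)).symm
  -- (c) central elements of order `p` lie in `A`
  have hx₁A : x₁ ∉ A := by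
    intro h
    have : x₁ = x₁⁻¹ := by
      rw [← h11, hw₁A _ h, mul_inv_cancel_right]
    exact hx₁1 (eq_one_of_eq_inv p hp2 _ this hx₁)
  have hstepc : ∀ z ∈ H, (∀ h ∈ H, z * h = h * z) → z ^ p = 1 → z ∈ A := by
    intro z hz hzc hzp
    obtain ⟨a, ha, k, hk⟩ := hR x₁ hx₁H z hz hx₁ hzp (hzc x₁ hx₁H).symm hx₁A
    by_cases hk1 : x₁ ^ k = 1
    · rw [hk, hk1, mul_one]; exact ha
    · exfalso
      have hxk : x₁ ^ k = a⁻¹ * z := by rw [hk]; group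
      have hxkc : Commute (x₁ ^ k) x₂ := by
        show x₁ ^ k * x₂ = x₂ * x₁ ^ k
        rw [hxk, mul_assoc, hzc x₂ hx₂H, ← mul_assoc, ← mul_assoc]
        congr 1
        have := hAx₂ a ha
        calc a⁻¹ * x₂ = a⁻¹ * (x₂ * a) * a⁻¹ := by group
          _ = a⁻¹ * (a * x₂) * a⁻¹ := by rw [this]
          _ = x₂ * a⁻¹ := by group
      have ho : orderOf x₁ = p := orderOf_eq_prime hx₁ hx₁1
      have hndvd : ¬ p ∣ k := by
        intro hd
        apply hk1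
        rw [← ho] at hd
        exact orderOf_dvd_iff_pow_eq_one.1 hd
      have hcop : Nat.Coprime k (orderOf x₁) := by
        rw [ho]
        exact ((Nat.Prime.coprime_iff_not_dvd hpp).2 hndvd).symm
      obtain ⟨m, hm⟩ := exists_pow_eq_self_of_coprime hcop
      apply hnc
      have := (hxkc.pow_left m).eq
      rw [hm] at this
      exact this
  -- (d) a non-central element of `H`, central modulo the centre
  haveI : Finite ↥H := inferInstance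
  obtain ⟨g, hg1, hg2, hg3⟩ := exists_second_center (K := ↥H) p hH
    ⟨⟨x₁, hx₁H⟩, ⟨x₂, hx₂H⟩, fun h => hnc (congrArg Subtype.val h)⟩
  have hgz : ∀ h ∈ H, ∀ k ∈ H,
      ((g : G) * h * (g : G)⁻¹ * h⁻¹) * k = k * ((g : G) * h * (g : G)⁻¹ * h⁻¹) := by
    intro h hh k hk
    have := Subgroup.mem_center_iff.1 (hg3 ⟨h, hh⟩) ⟨k, hk⟩
    exact (congrArg Subtype.val this).symm
  have hgp : ∀ k ∈ H, (g : G) ^ p * k = k * (g : G) ^ p := by
    intro k hk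
    have := Subgroup.mem_center_iff.1 hg2 ⟨k, hk⟩
    exact (congrArg Subtype.val this).symm
  have hgU : (g : G) ∈ U := by
    rw [hUmem]
    refine ⟨g.2, fun h hh => ?_⟩
    have hcH : (g : G) * h * (g : G)⁻¹ * h⁻¹ ∈ H :=
      H.mul_mem (H.mul_mem (H.mul_mem g.2 hh) (H.inv_mem g.2)) (H.inv_mem hh)
    apply hstepc _ hcH (hgz h hh)
    have h1 := conj_pow_comm_aux (g : G) h ((g : G) * h * (g : G)⁻¹ * h⁻¹) (by group)
      (hgz h hh _ g.2) p
    have h2 : (g : G) ^ p * h * ((g : G) ^ p)⁻¹ = h := by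
      rw [hgp h hh, mul_inv_cancel_right]
    rw [h2] at h1
    exact (mul_eq_right.1 h1.symm)
  apply hg1
  rw [Subgroup.mem_center_iff]
  intro k
  apply Subtype.ext
  exact (hstepb _ hgU k k.2).symm

end Cfsg.Agent.Lib.H5.SympBY1
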