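import Mathlib
import Cfsg.Agent.Lib.H24.TV4NT
import Cfsg.Agent.Lib.H22.TV3SYL

set_option autoImplicit false

/-!
# S4004 TV3 AVG via the landed norm trick (`Lib.H24.TV4.normtrick`) and SYL (`Lib.H22.TV3.card_sylow_eq`)

`Q = ⟨y⟩` is a Sylow `r'`-subgroup (SYL), `H = N_G(Q) ∋ c`.  Elements of `H \ Q` have order `r`, `Q` acts without
fixed points on `V`, and `|H| - |Q| ≡ -r' (mod r)`.  The norm trick gives `V = ⊥`.
-/

namespace Cfsg.Agent.Lib.H5.TV3

open scoped Pointwise

universe u

variable {G : Type u} [Group G] [Finite G]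

omit [Finite G] in
theorem mem_normalizer_of_conj_smul_eq (C : Subgroup G) (g : G) (hCg : MulAut.conj g • C = C) :
    g ∈ Subgroup.normalizer (C : Set G) := by
  rw [Subgroup.mem_normalizer_iff]
  intro h
  constructor
  · intro hh
    have : MulAut.conj g • h ∈ MulAut.conj g • C := Subgroup.smul_mem_pointwise_smul _ _ _ hh
    rw [hCg] at this
    simpa [MulAut.smul_def, MulAut.conj_apply] using this
  · intro hh
    have h2 : MulAut.conj g • h ∈ MulAut.conj g • C := by
      rw [hCg]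
      simpa [MulAut.smul_def, MulAut.conj_apply] using hh
    exact (Subgroup.smul_mem_pointwise_smul_iff).1 h2

/-- **AVG**. -/
theorem avg {r r' : ℕ} (hr : r.Prime) (hr' : r'.Prime) (hne : r ≠ r')
    (hord : ∀ g : G, orderOf g = 1 ∨ orderOf g = r ∨ orderOf g = r')
    (V : Subgroup G) [V.Normal] (hVc : ∀ a ∈ V, ∀ b ∈ V, a * b = b * a) (hVr : ∀ a ∈ V, a ^ r = 1)
    (hV1 : V ≠ ⊥) (y c : G) (hy : orderOf y = r') (hc : orderOf c = r)
    (hn : c * y * c⁻¹ ∈ Subgroup.zpowers y) : False := by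
  classical
  haveI : Fact r'.Prime := ⟨hr'⟩
  have hcop' : Nat.Coprime r' r := (Nat.coprime_primes hr' hr).2 (Ne.symm hne)
  obtain ⟨Q, hQ⟩ : ∃ Q : Subgroup G, Q = Subgroup.zpowers y := ⟨_, rfl⟩
  have hyQ : y ∈ Q := hQ ▸ Subgroup.mem_zpowers y
  have hQcard : Nat.card Q = r' := by rw [hQ, Nat.card_zpowers, hy]
  have hQp : IsPGroup r' Q := IsPGroup.of_card (n := 1) (by rw [hQcard, pow_one])
  obtain ⟨R, hQR⟩ := hQp.exists_le_sylow
  have hr'G : r' ∣ Nat.card G := hy ▸ orderOf_dvd_natCard y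
  have hRcard : Nat.card R = r' :=
    Cfsg.Agent.Lib.H22.TV3.card_sylow_eq hr hne hord V hVc hVr hV1 hr'G R
  have hQR' : Q = (R : Subgroup G) :=
    Subgroup.eq_of_le_of_card_ge hQR (le_of_eq (by rw [hRcard, hQcard]))
  -- `c` normalises `Q`
  have hcQ : MulAut.conj c • Q = Q := by
    have hle : MulAut.conj c • Q ≤ Q := by
      intro x hx
      obtain ⟨h, hh, rfl⟩ := (Subgroup.mem_smul_pointwise_iff_exists _ _ _).1 hx
      rw [hQ] at hh ⊢
      obtain ⟨k, rfl⟩ := Subgroup.mem_zpowers_iff.1 hh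
      have : MulAut.conj c • (y ^ k) = (c * y * c⁻¹) ^ k := by
        rw [MulAut.smul_def, MulAut.conj_apply, conj_zpow]
      rw [this]
      exact (Subgroup.zpowers y).zpow_mem hn k
    have hcg : Nat.card ↥(MulAut.conj c • Q) = r' := by
      rw [← Nat.card_congr (Subgroup.equivSMul (MulAut.conj c) Q).toEquiv, hQcard]
    exact Subgroup.eq_of_le_of_card_ge hle (le_of_eq (by rw [hcg, hQcard]))
  obtain ⟨H, hH⟩ : ∃ H : Subgroup G, H = Subgroup.normalizer (Q : Set G) := ⟨_, rfl⟩
  have hQH : Q ≤ H := hH ▸ Subgroup.le_normalizer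
  have hcH : c ∈ H := hH ▸ mem_normalizer_of_conj_smul_eq Q c hcQ
  -- elements of `H \ Q` have order `r`
  have hHo : ∀ h ∈ H, h ∉ Q → orderOf h = r := by
    intro h hh hhQ
    rcases hord h with h1 | h1 | h1
    · exact absurd (by rw [orderOf_eq_one_iff.1 h1]; exact Q.one_mem) hhQ
    · exact h1
    · exfalso
      have hpz : IsPGroup r' (Subgroup.zpowers h) :=
        IsPGroup.of_card (n := 1) (by rw [Nat.card_zpowers, h1, pow_one])
      have hzn : Subgroup.zpowers h ≤ Subgroup.normalizer (Q : Set G) :=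
        (Subgroup.zpowers_le).2 (hH ▸ hh)
      have hsup : IsPGroup r' (Subgroup.zpowers h ⊔ Q : Subgroup G) :=
        IsPGroup.to_sup_of_normal_right' hpz hQp hzn
      have := R.is_maximal' hsup (hQR' ▸ le_sup_right)
      apply hhQ
      rw [hQR', ← this]
      exact (le_sup_left : Subgroup.zpowers h ≤ _) (Subgroup.mem_zpowers h)
  have hVH : H ≤ Subgroup.normalizer (V : Set G) := by
    intro h _
    rw [Subgroup.mem_normalizer_iff]
    intro v
    constructor
    · intro hv
      exact ‹V.Normal›.conj_mem v hv h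
    · intro hv
      have := ‹V.Normal›.conj_mem _ hv h⁻¹
      simpa [mul_assoc] using this
  have hfpf : ∀ v ∈ V, (∀ t ∈ Q, t * v * t⁻¹ = v) → v = 1 := by
    intro v hv hfix
    by_contra hv1
    have hvo : orderOf v = r := by
      have hd : orderOf v ∣ r := orderOf_dvd_of_pow_eq_one (hVr v hv)
      rcases (Nat.dvd_prime hr).1 hd with h1 | h1
      · exact absurd (orderOf_eq_one_iff.1 h1) hv1
      · exact h1
    have hcomm : Commute y v := by
      have := hfix y hyQ
      show y * v = v * y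
      calc y * v = y * v * y⁻¹ * y := by group
        _ = v * y := by rw [this]
    have ho := Cfsg.Agent.Lib.H22.TV3.orderOf_mul_of_commute_primes hr hr' hne y v hy hvo hcomm
    have h2 := hr.two_le
    have h2' := hr'.two_le
    rcases hord (y * v) with h1 | h1 | h1
    · rw [ho] at h1; nlinarith
    · rw [ho] at h1; nlinarith
    · rw [ho] at h1; nlinarith
  have hord' : ∀ h ∈ H, h ∉ Q → ∀ v ∈ V, (v * h) ^ r = 1 := by
    intro h hh hhQ v hv
    have hho := hHo h hh hhQ
    rcases hord (v * h) with h1 | h1 | h1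
    · rw [orderOf_eq_one_iff.1 h1, one_pow]
    · rw [← h1]; exact pow_orderOf_eq_one _
    · have hp : (v * h) ^ r' = 1 := by rw [← h1]; exact pow_orderOf_eq_one _
      have hq : ((h ^ r' : G) : G ⧸ V) = 1 := by
        have h3 : ((v * h : G) : G ⧸ V) = (h : G ⧸ V) := by
          rw [QuotientGroup.mk_mul, (QuotientGroup.eq_one_iff v).2 hv, one_mul]
        rw [QuotientGroup.mk_pow, ← h3, ← QuotientGroup.mk_pow, hp]
        rfl
      have hhV : h ^ r' ∈ V := (QuotientGroup.eq_one_iff _).1 hq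
      obtain ⟨m, hm⟩ := exists_pow_eq_self_of_coprime (x := h) (n := r') (by rw [hho]; exact hcop')
      have hhV' : h ∈ V := by rw [← hm]; exact V.pow_mem hhV m
      exact hVr _ (V.mul_mem hv hhV')
  have hcop : (Nat.card H - Nat.card Q).Coprime r := by
    have hrH : r ∣ Nat.card H := hc ▸ Subgroup.orderOf_dvd_natCard H hcH
    have hle : Nat.card Q ≤ Nat.card H := Nat.le_of_dvd Nat.card_pos (Subgroup.card_dvd_of_le hQH)
    rw [Nat.coprime_comm, Nat.Prime.coprime_iff_not_dvd hr]
    intro hd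
    have : r ∣ Nat.card Q := by
      have h4 : Nat.card H = (Nat.card H - Nat.card Q) + Nat.card Q := by omega
      rw [h4] at hrH
      exact (Nat.dvd_add_right hd).1 hrH
    rw [hQcard] at this
    rcases (Nat.dvd_prime hr').1 this with h1 | h1
    · exact hr.one_lt.ne' h1
    · exact hne h1
  exact hV1 (Cfsg.Agent.Lib.H24.TV4.normtrick hr V H Q hVH hQH hVc hVr hfpf hord' hcop)

end Cfsg.Agent.Lib.H5.TV3
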