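import Mathlib
import Cfsg.Prelude.Def_Solvable

set_option autoImplicit false

/-!
# S4004 TV3 FROB, core: a self-normalising Sylow subgroup of prime order is a Frobenius complement
(the Sylow cardinality and the averaging contradiction are hypotheses here).
-/

namespace Cfsg.Agent.Lib.H5.TV3

open scoped Pointwise

universe u

variable {G : Type u} [Group G] [Finite G]

theorem exists_frobenius_complement_core {r r' : ℕ} (hr : r.Prime) (hr' : r'.Prime) (hne : r ≠ r')
    (hrG : r ∣ Nat.card G)
    (hord : ∀ g : G, orderOf g = 1 ∨ orderOf g = r ∨ orderOf g = r')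
    (C : Subgroup G) (hmax : ∀ Q : Subgroup G, IsPGroup r' Q → C ≤ Q → Q = C) (hcard : Nat.card C = r')
    (havg : ∀ y c : G, orderOf y = r' → orderOf c = r → c * y * c⁻¹ ∈ Subgroup.zpowers y → False) :
    ∃ C : Subgroup G, Cfsg.IsFrobeniusComplement C ∧ (Nat.card ↥C).Prime := by
  classical
  haveI : Fact r'.Prime := ⟨hr'⟩
  refine ⟨C, ⟨?_, ?_, ?_⟩, hcard ▸ hr'⟩
  · -- C ≠ ⊥
    intro h
    rw [h, Subgroup.card_bot] at hcard
    exact hr'.one_lt.ne hcard
  · -- C ≠ ⊤
    intro h
    rw [h, Subgroup.card_top] at hcard
    rw [hcard] at hrG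
    rcases (Nat.dvd_prime hr').1 hrG with h1 | h1
    · exact hr.one_lt.ne' h1
    · exact hne h1
  · intro g hg
    by_contra hne'
    -- the intersection is all of `C`
    have hle : C ⊓ (MulAut.conj g • C) ≤ C := inf_le_left
    have hdvd : Nat.card ↥(C ⊓ (MulAut.conj g • C)) ∣ r' := by
      rw [← hcard]; exact Subgroup.card_dvd_of_le hle
    have hcI : Nat.card ↥(C ⊓ (MulAut.conj g • C)) = r' := by
      rcases (Nat.dvd_prime hr').1 hdvd with h1 | h1
      · exact absurd (Subgroup.card_eq_one.1 h1) hne'
      · exact h1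
    have hIC : C ⊓ (MulAut.conj g • C) = C :=
      Subgroup.eq_of_le_of_card_ge hle (le_of_eq (by rw [hcI, hcard]))
    have hCle : C ≤ MulAut.conj g • C := by
      intro x hx
      rw [← hIC] at hx
      exact hx.2
    have hcg : Nat.card ↥(MulAut.conj g • C) = r' := by
      rw [← Nat.card_congr (Subgroup.equivSMul (MulAut.conj g) C).toEquiv, hcard]
    have hCg : MulAut.conj g • C = C :=
      (Subgroup.eq_of_le_of_card_ge hCle (le_of_eq (by rw [hcg, hcard]))).symm
    -- a generator of `C`
    obtain ⟨y, hyC, hy1⟩ : ∃ y ∈ C, y ≠ 1 := by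
      by_contra hno
      push Not at hno
      have : C = ⊥ := (Subgroup.eq_bot_iff_forall C).2 hno
      rw [this, Subgroup.card_bot] at hcard
      exact hr'.one_lt.ne hcard
    have hyo : orderOf y = r' := by
      have hd : orderOf y ∣ r' := by
        rw [← hcard]
        have := Subgroup.orderOf_dvd_natCard C hyC
        exact this
      rcases (Nat.dvd_prime hr').1 hd with h1 | h1
      · exact absurd (orderOf_eq_one_iff.1 h1) hy1
      · exact h1
    have hzC : Subgroup.zpowers y = C := by
      apply Subgroup.eq_of_le_of_card_ge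
      · exact (Subgroup.zpowers_le).2 hyC
      · exact le_of_eq (by rw [Nat.card_zpowers, hyo, hcard])
    have hn : g * y * g⁻¹ ∈ Subgroup.zpowers y := by
      rw [hzC]
      have : MulAut.conj g • y ∈ MulAut.conj g • C := Subgroup.smul_mem_pointwise_smul _ _ _ hyC
      rw [hCg] at this
      simpa [MulAut.smul_def, MulAut.conj_apply] using this
    have hgN : g ∈ Subgroup.normalizer (C : Set G) := by
      rw [Subgroup.mem_normalizer_iff]
      intro h
      constructor
      · intro hh
        have : MulAut.conj g • h ∈ MulAut.conj g • C := Subgroup.smul_mem_pointwise_smul _ _ _ hh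
        rw [hCg] at this
        simpa [MulAut.smul_def, MulAut.conj_apply] using this
      · intro hh
        have h2 : MulAut.conj g • h ∈ MulAut.conj g • C := by
          rw [hCg]
          simpa [MulAut.smul_def, MulAut.conj_apply] using hh
        exact (Subgroup.smul_mem_pointwise_smul_iff).1 h2
    rcases hord g with h1 | h1 | h1
    · exact hg (by rw [orderOf_eq_one_iff.1 h1]; exact C.one_mem)
    · exact havg y g hyo h1 hn
    · -- order r': `⟨g⟩ ⊔ C` is an `r'`-group containing `C`
      have hpz : IsPGroup r' (Subgroup.zpowers g) :=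
        IsPGroup.of_card (n := 1) (by rw [Nat.card_zpowers, h1, pow_one])
      have hpC : IsPGroup r' C := IsPGroup.of_card (n := 1) (by rw [hcard, pow_one])
      have hzn : Subgroup.zpowers g ≤ Subgroup.normalizer (C : Set G) := (Subgroup.zpowers_le).2 hgN
      have hsup : IsPGroup r' (Subgroup.zpowers g ⊔ C : Subgroup G) :=
        IsPGroup.to_sup_of_normal_right' hpz hpC hzn
      have := hmax _ hsup le_sup_right
      apply hg
      rw [← this]
      exact (le_sup_left : Subgroup.zpowers g ≤ _) (Subgroup.mem_zpowers g)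

end Cfsg.Agent.Lib.H5.TV3
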