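import Mathlib
import Cfsg.Prelude.Def_Solvable
import Cfsg.Agent.Lib.H5.TV3FROBCore
import Cfsg.Agent.Lib.H5.TV3AVG
import Cfsg.Agent.Lib.H22.TV3SYL

set_option autoImplicit false

/-!
# S4004 TV3 FROB: the Sylow `r'`-subgroup is a Frobenius complement of prime order
-/

namespace Cfsg.Agent.Lib.H5.TV3

universe u

variable {G : Type u} [Group G] [Finite G]

/-- **FROB**. -/
theorem exists_frobenius_complement {r r' : ℕ} (hr : r.Prime) (hr' : r'.Prime) (hne : r ≠ r')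
    (hrG : r ∣ Nat.card G) (hr'G : r' ∣ Nat.card G)
    (hord : ∀ g : G, orderOf g = 1 ∨ orderOf g = r ∨ orderOf g = r')
    (V : Subgroup G) [V.Normal] (hVc : ∀ a ∈ V, ∀ b ∈ V, a * b = b * a) (hVr : ∀ a ∈ V, a ^ r = 1)
    (hV1 : V ≠ ⊥) : ∃ C : Subgroup G, Cfsg.IsFrobeniusComplement C ∧ (Nat.card ↥C).Prime := by
  classical
  haveI : Fact r'.Prime := ⟨hr'⟩
  let R : Sylow r' G := default
  have hRcard : Nat.card R = r' :=
    Cfsg.Agent.Lib.H22.TV3.card_sylow_eq hr hne hord V hVc hVr hV1 hr'G R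
  exact exists_frobenius_complement_core hr hr' hne hrG hord (R : Subgroup G)
    (fun Q hQ hle => R.is_maximal' hQ hle) hRcard
    (fun y c hy hc hn => avg hr hr' hne hord V hVc hVr hV1 y c hy hc hn)

end Cfsg.Agent.Lib.H5.TV3
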