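import Mathlib
import Cfsg.Agent.Lib.H15.Conj
import Cfsg.Agent.Lib.H10.SylowIn
import Cfsg.Agent.Lib.H10.LocalGlobal
import Cfsg.Agent.Lib.H5.AlperinCentric
import Cfsg.Agent.Lib.H5.SubgroupCard

/-!
# Tightly embedded subgroups: Sylow 2-subgroups of `Q^g ∩ N(Q)` (helper5)
-/

set_option autoImplicit false

namespace Cfsg.Agent.Lib.H5.TE

open Subgroup Cfsg.Agent.Lib.H15 Cfsg.Agent.Lib.H10

variable {G : Type*} [Group G]

/-- A `2`-subgroup of a subgroup of odd order is trivial. -/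
theorem eq_bot_of_le_odd [Finite G] {X Y : Subgroup G} (hX : IsPGroup 2 X) (hXY : X ≤ Y)
    (hY : Odd (Nat.card Y)) : X = ⊥ := by
  have : Fact (Nat.Prime 2) := ⟨Nat.prime_two⟩
  obtain ⟨k, hk⟩ := IsPGroup.iff_card.mp hX
  have hd : Nat.card X ∣ Nat.card Y := Subgroup.card_dvd_of_le hXY
  rw [hk] at hd
  rcases k with _ | k
  · rw [pow_zero] at hk
    exact Subgroup.card_eq_one.mp hk
  · exfalso
    have h2 : 2 ∣ Nat.card Y := (dvd_pow_self 2 (Nat.succ_ne_zero k)).trans hd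
    rw [← even_iff_two_dvd] at h2
    exact (Nat.not_even_iff_odd.mpr hY) h2

/-- The normalizer of a nontrivial `2`-subgroup of a tightly embedded subgroup `Q` lies in
`N(Q)`. -/
theorem normalizer_le_of_TI [Finite G] {Q X : Subgroup G}
    (hTI : ∀ x : G, x ∉ normalizer (Q : Set G) → Odd (Nat.card ↥(Q ⊓ cj x Q)))
    (hX : IsPGroup 2 X) (hXQ : X ≤ Q) (hX1 : X ≠ ⊥) :
    normalizer (X : Set G) ≤ normalizer (Q : Set G) := by
  intro x hx
  by_contra hxQ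
  apply hX1
  have h1 : cj x X = X := mem_normalizer_iff_cj_eq.mp hx
  have h2 : X ≤ Q ⊓ cj x Q := le_inf hXQ (h1 ▸ cj_mono x hXQ)
  exact eq_bot_of_le_odd hX h2 (hTI x hxQ)

/-- Elements of `X ⊔ Y` are products when `Y` normalizes `X`. -/
theorem exists_mul_of_mem_sup {X Y : Subgroup G} (hY : Y ≤ normalizer (X : Set G))
    {l : G} (hl : l ∈ X ⊔ Y) : ∃ x ∈ X, ∃ y ∈ Y, l = x * y := by
  have h := Subgroup.coe_mul_of_right_le_normalizer_left X Y hY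
  have hl' : l ∈ ((X ⊔ Y : Subgroup G) : Set G) := hl
  rw [h] at hl'
  obtain ⟨x, hx, y, hy, rfl⟩ := hl'
  exact ⟨x, hx, y, hy, rfl⟩

/-- Two "Sylow-in" `2`-subgroups of subgroups of equal order have equal orders. -/
theorem card_eq_of_sylowIn_of_card_eq [Finite G] {L L' A A' : Subgroup G}
    (hL : Nat.card L = Nat.card L')
    (hAL : A ≤ L) (hA2 : IsPGroup 2 A) (hAsyl : ¬ 2 ∣ A.relIndex L)
    (hAL' : A' ≤ L') (hA2' : IsPGroup 2 A') (hAsyl' : ¬ 2 ∣ A'.relIndex L') :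
    Nat.card A' = Nat.card A := by
  have : Fact (Nat.Prime 2) := ⟨Nat.prime_two⟩
  obtain ⟨a, ha⟩ := IsPGroup.iff_card.mp hA2
  obtain ⟨b, hb⟩ := IsPGroup.iff_card.mp hA2'
  have h1 := card_mul_relIndex_of_le hAL
  have h2 := card_mul_relIndex_of_le hAL'
  rw [ha] at h1
  rw [hb, ← hL] at h2
  have hc1 : Nat.Coprime (2 ^ a) (A'.relIndex L') :=
    Nat.Coprime.pow_left a ((Nat.Prime.coprime_iff_not_dvd Nat.prime_two).mpr hAsyl')
  have hc2 : Nat.Coprime (2 ^ b) (A.relIndex L) :=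
    Nat.Coprime.pow_left b ((Nat.Prime.coprime_iff_not_dvd Nat.prime_two).mpr hAsyl)
  have hd1 : 2 ^ a ∣ 2 ^ b * A'.relIndex L' := by rw [h2, ← h1]; exact dvd_mul_right _ _
  have hd2 : 2 ^ b ∣ 2 ^ a * A.relIndex L := by rw [h1, ← h2]; exact dvd_mul_right _ _
  have hab : a ≤ b := (Nat.pow_dvd_pow_iff_le_right (by norm_num)).mp (hc1.dvd_of_dvd_mul_right hd1)
  have hba : b ≤ a := (Nat.pow_dvd_pow_iff_le_right (by norm_num)).mp (hc2.dvd_of_dvd_mul_right hd2)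
  rw [ha, hb, le_antisymm hab hba]

/-- A `2`-subgroup of `H` is no bigger than a Sylow-in-`H` subgroup. -/
theorem card_le_of_sylowIn [Finite G] {H P X : Subgroup G} (hP : IsPGroup 2 P) (hPH : P ≤ H)
    (hPi : ¬ 2 ∣ P.relIndex H) (hX : IsPGroup 2 X) (hXH : X ≤ H) : Nat.card X ≤ Nat.card P := by
  have : Fact (Nat.Prime 2) := ⟨Nat.prime_two⟩
  obtain ⟨m, -, hm⟩ := exists_mem_map_conj_le_of_sylowIn hP hPH hPi hX hXH
  rw [← card_map_conj m X]
  exact Subgroup.card_le_of_le hm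

/-- The key one-sided statement. -/
theorem key [Finite G] (Q Q₁ T S : Subgroup G)
    (hQe : Even (Nat.card Q))
    (hTI₁ : ∀ x : G, x ∉ normalizer (Q₁ : Set G) → Odd (Nat.card ↥(Q₁ ⊓ cj x Q₁)))
    (hne : Odd (Nat.card ↥(Q ⊓ Q₁)))
    (hconj : ∃ g : G, Q₁ = cj g Q)
    (hT1 : T ≠ ⊥) (hT : T ≤ Q₁ ⊓ normalizer (Q : Set G)) (hT2 : IsPGroup 2 T)
    (hTsyl : ¬ 2 ∣ T.relIndex (Q₁ ⊓ normalizer (Q : Set G)))
    (hTS : T ≤ S) (hS : S ≤ Q ⊔ T) (hS2 : IsPGroup 2 S) (hSsyl : ¬ 2 ∣ S.relIndex (Q ⊔ T)) :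
    T ⊓ Q = ⊥ ∧
    ⁅T, S ⊓ normalizer (T : Set G) ⊓ Q⁆ = ⊥ ∧
    T ⊔ (S ⊓ normalizer (T : Set G) ⊓ Q) = S ⊓ normalizer (T : Set G) ∧
    S ⊓ normalizer (T : Set G) ⊓ Q ≤ Q ⊓ normalizer (Q₁ : Set G) ∧
    S ⊓ normalizer (T : Set G) ⊓ Q ≠ ⊥ ∧
    Nat.card T ≤ Nat.card ↥(S ⊓ normalizer (T : Set G) ⊓ Q) ∧
    (Nat.card ↥(S ⊓ normalizer (T : Set G) ⊓ Q) = Nat.card T →
      Nonempty (↥(S ⊓ normalizer (T : Set G) ⊓ Q) ≃* T)) := by
  have : Fact (Nat.Prime 2) := ⟨Nat.prime_two⟩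
  obtain ⟨R, hRdef⟩ : ∃ R : Subgroup G, R = S ⊓ normalizer (T : Set G) ⊓ Q := ⟨_, rfl⟩
  rw [← hRdef]
  have hTQ₁ : T ≤ Q₁ := hT.trans inf_le_left
  have hTNQ : T ≤ normalizer (Q : Set G) := hT.trans inf_le_right
  have hRS : R ≤ S := hRdef ▸ inf_le_left.trans inf_le_left
  have hRNT : R ≤ normalizer (T : Set G) := hRdef ▸ inf_le_left.trans inf_le_right
  have hRQ : R ≤ Q := hRdef ▸ inf_le_right
  have hQTN : Q ⊔ T ≤ normalizer (Q : Set G) := sup_le le_normalizer hTNQ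
  -- (1)
  have h1 : T ⊓ Q = ⊥ := by
    apply eq_bot_of_le_odd (hT2.to_le inf_le_left) _ hne
    exact le_inf inf_le_right (inf_le_left.trans hTQ₁)
  -- (2)
  have h2 : ⁅T, R⁆ = ⊥ := by
    rw [Subgroup.commutator_eq_bot_iff_le_centralizer]
    intro t ht
    rw [Subgroup.mem_centralizer_iff]
    intro r hr
    have hmemT : t * r * t⁻¹ * r⁻¹ ∈ T := by
      have h := (mem_normalizer_iff.mp (hRNT hr) t⁻¹).mp (T.inv_mem ht)
      have e : t * r * t⁻¹ * r⁻¹ = t * (r * t⁻¹ * r⁻¹) := by group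
      rw [e]
      exact T.mul_mem ht h
    have hmemQ : t * r * t⁻¹ * r⁻¹ ∈ Q := by
      have h := (mem_normalizer_iff.mp (hTNQ ht) r).mp (hRQ hr)
      exact Q.mul_mem h (Q.inv_mem (hRQ hr))
    have hm : t * r * t⁻¹ * r⁻¹ ∈ T ⊓ Q := ⟨hmemT, hmemQ⟩
    rw [h1, Subgroup.mem_bot] at hm
    have e : r * t = (t * r * t⁻¹ * r⁻¹)⁻¹ * (t * r) := by group
    rw [e, hm, inv_one, one_mul]
  -- (3)
  have h3 : T ⊔ R = S ⊓ normalizer (T : Set G) := by
    apply le_antisymm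
    · exact sup_le (le_inf hTS le_normalizer) (le_inf hRS hRNT)
    · intro x hx
      obtain ⟨q, hq, t, ht, rfl⟩ := exists_mul_of_mem_sup hTNQ (hS hx.1)
      have hqR : q ∈ R := by
        rw [hRdef]
        have hqx : q = (q * t) * t⁻¹ := by group
        refine ⟨⟨?_, ?_⟩, hq⟩
        · rw [hqx]
          exact S.mul_mem hx.1 (S.inv_mem (hTS ht))
        · rw [hqx]
          exact (normalizer (T : Set G)).mul_mem hx.2 (inv_mem (le_normalizer ht))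
      exact Subgroup.mul_mem _ (mem_sup_right hqR) (mem_sup_left ht)
  -- (4)
  have h4 : R ≤ Q ⊓ normalizer (Q₁ : Set G) :=
    le_inf hRQ (hRNT.trans (normalizer_le_of_TI hTI₁ hT2 hTQ₁ hT1))
  -- `S ∩ Q` is a Sylow 2-subgroup of `Q`
  have hSQsyl : ¬ 2 ∣ (S ⊓ Q).relIndex Q :=
    AC.not_dvd_relIndex_inf_of_normal hS2 hS hSsyl le_sup_left hQTN
  have hSQ1 : S ⊓ Q ≠ ⊥ := by
    intro h
    rw [h, Subgroup.relIndex_bot_left] at hSQsyl
    exact hSQsyl (even_iff_two_dvd.mp hQe)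
  have hTR : T ⊓ R = ⊥ := by
    rw [eq_bot_iff, ← h1]
    exact inf_le_inf_left T hRQ
  -- (7)
  have h7 : R ≠ ⊥ := by
    intro hR
    have hTneS : T ≠ S := by
      intro h
      apply hSQ1
      rw [← h, h1]
    have hlt : T < S := lt_of_le_of_ne hTS hTneS
    have hlt2 := lt_inf_normalizer_of_lt hS2 hlt
    rw [← h3, hR, sup_bot_eq] at hlt2
    exact lt_irrefl _ hlt2
  refine ⟨h1, h2, h3, h4, h7, ?_⟩
  obtain ⟨g, hg⟩ := hconj
  have hcardQ : Nat.card Q = Nat.card Q₁ := by rw [hg, card_cj]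
  by_cases hSN : S ≤ normalizer (T : Set G)
  · -- `T` is normal in `S`
    have hRSQ : R = S ⊓ Q := by rw [hRdef, inf_eq_left.mpr hSN]
    have hRsyl : ¬ 2 ∣ R.relIndex Q := hRSQ ▸ hSQsyl
    have hR2 : IsPGroup 2 R := hS2.to_le hRS
    obtain ⟨P₁, hTP₁, hP₁Q₁, hP₁2, hP₁i⟩ := exists_sylowIn hT2 hTQ₁
    have hcP : Nat.card P₁ = Nat.card R :=
      card_eq_of_sylowIn_of_card_eq hcardQ hRQ hR2 hRsyl hP₁Q₁ hP₁2 hP₁i
    refine ⟨hcP ▸ Subgroup.card_le_of_le hTP₁, ?_⟩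
    intro hcard
    have hTP : T = P₁ := Subgroup.eq_of_le_of_card_ge hTP₁ (by rw [hcP, hcard])
    have hTi : ¬ 2 ∣ T.relIndex Q₁ := hTP ▸ hP₁i
    -- conjugate `T` back into `Q`
    have hT'Q : cj g⁻¹ T ≤ Q := by
      have := cj_mono g⁻¹ hTQ₁
      rw [hg, cj_inv_cj] at this
      exact this
    have hT'i : ¬ 2 ∣ (cj g⁻¹ T).relIndex Q := by
      have := relIndex_map_conj g⁻¹ T Q₁
      have e : cj g⁻¹ Q₁ = Q := by rw [hg, cj_inv_cj]
      rw [show Q₁.map (MulAut.conj g⁻¹).toMonoidHom = Q from e] at this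
      rw [show (cj g⁻¹ T).relIndex Q = T.relIndex Q₁ from this]
      exact hTi
    obtain ⟨m, -, hm⟩ := exists_mem_map_conj_eq_of_sylowIn hR2 hRQ hRsyl
      (isPGroup_map_conj g⁻¹ hT2) hT'Q hT'i
    have e1 : T ≃* cj g⁻¹ T := T.equivMapOfInjective _ (MulAut.conj g⁻¹).injective
    have e2 : cj g⁻¹ T ≃* cj m (cj g⁻¹ T) :=
      (cj g⁻¹ T).equivMapOfInjective _ (MulAut.conj m).injective
    have e3 : cj m (cj g⁻¹ T) ≃* R := MulEquiv.subgroupCongr hm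
    exact ⟨((e1.trans e2).trans e3).symm⟩
  · -- `T` is not normal in `S`
    have hlt : S ⊓ normalizer (T : Set G) < S :=
      lt_of_le_of_ne inf_le_left (fun h => hSN (h ▸ inf_le_right))
    have hlt2 := lt_inf_normalizer_of_lt hS2 hlt
    obtain ⟨x, hx, hxn⟩ := SetLike.exists_of_lt hlt2
    have hxS : x ∈ S := hx.1
    have hxNN : x ∈ normalizer ((S ⊓ normalizer (T : Set G) : Subgroup G) : Set G) := hx.2
    have hxNT : x ∉ normalizer (T : Set G) := fun h => hxn ⟨hxS, h⟩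
    have hcjle : cj x T ≤ T ⊔ R := by
      rw [h3, ← mem_normalizer_iff_cj_eq.mp hxNN]
      exact cj_mono x (le_inf hTS le_normalizer)
    have hdisj : cj x T ⊓ T = ⊥ := by
      by_cases hxQ₁ : x ∈ normalizer (Q₁ : Set G)
      · exfalso
        apply hxNT
        apply mem_normalizer_of_cj_le
        have hxQ : x ∈ normalizer (Q : Set G) := hQTN (hS hxS)
        have hD : cj x T ≤ Q₁ ⊓ normalizer (Q : Set G) := by
          have h5 := cj_mono x hT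
          have h6 : cj x (Q₁ ⊓ normalizer (Q : Set G)) = Q₁ ⊓ normalizer (Q : Set G) := by
            show (Q₁ ⊓ normalizer (Q : Set G)).map (MulAut.conj x).toMonoidHom = _
            rw [map_conj_inf]
            show cj x Q₁ ⊓ cj x (normalizer (Q : Set G)) = _
            rw [← normalizer_cj, mem_normalizer_iff_cj_eq.mp hxQ₁, mem_normalizer_iff_cj_eq.mp hxQ]
          rw [h6] at h5
          exact h5
        have hX2 : IsPGroup 2 ↥((T ⊔ R) ⊓ (Q₁ ⊓ normalizer (Q : Set G))) :=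
          hS2.to_le (inf_le_left.trans (h3 ▸ inf_le_left))
        have hTX : T ≤ (T ⊔ R) ⊓ (Q₁ ⊓ normalizer (Q : Set G)) := le_inf le_sup_left hT
        have heq := eq_of_le_of_not_dvd_relIndex hTX inf_le_right hX2 hTsyl
        exact (le_inf hcjle hD).trans heq.ge
      · apply eq_bot_of_le_odd ((isPGroup_map_conj x hT2).to_le inf_le_left) _ (hTI₁ x hxQ₁)
        exact le_inf (inf_le_right.trans hTQ₁) (inf_le_left.trans (cj_mono x hTQ₁))
    -- the internal direct product `T × R`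
    have comm : ∀ (t : T) (r : R), Commute (T.subtype t) (R.subtype r) := by
      intro t r
      have h := Subgroup.commutator_eq_bot_iff_le_centralizer.mp h2 t.2
      rw [Subgroup.mem_centralizer_iff] at h
      exact (h r r.2).symm
    obtain ⟨ψ, hψ⟩ : ∃ ψ : T × R →* G, ψ = MonoidHom.noncommCoprod T.subtype R.subtype comm :=
      ⟨_, rfl⟩
    have hψapp : ∀ p : T × R, ψ p = (p.1 : G) * (p.2 : G) := by
      intro p
      rw [hψ]
      rfl
    have hinj : Function.Injective ψ := by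
      rw [hψ]
      apply (MonoidHom.noncommCoprod_injective _ _ _).mpr
      refine ⟨Subtype.coe_injective, Subtype.coe_injective, ?_⟩
      rw [Subgroup.range_subtype, Subgroup.range_subtype, disjoint_iff]
      exact hTR
    have hrange : ψ.range = T ⊔ R := by
      rw [hψ, MonoidHom.noncommCoprod_range, Subgroup.range_subtype, Subgroup.range_subtype]
    obtain ⟨e', he'⟩ : ∃ e' : ψ.range ≃* T × R, e' = (MonoidHom.ofInjective hinj).symm := ⟨_, rfl⟩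
    have he'app : ∀ w : ψ.range, ψ (e' w) = (w : G) := by
      intro w
      have h := (MonoidHom.ofInjective hinj).apply_symm_apply w
      rw [← he'] at h
      have h' := congrArg Subtype.val h
      rw [MonoidHom.ofInjective_apply] at h'
      exact h'
    have hle : cj x T ≤ ψ.range := hcjle.trans hrange.ge
    obtain ⟨f, hf⟩ : ∃ f : cj x T →* R,
        f = (MonoidHom.snd T R).comp (e'.toMonoidHom.comp (Subgroup.inclusion hle)) := ⟨_, rfl⟩
    have hfinj : Function.Injective f := by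
      rw [injective_iff_map_eq_one]
      intro y hy
      have h5 : (e' (Subgroup.inclusion hle y)).2 = 1 := by
        rw [hf] at hy
        exact hy
      have h6 := he'app (Subgroup.inclusion hle y)
      rw [hψapp, h5, Subgroup.coe_one, mul_one, Subgroup.coe_inclusion] at h6
      have h7 : (y : G) ∈ cj x T ⊓ T := ⟨y.2, h6 ▸ (e' (Subgroup.inclusion hle y)).1.2⟩
      rw [hdisj, Subgroup.mem_bot] at h7
      exact Subtype.ext h7
    have hcard_le : Nat.card T ≤ Nat.card R := by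
      rw [← card_cj x T]
      exact Nat.card_le_card_of_injective f hfinj
    refine ⟨hcard_le, ?_⟩
    intro hcard
    have hbij : Function.Bijective f :=
      hfinj.bijective_of_nat_card_le (by rw [hcard, card_cj])
    have e1 : T ≃* cj x T := T.equivMapOfInjective _ (MulAut.conj x).injective
    exact ⟨(e1.trans (MulEquiv.ofBijective f hbij)).symm⟩

/-- Conjugates of a tightly embedded subgroup are tightly embedded. -/
theorem TI_cj [Finite G] {Q : Subgroup G}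
    (hTI : ∀ x : G, x ∉ normalizer (Q : Set G) → Odd (Nat.card ↥(Q ⊓ cj x Q))) (g : G) :
    ∀ x : G, x ∉ normalizer ((cj g Q : Subgroup G) : Set G) →
      Odd (Nat.card ↥(cj g Q ⊓ cj x (cj g Q))) := by
  intro x hx
  have hx' : g⁻¹ * x * g ∉ normalizer (Q : Set G) := by
    intro h
    apply hx
    rw [normalizer_cj, mem_cj_iff]
    exact h
  have h1 := hTI _ hx'
  have e : cj g (Q ⊓ cj (g⁻¹ * x * g) Q) = cj g Q ⊓ cj x (cj g Q) := by
    show (Q ⊓ cj (g⁻¹ * x * g) Q).map (MulAut.conj g).toMonoidHom = _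
    rw [map_conj_inf]
    show cj g Q ⊓ cj g (cj (g⁻¹ * x * g) Q) = _
    rw [cj_cj, cj_cj]
    congr 2
    group
  rw [← e, card_cj]
  exact h1

/-- **Tightly embedded subgroups**: the structure of `N_S(T)` for `T` a Sylow `2`-subgroup of
`Q^g ∩ N(Q)`. -/
theorem main [Finite G] (Q : Subgroup G) (hQe : Even (Nat.card Q))
    (hTI : ∀ x : G, x ∉ normalizer (Q : Set G) → Odd (Nat.card ↥(Q ⊓ cj x Q)))
    (g : G) (hg : g ∉ normalizer (Q : Set G))
    (T : Subgroup G) (hT1 : T ≠ ⊥) (hT : T ≤ cj g Q ⊓ normalizer (Q : Set G))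
    (hT2 : IsPGroup 2 T) (hTsyl : ¬ 2 ∣ T.relIndex (cj g Q ⊓ normalizer (Q : Set G)))
    (S : Subgroup G) (hTS : T ≤ S) (hS : S ≤ Q ⊔ T) (hS2 : IsPGroup 2 S)
    (hSsyl : ¬ 2 ∣ S.relIndex (Q ⊔ T)) :
    T ⊓ Q = ⊥ ∧
      T ⊓ (S ⊓ normalizer (T : Set G) ⊓ Q) = ⊥ ∧
      ⁅T, S ⊓ normalizer (T : Set G) ⊓ Q⁆ = ⊥ ∧
      T ⊔ (S ⊓ normalizer (T : Set G) ⊓ Q) = S ⊓ normalizer (T : Set G) ∧
      Nonempty (↥(S ⊓ normalizer (T : Set G) ⊓ Q) ≃* T) := by
  have : Fact (Nat.Prime 2) := ⟨Nat.prime_two⟩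
  obtain ⟨Q₁, hQ₁⟩ : ∃ Q₁ : Subgroup G, Q₁ = cj g Q := ⟨_, rfl⟩
  rw [← hQ₁] at hT hTsyl
  have hTI₁ : ∀ x : G, x ∉ normalizer (Q₁ : Set G) → Odd (Nat.card ↥(Q₁ ⊓ cj x Q₁)) := by
    rw [hQ₁]
    exact TI_cj hTI g
  have hne : Odd (Nat.card ↥(Q ⊓ Q₁)) := hQ₁ ▸ hTI g hg
  obtain ⟨h1, h2, h3, h4, h7, h5, h6⟩ :=
    key Q Q₁ T S hQe hTI₁ hne ⟨g, hQ₁⟩ hT1 hT hT2 hTsyl hTS hS hS2 hSsyl
  obtain ⟨R, hRdef⟩ : ∃ R : Subgroup G, R = S ⊓ normalizer (T : Set G) ⊓ Q := ⟨_, rfl⟩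
  rw [← hRdef] at h2 h3 h4 h7 h5 h6 ⊢
  have hRQ : R ≤ Q := hRdef ▸ inf_le_right
  have hR2 : IsPGroup 2 R := hS2.to_le (hRdef ▸ inf_le_left.trans inf_le_left)
  have hTR : T ⊓ R = ⊥ := by
    rw [eq_bot_iff, ← h1]
    exact inf_le_inf_left T hRQ
  refine ⟨h1, hTR, h2, h3, ?_⟩
  apply h6
  apply le_antisymm _ h5
  -- the symmetric application
  obtain ⟨T'', hRT'', hT''D, hT''2, hT''i⟩ := exists_sylowIn hR2 h4
  have hT''1 : T'' ≠ ⊥ := by
    intro h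
    apply h7
    rw [eq_bot_iff, ← h]
    exact hRT''
  have hT''le : T'' ≤ Q₁ ⊔ T'' := le_sup_right
  obtain ⟨S'', hTS'', hS'', hS''2, hS''i⟩ := exists_sylowIn hT''2 hT''le
  have hQ₁e : Even (Nat.card Q₁) := by rw [hQ₁, card_cj]; exact hQe
  have hne' : Odd (Nat.card ↥(Q₁ ⊓ Q)) := by rw [inf_comm]; exact hne
  have hconj' : ∃ g' : G, Q = cj g' Q₁ := ⟨g⁻¹, by rw [hQ₁, cj_inv_cj]⟩
  obtain ⟨-, -, -, k4, -, k5, -⟩ :=
    key Q₁ Q T'' S'' hQ₁e hTI hne' hconj' hT''1 hT''D hT''2 hT''i hTS'' hS'' hS''2 hS''i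
  have hR''2 : IsPGroup 2 ↥(S'' ⊓ normalizer (T'' : Set G) ⊓ Q₁) :=
    hS''2.to_le (inf_le_left.trans inf_le_left)
  have c1 : Nat.card R ≤ Nat.card T'' := Subgroup.card_le_of_le hRT''
  have c2 : Nat.card ↥(S'' ⊓ normalizer (T'' : Set G) ⊓ Q₁) ≤ Nat.card T :=
    card_le_of_sylowIn hT2 hT hTsyl hR''2 k4
  exact c1.trans (k5.trans c2)

end Cfsg.Agent.Lib.H5.TE
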