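import Cfsg.Agent.S0713

set_option autoImplicit false

/-!
# S0720 piece JORDAN (helper21 architect): primitive of degree `2p`, `p` odd: `Alt ≤ G` or `p² ∤ |G|` and a
fixed-point-free element of order `p`.
-/

namespace Cfsg.Agent.Lib.H5.W2P

/-- an element of prime order `p` with a fixed point, in degree `2p`, is a `p`-cycle -/
theorem isCycle_of_order_p_fixed {α : Type*} [Fintype α] [DecidableEq α] {p : ℕ} (hp : p.Prime)
    (hα : Fintype.card α = 2 * p) (y : Equiv.Perm α) (hy : orderOf y = p) (a : α) (ha : y a = a) :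
    y.IsCycle ∧ y.support.card = p := by
  have hpo : (orderOf y).Prime := by rw [hy]; exact hp
  obtain ⟨n, hn⟩ := Equiv.Perm.cycleType_prime_order hpo
  have hsum : y.support.card = (n + 1) * p := by
    rw [← Equiv.Perm.sum_cycleType, hn, Multiset.sum_replicate, hy, smul_eq_mul]
  have hlt : y.support.card < 2 * p := by
    rw [← hα, ← Finset.card_univ]
    apply Finset.card_lt_card
    rw [Finset.ssubset_univ_iff]
    intro h
    have h2 : a ∈ y.support := by rw [h]; exact Finset.mem_univ a
    exact (Equiv.Perm.mem_support.1 h2) ha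
  have hn0 : n = 0 := by
    rw [hsum] at hlt
    have := Nat.lt_of_mul_lt_mul_right hlt
    omega
  subst hn0
  refine ⟨?_, by rw [hsum]; simp⟩
  rw [← Equiv.Perm.card_cycleType_eq_one, hn]
  simp

/-- **JORDAN** -/
theorem jordan_two_p {α : Type*} [Fintype α] [DecidableEq α] {p : ℕ} (hp : p.Prime) (hp2 : p ≠ 2)
    (hα : Fintype.card α = 2 * p) (G : Subgroup (Equiv.Perm α)) (hG : MulAction.IsPreprimitive G α) :
    alternatingGroup α ≤ G ∨
      (¬ p ^ 2 ∣ Nat.card G ∧ ∃ x ∈ G, orderOf x = p ∧ ∀ a : α, x a ≠ a) := by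
  have hp3 : 3 ≤ p := by
    have := hp.two_le
    omega
  haveI : Fact p.Prime := ⟨hp⟩
  have hstar : ∀ y ∈ G, orderOf y = p → ∀ a : α, y a = a → alternatingGroup α ≤ G := by
    intro y hyG hy a ha
    obtain ⟨hc, hs⟩ := isCycle_of_order_p_fixed hp hα y hy a ha
    exact Cfsg.Agent.S0713.result G hG hp (by omega) (by omega) hc hs hyG
  have hne : Nonempty α := by
    rw [← Fintype.card_pos_iff, hα]; omega
  obtain ⟨a⟩ := hne
  haveI : MulAction.IsPretransitive G α := hG.toIsPretransitive
  have h1 : (MulAction.stabilizer G a).index = Nat.card α :=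
    MulAction.index_stabilizer_of_transitive G a
  have h2 : (MulAction.stabilizer G a).index ∣ Nat.card G := Subgroup.index_dvd_card _
  rw [h1, Nat.card_eq_fintype_card, hα] at h2
  have hpdvd : p ∣ Nat.card G := dvd_trans (dvd_mul_left p 2) h2
  by_cases hsq : p ^ 2 ∣ Nat.card G
  · left
    obtain ⟨K, hK⟩ := Sylow.exists_subgroup_card_pow_prime p hsq
    set K' : Subgroup (Equiv.Perm α) := K.map G.subtype with hK'
    have hK'G : K' ≤ G := by
      rintro _ ⟨k, -, rfl⟩
      exact k.2
    have hK'card : Nat.card K' = p ^ 2 := by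
      rw [hK', Subgroup.card_map_of_injective G.subtype_injective, hK]
    have hidx : (MulAction.stabilizer K' a).index = (MulAction.orbit K' a).ncard :=
      MulAction.index_stabilizer K' a
    have hle : (MulAction.orbit K' a).ncard ≤ 2 * p := by
      rw [← hα, ← Nat.card_eq_fintype_card, ← Set.ncard_univ]
      exact Set.ncard_le_ncard (Set.subset_univ _)
    have hmul := (MulAction.stabilizer K' a).card_mul_index
    rw [hK'card] at hmul
    have hne1 : Nat.card (MulAction.stabilizer K' a) ≠ 1 := by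
      intro h1
      rw [h1, one_mul, hidx] at hmul
      rw [hmul] at hle
      nlinarith
    have hdvd : p ∣ Nat.card (MulAction.stabilizer K' a) := by
      have h2 : Nat.card (MulAction.stabilizer K' a) ∣ p ^ 2 := ⟨_, hmul.symm⟩
      obtain ⟨j, -, hj⟩ := (Nat.dvd_prime_pow hp).1 h2
      rw [hj] at hne1 ⊢
      cases j with
      | zero => exact absurd (pow_zero p) hne1
      | succ j => exact dvd_pow_self p (Nat.succ_ne_zero j)
    obtain ⟨y, hy⟩ := exists_prime_orderOf_dvd_card' p hdvd
    refine hstar ((y : K') : Equiv.Perm α) (hK'G (y : K').2) ?_ a ?_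
    · rw [Subgroup.orderOf_coe, Subgroup.orderOf_coe, hy]
    · exact MulAction.mem_stabilizer_iff.1 y.2
  · obtain ⟨x, hx⟩ := exists_prime_orderOf_dvd_card' p hpdvd
    by_cases hfix : ∃ b : α, (x : Equiv.Perm α) b = b
    · obtain ⟨b, hb⟩ := hfix
      left
      exact hstar x x.2 (by rw [Subgroup.orderOf_coe, hx]) b hb
    · right
      push_neg at hfix
      exact ⟨hsq, x, x.2, by rw [Subgroup.orderOf_coe, hx], hfix⟩

end Cfsg.Agent.Lib.H5.W2P
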