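import Cfsg.Agent.S0707
import Cfsg.Agent.Lib.L0.CharLinear
import Cfsg.Agent.Lib.H4.CentRingD

set_option autoImplicit false

/-!
# S0720 piece LIN (helper21 architect): the permutation character of a primitive group of non-prime degree
has no non-trivial linear constituent.
-/

namespace Cfsg.Agent.Lib.H5.W2P

open Cfsg Cfsg.Agent.Lib.H4.CentRing
open scoped ComplexConjugate

/-- a linear constituent of the permutation character is trivial on some point stabiliser (Frobenius
reciprocity, by hand) -/
theorem exists_stab_le_ker {G : Type*} [Group G] [Fintype G] {Ω : Type*} [Fintype Ω] [DecidableEq Ω]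
    [MulAction G Ω] (χ : G → ℂ) (hχ : IsCharacter G χ) (h1 : χ 1 = 1)
    (hin : classInner (permCh G Ω) χ ≠ 0) :
    ∃ a : Ω, ∀ g ∈ MulAction.stabilizer G a, χ g = 1 := by
  classical
  by_contra hcon
  push_neg at hcon
  apply hin
  unfold classInner
  let ψ : G →* ℂ :=
    { toFun := fun g => conj (χ g)
      map_one' := by rw [h1, map_one]
      map_mul' := fun g h => by rw [Cfsg.Agent.Lib.L0.linear_char_mul hχ h1 g h, map_mul] }
  have hψ : ∀ g, ψ g = conj (χ g) := fun _ => rfl
  have hperm : ∀ g : G, permCh G Ω g = ∑ a : Ω, if g • a = a then (1 : ℂ) else 0 := by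
    intro g
    unfold permCh
    have hc : Nat.card (MulAction.fixedBy Ω g) = (Finset.univ.filter fun a : Ω => g • a = a).card := by
      rw [Nat.card_eq_fintype_card]
      exact Fintype.card_of_subtype _ (by simp [MulAction.mem_fixedBy])
    rw [hc, Finset.card_filter]
    push_cast
    rfl
  have hsum : ∑ g : G, permCh G Ω g * conj (χ g) =
      ∑ a : Ω, ∑ g : MulAction.stabilizer G a, ψ g := by
    have h2 : ∀ g : G, permCh G Ω g * conj (χ g) = ∑ a : Ω, if g • a = a then ψ g else 0 := by
      intro g
      rw [hperm g, Finset.sum_mul]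
      refine Finset.sum_congr rfl fun a _ => ?_
      split_ifs
      · rw [one_mul, hψ]
      · rw [zero_mul]
    rw [Finset.sum_congr rfl fun g _ => h2 g, Finset.sum_comm]
    refine Finset.sum_congr rfl fun a _ => ?_
    rw [← Finset.sum_filter]
    exact Finset.sum_subtype (Finset.univ.filter fun g : G => g • a = a)
      (p := fun g => g ∈ MulAction.stabilizer G a)
      (by intro g; simp [MulAction.mem_stabilizer_iff]) (fun g => ψ g)
  rw [hsum, Finset.sum_eq_zero, mul_zero]
  intro a _
  obtain ⟨g, hg, hne⟩ := hcon a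
  refine sum_hom_units_eq_zero (ψ.comp (MulAction.stabilizer G a).subtype) ?_
  intro h
  apply hne
  have h3 := DFunLike.congr_fun h ⟨g, hg⟩
  have h4 : conj (χ g) = 1 := h3
  have h5 := congrArg (starRingEnd ℂ) h4
  rwa [Complex.conj_conj, map_one] at h5

/-- **LIN** -/
theorem false_of_linear {α : Type*} [Fintype α] [DecidableEq α] (G : Subgroup (Equiv.Perm α))
    [Fintype G] (hG : MulAction.IsPreprimitive G α) (hnp : ¬ (Fintype.card α).Prime)
    (χ : G → ℂ) (hχ : IsIrrCharacter G χ) (h1 : χ 1 = 1) (hne : χ ≠ fun _ => 1)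
    (hin : classInner (permCh G α) χ ≠ 0) : False := by
  have hχc : IsCharacter G χ := Cfsg.Agent.Lib.L0.isCharacter_of_irr hχ
  obtain ⟨a, ha⟩ := exists_stab_le_ker χ hχc h1 hin
  let f := Cfsg.Agent.Lib.L0.linearCharHom hχc h1
  have hfK : ∀ g, g ∈ f.ker ↔ χ g = 1 := by
    intro g
    rw [MonoidHom.mem_ker, Units.ext_iff]
    rfl
  have hle : MulAction.stabilizer G a ≤ f.ker := fun g hg => (hfK g).2 (ha g hg)
  have hKne : f.ker ≠ ⊤ := by
    intro h
    apply hne
    funext g
    exact (hfK g).1 (by rw [h]; trivial)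
  haveI : MulAction.IsPretransitive G α := hG.toIsPretransitive
  by_cases hnt : Nontrivial α
  · have hco : IsCoatom (MulAction.stabilizer G a) :=
      (MulAction.isCoatom_stabilizer_iff_preprimitive (G := G) a).2 hG
    have heq : MulAction.stabilizer G a = f.ker := by
      rcases eq_or_lt_of_le hle with h | h
      · exact h
      · exact absurd (hco.2 _ h) hKne
    obtain ⟨b, hb⟩ := exists_ne a
    obtain ⟨g, rfl⟩ := MulAction.exists_smul_eq G a b
    haveI := hG
    refine Cfsg.Agent.S0707.result G (Or.inl ?_) hb.symm ?_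
    · rwa [Nat.card_eq_fintype_card]
    · ext x
      have hx : x ∈ MulAction.stabilizer G (g • a) ↔ (g⁻¹ * x * g) ∈ MulAction.stabilizer G a := by
        rw [MulAction.mem_stabilizer_iff, MulAction.mem_stabilizer_iff, mul_smul, mul_smul,
          inv_smul_eq_iff]
      rw [hx, heq, MonoidHom.mem_ker, MonoidHom.mem_ker, map_mul, map_mul, map_inv,
        mul_comm ((f g)⁻¹) (f x), inv_mul_cancel_right]
  · rw [not_nontrivial_iff_subsingleton] at hnt
    apply hne
    funext g
    have : g = 1 := Subsingleton.elim _ _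
    rw [this, h1]

end Cfsg.Agent.Lib.H5.W2P
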