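import Mathlib
import Cfsg.Agent.Lib.H5.WreathedCase2c
import Cfsg.Agent.Lib.H5.CentInv
import Cfsg.Agent.Lib.L0.ControlFusion

/-!
# Wreathed Sylow 2-subgroups: centralizers of involutions (helper5)
-/

set_option autoImplicit false

namespace Cfsg.Agent.Lib.H5.WS

open Subgroup Cfsg.Agent.Lib.H5 Cfsg.Agent.Lib.H5.SD Cfsg.Agent.Lib.H5.Wr Cfsg.Agent.Lib.H10
open Cfsg.Agent.Lib.H6

variable {G : Type*} [Group G] [Finite G] {S : Sylow 2 G} {n : ℕ} {x y z : ↥(S : Subgroup G)}
  (d : Gens ↥(S : Subgroup G) n x y z)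
include d

/-- The structure of `G` in case `2, 6`. -/
theorem case_two_six {X : Subgroup ↥(S : Subgroup G)} (hG : Good n x y z X)
    (h₁ : (centralizer ((up d.base : Subgroup G) : Set G)).relIndex
      (normalizer ((up d.base : Subgroup G) : Set G)) = 2)
    (h₂ : (up X ⊔ centralizer ((up X : Subgroup G) : Set G)).relIndex
      (normalizer ((up X : Subgroup G) : Set G)) = 6) :
    (∃ K : Subgroup G, K.Normal ∧ K.index = 2 ^ n ∧
      (∀ P : Sylow 2 ↥K, ∃ m : ℕ, 1 ≤ m ∧
        Nonempty ((P : Subgroup ↥K) ≃* QuaternionGroup (2 ^ m))) ∧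
      (∀ H : Subgroup ↥K, H.index ≠ 2)) ∧
    (∀ Z₀ : Subgroup G, Z₀ ≤ up (center ↥(S : Subgroup G)) →
      Cfsg.IsWeaklyClosed Z₀ (S : Subgroup G)) := by
  have : Fact (Nat.Prime 2) := ⟨Nat.prime_two⟩
  have hNS := Nsub_subgroupOf_eq_quatSub d hG h₁ h₂
  have hcf := center_fusion d hG h₁ h₂
  have hfin : Finite ↥(S : Subgroup G) := inferInstance
  have hqidx : d.quatSub.index = 2 ^ n := by
    have h1 := d.quatSub.card_mul_index
    rw [d.card_quatSub, d.hcard] at h1
    have e : (2 : ℕ) ^ (2 * n + 1) = 2 ^ (n + 1) * 2 ^ n := by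
      rw [← pow_add]; congr 1; omega
    rw [e] at h1
    exact Nat.eq_of_mul_eq_mul_left (by positivity) h1
  refine ⟨⟨TwoRes.Nsub G, TwoRes.Nsub_normal, ?_, ?_, no_index_two_Nsub d hG h₁ h₂⟩, ?_⟩
  · rw [TwoRes.index_Nsub S, hNS, hqidx]
  · intro P
    obtain ⟨e1⟩ := TwoRes.sylow_equiv_of_normal S (TwoRes.Nsub G) P
    obtain ⟨e2⟩ := d.quatSub_equiv
    refine ⟨n - 1, ?_, ⟨(e1.trans (MulEquiv.subgroupCongr hNS)).trans e2⟩⟩
    have := d.hn
    omega
  · intro Z₀ hZ₀
    refine ⟨hZ₀.trans (up_le _), ?_⟩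
    intro c hc
    have key : ∀ a ∈ Z₀, c * a * c⁻¹ = a := by
      intro a ha
      have h1 : (c⁻¹)⁻¹ * a * c⁻¹ ∈ (S : Subgroup G) := by
        rw [inv_inv]
        apply hc
        exact ⟨a, ha, rfl⟩
      have h2 := hcf a (up_le _ (hZ₀ ha)) c⁻¹ h1 (Or.inl (hZ₀ ha))
      rwa [inv_inv] at h2
    ext b
    constructor
    · rintro ⟨a, ha, rfl⟩
      show c * a * c⁻¹ ∈ Z₀
      rw [key a ha]
      exact ha
    · intro hb
      refine ⟨b, hb, ?_⟩
      show c * b * c⁻¹ = b
      exact key b hb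

/-- If `G` has no subgroup of index two, both automizers have order `6`. -/
theorem six_six_of_no_index_two {X : Subgroup ↥(S : Subgroup G)} (hG : Good n x y z X)
    (hno : ∀ H : Subgroup G, H.index ≠ 2) :
    (centralizer ((up d.base : Subgroup G) : Set G)).relIndex
      (normalizer ((up d.base : Subgroup G) : Set G)) = 6 ∧
    (up X ⊔ centralizer ((up X : Subgroup G) : Set G)).relIndex
      (normalizer ((up X : Subgroup G) : Set G)) = 6 := by
  have : Fact (Nat.Prime 2) := ⟨Nat.prime_two⟩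
  have hn0 : n ≠ 0 := by have := d.hn; omega
  rcases automizer_base d with h₁ | h₁ <;> rcases automizer_good d hG with h₂ | h₂
  · exfalso
    have hnpc := Cfsg.Agent.Lib.L0.hasNormalPComplement_of_control_fusion S
      (control_of_two_two d hG h₁ h₂)
    obtain ⟨H, hH⟩ := CI.exists_index_two_of_npc S (2 * n + 1) (by omega) d.hcard hnpc
    exact hno H hH
  · exfalso
    obtain ⟨⟨K, hKn, hKi, -, -⟩, -⟩ := case_two_six d hG h₁ h₂
    obtain ⟨H, hH⟩ := CI.exists_index_two_of_normal K n hn0 hKi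
    exact hno H hH
  · exfalso
    have hNS := Nsub_subgroupOf_eq_base d hG h₁ h₂
    have hidx : (TwoRes.Nsub G).index = 2 := by
      rw [TwoRes.index_Nsub S, hNS, d.index_base]
    exact hno _ hidx
  · exact ⟨h₁, h₂⟩

/-- In case `6, 6` every involution is conjugate to the central involution of `S`. -/
theorem isConj_zeta_of_six_six {X : Subgroup ↥(S : Subgroup G)} (hG : Good n x y z X)
    (h₁ : (centralizer ((up d.base : Subgroup G) : Set G)).relIndex
      (normalizer ((up d.base : Subgroup G) : Set G)) = 6)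
    (h₂ : (up X ⊔ centralizer ((up X : Subgroup G) : Set G)).relIndex
      (normalizer ((up X : Subgroup G) : Set G)) = 6) (g : G) (hg : orderOf g = 2) :
    IsConj (zetaG d) g := by
  obtain ⟨g₁, hgN, hgodd, hgC⟩ := AZ.exists_odd_notMem_of_three_dvd
    (NC.normalizer_le_normalizer_centralizer (up d.base : Subgroup G)) (by rw [h₁]; norm_num)
  have hNM : normalizer ((up X : Subgroup G) : Set G) ≤
      normalizer ((up X ⊔ centralizer ((up X : Subgroup G) : Set G) : Subgroup G) : Set G) :=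
    (le_inf (le_refl _) (NC.normalizer_le_normalizer_centralizer (up X))).trans
      (NC.normalizer_inf_le_normalizer_sup' (up X) _)
  obtain ⟨g', hg'N, hg'odd, hg'M⟩ := AZ.exists_odd_notMem_of_three_dvd hNM
    (by rw [h₂]; norm_num)
  have hbz := isConj_b_zeta_of_odd d g₁ hgN hgodd hgC
  have hbt := isConj_b_t_of_odd d hG g' hg'N hg'odd hg'M
  rcases involution_cases d g hg with h | h | h
  · exact (h.trans hbz).symm
  · exact h.symm
  · exact (h.trans (hbt.symm.trans hbz)).symm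

omit [Finite G] in
/-- The only involution of `Z(S)`. -/
theorem eq_zetaG_of_center (t : G) (ht : orderOf t = 2)
    (htZ : t ∈ up (center ↥(S : Subgroup G))) : t = zetaG d := by
  obtain ⟨t', ht', rfl⟩ := htZ
  replace ht' : t' ∈ center ↥(S : Subgroup G) := ht'
  obtain ⟨a, rfl⟩ := (d.mem_center_iff' t').mp ht'
  have h2 : orderOf (wp n x y a a) = 2 := by
    rw [← Subgroup.orderOf_coe]; exact ht
  have hsq : wp n x y a a * wp n x y a a = 1 := by
    have := pow_orderOf_eq_one (wp n x y a a)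
    rw [h2, pow_two] at this
    exact this
  have hne : wp n x y a a ≠ 1 := by
    intro h
    rw [h, orderOf_one] at h2
    omega
  rw [d.wp_sq, d.wp_eq_one_iff] at hsq
  rcases two_torsion d.hn1 _ hsq.1 with h | h
  · exfalso
    apply hne
    rw [h, Gens.wp_zero]
  · show ((wp n x y a a : ↥(S : Subgroup G)) : G) = ((wp n x y (hh n) (hh n) : ↥(S : Subgroup G)) : G)
    rw [h]

/-- The centralizer of the central involution of `S` in case `6, 6` has the structure of
case `2, 6`. -/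
theorem cent_wreathed_aux (hS : Cfsg.IsWreathed ↥(S : Subgroup G))
    {X : Subgroup ↥(S : Subgroup G)} (hG : Good n x y z X)
    (h₂ : (up X ⊔ centralizer ((up X : Subgroup G) : Set G)).relIndex
      (normalizer ((up X : Subgroup G) : Set G)) = 6)
    (C : Subgroup G) (hCdef : C = centralizer ({zetaG d} : Set G))
    (hSC : (S : Subgroup G) ≤ C) :
    (∃ K : Subgroup ↥C, K.Normal ∧ (∃ a : ℕ, K.index = 2 ^ a) ∧
      (∀ H : Subgroup ↥K, H.index ≠ 2) ∧
      (∀ P : Sylow 2 ↥K, ∃ m : ℕ, 1 ≤ m ∧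
        Nonempty ((P : Subgroup ↥K) ≃* QuaternionGroup (2 ^ m)))) ∧
    (∀ Z₀ : Subgroup ↥C,
      Z₀ ≤ (center ↥((S.subtype hSC : Sylow 2 ↥C) : Subgroup ↥C)).map
        ((S.subtype hSC : Sylow 2 ↥C) : Subgroup ↥C).subtype →
      Cfsg.IsWeaklyClosed Z₀ ((S.subtype hSC : Sylow 2 ↥C) : Subgroup ↥C)) := by
  have : Fact (Nat.Prime 2) := ⟨Nat.prime_two⟩
  have eRS : ↥((S.subtype hSC : Sylow 2 ↥C) : Subgroup ↥C) ≃* ↥(S : Subgroup G) :=
    (MulEquiv.subgroupCongr (Sylow.coe_subtype S hSC)).trans (subgroupOfEquivOfLe hSC)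
  have hR : Cfsg.IsWreathed ↥((S.subtype hSC : Sylow 2 ↥C) : Subgroup ↥C) :=
    CI.isWreathed_of_equiv eRS.symm hS
  have hnR : Nat.card (S.subtype hSC : Sylow 2 ↥C) = 2 ^ (2 * n + 1) := by
    have := Nat.card_congr eRS.toEquiv
    rw [d.hcard] at this
    exact this
  obtain ⟨x', y', z', d'⟩ := exists_gens' (S.subtype hSC) hR n hnR
  have hG' := d'.good_q8Sub_sup (hh n) 0 (by ring)
  -- the central involution
  have hζC : zetaG d ∈ C := hSC (up_le _ (zetaG_mem d))
  have hζc : ∀ c : ↥C, c * ⟨zetaG d, hζC⟩ = ⟨zetaG d, hζC⟩ * c := by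
    intro c
    have hc : (c : G) ∈ centralizer ({zetaG d} : Set G) := hCdef ▸ c.2
    have := mem_centralizer_iff.mp hc (zetaG d) (Set.mem_singleton _)
    exact Subtype.ext this.symm
  have hζR : (⟨zetaG d, hζC⟩ : ↥C) ∈ ((S.subtype hSC : Sylow 2 ↥C) : Subgroup ↥C) := by
    rw [Sylow.coe_subtype, mem_subgroupOf]
    exact up_le _ (zetaG_mem d)
  have hζeq : (⟨zetaG d, hζC⟩ : ↥C) = zetaG d' := by
    apply eq_zetaG_of_center d'
    · rw [Subgroup.orderOf_mk]; exact orderOf_zetaG d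
    · refine ⟨⟨_, hζR⟩, (?_ : _ ∈ center _), rfl⟩
      rw [mem_center_iff]
      intro s
      exact Subtype.ext (hζc s)
  -- the first automizer has order two
  have h₁' : (centralizer ((up d'.base : Subgroup ↥C) : Set ↥C)).relIndex
      (normalizer ((up d'.base : Subgroup ↥C) : Set ↥C)) = 2 := by
    rcases automizer_base d' with h | h
    · exact h
    · exfalso
      obtain ⟨g₁, hgN, hgodd, hgC⟩ := AZ.exists_odd_notMem_of_three_dvd
        (NC.normalizer_le_normalizer_centralizer (up d'.base : Subgroup ↥C))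
        (by rw [h]; norm_num)
      have hbz := isConj_b_zeta_of_odd d' g₁ hgN hgodd hgC
      obtain ⟨c, hc⟩ := isConj_iff.mp hbz
      apply zetaG_ne_bG d'
      have h1 : bG d' = c⁻¹ * zetaG d' * c := by rw [← hc]; group
      rw [h1, ← hζeq, mul_assoc, ← hζc c, inv_mul_cancel_left]
  -- the second automizer has order six
  have h₂' : (up (d'.q8Sub (hh n) 0 (by ring) ⊔ center ↥((S.subtype hSC : Sylow 2 ↥C) :
      Subgroup ↥C)) ⊔ centralizer ((up (d'.q8Sub (hh n) 0 (by ring) ⊔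
        center ↥((S.subtype hSC : Sylow 2 ↥C) : Subgroup ↥C)) : Subgroup ↥C) : Set ↥C)).relIndex
      (normalizer ((up (d'.q8Sub (hh n) 0 (by ring) ⊔
        center ↥((S.subtype hSC : Sylow 2 ↥C) : Subgroup ↥C)) : Subgroup ↥C) : Set ↥C)) = 6 := by
    rcases automizer_good d' hG' with h | h
    · exfalso
      have hnpc := Cfsg.Agent.Lib.L0.hasNormalPComplement_of_control_fusion (S.subtype hSC)
        (control_of_two_two d' hG' h₁' h)
      have hNM : normalizer ((up X : Subgroup G) : Set G) ≤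
          normalizer ((up X ⊔ centralizer ((up X : Subgroup G) : Set G) : Subgroup G) : Set G) :=
        (le_inf (le_refl _) (NC.normalizer_le_normalizer_centralizer (up X))).trans
          (NC.normalizer_inf_le_normalizer_sup' (up X) _)
      obtain ⟨g, hgN, hgodd, hgM⟩ := AZ.exists_odd_notMem_of_three_dvd hNM
        (by rw [h₂]; norm_num)
      have hgC : g ∈ C := by
        rw [hCdef, mem_centralizer_iff]
        intro k hk
        rw [Set.mem_singleton_iff] at hk
        subst hk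
        have h3 := normalizer_good_le_centralizer_center d hG h₂ hgN
        have hzc : zetaG d ∈ up (center ↥(S : Subgroup G)) := by
          apply coe_mem_up_iff.mpr
          rw [d.mem_center_iff']
          exact ⟨_, rfl⟩
        exact mem_centralizer_iff.mp h3 _ hzc
      apply hgM
      apply le_sup_right (b := centralizer ((up X : Subgroup G) : Set G))
      rw [mem_centralizer_iff]
      intro v hv
      have hvC : v ∈ C := hSC (up_le X hv)
      have hw : g * v * g⁻¹ * v⁻¹ ∈ (S : Subgroup G) :=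
        up_le X (mul_mem ((mem_normalizer_iff.mp hgN v).mp hv) (inv_mem hv))
      obtain ⟨j, hj⟩ := (IsPGroup.iff_orderOf.mp S.2) ⟨_, hw⟩
      rw [Subgroup.orderOf_mk] at hj
      have hj' : (g * v * g⁻¹ * v⁻¹) ^ 2 ^ j = 1 := by rw [← hj, pow_orderOf_eq_one]
      have key := CI.comm_eq_one_of_npc hnpc ⟨g, hgC⟩ ⟨v, hvC⟩
        (by rw [Subgroup.orderOf_mk]; exact hgodd)
        ⟨j, Subtype.ext (by simpa using hj')⟩
      have key' : g * v * g⁻¹ * v⁻¹ = 1 := by
        have := congrArg Subtype.val key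
        simpa using this
      calc v * g = (g * v * g⁻¹ * v⁻¹)⁻¹ * (g * v) := by group
        _ = g * v := by rw [key', inv_one, one_mul]
    · exact h
  obtain ⟨⟨K, hKn, hKi, hKs, hKno⟩, hwc⟩ := case_two_six d' hG' h₁' h₂'
  exact ⟨⟨K, hKn, ⟨n, hKi⟩, hKno, hKs⟩, hwc⟩

end Cfsg.Agent.Lib.H5.WS

namespace Cfsg.Agent.Lib.H5.WS

open Subgroup Cfsg.Agent.Lib.H5 Cfsg.Agent.Lib.H5.SD Cfsg.Agent.Lib.H5.Wr

/-- Centralizer of a central involution of a wreathed Sylow 2-subgroup in a group without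
subgroups of index two. -/
theorem cent_wreathed {G : Type*} [Group G] [Finite G] (S : Sylow 2 G)
    (hS : Cfsg.IsWreathed ↥(S : Subgroup G)) (hno : ∀ H : Subgroup G, H.index ≠ 2)
    (t : G) (ht : orderOf t = 2)
    (htZ : t ∈ (center ↥(S : Subgroup G)).map (S : Subgroup G).subtype) :
    ∃ R : Sylow 2 ↥(centralizer ({t} : Set G)), Nat.card R = Nat.card S ∧
      (∃ K : Subgroup ↥(centralizer ({t} : Set G)), K.Normal ∧ (∃ a : ℕ, K.index = 2 ^ a) ∧
        (∀ H : Subgroup ↥K, H.index ≠ 2) ∧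
        (∀ P : Sylow 2 ↥K, ∃ m : ℕ, 1 ≤ m ∧
          Nonempty ((P : Subgroup ↥K) ≃* QuaternionGroup (2 ^ m)))) ∧
      (∀ Z₀ : Subgroup ↥(centralizer ({t} : Set G)),
        Z₀ ≤ (center ↥(R : Subgroup ↥(centralizer ({t} : Set G)))).map
          (R : Subgroup ↥(centralizer ({t} : Set G))).subtype →
        Cfsg.IsWeaklyClosed Z₀ (R : Subgroup ↥(centralizer ({t} : Set G)))) := by
  have hS' := hS
  obtain ⟨n, -, hcard, -⟩ := hS'
  obtain ⟨x, y, z, d⟩ := exists_gens' S hS n hcard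
  obtain rfl := eq_zetaG_of_center d t ht htZ
  have hG := d.good_q8Sub_sup (hh n) 0 (by ring)
  obtain ⟨-, h₂⟩ := six_six_of_no_index_two d hG hno
  have hSC : (S : Subgroup G) ≤ centralizer ({zetaG d} : Set G) := by
    intro s hs
    rw [mem_centralizer_iff]
    intro k hk
    rw [Set.mem_singleton_iff] at hk
    subst hk
    exact mem_centralizer_iff.mp (sylow_le_centralizer_center d hs) _ htZ
  refine ⟨S.subtype hSC, ?_, cent_wreathed_aux d hS hG h₂ _ rfl hSC⟩
  exact Nat.card_congr ((MulEquiv.subgroupCongr (Sylow.coe_subtype S hSC)).trans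
    (subgroupOfEquivOfLe hSC)).toEquiv

/-- Centralizer of an arbitrary involution of a group with wreathed Sylow 2-subgroups and without
subgroups of index two. -/
theorem cent_wreathed' {G : Type*} [Group G] [Finite G] (S : Sylow 2 G)
    (hS : Cfsg.IsWreathed ↥(S : Subgroup G)) (hno : ∀ H : Subgroup G, H.index ≠ 2)
    (t : G) (ht : orderOf t = 2) :
    ∃ R : Sylow 2 ↥(centralizer ({t} : Set G)), Nat.card R = Nat.card S ∧
      (∃ K : Subgroup ↥(centralizer ({t} : Set G)), K.Normal ∧ (∃ a : ℕ, K.index = 2 ^ a) ∧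
        (∀ H : Subgroup ↥K, H.index ≠ 2) ∧
        (∀ P : Sylow 2 ↥K, ∃ m : ℕ, 1 ≤ m ∧
          Nonempty ((P : Subgroup ↥K) ≃* QuaternionGroup (2 ^ m)))) ∧
      (∀ Z₀ : Subgroup ↥(centralizer ({t} : Set G)),
        Z₀ ≤ (center ↥(R : Subgroup ↥(centralizer ({t} : Set G)))).map
          (R : Subgroup ↥(centralizer ({t} : Set G))).subtype →
        Cfsg.IsWeaklyClosed Z₀ (R : Subgroup ↥(centralizer ({t} : Set G)))) := by
  have hS' := hS
  obtain ⟨n, -, hcard, -⟩ := hS'
  obtain ⟨x, y, z, d⟩ := exists_gens' S hS n hcard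
  have hG := d.good_q8Sub_sup (hh n) 0 (by ring)
  obtain ⟨h₁, h₂⟩ := six_six_of_no_index_two d hG hno
  have hconj := isConj_zeta_of_six_six d hG h₁ h₂ t ht
  have hzc : zetaG d ∈ (center ↥(S : Subgroup G)).map (S : Subgroup G).subtype := by
    apply coe_mem_up_iff.mpr
    rw [d.mem_center_iff']
    exact ⟨_, rfl⟩
  obtain ⟨S', ⟨e⟩, htZ⟩ := CI.exists_sylow_center S (zetaG d) t hzc hconj
  obtain ⟨R, hR, h⟩ := cent_wreathed S' (CI.isWreathed_of_equiv e hS) hno t ht htZ
  refine ⟨R, ?_, h⟩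
  rw [hR]
  exact (Nat.card_congr e.toEquiv).symm

end Cfsg.Agent.Lib.H5.WS
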